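import Mathlib

/-!
# Maximal intersections of two distinct Sylow subgroups

Shared file of the block `small_simple`.
-/

set_option autoImplicit false

namespace Cfsg.Agent.SmallSimple.SylowMaxInter

/-- Normalizers grow in `p`-groups (relative form). -/
theorem lt_inf_normalizer {G : Type*} [Group G] [Finite G] {p : ℕ} [Fact p.Prime]
    {P D : Subgroup G} (hP : IsPGroup p P) (h : D < P) :
    D < P ⊓ Subgroup.normalizer (D : Set G) := by
  have : Group.IsNilpotent P := hP.isNilpotent
  have h1 : D.subgroupOf P < ⊤ := by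
    rw [lt_top_iff_ne_top, Ne, Subgroup.subgroupOf_eq_top]
    exact not_le_of_gt h
  have h2 := Group.normalizerCondition_of_isNilpotent (G := P) _ h1
  obtain ⟨x, hx, hxD⟩ := SetLike.exists_of_lt h2
  refine lt_of_le_of_ne (le_inf h.le Subgroup.le_normalizer) ?_
  intro heq
  apply hxD
  rw [Subgroup.mem_subgroupOf]
  rw [heq]
  refine Subgroup.mem_inf.2 ⟨x.2, ?_⟩
  rw [Subgroup.mem_normalizer_iff]
  rw [Subgroup.mem_normalizer_iff] at hx
  intro y
  constructor
  · intro hy
    have := (hx ⟨y, h.le hy⟩).1 (Subgroup.mem_subgroupOf.2 hy)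
    exact Subgroup.mem_subgroupOf.1 this
  · intro hy
    have hyP : y ∈ P := by
      have h3 := P.mul_mem (P.mul_mem (P.inv_mem x.2) (h.le hy)) x.2
      have h4 : (x : G)⁻¹ * ((x : G) * y * (x : G)⁻¹) * x = y := by group
      rwa [h4] at h3
    have := (hx ⟨y, hyP⟩).2 (Subgroup.mem_subgroupOf.2 hy)
    exact Subgroup.mem_subgroupOf.1 this

section

variable {G : Type*} [Group G] [Finite G] {p : ℕ} [Fact p.Prime]

/-- The hypothesis of maximality, for the order of the intersection. -/
theorem card_lt_card_inf_normalizer (P Q : Sylow p G) (hPQ : P ≠ Q) :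
    Nat.card ((P : Subgroup G) ⊓ (Q : Subgroup G) : Subgroup G) <
      Nat.card ((P : Subgroup G) ⊓ Subgroup.normalizer
        (((P : Subgroup G) ⊓ (Q : Subgroup G) : Subgroup G) : Set G) : Subgroup G) := by
  have h1 : (P : Subgroup G) ⊓ (Q : Subgroup G) < P := by
    refine lt_of_le_of_ne inf_le_left ?_
    intro heq
    have h2 : (P : Subgroup G) ≤ Q := by rw [← heq]; exact inf_le_right
    exact hPQ (Sylow.ext (P.is_maximal' Q.isPGroup' h2).symm)
  have h3 := lt_inf_normalizer P.isPGroup' h1
  refine lt_of_le_of_ne (Subgroup.card_le_of_le h3.le) ?_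
  intro heq
  exact h3.ne (Subgroup.eq_of_le_of_card_ge h3.le heq.ge)

/-- In the situation of a maximal intersection `D = P ∩ Q`, each Sylow `p`-subgroup of `N(D)` has
order larger than that of `D`. -/
theorem card_lt_card_sylow (P Q : Sylow p G) (hPQ : P ≠ Q)
    (S : Sylow p ↥(Subgroup.normalizer
      (((P : Subgroup G) ⊓ (Q : Subgroup G) : Subgroup G) : Set G))) :
    Nat.card ((P : Subgroup G) ⊓ (Q : Subgroup G) : Subgroup G) < Nat.card S := by
  refine lt_of_lt_of_le (card_lt_card_inf_normalizer P Q hPQ) ?_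
  generalize Subgroup.normalizer
    (((P : Subgroup G) ⊓ (Q : Subgroup G) : Subgroup G) : Set G) = N at S
  have h1 : IsPGroup p ((P : Subgroup G).subgroupOf N) :=
    P.isPGroup'.comap_of_injective N.subtype N.subtype_injective
  obtain ⟨T, hT⟩ := h1.exists_le_sylow
  have h2 : Nat.card ((P : Subgroup G).subgroupOf N) = Nat.card ((P : Subgroup G) ⊓ N : Subgroup G) := by
    rw [← Subgroup.inf_subgroupOf_right]
    exact Nat.card_congr (Subgroup.subgroupOfEquivOfLe inf_le_right).toEquiv
  rw [← h2]
  calc Nat.card ((P : Subgroup G).subgroupOf N) ≤ Nat.card T := Subgroup.card_le_of_le hT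
    _ = Nat.card S := by
      rw [T.card_eq_multiplicity, S.card_eq_multiplicity]

omit [Fact p.Prime] in
/-- Uniqueness: a subgroup of order larger than that of the maximal intersection lies in at most one
Sylow subgroup. -/
theorem eq_of_le_of_lt (P Q : Sylow p G)
    (hmax : ∀ P' Q' : Sylow p G, P' ≠ Q' → Nat.card ↥((P' : Subgroup G) ⊓ (Q' : Subgroup G)) ≤
      Nat.card ↥((P : Subgroup G) ⊓ (Q : Subgroup G))) (X : Subgroup G)
    (hX : Nat.card ((P : Subgroup G) ⊓ (Q : Subgroup G) : Subgroup G) < Nat.card X)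
    (T T' : Sylow p G) (hT : X ≤ T) (hT' : X ≤ T') : T = T' := by
  by_contra hne
  have h1 := hmax T T' hne
  have h2 := Subgroup.card_le_of_le (le_inf hT hT')
  omega

theorem main (P Q : Sylow p G) (hPQ : P ≠ Q)
    (hmax : ∀ P' Q' : Sylow p G, P' ≠ Q' → Nat.card ↥((P' : Subgroup G) ⊓ (Q' : Subgroup G)) ≤
      Nat.card ↥((P : Subgroup G) ⊓ (Q : Subgroup G))) :
    1 < Nat.card (Sylow p ↥(Subgroup.normalizer
      (((P : Subgroup G) ⊓ (Q : Subgroup G) : Subgroup G) : Set G))) ∧
    (∀ S T : Sylow p ↥(Subgroup.normalizer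
      (((P : Subgroup G) ⊓ (Q : Subgroup G) : Subgroup G) : Set G)), S ≠ T →
        (S : Subgroup _) ⊓ (T : Subgroup _) = ((P : Subgroup G) ⊓ (Q : Subgroup G)).subgroupOf
          (Subgroup.normalizer (((P : Subgroup G) ⊓ (Q : Subgroup G) : Subgroup G) : Set G))) ∧
    ∀ S : Sylow p ↥(Subgroup.normalizer
      (((P : Subgroup G) ⊓ (Q : Subgroup G) : Subgroup G) : Set G)),
      ∃! T : Sylow p G, (S : Subgroup _).map (Subgroup.normalizer
        (((P : Subgroup G) ⊓ (Q : Subgroup G) : Subgroup G) : Set G)).subtype ≤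
          (T : Subgroup G) := by
  have hlt := card_lt_card_sylow P Q hPQ
  have hP := card_lt_card_inf_normalizer P Q hPQ
  have hQ := card_lt_card_inf_normalizer Q P hPQ.symm
  rw [inf_comm (Q : Subgroup G) (P : Subgroup G)] at hQ
  have huniq := eq_of_le_of_lt P Q hmax
  set D : Subgroup G := (P : Subgroup G) ⊓ (Q : Subgroup G) with hD
  set N := Subgroup.normalizer (D : Set G) with hN
  have hcardmap : ∀ S : Subgroup N, Nat.card (S.map N.subtype) = Nat.card S := fun S =>
    Subgroup.card_map_of_injective N.subtype_injective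
  have hex : ∀ S : Sylow p N, ∃ T : Sylow p G, (S : Subgroup N).map N.subtype ≤ (T : Subgroup G) :=
    fun S => (S.isPGroup'.map N.subtype).exists_le_sylow
  have hDle : ∀ S : Sylow p N, D.subgroupOf N ≤ S := by
    intro S
    have : (D.subgroupOf N).Normal := Subgroup.normal_in_normalizer
    refine IsPGroup.le_sylow_of_normal ?_ S
    exact (P.isPGroup'.to_le inf_le_left).comap_of_injective N.subtype N.subtype_injective
  refine ⟨?_, ?_, ?_⟩
  · -- more than one Sylow subgroup
    by_contra hcon
    have h1 : Nat.card (Sylow p N) = 1 := by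
      have := Nat.card_pos (α := Sylow p N)
      omega
    obtain ⟨hsub, -⟩ := Nat.card_eq_one_iff_unique.1 h1
    obtain ⟨S⟩ : Nonempty (Sylow p N) := inferInstance
    obtain ⟨T, hT⟩ := hex S
    -- every p-subgroup of `N` lies in `T`
    have hall : ∀ X : Subgroup G, IsPGroup p X → X ≤ N → X ≤ T := by
      intro X hX hXN
      have h2 : IsPGroup p (X.subgroupOf N) :=
        hX.comap_of_injective N.subtype N.subtype_injective
      obtain ⟨S', hS'⟩ := h2.exists_le_sylow
      obtain rfl : S' = S := Subsingleton.elim _ _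
      intro x hx
      exact hT ⟨⟨x, hXN hx⟩, hS' (Subgroup.mem_subgroupOf.2 hx), rfl⟩
    have h3 : P = T := huniq _ hP P T inf_le_left
      (hall _ (P.isPGroup'.to_le inf_le_left) inf_le_right)
    have h4 : Q = T := huniq _ hQ Q T inf_le_left
      (hall _ (Q.isPGroup'.to_le inf_le_left) inf_le_right)
    exact hPQ (h3.trans h4.symm)
  · intro S T hST
    symm
    apply Subgroup.eq_of_le_of_card_ge (le_inf (hDle S) (hDle T))
    obtain ⟨S', hS'⟩ := hex S
    obtain ⟨T', hT'⟩ := hex T
    have hne : S' ≠ T' := by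
      rintro rfl
      apply hST
      have h1 : (S : Subgroup N) ≤ (S' : Subgroup G).subgroupOf N := by
        intro x hx
        exact Subgroup.mem_subgroupOf.2 (hS' ⟨x, hx, rfl⟩)
      have h2 : (T : Subgroup N) ≤ (S' : Subgroup G).subgroupOf N := by
        intro x hx
        exact Subgroup.mem_subgroupOf.2 (hT' ⟨x, hx, rfl⟩)
      have h3 : IsPGroup p ((S' : Subgroup G).subgroupOf N) :=
        S'.isPGroup'.comap_of_injective N.subtype N.subtype_injective
      exact Sylow.ext ((S.is_maximal' h3 h1).symm.trans (T.is_maximal' h3 h2))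
    have h5 := hmax S' T' hne
    have h6 : Nat.card ((S : Subgroup N) ⊓ (T : Subgroup N) : Subgroup N) ≤
        Nat.card ((S' : Subgroup G) ⊓ (T' : Subgroup G) : Subgroup G) := by
      rw [← hcardmap]
      apply Subgroup.card_le_of_le
      exact le_inf ((Subgroup.map_mono inf_le_left).trans hS')
        ((Subgroup.map_mono inf_le_right).trans hT')
    have h7 : Nat.card (D.subgroupOf N) = Nat.card D :=
      Nat.card_congr (Subgroup.subgroupOfEquivOfLe Subgroup.le_normalizer).toEquiv
    rw [h7]
    exact h6.trans h5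
  · intro S
    obtain ⟨T, hT⟩ := hex S
    refine ⟨T, hT, ?_⟩
    intro T' hT'
    refine huniq _ ?_ T' T hT' hT
    rw [hcardmap]
    exact hlt S

end

end Cfsg.Agent.SmallSimple.SylowMaxInter
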