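import Cfsg.Agent.SmallSimple.SylowPrimeCount

/-!
Central involutions in the normalizer of a subgroup of prime order; cardinality of Sylow subgroups.
-/

set_option autoImplicit false

namespace Cfsg.Agent.SmallSimple.SylowPrimeInvol

open Subgroup MulAction
open Cfsg.Agent.SmallSimple.SylowPrime Cfsg.Agent.SmallSimple.SylowPrimeCount

variable {G : Type*} [Group G]

theorem card_sylow_of_card_eq [Finite G] {p : ℕ} [hp : Fact p.Prime] (P : Sylow p G) {k m : ℕ}
    (h : Nat.card G = p ^ k * m) (hm : ¬ p ∣ m) : Nat.card P = p ^ k := by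
  have hm0 : m ≠ 0 := by rintro rfl; exact hm (dvd_zero p)
  rw [P.card_eq_multiplicity, h, Nat.factorization_mul (pow_ne_zero _ hp.out.ne_zero) hm0,
    Finsupp.add_apply, hp.out.factorization_pow, Finsupp.single_eq_same,
    Nat.factorization_eq_zero_of_not_dvd hm, add_zero]

theorem index_sylow_of_card_eq [Finite G] {p : ℕ} [hp : Fact p.Prime] (P : Sylow p G) {k m : ℕ}
    (h : Nat.card G = p ^ k * m) (hm : ¬ p ∣ m) : (P : Subgroup G).index = m := by
  have h1 := (P : Subgroup G).card_mul_index
  have h2 : Nat.card (P : Subgroup G) = p ^ k := card_sylow_of_card_eq P h hm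
  rw [h2, h] at h1
  exact Nat.eq_of_mul_eq_mul_left (pow_pos hp.out.pos k) h1

theorem card_sylow_dvd_of_card_eq [Finite G] {p : ℕ} [hp : Fact p.Prime] (P : Sylow p G) {k m : ℕ}
    (h : Nat.card G = p ^ k * m) (hm : ¬ p ∣ m) : Nat.card (Sylow p G) ∣ m := by
  have := P.card_dvd_index
  rwa [index_sylow_of_card_eq P h hm] at this

/-- In a simple group whose order is divisible by `p` and is not a power of `p`, there is more
than one Sylow `p`-subgroup. -/
theorem card_sylow_ne_one [Finite G] [IsSimpleGroup G] {p : ℕ} [hp : Fact p.Prime] {k m : ℕ}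
    (h : Nat.card G = p ^ k * m) (hm : ¬ p ∣ m) (hk : k ≠ 0) (hm1 : m ≠ 1) :
    Nat.card (Sylow p G) ≠ 1 := by
  intro h1
  obtain ⟨P⟩ : Nonempty (Sylow p G) := inferInstance
  have : Subsingleton (Sylow p G) := (Nat.card_eq_one_iff_unique.1 h1).1
  have hN : (P : Subgroup G).Normal := P.normal_of_subsingleton
  have hc : Nat.card (P : Subgroup G) = p ^ k := card_sylow_of_card_eq P h hm
  have hp1 := hp.out.one_lt
  rcases hN.eq_bot_or_eq_top with h2 | h2
  · rw [h2, card_bot] at hc
    exact absurd hc (Nat.one_lt_pow hk hp1).ne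
  · rw [h2, card_top, h] at hc
    have : m = 1 := Nat.eq_of_mul_eq_mul_left (pow_pos hp.out.pos k) (by rw [hc, mul_one])
    exact hm1 this

/-- `|N(P)| * n_p = |G|`. -/
theorem card_normalizer_mul [Finite G] {p : ℕ} [hp : Fact p.Prime] (P : Sylow p G) :
    Nat.card (normalizer (P : Set G)) * Nat.card (Sylow p G) = Nat.card G := by
  rw [P.card_eq_index_normalizer, card_mul_index]

/-- If `|P| = p` and `|N(P)| = p * 2^a`, and `[N(P):C(P)] < 2^a`, there is an involution `u` of
`C(P)` centralizing `N(P)`. -/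
theorem exists_central_involution [Finite G] {p a : ℕ} (hp : p.Prime) (hp2 : p ≠ 2)
    {P : Subgroup G} (hP : Nat.card P = p)
    (hN : Nat.card (normalizer (P : Set G)) = p * 2 ^ a)
    (hC : (centralizer (P : Set G)).relIndex (normalizer (P : Set G)) < 2 ^ a) :
    ∃ u : G, u ∈ centralizer (P : Set G) ∧ orderOf u = 2 ∧
      normalizer (P : Set G) ≤ centralizer {u} := by
  have hf2 : Fact (Nat.Prime 2) := ⟨Nat.prime_two⟩
  set N := normalizer (P : Set G) with hNdef
  have hCN : ((centralizer (P : Set G)).subgroupOf N).Normal := by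
    rw [← normalizerMonoidHom_ker]; infer_instance
  set C' := (centralizer (P : Set G)).subgroupOf N with hC'
  obtain ⟨T⟩ : Nonempty (Sylow 2 N) := inferInstance
  have hT : Nat.card (T : Subgroup N) = 2 ^ a := by
    apply card_sylow_of_card_eq T (k := a) (m := p) (by rw [hN, mul_comm])
    intro h
    exact hp2 ((Nat.prime_dvd_prime_iff_eq Nat.prime_two hp).1 h).symm
  have hK : (C'.subgroupOf (T : Subgroup N)) ≠ ⊥ := by
    intro h
    have h1 : (C'.subgroupOf (T : Subgroup N)).index = 2 ^ a := by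
      rw [h, index_bot, hT]
    have h2 : C'.relIndex (T : Subgroup N) ∣ C'.index := relIndex_dvd_index_of_normal _ _
    have h3 : C'.index = (centralizer (P : Set G)).relIndex N := rfl
    have h4 : C'.relIndex (T : Subgroup N) = 2 ^ a := h1
    rw [h4, h3] at h2
    have h5 : 0 < (centralizer (P : Set G)).relIndex N :=
      Nat.pos_of_ne_zero (by
        have : C'.index ≠ 0 := index_ne_zero_of_finite
        exact this)
    exact absurd (Nat.le_of_dvd h5 h2) (not_le.2 hC)
  obtain ⟨z, hz, hzc, hz1⟩ := exists_mem_center_of_normal T.2 (C'.subgroupOf (T : Subgroup N)) hK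
  have hZ : (C'.subgroupOf (T : Subgroup N) ⊓ center T) ≠ ⊥ := by
    intro h
    apply hz1
    rw [← mem_bot (G := T), ← h]
    exact ⟨hz, hzc⟩
  have hdvd : 2 ∣ Nat.card (C'.subgroupOf (T : Subgroup N) ⊓ center T : Subgroup T) := by
    obtain ⟨n, hn0, hn⟩ := ((T.2.to_subgroup _).nontrivial_iff_card).1
      ((Subgroup.nontrivial_iff_ne_bot (C'.subgroupOf (T : Subgroup N) ⊓ center T)).2 hZ)
    rw [hn]
    exact dvd_pow_self 2 hn0.ne'
  obtain ⟨w, hw⟩ := exists_prime_orderOf_dvd_card' 2 hdvd
  have hwmem := w.2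
  rw [mem_inf] at hwmem
  obtain ⟨hw1, hw2⟩ := hwmem
  set t : T := w.1 with ht
  have htC : ((t : N) : G) ∈ centralizer (P : Set G) := hw1
  refine ⟨((t : N) : G), htC, ?_, ?_⟩
  · rw [Subgroup.orderOf_coe, Subgroup.orderOf_coe, ht, Subgroup.orderOf_coe, hw]
  · -- the centralizer in `N` contains `T` and `P`
    set H := (centralizer {((t : N) : G)}).subgroupOf N with hH
    have h1 : (T : Subgroup N) ≤ H := by
      intro s hs
      rw [hH, mem_subgroupOf, mem_centralizer_singleton_iff]
      have h2 := mem_center_iff.1 hw2 ⟨s, hs⟩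
      have h3 := congrArg (fun x : T => ((x : N) : G)) h2
      exact h3
    have h2 : P.subgroupOf N ≤ H := by
      intro s hs
      rw [hH, mem_subgroupOf, mem_centralizer_singleton_iff]
      exact mem_centralizer_iff.1 htC s hs
    have h3 : 2 ^ a ∣ Nat.card H := by rw [← hT]; exact card_dvd_of_le h1
    have h4 : p ∣ Nat.card H := by
      rw [← hP, ← Nat.card_congr (subgroupOfEquivOfLe (le_normalizer (H := P))).toEquiv]
      exact card_dvd_of_le h2
    have hcop : Nat.Coprime p (2 ^ a) :=
      Nat.Coprime.pow_right a ((Nat.coprime_primes hp Nat.prime_two).2 hp2)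
    have h5 : p * 2 ^ a ∣ Nat.card H := hcop.mul_dvd_of_dvd_of_dvd h4 h3
    have h6 : H = ⊤ := by
      apply eq_top_of_le_card
      rw [hN]
      exact Nat.le_of_dvd Nat.card_pos h5
    intro s hs
    have h7 : (⟨s, hs⟩ : N) ∈ H := by rw [h6]; exact mem_top _
    exact h7

end Cfsg.Agent.SmallSimple.SylowPrimeInvol
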