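import Cfsg.Agent.S0991
import Mathlib

/-!
Embedding of a finite simple group in an alternating group, and its numerical consequences.
-/

set_option autoImplicit false

namespace Cfsg.Agent.SmallSimple.Embed

open Nat

variable {G : Type*} [Group G]

/-- A simple group whose order is not a prime is non-abelian. -/
theorem not_comm_of_card_not_prime [IsSimpleGroup G] [Finite G] (h : ¬ (Nat.card G).Prime) :
    ¬ IsMulCommutative G := by
  intro hc
  let inst : CommGroup G := { (inferInstance : Group G) with mul_comm := hc.is_comm.comm }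
  exact h (IsSimpleGroup.prime_card (α := G))

/-- A non-abelian group does not have prime order. -/
theorem card_not_prime_of_not_comm (hG : ¬ IsMulCommutative G) : ¬ (Nat.card G).Prime := by
  intro hp
  apply hG
  have : Fact (Nat.card G).Prime := ⟨hp⟩
  have hcyc : IsCyclic G := isCyclic_of_prime_card (p := Nat.card G) rfl
  obtain ⟨g, hg⟩ := hcyc.exists_generator
  refine ⟨⟨fun a b => ?_⟩⟩
  obtain ⟨i, hi⟩ := Subgroup.mem_zpowers_iff.1 (hg a)
  obtain ⟨j, hj⟩ := Subgroup.mem_zpowers_iff.1 (hg b)
  rw [← hi, ← hj, ← zpow_add, ← zpow_add, add_comm]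

/-- A finite non-abelian group has order greater than 4 (indeed at least 6). -/
theorem four_lt_card_of_not_comm [Finite G] (hG : ¬ IsMulCommutative G) : 4 < Nat.card G := by
  by_contra hle
  push Not at hle
  have hpos : 0 < Nat.card G := Nat.card_pos
  have hnp := card_not_prime_of_not_comm hG
  have h14 : Nat.card G = 1 ∨ Nat.card G = 2 ∨ Nat.card G = 3 ∨ Nat.card G = 4 := by omega
  rcases h14 with h | h | h | h
  · apply hG
    have hs : Subsingleton G := (Nat.card_eq_one_iff_unique.1 h).1
    exact ⟨⟨fun a b => Subsingleton.elim _ _⟩⟩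
  · exact hnp (h ▸ Nat.prime_two)
  · exact hnp (h ▸ Nat.prime_three)
  · have : Fact (Nat.Prime 2) := ⟨Nat.prime_two⟩
    exact hG (IsPGroup.isMulCommutative_of_card_eq_prime_sq (p := 2) (by rw [h]; norm_num))

theorem card_dvd_card_alternating [Finite G] [IsSimpleGroup G] (hG : ¬ IsMulCommutative G)
    (H : Subgroup G) (hH : H ≠ ⊤) : Nat.card G ∣ Nat.card (alternatingGroup (Fin H.index)) := by
  obtain ⟨f, hf⟩ := Cfsg.Agent.S0991.result hG H hH
  exact Subgroup.card_dvd_of_injective f hf

theorem two_le_index [Finite G] (H : Subgroup G) (hH : H ≠ ⊤) : 2 ≤ H.index := by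
  have h0 : H.index ≠ 0 := Subgroup.index_ne_zero_of_finite
  have h1 : H.index ≠ 1 := fun h => hH (Subgroup.index_eq_one.1 h)
  omega

/-- If a finite simple non-abelian group has a proper subgroup of index `n`,
then `2 * |G|` divides `n!`. -/
theorem two_mul_card_dvd_factorial_index [Finite G] [IsSimpleGroup G] (hG : ¬ IsMulCommutative G)
    (H : Subgroup G) (hH : H ≠ ⊤) : 2 * Nat.card G ∣ H.index ! := by
  have h2 := two_le_index H hH
  have : Nontrivial (Fin H.index) := Fin.nontrivial_iff_two_le.2 h2
  have h3 := two_mul_nat_card_alternatingGroup (α := Fin H.index)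
  rw [Nat.card_eq_fintype_card (α := Equiv.Perm _), Fintype.card_perm, Fintype.card_fin] at h3
  rw [← h3]
  exact Nat.mul_dvd_mul_left 2 (card_dvd_card_alternating hG H hH)

/-- A proper subgroup of a finite simple non-abelian group has index at least 5. -/
theorem five_le_index [Finite G] [IsSimpleGroup G] (hG : ¬ IsMulCommutative G)
    (H : Subgroup G) (hH : H ≠ ⊤) : 5 ≤ H.index := by
  by_contra hlt
  push Not at hlt
  have h2 := two_le_index H hH
  have h4 := four_lt_card_of_not_comm hG
  have hd := two_mul_card_dvd_factorial_index hG H hH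
  have hn : H.index = 4 := by
    by_contra hne
    have h3 : H.index ≤ 3 := by omega
    have h6 : H.index ! ≤ 3 ! := Nat.factorial_le h3
    have h7 := Nat.le_of_dvd (Nat.factorial_pos _) hd
    have h8 : 3 ! = 6 := rfl
    omega
  obtain ⟨f, hf⟩ := Cfsg.Agent.S0991.result hG H hH
  have hα4 : Nat.card (Fin H.index) = 4 := by rw [Nat.card_eq_fintype_card, Fintype.card_fin, hn]
  have hV : (alternatingGroup.kleinFour (Fin H.index)).Normal :=
    alternatingGroup.normal_kleinFour hα4
  let q := QuotientGroup.mk' (alternatingGroup.kleinFour (Fin H.index))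
  rcases IsSimpleGroup.eq_bot_or_eq_top_of_normal (q.comp f).ker inferInstance with hk | hk
  · have hinj : Function.Injective (q.comp f) := (MonoidHom.ker_eq_bot_iff _).1 hk
    have hd' := Subgroup.card_dvd_of_injective _ hinj
    have h12 : Nat.card (alternatingGroup (Fin H.index)) = 12 :=
      alternatingGroup.card_of_card_eq_four hα4
    have hV4 : Nat.card (alternatingGroup.kleinFour (Fin H.index)) = 4 :=
      alternatingGroup.kleinFour_card_of_card_eq_four hα4
    have hmul := Subgroup.card_eq_card_quotient_mul_card_subgroup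
      (alternatingGroup.kleinFour (Fin H.index))
    rw [h12, hV4] at hmul
    have h3 : Nat.card (alternatingGroup (Fin H.index) ⧸ alternatingGroup.kleinFour (Fin H.index))
        = 3 := by omega
    rw [h3] at hd'
    have := Nat.le_of_dvd (by norm_num) hd'
    omega
  · have hle : ∀ g, f g ∈ alternatingGroup.kleinFour (Fin H.index) := by
      intro g
      have : g ∈ (q.comp f).ker := by rw [hk]; exact Subgroup.mem_top g
      rw [MonoidHom.mem_ker, MonoidHom.comp_apply] at this
      exact (QuotientGroup.eq_one_iff _).1 this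
    have hinj : Function.Injective
        (f.codRestrict (alternatingGroup.kleinFour (Fin H.index)) hle) := by
      intro a b hab
      exact hf (congrArg Subtype.val hab)
    have hd' := Subgroup.card_dvd_of_injective _ hinj
    rw [alternatingGroup.kleinFour_card_of_card_eq_four hα4] at hd'
    have := Nat.le_of_dvd (by norm_num) hd'
    omega

/-- A Sylow normalizer in a finite simple non-abelian group is proper. -/
theorem normalizer_sylow_ne_top [Finite G] [IsSimpleGroup G] (hG : ¬ IsMulCommutative G)
    {p : ℕ} [hp : Fact p.Prime] (hdvd : p ∣ Nat.card G) (P : Sylow p G) :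
    Subgroup.normalizer ((P : Subgroup G) : Set G) ≠ ⊤ := by
  intro htop
  have hn : (P : Subgroup G).Normal := Subgroup.normalizer_eq_top_iff.1 htop
  have hne : (P : Subgroup G) ≠ ⊥ := P.ne_bot_of_dvd_card hdvd
  rcases IsSimpleGroup.eq_bot_or_eq_top_of_normal (P : Subgroup G) hn with h | h
  · exact hne h
  · -- then `G` is a `p`-group, so it has nontrivial center
    have hPG : IsPGroup p G := by
      intro g
      have hg : g ∈ (P : Subgroup G) := by rw [h]; exact Subgroup.mem_top g
      obtain ⟨k, hk⟩ := P.isPGroup' ⟨g, hg⟩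
      exact ⟨k, congrArg Subtype.val hk⟩
    have hct : Nontrivial (Subgroup.center G) := hPG.center_nontrivial
    rcases IsSimpleGroup.eq_bot_or_eq_top_of_normal (Subgroup.center G) inferInstance with hc | hc
    · exact (Subgroup.nontrivial_iff_ne_bot _).1 hct hc
    · apply hG
      refine ⟨⟨fun a b => ?_⟩⟩
      have : a ∈ Subgroup.center G := by rw [hc]; exact Subgroup.mem_top a
      exact ((Subgroup.mem_center_iff.1 this) b).symm

/-- The number of Sylow `p`-subgroups of a finite simple non-abelian group is at least 5. -/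
theorem five_le_card_sylow [Finite G] [IsSimpleGroup G] (hG : ¬ IsMulCommutative G)
    {p : ℕ} [Fact p.Prime] (hdvd : p ∣ Nat.card G) : 5 ≤ Nat.card (Sylow p G) := by
  let P : Sylow p G := default
  rw [P.card_eq_index_normalizer]
  exact five_le_index hG _ (normalizer_sylow_ne_top hG hdvd P)

/-- `2 * |G|` divides `(n_p)!` in a finite simple non-abelian group. -/
theorem two_mul_card_dvd_factorial_card_sylow [Finite G] [IsSimpleGroup G]
    (hG : ¬ IsMulCommutative G) {p : ℕ} [Fact p.Prime] (hdvd : p ∣ Nat.card G) :
    2 * Nat.card G ∣ (Nat.card (Sylow p G))! := by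
  let P : Sylow p G := default
  rw [P.card_eq_index_normalizer]
  exact two_mul_card_dvd_factorial_index hG _ (normalizer_sylow_ne_top hG hdvd P)

/-- Embedding in the alternating group on the Sylow `p`-subgroups. -/
theorem exists_embedding_alternating_card_sylow [Finite G] [IsSimpleGroup G]
    (hG : ¬ IsMulCommutative G) {p : ℕ} [Fact p.Prime] (hdvd : p ∣ Nat.card G) :
    ∃ f : G →* ↥(alternatingGroup (Fin (Nat.card (Sylow p G)))), Function.Injective f := by
  let P : Sylow p G := default
  rw [P.card_eq_index_normalizer]
  exact Cfsg.Agent.S0991.result hG _ (normalizer_sylow_ne_top hG hdvd P)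

end Cfsg.Agent.SmallSimple.Embed
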