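import Mathlib
import Cfsg.Prelude.Def_Characters
import Cfsg.Agent.Characters.Core
import Cfsg.Agent.Characters.Linear
import Cfsg.Agent.S0145
import Cfsg.Agent.S0135
import Cfsg.Agent.S0178

/-!
Restriction of the irreducible characters of a finite group to an abelian subgroup `P`, and the
sum over all irreducible characters of the squared norms of the restrictions.
-/

set_option autoImplicit false

open scoped ComplexConjugate

namespace Cfsg.Agent.SmallSimple.SelfCentSum

open Cfsg Cfsg.Agent.Characters.Core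

universe u

/-- An irreducible character of a finite commutative group has degree one. -/
theorem irr_apply_one_of_comm {A : Type u} [Group A] [Finite A] (hA : ∀ a b : A, a * b = b * a)
    {χ : A → ℂ} (hχ : IsIrrCharacter A χ) : χ 1 = 1 := by
  obtain ⟨n, ρ, hρ, rfl⟩ := hχ
  have h1 := Cfsg.Agent.S0178.result ρ ⊤ (fun a _ b _ => hA a b)
  rw [Subgroup.index_top] at h1
  obtain ⟨k, hk, hk'⟩ := isIrr_apply_one (G := A) ⟨n, ρ, hρ, rfl⟩
  rw [Representation.char_one] at hk' ⊢
  have h2 : Module.finrank ℂ (Fin n → ℂ) = k := by exact_mod_cast hk'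
  have h3 : Module.finrank ℂ (Fin n → ℂ) = 1 := by omega
  rw [h3, Nat.cast_one]

/-- For a character `χ` of a finite commutative group, `⟨χ, χ⟩ ≥ χ(1)`. -/
theorem exists_inner_ge {A : Type u} [Group A] [Fintype A] (hA : ∀ a b : A, a * b = b * a)
    {χ : A → ℂ} (hχ : IsCharacter A χ) :
    ∃ m d : ℕ, classInner χ χ = m ∧ χ 1 = d ∧ d ≤ m := by
  classical
  have := finite_irr (G := A)
  have := Fintype.ofFinite (IrrCharacter A)
  obtain ⟨c, hc⟩ := isCharacter_iff.1 hχ
  refine ⟨∑ ψ, c ψ ^ 2, ∑ ψ, c ψ, ?_, ?_, ?_⟩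
  · have hin : ∀ ψ : IrrCharacter A, classInner χ (ψ : A → ℂ) = c ψ := by
      intro ψ
      rw [hc, classInner_sum_left, Finset.sum_eq_single ψ]
      · rw [← Nat.cast_smul_eq_nsmul ℂ, classInner_smul_left, classInner_irr_self ψ.2, mul_one]
      · intro φ _ hφ
        rw [← Nat.cast_smul_eq_nsmul ℂ, classInner_smul_left,
          classInner_irr_ne φ.2 ψ.2 (fun h => hφ (Subtype.ext h)), mul_zero]
      · intro h; exact absurd (Finset.mem_univ _) h
    have hcl := isCharacter_isClassFunction hχ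
    rw [classInner_eq_sum hcl hcl]
    push_cast
    refine Finset.sum_congr rfl fun ψ _ => ?_
    rw [hin ψ, Complex.conj_natCast, sq]
  · rw [hc, Finset.sum_apply]
    push_cast
    refine Finset.sum_congr rfl fun ψ _ => ?_
    rw [Pi.smul_apply, irr_apply_one_of_comm hA ψ.2, nsmul_eq_mul, mul_one]
  · refine Finset.sum_le_sum fun ψ _ => ?_
    rw [sq]
    exact Nat.le_mul_self _

/-- Data of the restriction of an irreducible character to a commutative subgroup `P`. -/
theorem exists_data {G : Type u} [Group G] [Finite G] (P : Subgroup G) [Fintype P]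
    (hP : ∀ a ∈ P, ∀ b ∈ P, a * b = b * a) {χ : G → ℂ} (hχ : IsIrrCharacter G χ) :
    ∃ m d : ℕ, ((∑ x : P, ‖χ x‖ ^ 2 : ℝ) = Nat.card P * m) ∧ χ 1 = d ∧ d ≤ m ∧
      d ^ 2 ≤ Nat.card P * m ∧ d ∣ Nat.card G := by
  have hres : IsCharacter P (χ ∘ P.subtype) := isCharacter_comp P.subtype (isIrr_isCharacter hχ)
  obtain ⟨m, d, hm, hd, hle⟩ := exists_inner_ge
    (fun a b : P => Subtype.ext (hP a a.2 b b.2)) hres
  have hd' : χ 1 = d := by
    rw [← hd]; simp
  have hsum : (∑ x : P, ‖χ x‖ ^ 2 : ℝ) = Nat.card P * m := by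
    have h0 : (Nat.card P : ℂ) ≠ 0 := Nat.cast_ne_zero.2 Nat.card_pos.ne'
    have h1 : (∑ x : P, χ x * conj (χ x) : ℂ) = Nat.card P * m := by
      rw [← hm]
      show _ = _ * ((Nat.card P : ℂ)⁻¹ * _)
      rw [mul_inv_cancel_left₀ h0]
      rfl
    have h2 : ((∑ x : P, ‖χ x‖ ^ 2 : ℝ) : ℂ) = ((Nat.card P * m : ℝ) : ℂ) := by
      push_cast
      rw [← h1]
      refine Finset.sum_congr rfl fun x _ => ?_
      rw [Complex.mul_conj']
    exact_mod_cast h2
  refine ⟨m, d, hsum, hd', hle, ?_, ?_⟩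
  · have h3 : ((d : ℝ)) ^ 2 ≤ Nat.card P * m := by
      rw [← hsum]
      have h4 : ‖χ ((1 : P) : G)‖ ^ 2 ≤ (∑ x : P, ‖χ x‖ ^ 2 : ℝ) :=
        Finset.single_le_sum (f := fun x : P => ‖χ x‖ ^ 2) (fun x _ => by positivity)
          (Finset.mem_univ 1)
      rw [OneMemClass.coe_one, hd'] at h4
      simpa using h4
    exact_mod_cast h3
  · obtain ⟨n, ρ, hρ, rfl⟩ := hχ
    have h5 := Cfsg.Agent.S0135.result ρ
    rw [Representation.char_one] at hd'
    have h6 : Module.finrank ℂ (Fin n → ℂ) = d := by exact_mod_cast hd'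
    rwa [h6] at h5

/-- column orthogonality with squared norms -/
theorem sum_norm_sq {G : Type u} [Group G] [Finite G] [Fintype (IrrCharacter G)] (x : G) :
    (∑ χ : IrrCharacter G, ‖(χ : G → ℂ) x‖ ^ 2 : ℝ) =
      Nat.card (Subgroup.centralizer ({x} : Set G)) := by
  have h := (Cfsg.Agent.S0145.result x x).1 (IsConj.refl x)
  rw [finsum_eq_sum_of_fintype] at h
  have h2 : ((∑ χ : IrrCharacter G, ‖(χ : G → ℂ) x‖ ^ 2 : ℝ) : ℂ) =
      ((Nat.card (Subgroup.centralizer ({x} : Set G)) : ℝ) : ℂ) := by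
    push_cast
    rw [← h]
    refine Finset.sum_congr rfl fun χ _ => ?_
    rw [Complex.mul_conj']
  exact_mod_cast h2

/-- If `|C_G(x)| = c` for all non-identity elements of the subgroup `P`, the sum over all
irreducible characters of the sums of the `|χ(x)|²`, `x ∈ P`, is `|G| + (|P| - 1) c`. -/
theorem sum_sum_norm_sq {G : Type u} [Group G] [Finite G] [Fintype (IrrCharacter G)]
    (P : Subgroup G) [Fintype P] (c : ℕ)
    (hc : ∀ x ∈ P, x ≠ 1 → Nat.card (Subgroup.centralizer ({x} : Set G)) = c) :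
    (∑ χ : IrrCharacter G, ∑ x : P, ‖(χ : G → ℂ) x‖ ^ 2 : ℝ) =
      Nat.card G + (Nat.card P - 1) * c := by
  classical
  rw [Finset.sum_comm]
  have h1 : ∀ x : P, (∑ χ : IrrCharacter G, ‖(χ : G → ℂ) x‖ ^ 2 : ℝ) =
      Nat.card (Subgroup.centralizer ({(x : G)} : Set G)) := fun x => sum_norm_sq (x : G)
  rw [Finset.sum_congr rfl fun x _ => h1 x, ← Finset.add_sum_erase _ _ (Finset.mem_univ (1 : P))]
  have h2 : ∑ x ∈ Finset.univ.erase (1 : P),
      (Nat.card (Subgroup.centralizer ({(x : G)} : Set G)) : ℝ) =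
      ∑ x ∈ Finset.univ.erase (1 : P), (c : ℝ) := by
    refine Finset.sum_congr rfl fun x hx => ?_
    rw [hc x x.2 (fun h => (Finset.ne_of_mem_erase hx) (Subtype.ext h))]
  rw [h2, Finset.sum_const, Finset.card_erase_of_mem (Finset.mem_univ _), Finset.card_univ,
    nsmul_eq_mul, OneMemClass.coe_one]
  have h3 : Subgroup.centralizer ({(1 : G)} : Set G) = ⊤ := by
    rw [Subgroup.centralizer_eq_top_iff_subset]
    intro y hy
    rw [Set.mem_singleton_iff] at hy
    rw [hy]
    exact one_mem _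
  rw [h3, Subgroup.card_top, Nat.card_eq_fintype_card (α := P), Nat.cast_sub Fintype.card_pos]
  simp

/-- In a finite simple group not of prime order, the only irreducible character of degree one is
the trivial one. -/
theorem eq_one_of_apply_one {G : Type u} [Group G] [Finite G] [IsSimpleGroup G]
    (hG : ¬ (Nat.card G).Prime) {χ : G → ℂ} (hχ : IsIrrCharacter G χ) (h1 : χ 1 = 1) :
    χ = 1 := by
  obtain ⟨f, rfl⟩ := Cfsg.Agent.Characters.Linear.exists_hom_of_isIrrCharacter hχ h1
  rcases (MonoidHom.normal_ker f).eq_bot_or_eq_top with h | h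
  · exfalso
    apply hG
    have hinj : Function.Injective f := (MonoidHom.ker_eq_bot_iff f).1 h
    have hcomm : ∀ a b : G, a * b = b * a := fun a b => hinj (by rw [map_mul, map_mul, mul_comm])
    let _ : CommGroup G := { ‹Group G› with mul_comm := hcomm }
    exact IsSimpleGroup.prime_card
  · funext g
    have : f g = 1 := by
      rw [← MonoidHom.mem_ker, h]; trivial
    simp [this]

end Cfsg.Agent.SmallSimple.SelfCentSum
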