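import Mathlib

/-!
# Elements of an abelian Sylow subgroup centralized by its normalizer
-/

set_option autoImplicit false

namespace Cfsg.Agent.SmallSimple.AbelianSylowTransfer

open scoped IsMulCommutative in
/-- In a non-abelian finite simple group, an element of an abelian Sylow `p`-subgroup `P`
centralized by `N(P)` is trivial. -/
theorem eq_one_of_normalizer_le {G : Type*} [Group G] [Finite G] [IsSimpleGroup G]
    (hG : ¬ IsMulCommutative G) {p : ℕ} [Fact p.Prime] (P : Sylow p G)
    (hcomm : IsMulCommutative P) (y : G) (hy : y ∈ (P : Subgroup G))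
    (hN : ∀ n ∈ Subgroup.normalizer ((P : Subgroup G) : Set G), n * y = y * n) : y = 1 := by
  have key : ∀ (k : ℕ) (g₀ : G), g₀⁻¹ * y ^ k * g₀ ∈ (P : Subgroup G) →
      g₀⁻¹ * y ^ k * g₀ = y ^ k := by
    intro k g₀ hk
    obtain ⟨n, hn, hn2⟩ := P.conj_eq_normalizer_conj_of_mem (y ^ k) g₀
      ((P : Subgroup G).pow_mem hy k) hk
    rw [hn2]
    have h1 : Commute n (y ^ k) := Commute.pow_right (hN n hn) k
    rw [mul_assoc, ← h1.eq]; group
  have h1 := MonoidHom.transfer_eq_pow (MonoidHom.id (P : Subgroup G)) y key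
  have h2 : MonoidHom.transfer (MonoidHom.id (P : Subgroup G)) y = 1 := by
    have hker : (MonoidHom.transfer (MonoidHom.id (P : Subgroup G))).ker = ⊤ := by
      rcases Subgroup.Normal.eq_bot_or_eq_top
        (H := (MonoidHom.transfer (MonoidHom.id (P : Subgroup G))).ker) inferInstance with h | h
      · exfalso
        apply hG
        have hi := (MonoidHom.ker_eq_bot_iff _).1 h
        refine ⟨⟨fun a b => hi ?_⟩⟩
        rw [map_mul, map_mul, mul_comm]
      · exact h
    have : y ∈ (MonoidHom.transfer (MonoidHom.id (P : Subgroup G))).ker := by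
      rw [hker]; exact Subgroup.mem_top y
    exact this
  rw [h2] at h1
  have h3 : y ^ (P : Subgroup G).index = 1 := (congrArg Subtype.val h1).symm
  obtain ⟨k, hk⟩ := P.isPGroup' ⟨y, hy⟩
  have h4 : y ^ p ^ k = 1 := congrArg Subtype.val hk
  rw [← orderOf_eq_one_iff]
  apply Nat.eq_one_of_dvd_coprimes (a := p ^ k) (b := (P : Subgroup G).index)
  · apply Nat.Coprime.pow_left
    rw [(Fact.out : p.Prime).coprime_iff_not_dvd]
    exact P.not_dvd_index
  · rwa [orderOf_dvd_iff_pow_eq_one]
  · rwa [orderOf_dvd_iff_pow_eq_one]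

end Cfsg.Agent.SmallSimple.AbelianSylowTransfer
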