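import Mathlib
import Cfsg.Agent.SmallSimple.Embed

/-!
# Sylow subgroups fixed by an element centralizing a Sylow subgroup
-/

set_option autoImplicit false

namespace Cfsg.Agent.SmallSimple.FixedSylow

open MulAction

section
variable {G : Type*} [Group G] [Finite G] {p : ℕ} [Fact p.Prime]

/-- If `x` centralizes the Sylow `p`-subgroup `Q`, the number of Sylow `p`-subgroups normalized by
`x` is congruent to 1 modulo `p`. -/
theorem card_fixed_modEq_one (Q : Sylow p G) (x : G)
    (hx : x ∈ Subgroup.centralizer ((Q : Subgroup G) : Set G)) :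
    Nat.card {R : Sylow p G // x • R = R} ≡ 1 [MOD p] := by
  have hcomm : ∀ g ∈ (Q : Subgroup G), g * x = x * g := fun g hg =>
    Subgroup.mem_centralizer_iff.1 hx g hg
  let S : SubMulAction (Q : Subgroup G) (Sylow p G) :=
    { carrier := {R | x • R = R}
      smul_mem' := by
        intro g R hR
        have hR' : x • R = R := hR
        show x • ((g : G) • R) = (g : G) • R
        rw [← mul_smul, ← hcomm g g.2, mul_smul, hR'] }
  have hxQ : x • Q = Q := by
    rw [Sylow.smul_eq_iff_mem_normalizer]
    show x ∈ Subgroup.normalizer ((Q : Subgroup G) : Set G)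
    rw [Subgroup.mem_normalizer_iff]
    intro h
    constructor
    · intro hh
      have : x * h * x⁻¹ = h := by rw [← hcomm h hh]; group
      rwa [this]
    · intro hh
      have h1 := hcomm _ hh
      have h2 : x * h * x⁻¹ = h := by
        have : x * (x * h * x⁻¹) = x * h := by rw [← h1]; group
        exact mul_left_cancel this
      rwa [h2] at hh
  have h1 : Nat.card S ≡ Nat.card (fixedPoints (Q : Subgroup G) S) [MOD p] :=
    Q.isPGroup'.card_modEq_card_fixedPoints S
  have h2 : Nat.card (fixedPoints (Q : Subgroup G) S) = 1 := by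
    rw [Nat.card_eq_one_iff_unique]
    refine ⟨⟨?_⟩, ⟨⟨⟨Q, hxQ⟩, ?_⟩⟩⟩
    · rintro ⟨⟨R, hR⟩, hR1⟩ ⟨⟨R', hR'⟩, hR1'⟩
      have key : ∀ R : Sylow p G, ∀ hR : R ∈ S, (⟨R, hR⟩ : S) ∈ fixedPoints (Q : Subgroup G) S →
          R = Q := by
        intro R hR hfix
        have h3 : R ∈ fixedPoints (Q : Subgroup G) (Sylow p G) := by
          intro g
          exact congrArg Subtype.val (hfix g)
        have h4 := Q.isPGroup'.sylow_mem_fixedPoints_iff.1 h3
        exact Sylow.ext (Q.is_maximal' R.isPGroup' h4)
      have e1 := key R hR hR1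
      have e2 := key R' hR' hR1'
      subst e1
      subst e2
      rfl
    · intro g
      apply Subtype.ext
      show (g : G) • Q = Q
      rw [Sylow.smul_eq_iff_mem_normalizer]
      exact Subgroup.le_normalizer g.2
  rw [h2] at h1
  exact h1

omit [Fact p.Prime] in
/-- The number of Sylow `p`-subgroups normalized by an element of prime order `r` is congruent to
the number of all of them modulo `r`. -/
theorem card_fixed_modEq (x : G) {r : ℕ} [Fact r.Prime] (hx : orderOf x = r) :
    Nat.card {R : Sylow p G // x • R = R} ≡ Nat.card (Sylow p G) [MOD r] := by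
  have hZ : IsPGroup r (Subgroup.zpowers x) := by
    apply IsPGroup.of_card (n := 1)
    rw [Nat.card_zpowers, hx, pow_one]
  have h1 := hZ.card_modEq_card_fixedPoints (Sylow p G)
  have h2 : Nat.card {R : Sylow p G // x • R = R} =
      Nat.card (fixedPoints (Subgroup.zpowers x) (Sylow p G)) := by
    apply Nat.card_congr
    apply Equiv.subtypeEquivRight
    intro R
    constructor
    · intro h
      have h3 : Subgroup.zpowers x ≤ stabilizer G R := by
        rw [Subgroup.zpowers_le]; exact h
      rintro ⟨g, hg⟩
      exact h3 hg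
    · intro h
      exact h ⟨x, Subgroup.mem_zpowers x⟩
  rw [h2]
  exact h1.symm

/-- A nontrivial element of a simple non-abelian group does not normalize all Sylow
`p`-subgroups. -/
theorem card_fixed_lt [IsSimpleGroup G] (hG : ¬ IsMulCommutative G) (hdvd : p ∣ Nat.card G)
    (x : G) (hx : x ≠ 1) :
    Nat.card {R : Sylow p G // x • R = R} < Nat.card (Sylow p G) := by
  by_contra hge
  push Not at hge
  have h1 : ∀ R : Sylow p G, x • R = R := by
    intro R
    by_contra hR
    have : Nat.card {R : Sylow p G // x • R = R} < Nat.card (Sylow p G) := by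
      classical
      have := Fintype.ofFinite (Sylow p G)
      rw [Nat.card_eq_fintype_card, Nat.card_eq_fintype_card]
      exact Fintype.card_subtype_lt (x := R) hR
    omega
  have h2 : x ∈ (MulAction.toPermHom G (Sylow p G)).ker := by
    rw [MonoidHom.mem_ker]
    ext1 R
    exact h1 R
  rcases Subgroup.Normal.eq_bot_or_eq_top (H := (MulAction.toPermHom G (Sylow p G)).ker)
    inferInstance with h | h
  · rw [h] at h2
    exact hx (Subgroup.mem_bot.1 h2)
  · let P : Sylow p G := default
    apply Embed.normalizer_sylow_ne_top hG hdvd P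
    rw [eq_top_iff]
    intro g _
    have h3 : g ∈ (MulAction.toPermHom G (Sylow p G)).ker := by rw [h]; exact Subgroup.mem_top g
    rw [MonoidHom.mem_ker] at h3
    have h4 : g • P = P := congrArg (fun e : Equiv.Perm (Sylow p G) => e P) h3
    exact Sylow.smul_eq_iff_mem_normalizer.1 h4

end

end Cfsg.Agent.SmallSimple.FixedSylow
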