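import Mathlib

/-!
# Sylow subgroups of a subgroup containing a Sylow subgroup of the whole group
-/

set_option autoImplicit false

namespace Cfsg.Agent.SmallSimple.SylowSub

section
variable {G : Type*} [Group G]

/-- `|H ⊓ K| * |K : H ∩ K| = |K|`. -/
theorem card_inf_mul_relIndex (H K : Subgroup G) :
    Nat.card (H ⊓ K : Subgroup G) * H.relIndex K = Nat.card K := by
  have h1 := (H.subgroupOf K).card_mul_index
  have h2 : Nat.card (H.subgroupOf K) = Nat.card (H ⊓ K : Subgroup G) := by
    rw [← Subgroup.inf_subgroupOf_right]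
    exact Nat.card_congr (Subgroup.subgroupOfEquivOfLe inf_le_right).toEquiv
  rw [h2] at h1
  exact h1

/-- An element normalizing `R` whose order is prime to `|Aut R|` centralizes `R`. -/
theorem mem_centralizer_of_coprime (R : Subgroup G) [Finite R] (x : G)
    (hx : x ∈ Subgroup.normalizer (R : Set G))
    (hc : (orderOf x).Coprime (Nat.card (MulAut R))) :
    x ∈ Subgroup.centralizer (R : Set G) := by
  let y : Subgroup.normalizer (R : Set G) := ⟨x, hx⟩
  have h1 : orderOf (R.normalizerMonoidHom y) ∣ orderOf x := by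
    have := orderOf_map_dvd R.normalizerMonoidHom y
    rwa [← Subgroup.orderOf_coe y] at this
  have h2 : orderOf (R.normalizerMonoidHom y) ∣ Nat.card (MulAut R) := orderOf_dvd_natCard _
  have h3 : orderOf (R.normalizerMonoidHom y) = 1 := Nat.eq_one_of_dvd_coprimes hc h1 h2
  rw [orderOf_eq_one_iff] at h3
  have h4 : y ∈ R.normalizerMonoidHom.ker := h3
  rw [Subgroup.normalizerMonoidHom_ker, Subgroup.mem_subgroupOf] at h4
  exact h4

end

section
variable {G : Type*} [Group G] [Finite G] {p : ℕ} [hp : Fact p.Prime]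

/-- The order of a Sylow subgroup. -/
theorem card_sylow_eq {k m : ℕ} (h : Nat.card G = p ^ k * m) (hm : ¬ p ∣ m) (P : Sylow p G) :
    Nat.card P = p ^ k := by
  have hm0 : m ≠ 0 := by rintro rfl; exact hm (dvd_zero p)
  rw [P.card_eq_multiplicity, h, Nat.factorization_mul (pow_ne_zero k hp.out.ne_zero) hm0,
    Finsupp.add_apply, hp.out.factorization_pow, Finsupp.single_eq_same,
    Nat.factorization_eq_zero_of_not_dvd hm, add_zero]

/-- A subgroup with the order of a Sylow subgroup is one. -/
theorem exists_sylow_eq (H : Subgroup G) (P : Sylow p G) (h : Nat.card H = Nat.card P) :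
    ∃ Q : Sylow p G, (Q : Subgroup G) = H := by
  have hH : IsPGroup p H := by
    obtain ⟨n, hn⟩ := IsPGroup.iff_card.1 P.isPGroup'
    exact IsPGroup.of_card (n := n) (h.trans hn)
  obtain ⟨Q, hQ⟩ := hH.exists_le_sylow
  refine ⟨Q, (Subgroup.eq_of_le_of_card_ge hQ ?_).symm⟩
  rw [h, P.card_eq_multiplicity, Q.card_eq_multiplicity]

/-- The number of Sylow `p`-subgroups of `L` is `|L : N_L(P)|` if `P ≤ L` is a Sylow subgroup
of `G`. -/
theorem card_sylow_eq_relIndex (P : Sylow p G) (L : Subgroup G) (hP : (P : Subgroup G) ≤ L) :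
    Nat.card (Sylow p L) = (Subgroup.normalizer ((P : Subgroup G) : Set G)).relIndex L := by
  rw [(P.subtype hP).card_eq_index_normalizer, Subgroup.relIndex]
  congr 1
  have h1 := Subgroup.subgroupOf_normalizer_eq hP
  rw [h1]
  rfl

/-- The number of Sylow `p`-subgroups of `L` is the number of Sylow `p`-subgroups of `G` contained
in `L`, if there are any. -/
theorem card_sylow_eq_card (P : Sylow p G) (L : Subgroup G) (hP : (P : Subgroup G) ≤ L) :
    Nat.card (Sylow p L) = Nat.card {R : Sylow p G // (R : Subgroup G) ≤ L} := by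
  symm
  apply Nat.card_congr
  refine Equiv.ofBijective (fun R => R.1.subtype R.2) ⟨?_, ?_⟩
  · intro R R' h
    exact Subtype.ext (Sylow.subtype_injective h)
  · intro S
    have h1 : Nat.card ((S : Subgroup L).map L.subtype) = Nat.card P := by
      rw [Subgroup.card_map_of_injective L.subtype_injective, S.card_eq_multiplicity,
        ← (P.subtype hP).card_eq_multiplicity]
      exact Nat.card_congr (Subgroup.subgroupOfEquivOfLe hP).toEquiv
    obtain ⟨R, hR⟩ := exists_sylow_eq _ P h1
    have h2 : (R : Subgroup G) ≤ L := by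
      rw [hR]
      exact Subgroup.map_subtype_le _
    refine ⟨⟨R, h2⟩, ?_⟩
    apply Sylow.ext
    show (R : Subgroup G).subgroupOf L = S
    rw [hR]
    exact Subgroup.comap_map_eq_self_of_injective L.subtype_injective _

omit hp in
/-- If a normal subgroup `K` of `L` contains all Sylow `p`-subgroups of `L` and has only one Sylow
`p`-subgroup, so does `L`. -/
theorem card_sylow_eq_one_of_le {L : Type*} [Group L] [Finite L] (K : Subgroup L)
    (hK : ∀ S : Sylow p L, (S : Subgroup L) ≤ K) (h1 : Nat.card (Sylow p K) = 1) :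
    Nat.card (Sylow p L) = 1 := by
  obtain ⟨hs, -⟩ := Nat.card_eq_one_iff_unique.1 h1
  rw [Nat.card_eq_one_iff_unique]
  refine ⟨⟨fun S T => ?_⟩, inferInstance⟩
  have : S.subtype (hK S) = T.subtype (hK T) := Subsingleton.elim _ _
  exact Sylow.subtype_injective this

/-- **Burnside**: if the Sylow `3`-subgroup (of order `9`) of `L` is in the centre of its normalizer
and `|L| = 9 m` with `m ∣ 20`, then `L` has just one Sylow `5`-subgroup. -/
theorem card_sylow_five_eq_one {L : Type*} [Group L] [Finite L] (P : Sylow 3 L)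
    (hP : Subgroup.normalizer ((P : Subgroup L) : Set L) ≤
      Subgroup.centralizer ((P : Subgroup L) : Set L))
    (hP9 : Nat.card P = 9) {m : ℕ} (hm : m ∣ 20) (hcard : Nat.card L = 9 * m) :
    Nat.card (Sylow 5 L) = 1 := by
  have hF5 : Fact (Nat.Prime 5) := ⟨by norm_num⟩
  have hcomp := MonoidHom.ker_transferSylow_isComplement' P hP
  set K := (MonoidHom.transferSylow P hP).ker with hK
  have hKcard : Nat.card K = m := by
    have := hcomp.card_mul_card
    rw [hP9, hcard] at this
    omega
  apply card_sylow_eq_one_of_le K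
  · intro S x hx
    rw [hK, MonoidHom.mem_ker]
    obtain ⟨k, hk⟩ := S.isPGroup' ⟨x, hx⟩
    have hk' : x ^ 5 ^ k = 1 := congrArg Subtype.val hk
    obtain ⟨j, hj⟩ := P.isPGroup' (MonoidHom.transferSylow P hP x)
    rw [← orderOf_eq_one_iff]
    apply Nat.eq_one_of_dvd_coprimes (a := 5 ^ k) (b := 3 ^ j)
    · exact Nat.Coprime.pow _ _ (by norm_num)
    · rw [orderOf_dvd_iff_pow_eq_one, ← map_pow, hk', map_one]
    · rwa [orderOf_dvd_iff_pow_eq_one]
  · have h1 := card_sylow_modEq_one 5 K
    obtain ⟨S⟩ : Nonempty (Sylow 5 K) := inferInstance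
    have h2 := S.card_dvd_index
    have h3 : (S : Subgroup K).index ∣ m := by
      rw [← hKcard]; exact Subgroup.index_dvd_card _
    have h4 : ¬ 5 ∣ (S : Subgroup K).index := S.not_dvd_index
    have h5 : Nat.card (Sylow 5 K) ∣ 20 := h2.trans (h3.trans hm)
    have h6 : ¬ 5 ∣ Nat.card (Sylow 5 K) := fun h => h4 (h.trans h2)
    have key : ∀ n ∈ Nat.divisors 20, n % 5 = 1 → n = 1 := by decide
    exact key _ (Nat.mem_divisors.2 ⟨h5, by norm_num⟩) h1

end

end Cfsg.Agent.SmallSimple.SylowSub
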