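import Mathlib

/-!
# Intersections of Sylow subgroups

Shared file of the block `small_simple`.
-/

set_option autoImplicit false

namespace Cfsg.Agent.SmallSimple.SylowInter

open MulAction

/-- If a group acts on a finite set, fixes `a`, and `m` divides the length of each orbit other than
`{a}`, then the number of points is congruent to 1 modulo `m`. -/
theorem card_modEq_one_of_orbits {H α : Type*} [Group H] [MulAction H α] [Finite α] (m : ℕ) (a : α)
    (ha : ∀ h : H, h • a = a) (h : ∀ b : α, b ≠ a → m ∣ Nat.card (orbit H b)) :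
    Nat.card α ≡ 1 [MOD m] := by
  classical
  have : Fintype (orbitRel.Quotient H α) := Fintype.ofFinite _
  rw [Nat.card_congr (selfEquivSigmaOrbits' H α), Nat.card_sigma]
  set ω₀ : orbitRel.Quotient H α := Quotient.mk'' a
  rw [← Finset.add_sum_erase Finset.univ _ (Finset.mem_univ ω₀)]
  have h1 : Nat.card (orbitRel.Quotient.orbit ω₀) = 1 := by
    rw [orbitRel.Quotient.orbit_mk]
    rw [Nat.card_eq_one_iff_unique]
    refine ⟨⟨?_⟩, ⟨⟨a, mem_orbit_self a⟩⟩⟩
    rintro ⟨x, hx⟩ ⟨y, hy⟩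
    obtain ⟨g, rfl⟩ := hx
    obtain ⟨g', rfl⟩ := hy
    simp [ha]
  rw [h1]
  have h2 : m ∣ ∑ x ∈ Finset.univ.erase ω₀, Nat.card (orbitRel.Quotient.orbit x) := by
    apply Finset.dvd_sum
    intro ω hω
    rw [Finset.mem_erase] at hω
    obtain ⟨b, rfl⟩ := Quotient.exists_rep ω
    have hb : b ≠ a := by
      rintro rfl
      exact hω.1 rfl
    have := h b hb
    rwa [← orbitRel.Quotient.orbit_mk] at this
  have h3 : 1 + ∑ x ∈ Finset.univ.erase ω₀, Nat.card (orbitRel.Quotient.orbit x) ≡ 1 + 0 [MOD m] :=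
    Nat.ModEq.add_left 1 ((Nat.modEq_zero_iff_dvd).2 h2)
  simpa using h3

/-- The orbit of the Sylow subgroup `R` under conjugation by the Sylow subgroup `P` has `|P : P ∩ R|`
elements. -/
theorem card_orbit_sylow {G : Type*} [Group G] {p : ℕ} (P R : Sylow p G) :
    Nat.card (orbit (P : Subgroup G) R) = ((R : Subgroup G).subgroupOf (P : Subgroup G)).index := by
  have h1 : stabilizer (P : Subgroup G) R = (R : Subgroup G).subgroupOf (P : Subgroup G) := by
    ext x
    rw [mem_stabilizer_iff, Subgroup.mem_subgroupOf]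
    have h2 : x • R = (x : G) • R := rfl
    rw [h2, Sylow.smul_eq_iff_mem_normalizer]
    constructor
    · intro hx
      have := (P.isPGroup'.inf_normalizer_sylow R).le (Subgroup.mem_inf.2 ⟨x.2, hx⟩)
      exact (Subgroup.mem_inf.1 this).2
    · intro hx
      exact Subgroup.le_normalizer hx
  rw [← h1]
  exact (index_stabilizer (P : Subgroup G) R).symm

/-- For EVERY Sylow `p`-subgroup `P`: if the number of Sylow `p`-subgroups is not congruent to 1
modulo `p ^ k` there is another one `R` with `|P : P ∩ R| ≤ p ^ (k - 1)`. -/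
theorem exists_ne_index_le {G : Type*} [Group G] [Finite G] (p k : ℕ) [hp : Fact p.Prime]
    (h : ¬ Nat.card (Sylow p G) ≡ 1 [MOD p ^ k]) (P : Sylow p G) :
    ∃ R : Sylow p G, P ≠ R ∧
      ((R : Subgroup G).subgroupOf (P : Subgroup G)).index ≤ p ^ (k - 1) := by
  by_contra hcon
  push Not at hcon
  apply h
  refine card_modEq_one_of_orbits (H := (P : Subgroup G)) (p ^ k) P ?_ ?_
  · intro g
    have h2 : g • P = (g : G) • P := rfl
    rw [h2, Sylow.smul_eq_iff_mem_normalizer]
    exact Subgroup.le_normalizer g.2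
  · intro R hR
    rw [card_orbit_sylow]
    have hlt := hcon R (Ne.symm hR)
    obtain ⟨n, hn⟩ := P.isPGroup'.index ((R : Subgroup G).subgroupOf (P : Subgroup G))
    rw [hn] at hlt ⊢
    have := (Nat.pow_lt_pow_iff_right hp.out.one_lt).1 hlt
    exact pow_dvd_pow p (by omega)

/-- Cardinality form of `exists_ne_index_le`: `|P| ≤ |P ∩ R| * p ^ (k - 1)`. -/
theorem exists_ne_card_le {G : Type*} [Group G] [Finite G] (p k : ℕ) [hp : Fact p.Prime]
    (h : ¬ Nat.card (Sylow p G) ≡ 1 [MOD p ^ k]) (P : Sylow p G) :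
    ∃ R : Sylow p G, P ≠ R ∧
      Nat.card (P : Subgroup G) ≤
        Nat.card ((P : Subgroup G) ⊓ (R : Subgroup G) : Subgroup G) * p ^ (k - 1) := by
  obtain ⟨R, hPR, hR⟩ := exists_ne_index_le p k h P
  refine ⟨R, hPR, ?_⟩
  have h1 := Subgroup.card_mul_index ((R : Subgroup G).subgroupOf (P : Subgroup G))
  have h2 : Nat.card ((R : Subgroup G).subgroupOf (P : Subgroup G)) =
      Nat.card ((P : Subgroup G) ⊓ (R : Subgroup G) : Subgroup G) := by
    rw [← Subgroup.inf_subgroupOf_left]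
    exact Nat.card_congr (Subgroup.subgroupOfEquivOfLe inf_le_left).toEquiv
  rw [← h1, h2]
  exact Nat.mul_le_mul_left _ hR

/-- If `|P| = p ^ n`, `k ≤ n + 1` and the number of Sylow `p`-subgroups is not 1 modulo `p ^ k`,
then some other Sylow subgroup `R` satisfies `p ^ (n + 1 - k) ∣ |P ∩ R|`. -/
theorem exists_ne_pow_dvd_card_inf {G : Type*} [Group G] [Finite G] (p k n : ℕ) [hp : Fact p.Prime]
    (h : ¬ Nat.card (Sylow p G) ≡ 1 [MOD p ^ k]) (P : Sylow p G)
    (hP : Nat.card (P : Subgroup G) = p ^ n) :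
    ∃ R : Sylow p G, P ≠ R ∧
      p ^ (n + 1 - k) ∣ Nat.card ((P : Subgroup G) ⊓ (R : Subgroup G) : Subgroup G) := by
  obtain ⟨R, hPR, hR⟩ := exists_ne_card_le p k h P
  refine ⟨R, hPR, ?_⟩
  obtain ⟨m, hm⟩ := (IsPGroup.iff_card).1
    ((P.isPGroup').to_le (inf_le_left : (P : Subgroup G) ⊓ (R : Subgroup G) ≤ P))
  rw [hm, hP, ← pow_add, Nat.pow_le_pow_iff_right hp.out.one_lt] at hR
  rw [hm]
  by_cases hk : k = 0
  · subst hk
    exact absurd (by simpa using Nat.modEq_one) h
  · exact pow_dvd_pow p (by omega)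

end Cfsg.Agent.SmallSimple.SylowInter
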