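import Mathlib
import Cfsg.Agent.SmallSimple.Order2520Four
import Cfsg.Agent.Transfer.ThompsonTransfer

/-!
# The four-group is elementary abelian; one class of involutions
-/

set_option autoImplicit false

namespace Cfsg.Agent.SmallSimple.Order2520Klein

open Order2520Sylow Order2520Three Order2520Invol Order2520Four

variable {G : Type*} [Group G] [Finite G]

/-- The data of the four-group `V` and the involution `v ∈ V` commuting with `s`. -/
structure VData (P : Sylow 3 G) (x s h : G) (V : Subgroup G) (v : G) : Prop where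
  card_V : Nat.card V = 4
  mem_V : ∀ c : G, c ∈ V ↔ (c ∈ Subgroup.centralizer ({x} : Set G) ∧ c ^ 4 = 1)
  hv : v ∈ V
  hv1 : v ≠ 1
  sq : ∀ z ∈ V, z * z = 1
  hsv : s * v = v * s
  cases : ∀ z ∈ V, z = 1 ∨ z = v ∨ z = (h⁻¹ * x * h) * v * (h⁻¹ * x * h)⁻¹ ∨
    z = (h⁻¹ * x * h)⁻¹ * v * (h⁻¹ * x * h)
  hbv : (h⁻¹ * x * h) * v * (h⁻¹ * x * h)⁻¹ ≠ v
  hvb : (v * (h⁻¹ * x * h)) ^ 3 = 1
  invol : ∀ u : G, u * u = 1 → u ≠ 1 → ∃ g : G, g * u * g⁻¹ = v

section
variable {P : Sylow 3 G} {x s h : G} (D : Data P x s h) (hcard : Nat.card G = 2520)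
variable {V : Subgroup G} (hV4 : Nat.card V = 4)
  (hV : ∀ c : G, c ∈ V ↔ (c ∈ Subgroup.centralizer ({x} : Set G) ∧ c ^ 4 = 1))

include hV in
omit [Finite G] in
/-- `N(⟨x⟩)` normalizes `V`. -/
theorem conj_mem_V {n c : G}
    (hn : n ∈ Subgroup.normalizer ((Subgroup.zpowers x : Subgroup G) : Set G)) (hc : c ∈ V) :
    n * c * n⁻¹ ∈ V := by
  rw [hV] at hc ⊢
  refine ⟨?_, ?_⟩
  · have h1 : n⁻¹ * x * n ∈ Subgroup.zpowers x := by
      have := conj_mem_zpowers (Subgroup.inv_mem _ hn)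
      rwa [inv_inv] at this
    have h2 := hc.1
    rw [centralizer_singleton_eq, Subgroup.mem_centralizer_iff] at h2
    have h3 := h2 _ h1
    rw [Subgroup.mem_centralizer_singleton_iff]
    have h4 : n * c * n⁻¹ * x = n * (c * (n⁻¹ * x * n)) * n⁻¹ := by group
    rw [h4, ← h3]; group
  · rw [conj_pow, hc.2]; group

include hV4 in
omit [Finite G] in
theorem V_comm {y z : G} (hy : y ∈ V) (hz : z ∈ V) : y * z = z * y := by
  have hF : Fact (Nat.Prime 2) := ⟨by norm_num⟩
  have hcomm : IsMulCommutative V := IsPGroup.isMulCommutative_of_card_eq_prime_sq (p := 2)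
    (by rw [hV4]; norm_num)
  exact congrArg Subtype.val (hcomm.is_comm.comm (⟨y, hy⟩ : V) ⟨z, hz⟩)

include D hcard in
theorem b_mem_NX : h⁻¹ * x * h ∈ Subgroup.normalizer ((Subgroup.zpowers x : Subgroup G) : Set G) :=
  P_le_NX D hcard (b_mem D)

include D hcard hV4 hV in
/-- `b` does not centralize `V`. -/
theorem not_centralize : ¬ ∀ v ∈ V, (h⁻¹ * x * h) * v = v * (h⁻¹ * x * h) := by
  intro hall
  have hF : Fact (Nat.Prime 3) := ⟨by norm_num⟩
  have h1 : (P : Subgroup G) ≤ Subgroup.centralizer (V : Set G) := by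
    apply P_le D hcard
    · rw [Subgroup.mem_centralizer_iff]
      intro v hv
      exact Subgroup.mem_centralizer_singleton_iff.1 ((hV v).1 hv).1
    · rw [Subgroup.mem_centralizer_iff]
      intro v hv
      exact (hall v hv).symm
  have h2 : V ≤ (P : Subgroup G) := by
    intro v hv
    apply mem_P_of_comm D hcard
    intro p hp
    exact Subgroup.mem_centralizer_iff.1 (h1 hp) v hv
  have h3 := Subgroup.card_dvd_of_le h2
  rw [hV4] at h3
  change 4 ∣ Nat.card P at h3
  rw [card_sylow_three hcard P] at h3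
  omega

include D hcard hV4 hV in
/-- `b` fixes no nonidentity element of `V`. -/
theorem b_fixes {v : G} (hv : v ∈ V) (hv1 : v ≠ 1) :
    (h⁻¹ * x * h) * v * (h⁻¹ * x * h)⁻¹ ≠ v := by
  intro hfix
  apply not_centralize D hcard hV4 hV
  have hbN := b_mem_NX D hcard
  have hob := orderOf_b D
  generalize h⁻¹ * x * h = b at *
  have hb3 : b ^ 3 = 1 := by rw [← hob]; exact pow_orderOf_eq_one b
  set W := V ⊓ Subgroup.centralizer ({b} : Set G) with hW
  have hmemW : ∀ z, z ∈ W ↔ z ∈ V ∧ b * z * b⁻¹ = z := by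
    intro z
    rw [hW, Subgroup.mem_inf, Subgroup.mem_centralizer_singleton_iff]
    constructor
    · rintro ⟨h1, h2⟩
      exact ⟨h1, by rw [← h2]; group⟩
    · rintro ⟨h1, h2⟩
      refine ⟨h1, ?_⟩
      nth_rw 1 [← h2]
      group
  have hvW : v ∈ W := (hmemW v).2 ⟨hv, hfix⟩
  have h1 : Nat.card W ∣ 4 := by rw [← hV4]; exact Subgroup.card_dvd_of_le inf_le_left
  have h2 : Nat.card W ≠ 1 := by
    intro h
    have : W = ⊥ := Subgroup.card_eq_one.1 h
    rw [this] at hvW
    exact hv1 (Subgroup.mem_bot.1 hvW)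
  have hidx := SylowSub.card_inf_mul_relIndex W V
  rw [inf_eq_left.2 inf_le_left, hV4] at hidx
  by_cases h4 : Nat.card W = 4
  · have hWV : W = V := Subgroup.eq_of_le_of_card_ge inf_le_left (by rw [h4, hV4])
    intro z hz
    have : z ∈ W := by rw [hWV]; exact hz
    have h5 := ((hmemW z).1 this).2
    nth_rw 2 [← h5]; group
  · exfalso
    have h5 : Nat.card W = 2 := by
      have := Nat.le_of_dvd (by norm_num) h1
      generalize Nat.card W = k at *
      interval_cases k <;> omega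
    have h6 : W.relIndex V = 2 := by rw [h5] at hidx; omega
    have hex : ∃ p ∈ V, p ∉ W := by
      by_contra hcon
      push Not at hcon
      have : W = V := le_antisymm inf_le_left hcon
      rw [this, hV4] at h5
      omega
    obtain ⟨p, hpV, hpW⟩ := hex
    have hbp : b * p * b⁻¹ ∈ V := conj_mem_V hV hbN hpV
    have hbpW : b * p * b⁻¹ ∉ W := by
      intro h7
      apply hpW
      have h8 := ((hmemW _).1 h7).2
      have h9 : b * p * b⁻¹ = p := by
        have : b * (b * p * b⁻¹) * b⁻¹ = b * p * b⁻¹ := h8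
        have h10 : b * p * b⁻¹ = b⁻¹ * (b * (b * p * b⁻¹) * b⁻¹) * b := by group
        rw [h10, h8]; group
      exact (hmemW p).2 ⟨hpV, h9⟩
    have hw : p⁻¹ * (b * p * b⁻¹) ∈ W :=
      mem_of_relIndex_two h6 (V.inv_mem hpV) hbp (fun h7 => hpW (by
        have := W.inv_mem h7
        rwa [inv_inv] at this)) hbpW
    obtain ⟨hwV, hwb⟩ := (hmemW _).1 hw
    generalize hwdef : p⁻¹ * (b * p * b⁻¹) = w at *
    have e1 : b * p * b⁻¹ = p * w := by rw [← hwdef]; group
    have e2 : b * (b * p * b⁻¹) * b⁻¹ = p * w * w := by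
      rw [e1]
      have : b * (p * w) * b⁻¹ = (b * p * b⁻¹) * (b * w * b⁻¹) := by group
      rw [this, e1, hwb]
    have e3 : b * (b * (b * p * b⁻¹) * b⁻¹) * b⁻¹ = p * w * w * w := by
      rw [e2]
      have : b * (p * w * w) * b⁻¹ = (b * p * b⁻¹) * (b * w * b⁻¹) * (b * w * b⁻¹) := by group
      rw [this, e1, hwb]
    have e4 : b * (b * (b * p * b⁻¹) * b⁻¹) * b⁻¹ = b ^ 3 * p * (b ^ 3)⁻¹ := by
      simp only [pow_succ, pow_zero, one_mul]; group
    rw [e4, hb3] at e3
    have e5 : w ^ 3 = 1 := by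
      have : p * w ^ 3 = p * 1 := by
        calc p * w ^ 3 = p * w * w * w := by simp only [pow_succ, pow_zero, one_mul, mul_assoc]
          _ = 1 * p * 1⁻¹ := e3.symm
          _ = p * 1 := by group
      exact mul_left_cancel this
    have e6 : w ^ 4 = 1 := ((hV w).1 hwV).2
    have e7 : w = 1 := by
      have : w = w ^ 4 * (w ^ 3)⁻¹ := by rw [pow_succ' w 3]; group
      rw [this, e5, e6]; group
    apply hpW
    rw [e7, mul_one] at e1
    exact (hmemW p).2 ⟨hpV, e1⟩

include D hcard hV4 hV in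
/-- `V = {1, v, b v b⁻¹, b⁻¹ v b}`. -/
theorem V_cases {v : G} (hv : v ∈ V) (hv1 : v ≠ 1) (z : G) (hz : z ∈ V) :
    z = 1 ∨ z = v ∨ z = (h⁻¹ * x * h) * v * (h⁻¹ * x * h)⁻¹ ∨
    z = (h⁻¹ * x * h)⁻¹ * v * (h⁻¹ * x * h) := by
  have hfix := b_fixes D hcard hV4 hV hv hv1
  have hbN := b_mem_NX D hcard
  have hob := orderOf_b D
  generalize h⁻¹ * x * h = b at *
  have hb3 : b ^ 3 = 1 := by rw [← hob]; exact pow_orderOf_eq_one b
  have hbb : b * b = b⁻¹ := by
    rw [eq_inv_iff_mul_eq_one, ← hb3]; simp only [pow_succ, pow_zero, one_mul]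
  have h1 : b * v * b⁻¹ ∈ V := conj_mem_V hV hbN hv
  have h2 : b⁻¹ * v * b ∈ V := by
    have := conj_mem_V hV (Subgroup.inv_mem _ hbN) hv
    rwa [inv_inv] at this
  have h3 : b⁻¹ * v * b ≠ v := by
    intro h
    apply hfix
    nth_rw 1 [← h]; group
  have h4 : b * v * b⁻¹ ≠ b⁻¹ * v * b := by
    intro h
    apply h3
    have : b⁻¹ * v * b = (b * b) * v * (b * b)⁻¹ := by rw [hbb, inv_inv]
    rw [this]
    have : (b * b) * v * (b * b)⁻¹ = b * (b * v * b⁻¹) * b⁻¹ := by group
    rw [this, h]; group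
  have h5 : b * v * b⁻¹ ≠ 1 := by
    intro h
    apply hv1
    have : v = b⁻¹ * (b * v * b⁻¹) * b := by group
    rw [this, h]; group
  have h6 : b⁻¹ * v * b ≠ 1 := by
    intro h
    apply hv1
    have : v = b * (b⁻¹ * v * b) * b⁻¹ := by group
    rw [this, h]; group
  have hsub : ({1, v, b * v * b⁻¹, b⁻¹ * v * b} : Set G) ⊆ (V : Set G) := by
    rintro u (rfl | rfl | rfl | rfl)
    · exact V.one_mem
    · exact hv
    · exact h1
    · exact h2
  have hcardS : ({1, v, b * v * b⁻¹, b⁻¹ * v * b} : Set G).ncard = 4 := by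
    rw [Set.ncard_insert_of_notMem, Set.ncard_insert_of_notMem, Set.ncard_insert_of_notMem,
      Set.ncard_singleton]
    · exact h4
    · rintro (h | h)
      · exact hfix h.symm
      · exact h3 h.symm
    · rintro (h | h | h)
      · exact hv1 h.symm
      · exact h5 h.symm
      · exact h6 h.symm
  have hVn : (V : Set G).ncard = 4 := by
    rw [← hV4]; rfl
  have heq := Set.eq_of_subset_of_ncard_le hsub (by rw [hVn, hcardS]) (Set.toFinite _)
  have hz' : z ∈ ({1, v, b * v * b⁻¹, b⁻¹ * v * b} : Set G) := by rw [heq]; exact hz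
  exact hz'

include D hcard hV4 hV in
/-- `V` is elementary abelian. -/
theorem V_sq (z : G) (hz : z ∈ V) : z * z = 1 := by
  have hF : Fact (Nat.Prime 2) := ⟨by norm_num⟩
  by_cases hz1 : z = 1
  · rw [hz1, one_mul]
  obtain ⟨u, hu⟩ := exists_prime_orderOf_dvd_card' (G := V) 2 (by rw [hV4]; norm_num)
  rw [← Subgroup.orderOf_coe] at hu
  have huu : (u : G) * u = 1 := by rw [← pow_two, ← hu]; exact pow_orderOf_eq_one _
  have hu1 : (u : G) ≠ 1 := by
    intro h
    rw [h, orderOf_one] at hu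
    omega
  rcases V_cases D hcard hV4 hV u.2 hu1 z hz with h' | h' | h' | h'
  · exact absurd h' hz1
  · rw [h']; exact huu
  · rw [h']
    generalize h⁻¹ * x * h = b at *
    have : b * (u : G) * b⁻¹ * (b * u * b⁻¹) = b * (u * u) * b⁻¹ := by group
    rw [this, huu]; group
  · rw [h']
    generalize h⁻¹ * x * h = b at *
    have : b⁻¹ * (u : G) * b * (b⁻¹ * u * b) = b⁻¹ * (u * u) * b := by group
    rw [this, huu]; group

include D hV4 hV in
/-- There is an involution in `V` commuting with `s`. -/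
theorem exists_v : ∃ v ∈ V, v ≠ 1 ∧ s * v = v * s := by
  have hF : Fact (Nat.Prime 2) := ⟨by norm_num⟩
  obtain ⟨u, hu⟩ := exists_prime_orderOf_dvd_card' (G := V) 2 (by rw [hV4]; norm_num)
  rw [← Subgroup.orderOf_coe] at hu
  have huu : (u : G) * u = 1 := by rw [← pow_two, ← hu]; exact pow_orderOf_eq_one _
  have hu1 : (u : G) ≠ 1 := by
    intro h
    rw [h, orderOf_one] at hu
    omega
  have hsi := s_inv D
  have hus : s * u * s ∈ V := by
    have := conj_mem_V hV (s_mem_NX D) u.2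
    rwa [hsi] at this
  by_cases hc : (u : G) * (s * u * s) = 1
  · refine ⟨u, u.2, hu1, ?_⟩
    have h1 : s * u * s = u := by
      have h2 : s * (u : G) * s = (u : G)⁻¹ := eq_inv_of_mul_eq_one_right hc
      rw [h2]
      exact inv_eq_of_mul_eq_one_left huu
    calc s * (u : G) = s * u * (s * s) := by rw [D.hss, mul_one]
      _ = (s * u * s) * s := by group
      _ = u * s := by rw [h1]
  · refine ⟨u * (s * u * s), V.mul_mem u.2 hus, hc, ?_⟩
    calc s * ((u : G) * (s * u * s)) = (s * u * s) * (u * s) := by group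
      _ = ((s * u * s) * u) * s := by group
      _ = (u * (s * u * s)) * s := by rw [V_comm hV4 hus u.2]

include D hcard hV4 hV in
/-- `(v b)^3 = 1`. -/
theorem v_b {v : G} (hv : v ∈ V) (hv1 : v ≠ 1) : (v * (h⁻¹ * x * h)) ^ 3 = 1 := by
  have hfix := b_fixes D hcard hV4 hV hv hv1
  have hbN := b_mem_NX D hcard
  have hob := orderOf_b D
  have hvv := V_sq D hcard hV4 hV v hv
  have hcases := V_cases D hcard hV4 hV hv hv1
  generalize h⁻¹ * x * h = b at *
  have hb3 : b ^ 3 = 1 := by rw [← hob]; exact pow_orderOf_eq_one b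
  have hbb : b * b = b⁻¹ := by
    rw [eq_inv_iff_mul_eq_one, ← hb3]; simp only [pow_succ, pow_zero, one_mul]
  have h1 : b * v * b⁻¹ ∈ V := conj_mem_V hV hbN hv
  have hvi : v⁻¹ = v := inv_eq_of_mul_eq_one_left hvv
  have key : v * (b * v * b⁻¹) = b⁻¹ * v * b := by
    rcases hcases _ (V.mul_mem hv h1) with h2 | h2 | h2 | h2
    · exfalso; apply hfix
      have := eq_inv_of_mul_eq_one_right h2
      rwa [hvi] at this
    · exfalso
      have h3 : b * v * b⁻¹ = 1 := by
        have : v * (b * v * b⁻¹) = v * 1 := by rw [h2, mul_one]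
        exact mul_left_cancel this
      apply hv1
      have : v = b⁻¹ * (b * v * b⁻¹) * b := by group
      rw [this, h3]; group
    · exfalso
      have h3 : v = 1 := by
        have : v * (b * v * b⁻¹) = 1 * (b * v * b⁻¹) := by rw [h2, one_mul]
        exact mul_right_cancel this
      exact hv1 h3
    · exact h2
  calc (v * b) ^ 3 = v * (b * v * b⁻¹) * ((b * b) * v * b) := by
        simp only [pow_succ, pow_zero, one_mul]; group
    _ = (b⁻¹ * v * b) * (b⁻¹ * v * b) := by rw [key, hbb]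
    _ = b⁻¹ * (v * v) * b := by group
    _ = 1 := by rw [hvv]; group

end

/-- The four-group data. -/
theorem exists_vdata [IsSimpleGroup G] {P : Sylow 3 G} {x s h : G} (D : Data P x s h)
    (hcard : Nat.card G = 2520) : ∃ (V : Subgroup G) (v : G), VData P x s h V v := by
  obtain ⟨V, hV4, hV⟩ := exists_V D hcard
  obtain ⟨v, hv, hv1, hsv⟩ := exists_v D hV4 hV
  refine ⟨V, v, hV4, hV, hv, hv1, V_sq D hcard hV4 hV, hsv, V_cases D hcard hV4 hV hv hv1,
    b_fixes D hcard hV4 hV hv hv1, v_b D hcard hV4 hV hv hv1, ?_⟩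
  intro u huu hu1
  have hidx : V.index = 2 * 315 := by
    have := V.card_mul_index
    rw [hV4, hcard] at this
    omega
  have hex : ∃ g : G, g * u * g⁻¹ ∈ V := by
    by_contra hcon
    push Not at hcon
    obtain ⟨f, hf⟩ := Cfsg.Agent.Transfer.ThompsonTransfer.exists_hom_eq_neg_one V hidx
      (by decide) u (by rw [pow_two, huu]) hcon
    have := Parity.unitsInt_hom_eq_one (by rw [hcard]; norm_num) f u
    rw [hf] at this
    exact absurd this (by decide)
  obtain ⟨g, hg⟩ := hex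
  rcases V_cases D hcard hV4 hV hv hv1 _ hg with h1 | h1 | h1 | h1
  · exfalso
    apply hu1
    have : u = g⁻¹ * (g * u * g⁻¹) * g := by group
    rw [this, h1]; group
  · exact ⟨g, h1⟩
  · refine ⟨(h⁻¹ * x * h)⁻¹ * g, ?_⟩
    generalize h⁻¹ * x * h = b at *
    have : b⁻¹ * g * u * (b⁻¹ * g)⁻¹ = b⁻¹ * (g * u * g⁻¹) * b := by group
    rw [this, h1]; group
  · refine ⟨(h⁻¹ * x * h) * g, ?_⟩
    generalize h⁻¹ * x * h = b at *
    have : b * g * u * (b * g)⁻¹ = b * (g * u * g⁻¹) * b⁻¹ := by group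
    rw [this, h1]; group

end Cfsg.Agent.SmallSimple.Order2520Klein
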