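import Mathlib
import Cfsg.Agent.S0243

set_option autoImplicit false

namespace Cfsg.Agent.SmallSimple.PSLTwoPart

/-- Order of `PSL(2, F)` in odd characteristic. -/
theorem card_psl_two_odd {F : Type*} [Field F] [Fintype F] (h : Odd (Fintype.card F)) :
    2 * Nat.card (Matrix.ProjectiveSpecialLinearGroup (Fin 2) F) =
      Fintype.card F * (Fintype.card F ^ 2 - 1) := by
  have h1 := Cfsg.Agent.S0243.result (F := F) rfl 2 le_rfl
  rw [Fin.prod_univ_two] at h1
  have hq : 1 < Fintype.card F := Fintype.one_lt_card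
  generalize hn : Nat.card (Matrix.ProjectiveSpecialLinearGroup (Fin 2) F) = N at h1 ⊢
  generalize hc : Fintype.card F = q at h h1 hq ⊢
  clear hn hc
  obtain ⟨k, rfl⟩ := h
  have hk : 0 < k := by omega
  have hg : Nat.gcd 2 (2 * k + 1 - 1) = 2 := by
    simp
  rw [hg] at h1
  simp only [Fin.val_zero, Fin.val_one, pow_zero, pow_one, Nat.add_sub_cancel] at h1
  have e1 : (2 * k + 1) ^ 2 - (2 * k + 1) = (2 * k) * (2 * k + 1) := by
    rw [Nat.sub_eq_iff_eq_add (by nlinarith)]
    ring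
  rw [e1] at h1
  have : (2 * k) * (2 * N) = (2 * k) * ((2 * k + 1) * ((2 * k + 1) ^ 2 - 1)) := by
    calc (2 * k) * (2 * N) = 2 * (2 * k * N) := by ring
      _ = _ := h1
      _ = _ := by ring
  exact Nat.eq_of_mul_eq_mul_left (by omega) this

/-- Order of `PSL(2, F)` in characteristic two. -/
theorem card_psl_two_even {F : Type*} [Field F] [Fintype F] (h : Even (Fintype.card F)) :
    Nat.card (Matrix.ProjectiveSpecialLinearGroup (Fin 2) F) =
      Fintype.card F * (Fintype.card F ^ 2 - 1) := by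
  have h1 := Cfsg.Agent.S0243.result (F := F) rfl 2 le_rfl
  rw [Fin.prod_univ_two] at h1
  have hq : 1 < Fintype.card F := Fintype.one_lt_card
  generalize hn : Nat.card (Matrix.ProjectiveSpecialLinearGroup (Fin 2) F) = N at h1 ⊢
  generalize hc : Fintype.card F = q at h h1 hq ⊢
  clear hn hc
  obtain ⟨k, rfl⟩ : ∃ k, q = k + 1 := ⟨q - 1, by omega⟩
  have hk : 0 < k := by omega
  have hg : Nat.gcd 2 (k + 1 - 1) = 1 := by
    rw [Nat.add_sub_cancel]
    have : ¬ 2 ∣ k := by
      intro h2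
      have := h.two_dvd
      omega
    exact (Nat.Prime.coprime_iff_not_dvd Nat.prime_two).2 this
  rw [hg] at h1
  simp only [Fin.val_zero, Fin.val_one, pow_zero, pow_one, Nat.add_sub_cancel, one_mul] at h1
  have e1 : (k + 1) ^ 2 - (k + 1) = k * (k + 1) := by
    rw [Nat.sub_eq_iff_eq_add (by nlinarith)]
    ring
  rw [e1] at h1
  have : k * N = k * ((k + 1) * ((k + 1) ^ 2 - 1)) := by
    calc k * N = _ := h1
      _ = _ := by ring
  exact Nat.eq_of_mul_eq_mul_left hk this

/-- If `16 ∣ q (q^2 - 1)` but not `32`, `q` odd, then `q % 16 = 7 or 9`. -/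
theorem mod_sixteen {q N : ℕ} (hq : Odd q) (h : 2 * N = q * (q ^ 2 - 1)) (h8 : 8 ∣ N)
    (h16 : ¬ 16 ∣ N) : q % 16 = 7 ∨ q % 16 = 9 := by
  have hq1 : 1 ≤ q := hq.pos
  have h' : 2 * N + q = q * q ^ 2 := by
    rw [h, Nat.mul_sub, mul_one]
    have : q ≤ q * q ^ 2 := by nlinarith [Nat.one_le_pow 2 q hq1]
    omega
  have hodd := Nat.odd_iff.1 hq
  have hN : (N % 16) = 8 := by omega
  have h1 : (2 * N + q) % 32 = (q * q ^ 2) % 32 := by rw [h']
  have h2 : (16 + q % 32) % 32 = ((q % 32) * (q % 32) ^ 2) % 32 := by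
    rw [Nat.mul_mod, Nat.pow_mod] at h1
    rw [Nat.mul_mod ((q % 32)), Nat.pow_mod (q % 32), Nat.mod_mod, ← h1]
    omega
  have h3 : q % 32 < 32 := Nat.mod_lt _ (by norm_num)
  have h4 : (q % 32) % 16 = q % 16 := by omega
  have h5 : (q % 32) % 2 = 1 := by omega
  rw [← h4]
  generalize q % 32 = r at *
  clear h4 h1 h h' hN hodd hq
  interval_cases r <;> simp_all

end Cfsg.Agent.SmallSimple.PSLTwoPart
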