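import Mathlib
import Cfsg.Agent.SmallSimple.Parity

/-!
# Tool K: the `p`-complement of `C(P)` acts faithfully and evenly on the `P`-orbits
-/

set_option autoImplicit false

namespace Cfsg.Agent.SmallSimple.OrbitSign

open MulAction Equiv.Perm

/-- A permutation of odd order is even. -/
theorem sign_eq_one_of_pow_odd {α : Type*} [Fintype α] [DecidableEq α] (σ : Equiv.Perm α) {n : ℕ}
    (hn : Odd n) (h : σ ^ n = 1) : sign σ = 1 := by
  have h1 : sign σ ^ n = 1 := by rw [← map_pow, h, map_one]
  rcases Int.units_eq_one_or (sign σ) with h2 | h2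
  · exact h2
  · rw [h2, hn.neg_one_pow] at h1
    exact absurd h1 (by decide)

section Free

variable {P Ω : Type*} [Group P] [MulAction P Ω]

/-- For a free action, `Ω` is the product of the acting group and the set of orbits. -/
noncomputable def prodOrbits (hfree : ∀ (z : P) (ω : Ω), z • ω = ω → z = 1) :
    P × orbitRel.Quotient P Ω ≃ Ω :=
  Equiv.ofBijective (fun x => x.1 • x.2.out) (by
    constructor
    · rintro ⟨a, o⟩ ⟨b, o'⟩ h
      simp only at h
      have h1 : (Quotient.mk'' o.out : orbitRel.Quotient P Ω) = Quotient.mk'' o'.out := by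
        apply Quotient.sound
        change o.out ∈ orbit P o'.out
        refine ⟨a⁻¹ * b, ?_⟩
        change (a⁻¹ * b) • o'.out = o.out
        rw [mul_smul, ← h, inv_smul_smul]
      have h2 : o = o' := by
        have e1 : (Quotient.mk'' o.out : orbitRel.Quotient P Ω) = o := Quotient.out_eq _
        have e2 : (Quotient.mk'' o'.out : orbitRel.Quotient P Ω) = o' := Quotient.out_eq _
        rw [← e1, ← e2, h1]
      subst h2
      have h3 : (b⁻¹ * a) • o.out = o.out := by rw [mul_smul, h, inv_smul_smul]
      have h4 := hfree _ _ h3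
      rw [inv_mul_eq_one] at h4
      rw [h4]
    · intro ω
      have h1 : (Quotient.mk'' (Quotient.mk'' ω : orbitRel.Quotient P Ω).out :
          orbitRel.Quotient P Ω) = Quotient.mk'' ω := Quotient.out_eq _
      have h2 : (Quotient.mk'' ω : orbitRel.Quotient P Ω).out ∈ orbit P ω := Quotient.exact h1
      obtain ⟨g, hg⟩ := h2
      refine ⟨(g⁻¹, Quotient.mk'' ω), ?_⟩
      change g⁻¹ • (Quotient.mk'' ω : orbitRel.Quotient P Ω).out = ω
      rw [← hg]
      exact inv_smul_smul g ω)

theorem prodOrbits_apply (hfree : ∀ (z : P) (ω : Ω), z • ω = ω → z = 1) (z : P)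
    (o : orbitRel.Quotient P Ω) : prodOrbits hfree (z, o) = z • o.out := rfl

/-- If a group of odd order acts freely, a permutation commuting with the action has the same sign
as the permutation it induces on the orbits. -/
theorem sign_eq_sign_orbits [Finite P] [Fintype Ω] [DecidableEq Ω]
    [Fintype (orbitRel.Quotient P Ω)] [DecidableEq (orbitRel.Quotient P Ω)]
    (hodd : Odd (Nat.card P)) (hfree : ∀ (z : P) (ω : Ω), z • ω = ω → z = 1)
    (σ : Equiv.Perm Ω) (hσ : ∀ (z : P) (ω : Ω), σ (z • ω) = z • σ ω)
    (τ : Equiv.Perm (orbitRel.Quotient P Ω))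
    (hτ : ∀ ω : Ω, τ (Quotient.mk'' ω) = Quotient.mk'' (σ ω)) :
    sign σ = sign τ := by
  classical
  have := Fintype.ofFinite P
  -- the cocycle
  have hc : ∀ o : orbitRel.Quotient P Ω, ∃ c : P, σ o.out = c • (τ o).out := by
    intro o
    have h1 : (Quotient.mk'' (τ o).out : orbitRel.Quotient P Ω) = Quotient.mk'' (σ o.out) := by
      have e1 : (Quotient.mk'' (τ o).out : orbitRel.Quotient P Ω) = τ o := Quotient.out_eq _
      have e2 : (Quotient.mk'' o.out : orbitRel.Quotient P Ω) = o := Quotient.out_eq _
      rw [e1, ← hτ, e2]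
    have h2 : (τ o).out ∈ orbit P (σ o.out) := Quotient.exact h1
    obtain ⟨g, hg⟩ := h2
    refine ⟨g⁻¹, ?_⟩
    rw [← hg]
    exact (inv_smul_smul g _).symm
  choose c hc using hc
  -- the conjugated permutation
  let σ' : Equiv.Perm (P × orbitRel.Quotient P Ω) := (prodOrbits hfree).symm.permCongr σ
  have h1 : sign σ' = sign σ := sign_permCongr _ _
  let α : Equiv.Perm (P × orbitRel.Quotient P Ω) :=
    Equiv.prodCongrLeft fun o => (Equiv.mulRight (c o) : Equiv.Perm P)
  let β : Equiv.Perm (P × orbitRel.Quotient P Ω) :=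
    Equiv.prodCongrRight fun _ : P => τ
  have h2 : σ' = β * α := by
    apply Equiv.ext
    rintro ⟨z, o⟩
    have e1 : (β * α) (z, o) = (z * c o, τ o) := rfl
    rw [e1]
    change (prodOrbits hfree).symm (σ ((prodOrbits hfree).symm.symm (z, o))) = _
    rw [Equiv.symm_symm, Equiv.symm_apply_eq, prodOrbits_apply, prodOrbits_apply, hσ, hc, mul_smul]
  have h3 : sign α = 1 := by
    change sign (Equiv.prodCongrLeft fun o => (Equiv.mulRight (c o) : Equiv.Perm P)) = 1
    rw [sign_prodCongrLeft]
    apply Finset.prod_eq_one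
    intro o _
    apply sign_eq_one_of_pow_odd _ hodd
    have e : ∀ n : ℕ, (Equiv.mulRight (c o) : Equiv.Perm P) ^ n = Equiv.mulRight (c o ^ n) := by
      intro n
      induction n with
      | zero => ext x; simp
      | succ n ih => rw [pow_succ, ih]; ext x; simp [pow_succ', mul_assoc]
    rw [e, pow_card_eq_one']
    ext x
    simp
  have h4 : sign β = sign τ := by
    change sign (Equiv.prodCongrRight fun _ : P => τ) = sign τ
    rw [sign_prodCongrRight, Finset.prod_const, Finset.card_univ, ← Nat.card_eq_fintype_card]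
    rcases Int.units_eq_one_or (sign τ) with h | h
    · rw [h, one_pow]
    · rw [h, hodd.neg_one_pow]
  rw [← h1, h2, map_mul, h3, h4, mul_one]

end Free

section Group

variable {G : Type*} [Group G]

/-- The points moved by `P`. -/
def Moved (P : Subgroup G) (Ω : Type*) [MulAction G Ω] : Type _ :=
  {ω : Ω // ∃ y ∈ P, y • ω ≠ ω}

variable {Ω : Type*} [MulAction G Ω]

theorem moved_smul (P : Subgroup G) (x : G) (hx : ∀ y ∈ P, x * y = y * x ∨ x ∈ P) {ω : Ω}
    (h : ∃ y ∈ P, y • ω ≠ ω) : ∃ y ∈ P, y • x • ω ≠ x • ω := by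
  obtain ⟨y, hy, hyω⟩ := h
  by_cases hxP : x ∈ P
  · refine ⟨x * y * x⁻¹, P.mul_mem (P.mul_mem hxP hy) (P.inv_mem hxP), ?_⟩
    rw [← mul_smul, inv_mul_cancel_right, mul_smul]
    intro h
    exact hyω (smul_left_cancel x h)
  · refine ⟨y, hy, ?_⟩
    have h1 : x * y = y * x := (hx y hy).resolve_right hxP
    rw [← mul_smul, ← h1, mul_smul]
    intro h
    exact hyω (smul_left_cancel x h)

/-- The action of `P` on the points it moves. -/
@[reducible] def movedAction (P : Subgroup G) : MulAction P (Moved P Ω) where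
  smul z ω := ⟨(z : G) • ω.1, moved_smul P z (fun _ _ => Or.inr z.2) ω.2⟩
  one_smul ω := Subtype.ext (one_smul G ω.1)
  mul_smul a b ω := Subtype.ext (mul_smul (a : G) (b : G) ω.1)

/-- The permutation of the moved points induced by an element commuting with `P`. -/
def movedPerm (P : Subgroup G) (x : G) (hx : ∀ y ∈ P, x * y = y * x) :
    Equiv.Perm (Moved P Ω) where
  toFun ω := ⟨x • ω.1, moved_smul P x (fun y hy => Or.inl (hx y hy)) ω.2⟩
  invFun ω := ⟨x⁻¹ • ω.1, moved_smul P x⁻¹ (fun y hy => Or.inl (by
    rw [inv_mul_eq_iff_eq_mul, ← mul_assoc, hx y hy, mul_assoc, mul_inv_cancel, mul_one])) ω.2⟩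
  left_inv ω := Subtype.ext (inv_smul_smul x ω.1)
  right_inv ω := Subtype.ext (smul_inv_smul x ω.1)

theorem orbitRel_movedPerm (P : Subgroup G) (x : G) (hx : ∀ y ∈ P, x * y = y * x)
    (a b : Moved P Ω) : letI := movedAction (Ω := Ω) P
    (orbitRel P (Moved P Ω)) a b ↔ (orbitRel P (Moved P Ω)) (movedPerm P x hx a) (movedPerm P x hx b) := by
  let := movedAction (Ω := Ω) P
  constructor
  · rintro ⟨g, hg⟩
    refine ⟨g, ?_⟩
    rw [← hg]
    apply Subtype.ext
    change (g : G) • x • b.1 = x • (g : G) • b.1
    rw [← mul_smul, ← mul_smul, hx g g.2]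
  · rintro ⟨g, hg⟩
    refine ⟨g, ?_⟩
    have h1 : (g : G) • x • b.1 = x • a.1 := congrArg Subtype.val hg
    apply Subtype.ext
    change (g : G) • b.1 = a.1
    rw [← mul_smul, ← hx g g.2, mul_smul] at h1
    exact smul_left_cancel x h1

/-- `K` acts on the `P`-orbits of moved points. -/
noncomputable def orbitHom (P K : Subgroup G) (hcomm : ∀ x ∈ K, ∀ y ∈ P, x * y = y * x) :
    letI := movedAction (Ω := Ω) P
    K →* Equiv.Perm (orbitRel.Quotient P (Moved P Ω)) :=
  letI := movedAction (Ω := Ω) P
  { toFun := fun k => Quotient.congr (movedPerm P (k : G) (hcomm k k.2))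
      (orbitRel_movedPerm P (k : G) (hcomm k k.2))
    map_one' := by
      apply Equiv.ext
      intro q
      induction q using Quotient.inductionOn' with
      | h ω =>
        change Quotient.mk'' (movedPerm P ((1 : K) : G) _ ω) = Quotient.mk'' ω
        congr 1
        exact Subtype.ext (one_smul G ω.1)
    map_mul' := by
      intro a b
      apply Equiv.ext
      intro q
      induction q using Quotient.inductionOn' with
      | h ω =>
        change Quotient.mk'' (movedPerm P ((a * b : K) : G) _ ω) =
          Quotient.mk'' (movedPerm P (a : G) _ (movedPerm P (b : G) _ ω))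
        congr 1
        exact Subtype.ext (mul_smul (a : G) (b : G) ω.1) }

theorem card_dvd_of_commute [Finite G] [IsSimpleGroup G] (hG : ¬ IsMulCommutative G) [Finite Ω]
    (hfaith : ∀ g : G, (∀ ω : Ω, g • ω = ω) → g = 1)
    (P K : Subgroup G) (hodd : Odd (Nat.card P)) (hcomm : ∀ x ∈ K, ∀ y ∈ P, x * y = y * x)
    (hcop : (Nat.card K).Coprime (Nat.card P))
    (hfix : ∀ ω ω' : Ω, (∀ y ∈ P, y • ω = ω) → (∀ y ∈ P, y • ω' = ω') → ω = ω')
    (hfree : ∀ ω : Ω, (∃ y ∈ P, y • ω ≠ ω) → ∀ y ∈ P, y • ω = ω → y = 1) :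
    ∃ o : ℕ, Nat.card Ω = Nat.card {ω : Ω // ∀ y ∈ P, y • ω = ω} + Nat.card P * o ∧
      (2 * Nat.card K ∣ o.factorial ∨ (o ≤ 1 ∧ Nat.card K = 1)) := by
  classical
  let := movedAction (Ω := Ω) P
  have := Fintype.ofFinite Ω
  have hfinM : Finite (Moved P Ω) := Subtype.finite
  have := Fintype.ofFinite (Moved P Ω)
  have := Fintype.ofFinite (orbitRel.Quotient P (Moved P Ω))
  have hfree' : ∀ (z : P) (ω : Moved P Ω), z • ω = ω → z = 1 := by
    intro z ω h
    have h1 : (z : G) • ω.1 = ω.1 := congrArg Subtype.val h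
    exact Subtype.ext (hfree ω.1 ω.2 z z.2 h1)
  refine ⟨Nat.card (orbitRel.Quotient P (Moved P Ω)), ?_, ?_⟩
  · have h1 : Nat.card (Moved P Ω) = Nat.card P * Nat.card (orbitRel.Quotient P (Moved P Ω)) := by
      rw [← Nat.card_prod]
      exact (Nat.card_congr (prodOrbits hfree')).symm
    rw [← h1]
    have h2 := Nat.card_congr (Equiv.sumCompl (fun ω : Ω => ∀ y ∈ P, y • ω = ω))
    rw [Nat.card_sum] at h2
    rw [← h2]
    congr 1
    apply Nat.card_congr
    apply Equiv.subtypeEquivRight
    intro ω
    push Not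
    rfl
  · have hinj : Function.Injective (orbitHom (Ω := Ω) P K hcomm) := by
      rw [← MonoidHom.ker_eq_bot_iff, eq_bot_iff]
      intro k hk
      rw [MonoidHom.mem_ker] at hk
      rw [Subgroup.mem_bot]
      have hmoved : ∀ ω : Moved P Ω, ((k : G) ^ Nat.card P) • ω.1 = ω.1 := by
        intro ω
        have h1 : (orbitHom (Ω := Ω) P K hcomm k) (Quotient.mk'' ω) = Quotient.mk'' ω := by
          rw [hk]; rfl
        have h2 : movedPerm P (k : G) (hcomm k k.2) ω ∈ orbit P ω := Quotient.exact h1
        obtain ⟨z, hz⟩ := h2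
        have h3 : (z : G) • ω.1 = (k : G) • ω.1 := congrArg Subtype.val hz
        have h4 : ∀ i : ℕ, ((k : G) ^ i) • ω.1 = ((z : G) ^ i) • ω.1 := by
          intro i
          induction i with
          | zero => simp
          | succ i ih =>
            have hc : (k : G) * (z : G) ^ i = (z : G) ^ i * (k : G) :=
              (Commute.pow_right (show Commute (k : G) (z : G) from hcomm k k.2 z z.2) i)
            rw [pow_succ', mul_smul, ih, ← mul_smul, hc, mul_smul, ← h3, ← mul_smul, ← pow_succ]
        rw [h4]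
        have h5 : (z : G) ^ Nat.card P = 1 := by
          have := pow_card_eq_one' (x := z)
          exact congrArg Subtype.val this
        rw [h5, one_smul]
      have hfixall : ∀ ω : Ω, ((k : G) ^ Nat.card P) • ω = ω := by
        intro ω
        by_cases hω : ∃ y ∈ P, y • ω ≠ ω
        · exact hmoved ⟨ω, hω⟩
        · push Not at hω
          apply hfix _ _ _ hω
          intro y hy
          have hc : (k : G) ^ Nat.card P * y = y * (k : G) ^ Nat.card P :=
            (Commute.pow_left (show Commute (k : G) y from hcomm k k.2 y hy) _)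
          rw [← mul_smul, ← hc, mul_smul, hω y hy]
      have h6 := hfaith _ hfixall
      have h7 : orderOf k ∣ Nat.card P := by
        apply orderOf_dvd_of_pow_eq_one
        exact Subtype.ext h6
      have h8 : orderOf k ∣ Nat.card K := orderOf_dvd_natCard k
      have h9 : orderOf k = 1 := Nat.eq_one_of_dvd_coprimes hcop h8 h7
      exact orderOf_eq_one_iff.1 h9
    have heven : ∀ k : K, orbitHom (Ω := Ω) P K hcomm k ∈
        alternatingGroup (orbitRel.Quotient P (Moved P Ω)) := by
      intro k
      rw [Equiv.Perm.mem_alternatingGroup]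
      have h1 : sign (movedPerm (Ω := Ω) P (k : G) (hcomm k k.2)) =
          sign (orbitHom (Ω := Ω) P K hcomm k) := by
        apply sign_eq_sign_orbits hodd hfree'
        · intro z ω
          apply Subtype.ext
          change (k : G) • (z : G) • ω.1 = (z : G) • (k : G) • ω.1
          rw [← mul_smul, ← mul_smul, hcomm k k.2 z z.2]
        · intro ω
          rfl
      rw [← h1]
      -- sign on all points
      have hpres : ∀ ω : Ω, (∃ y ∈ P, y • ((MulAction.toPermHom G Ω (k : G)) ω) ≠
          (MulAction.toPermHom G Ω (k : G)) ω) ↔ (∃ y ∈ P, y • ω ≠ ω) := by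
        intro ω
        constructor
        · intro h
          have h2 := moved_smul P ((k : G)⁻¹) (fun y hy => Or.inl (by
            rw [inv_mul_eq_iff_eq_mul, ← mul_assoc, hcomm k k.2 y hy, mul_assoc, mul_inv_cancel,
              mul_one])) h
          change ∃ y ∈ P, y • (k : G)⁻¹ • (k : G) • ω ≠ (k : G)⁻¹ • (k : G) • ω at h2
          rwa [inv_smul_smul] at h2
        · intro h
          exact moved_smul P (k : G) (fun y hy => Or.inl (hcomm k k.2 y hy)) h
      have h2 : sign (subtypePerm (p := fun ω : Ω => ∃ y ∈ P, y • ω ≠ ω)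
          (MulAction.toPermHom G Ω (k : G)) hpres) =
          sign (MulAction.toPermHom G Ω (k : G)) := by
        apply sign_subtypePerm
        intro ω hω
        by_contra hcon
        push Not at hcon
        apply hω
        apply hfix _ _ _ hcon
        intro y hy
        change y • (k : G) • ω = (k : G) • ω
        rw [← mul_smul, ← hcomm k k.2 y hy, mul_smul, hcon y hy]
      have h3 : sign (MulAction.toPermHom G Ω (k : G)) = 1 := by
        have hG' : ¬ ∀ a b : G, a * b = b * a := fun h => hG ⟨⟨h⟩⟩
        exact Parity.commHom_eq_one hG' (sign.comp (MulAction.toPermHom G Ω)) (k : G)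
      rw [← h3, ← h2]
      have h4 : ∀ (i1 i2 : DecidableEq (Moved P Ω)) (j1 j2 : Fintype (Moved P Ω))
          (σ : Equiv.Perm (Moved P Ω)), @sign _ i1 j1 σ = @sign _ i2 j2 σ := by
        intro i1 i2 j1 j2 σ
        rw [Subsingleton.elim i1 i2, Subsingleton.elim j1 j2]
      exact h4 _ _ _ _ _
    have hdvd : Nat.card K ∣ Nat.card (alternatingGroup (orbitRel.Quotient P (Moved P Ω))) := by
      apply Subgroup.card_dvd_of_injective
        ((orbitHom (Ω := Ω) P K hcomm).codRestrict (alternatingGroup _) heven)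
      intro a b hab
      exact hinj (congrArg Subtype.val hab)
    by_cases hnt : Nontrivial (orbitRel.Quotient P (Moved P Ω))
    · left
      have h3 := two_mul_nat_card_alternatingGroup (α := orbitRel.Quotient P (Moved P Ω))
      rw [Nat.card_eq_fintype_card (α := Equiv.Perm _), Fintype.card_perm,
        ← Nat.card_eq_fintype_card] at h3
      rw [← h3]
      exact Nat.mul_dvd_mul_left 2 hdvd
    · right
      rw [not_nontrivial_iff_subsingleton] at hnt
      refine ⟨Finite.card_le_one_iff_subsingleton.2 hnt, ?_⟩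
      have h4 : Subsingleton (Equiv.Perm (orbitRel.Quotient P (Moved P Ω))) := inferInstance
      have h5 : Subsingleton K := hinj.subsingleton
      exact Nat.card_of_subsingleton 1

end Group

end Cfsg.Agent.SmallSimple.OrbitSign
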