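import Mathlib
import Cfsg.Agent.SmallSimple.OrbitSign
import Cfsg.Agent.SmallSimple.BurnsideNC
import Cfsg.Agent.SmallSimple.Embed
import Cfsg.Agent.S0989
import Cfsg.Agent.S0990
import Cfsg.Agent.S0991

/-!
# Local data for Sylow subgroups of prime order in simple groups
-/

set_option autoImplicit false
set_option linter.unusedSectionVars false

namespace Cfsg.Agent.SmallSimple.PrimeLocal

open Subgroup

variable {G : Type*} [Group G] [Finite G]

/-- An abelian Hall subgroup `P` has a complement `K` in its centralizer, consisting of all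
elements of `C(P)` whose order divides `|K|`. -/
theorem exists_complement (P : Subgroup G) (hab : ∀ x ∈ P, ∀ y ∈ P, x * y = y * x)
    (hcop : (Nat.card P).Coprime P.index) :
    ∃ K : Subgroup G, Nat.card (centralizer (P : Set G)) = Nat.card P * Nat.card K ∧
      (Nat.card P).Coprime (Nat.card K) ∧
      ∀ x, x ∈ K ↔ x ∈ centralizer (P : Set G) ∧ x ^ Nat.card K = 1 := by
  set C := centralizer (P : Set G) with hC
  have hPC : P ≤ C := by
    intro x hx
    rw [hC, mem_centralizer_iff]
    intro y hy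
    exact hab y hy x hx
  have hn : (P.subgroupOf C).Normal := by
    refine ⟨fun x hx g => ?_⟩
    rw [mem_subgroupOf] at hx ⊢
    have h1 : (x : G) * g = g * x := (mem_centralizer_iff.1 g.2) x hx
    have h2 : ((g * x * g⁻¹ : C) : G) = x := by
      change (g : G) * x * (g : G)⁻¹ = x
      rw [← h1, mul_inv_cancel_right]
    rw [h2]; exact hx
  have hcardP : Nat.card (P.subgroupOf C) = Nat.card P :=
    Nat.card_congr (subgroupOfEquivOfLe hPC).toEquiv
  have hcop' : (Nat.card (P.subgroupOf C)).Coprime (P.subgroupOf C).index := by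
    rw [hcardP]
    exact hcop.coprime_dvd_right (relIndex_dvd_index_of_le hPC)
  obtain ⟨H, hH⟩ := exists_right_complement'_of_coprime hcop'
  have hcardK : Nat.card (H.map C.subtype) = Nat.card H :=
    Nat.card_congr (H.equivMapOfInjective C.subtype C.subtype_injective).symm.toEquiv
  have hcardC : Nat.card C = Nat.card P * Nat.card H := by
    rw [← hH.card_mul_card, hcardP]
  have hcopK : (Nat.card P).Coprime (Nat.card H) := by
    have := hH.index_eq_card
    rw [hH.symm.index_eq_card] at hcop'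
    rwa [hcardP] at hcop'
  refine ⟨H.map C.subtype, by rw [hcardK]; exact hcardC, by rw [hcardK]; exact hcopK, ?_⟩
  intro x
  rw [hcardK]
  constructor
  · rintro ⟨y, hy, rfl⟩
    refine ⟨y.2, ?_⟩
    have h1 : (⟨y, hy⟩ : H) ^ Nat.card H = 1 := pow_card_eq_one'
    have h2 : y ^ Nat.card H = 1 := congrArg Subtype.val h1
    exact congrArg Subtype.val h2
  · rintro ⟨hx, hxk⟩
    obtain ⟨⟨z, h⟩, hzh⟩ := hH.2 ⟨x, hx⟩
    have h1 : (z : C) * (h : C) = ⟨x, hx⟩ := hzh
    have hz : ((z : C) : G) ∈ P := mem_subgroupOf.1 z.2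
    have hcomm : Commute (z : C) (h : C) := by
      apply Subtype.ext
      exact (mem_centralizer_iff.1 (h : C).2) _ hz
    have h2 : (z : C) ^ Nat.card H = 1 := by
      have h3 : ((z : C) * (h : C)) ^ Nat.card H = 1 := by
        rw [h1]; exact Subtype.ext hxk
      rw [hcomm.mul_pow] at h3
      have h4 : (h : C) ^ Nat.card H = 1 := congrArg Subtype.val (pow_card_eq_one' (x := h))
      rwa [h4, mul_one] at h3
    have h5 : (z : C) = 1 := by
      have h6 : orderOf (z : C) ∣ Nat.card H := orderOf_dvd_of_pow_eq_one h2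
      have h7 : orderOf (z : C) ∣ Nat.card P := by
        rw [← hcardP, orderOf_coe]
        exact orderOf_dvd_natCard z
      exact orderOf_eq_one_iff.1 (Nat.eq_one_of_dvd_coprimes hcopK h7 h6)
    rw [h5, one_mul] at h1
    exact ⟨h, h.2, by rw [h1]; rfl⟩

theorem normalizer_le_normalizer {P K : Subgroup G} {n : ℕ}
    (hK : ∀ x, x ∈ K ↔ x ∈ centralizer (P : Set G) ∧ x ^ n = 1) :
    normalizer (P : Set G) ≤ normalizer (K : Set G) := by
  intro g hg
  have key : ∀ g ∈ normalizer (P : Set G), ∀ x, x ∈ K → g * x * g⁻¹ ∈ K := by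
    intro g hg x hx
    rw [hK] at hx ⊢
    refine ⟨?_, ?_⟩
    · rw [mem_centralizer_iff]
      intro y hy
      have h1 : g⁻¹ * y * g ∈ P := by
        have := (mem_normalizer_iff.1 (inv_mem hg) y).1 hy
        simpa using this
      have h2 := (mem_centralizer_iff.1 hx.1) _ h1
      calc y * (g * x * g⁻¹) = g * ((g⁻¹ * y * g) * x) * g⁻¹ := by group
        _ = g * (x * (g⁻¹ * y * g)) * g⁻¹ := by rw [h2]
        _ = g * x * g⁻¹ * y := by group
    · rw [conj_pow, hx.2, mul_one, mul_inv_cancel]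
  rw [mem_normalizer_iff]
  intro x
  constructor
  · exact key g hg x
  · intro h
    have := key g⁻¹ (inv_mem hg) _ h
    simpa [mul_assoc] using this

theorem card_of_not_sq_dvd {p : ℕ} [hp : Fact p.Prime] (h1 : p ∣ Nat.card G)
    (h2 : ¬ p ^ 2 ∣ Nat.card G) (P : Sylow p G) : Nat.card P = p := by
  rw [P.card_eq_multiplicity]
  have h3 : (Nat.card G).factorization p < 2 := by
    by_contra hcon
    exact h2 ((hp.out.pow_dvd_iff_le_factorization Nat.card_pos.ne').2 (not_lt.1 hcon))
  have h4 : 0 < (Nat.card G).factorization p :=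
    hp.out.factorization_pos_of_dvd Nat.card_pos.ne' h1
  have h5 : (Nat.card G).factorization p = 1 := by omega
  rw [h5, pow_one]

theorem comm_of_card_prime {p : ℕ} (hp : p.Prime) (P : Subgroup G) (hP : Nat.card P = p) :
    ∀ x ∈ P, ∀ y ∈ P, x * y = y * x := by
  intro x hx y hy
  have : Fact p.Prime := ⟨hp⟩
  have hc : IsCyclic P := isCyclic_of_prime_card hP
  exact congrArg Subtype.val (hc.isMulCommutative.is_comm.comm (⟨x, hx⟩ : P) ⟨y, hy⟩)

/-- Local data of a Sylow `p`-subgroup of order `p`: `e = |N(P):C(P)|`, and the `p`-complement `K`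
of `C(P)`. -/
structure IsLocal (p : ℕ) (P : Sylow p G) (e : ℕ) (K : Subgroup G) : Prop where
  one_lt : 1 < e
  dvd_pred : e ∣ p - 1
  card_normalizer : Nat.card (normalizer (P : Set G)) = p * e * Nat.card K
  card_centralizer : Nat.card (centralizer (P : Set G)) = p * Nat.card K
  not_dvd : ¬ p ∣ Nat.card K
  mem_iff : ∀ x, x ∈ K ↔ x ∈ centralizer (P : Set G) ∧ x ^ Nat.card K = 1
  card_eq : Nat.card G = Nat.card (Sylow p G) * (p * e * Nat.card K)

theorem exists_local [IsSimpleGroup G] (hG : ¬ IsMulCommutative G) {p : ℕ} [hp : Fact p.Prime]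
    (h1 : p ∣ Nat.card G) (h2 : ¬ p ^ 2 ∣ Nat.card G) (P : Sylow p G) :
    ∃ (e : ℕ) (K : Subgroup G), IsLocal p P e K := by
  have hP : Nat.card P = p := card_of_not_sq_dvd h1 h2 P
  have hne : Nat.card G ≠ p := fun h => Embed.card_not_prime_of_not_comm hG (h ▸ hp.out)
  obtain ⟨e, he1, he2, he3, he4, he5, he6⟩ :=
    BurnsideNC.exists_automizer_of_card_eq_prime hne P hP
  have hcop : (Nat.card (P : Subgroup G)).Coprime (P : Subgroup G).index := by
    rw [hP, hp.out.coprime_iff_not_dvd]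
    exact P.not_dvd_index
  obtain ⟨K, hK1, hK2, hK3⟩ := exists_complement (P : Subgroup G)
    (comm_of_card_prime hp.out _ hP) hcop
  have hP' : Nat.card (P : Subgroup G) = p := hP
  rw [hP'] at hK1 hK2
  change Nat.card (centralizer (P : Set G)) = p * Nat.card K at hK1
  have hepos : 0 < e := by
    rcases Nat.eq_zero_or_pos e with h | h
    · rw [h, mul_zero] at he4
      exact absurd he4 Nat.card_pos.ne'
    · exact h
  refine ⟨e, K, by omega, he1, ?_, hK1, (hp.out.coprime_iff_not_dvd).1 hK2, hK3, ?_⟩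
  · rw [he4, hK1]; ring
  · rw [← he5, he4, hK1]; ring

theorem IsLocal.normalizer_le {p : ℕ} {P : Sylow p G} {e : ℕ} {K : Subgroup G}
    (h : IsLocal p P e K) :
    normalizer (P : Set G) ≤ normalizer (K : Set G) :=
  normalizer_le_normalizer h.mem_iff

theorem IsLocal.le_centralizer {p : ℕ} {P : Sylow p G} {e : ℕ} {K : Subgroup G}
    (h : IsLocal p P e K) : K ≤ centralizer (P : Set G) :=
  fun x hx => ((h.mem_iff x).1 hx).1

theorem IsLocal.comm {p : ℕ} {P : Sylow p G} {e : ℕ} {K : Subgroup G}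
    (h : IsLocal p P e K) : ∀ x ∈ K, ∀ y ∈ (P : Subgroup G), x * y = y * x :=
  fun _ hx y hy => ((mem_centralizer_iff.1 (h.le_centralizer hx)) y hy).symm

/-- All `x ∈ C(P)` of order prime to `p` are in `K`. -/
theorem IsLocal.mem_of_coprime {p : ℕ} [hp : Fact p.Prime] {P : Sylow p G} {e : ℕ} {K : Subgroup G}
    (h : IsLocal p P e K) (x : G) (hx : x ∈ centralizer (P : Set G))
    (hxp : ¬ p ∣ orderOf x) : x ∈ K := by
  rw [h.mem_iff]
  refine ⟨hx, ?_⟩
  have h1 : orderOf x ∣ p * Nat.card K := by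
    rw [← h.card_centralizer]
    exact orderOf_dvd_natCard (⟨x, hx⟩ : centralizer (P : Set G)) |>.trans
      (by rfl) |> fun h => by simpa using h
  exact orderOf_dvd_iff_pow_eq_one.1
    ((Nat.Coprime.dvd_mul_left ((hp.out.coprime_iff_not_dvd.2 hxp).symm)).1 h1)

/-- A point not fixed by `P` (`|P| = p`) has trivial stabilizer in `P`. -/
theorem eq_one_of_moved {p : ℕ} (hp : p.Prime) {P : Subgroup G} (hP : Nat.card P = p)
    {Ω : Type*} [MulAction G Ω] {ω : Ω} (h : ∃ y ∈ P, y • ω ≠ ω) :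
    ∀ y ∈ P, y • ω = ω → y = 1 := by
  intro y hy hyω
  by_contra hne
  obtain ⟨z, hz, hzω⟩ := h
  apply hzω
  have : Fact p.Prime := ⟨hp⟩
  have h1 : (⟨z, hz⟩ : P) ∈ zpowers (⟨y, hy⟩ : P) :=
    mem_zpowers_of_prime_card hP (by simpa [Subtype.ext_iff] using hne)
  obtain ⟨k, hk⟩ := mem_zpowers_iff.1 h1
  have h2 : y ^ k = z := by simpa [Subtype.ext_iff] using hk
  have h3 : y ∈ MulAction.stabilizer G ω := hyω
  have h4 : y ^ k ∈ MulAction.stabilizer G ω := zpow_mem h3 k
  rw [h2] at h4
  exact h4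

theorem faithful_quotient [IsSimpleGroup G] (H : Subgroup G) (hH : H ≠ ⊤) (g : G)
    (hg : ∀ ω : G ⧸ H, g • ω = ω) : g = 1 := by
  have h1 : g ∈ H.normalCore := by
    rw [Subgroup.normalCore_eq_ker, MonoidHom.mem_ker]
    ext ω
    exact hg ω
  rcases (H.normalCore_normal).eq_bot_or_eq_top with h | h
  · rw [h] at h1
    exact Subgroup.mem_bot.1 h1
  · exact absurd (top_le_iff.1 (h ▸ Subgroup.normalCore_le H)) hH

/-- **Tool K** for coset actions: if `p` divides `|G : H|` (and `|P| = p`), then `K` embeds in the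
alternating group on the `|G:H|/p` orbits of `P`. -/
theorem IsLocal.dvd_of_index [IsSimpleGroup G] (hG : ¬ IsMulCommutative G) {p : ℕ}
    [hp : Fact p.Prime] (hp2 : p ≠ 2) {P : Sylow p G} (hP : Nat.card P = p) {e : ℕ}
    {K : Subgroup G} (h : IsLocal p P e K) (H : Subgroup G) (hH : H ≠ ⊤)
    (hpH : ¬ p ∣ Nat.card H) {m o : ℕ} (hm : H.index = m) (ho : m = p * o) :
    2 * Nat.card K ∣ o.factorial ∨ (o = 1 ∧ Nat.card K = 1) := by
  have hP' : Nat.card (P : Subgroup G) = p := hP
  have hnofix : ∀ ω : G ⧸ H, ¬ ∀ y ∈ (P : Subgroup G), y • ω = ω := by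
    intro ω hω
    apply hpH
    induction ω using QuotientGroup.induction_on with
    | H g =>
      have h1 : ∀ y ∈ (P : Subgroup G), g⁻¹ * y * g ∈ H := by
        intro y hy
        have h2 : ((y * g : G) : G ⧸ H) = (g : G ⧸ H) := hω y hy
        have h3 := QuotientGroup.eq.1 h2.symm
        rwa [← mul_assoc] at h3
      have h4 : (P : Subgroup G).map (MulAut.conj g⁻¹).toMonoidHom ≤ H := by
        rintro x ⟨y, hy, rfl⟩
        have := h1 y hy
        simpa [MulAut.conj_apply] using this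
      have h5 := Subgroup.card_dvd_of_le h4
      rw [Nat.card_congr ((P : Subgroup G).equivMapOfInjective _
        (MulAut.conj g⁻¹).injective).symm.toEquiv, hP'] at h5
      exact h5
  obtain ⟨o', ho'1, ho'2⟩ := OrbitSign.card_dvd_of_commute (Ω := G ⧸ H) hG
    (faithful_quotient H hH) (P : Subgroup G) K
    (by rw [hP']; exact hp.out.odd_of_ne_two hp2) h.comm
    (by rw [hP']; exact ((hp.out.coprime_iff_not_dvd).2 h.not_dvd).symm)
    (fun ω _ hω _ => absurd hω (hnofix ω))
    (fun ω hω => eq_one_of_moved hp.out hP' hω)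
  have h0 : Nat.card {ω : G ⧸ H // ∀ y ∈ (P : Subgroup G), y • ω = ω} = 0 := by
    have : IsEmpty {ω : G ⧸ H // ∀ y ∈ (P : Subgroup G), y • ω = ω} :=
      ⟨fun ω => hnofix ω.1 ω.2⟩
    exact Nat.card_of_isEmpty
  rw [h0, zero_add, hP'] at ho'1
  have h1 : o' = o := by
    have h2 : p * o' = p * o := by
      rw [← ho'1, ← ho, ← hm]; rfl
    exact Nat.eq_of_mul_eq_mul_left hp.out.pos h2
  subst h1
  rcases ho'2 with h3 | ⟨h3, h4⟩
  · exact Or.inl h3
  · right
    refine ⟨?_, h4⟩
    have hi : H.index ≠ 0 := Subgroup.index_ne_zero_of_finite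
    have : o' ≠ 0 := by
      rintro rfl
      apply hi
      rw [hm, ho, mul_zero]
    omega

/-- **Tool K** for the action on the Sylow `p`-subgroups. -/
theorem IsLocal.card_sylow [IsSimpleGroup G] (hG : ¬ IsMulCommutative G) {p : ℕ}
    [hp : Fact p.Prime] (hp2 : p ≠ 2) {P : Sylow p G} (hP : Nat.card P = p) {e : ℕ}
    {K : Subgroup G} (h : IsLocal p P e K) :
    ∃ o : ℕ, Nat.card (Sylow p G) = 1 + p * o ∧
      (2 * Nat.card K ∣ o.factorial ∨ (o = 1 ∧ Nat.card K = 1)) := by
  have hP' : Nat.card (P : Subgroup G) = p := hP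
  have hdvd : p ∣ Nat.card G := by
    have := (P : Subgroup G).card_subgroup_dvd_card
    rwa [hP'] at this
  have hfixiff : ∀ Q : Sylow p G, (∀ y ∈ (P : Subgroup G), y • Q = Q) ↔ Q = P := by
    intro Q
    constructor
    · intro hQ
      have h1 : Q ∈ MulAction.fixedPoints (P : Subgroup G) (Sylow p G) := fun y => hQ y y.2
      have h2 := (P.isPGroup'.sylow_mem_fixedPoints_iff).1 h1
      exact (Sylow.ext (P.3 Q.isPGroup' h2)) 
    · rintro rfl y hy
      rw [Sylow.smul_eq_iff_mem_normalizer]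
      exact Subgroup.le_normalizer hy
  have hfaith : ∀ g : G, (∀ Q : Sylow p G, g • Q = Q) → g = 1 := by
    intro g hg
    have h1 : g ∈ (MulAction.toPermHom G (Sylow p G)).ker := by
      rw [MonoidHom.mem_ker]
      exact Equiv.ext fun Q => hg Q
    rcases (inferInstance : (MulAction.toPermHom G (Sylow p G)).ker.Normal).eq_bot_or_eq_top
      with h2 | h2
    · rw [h2] at h1
      exact Subgroup.mem_bot.1 h1
    · exfalso
      apply Embed.normalizer_sylow_ne_top hG hdvd P
      rw [eq_top_iff]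
      intro x _
      have h3 : x ∈ (MulAction.toPermHom G (Sylow p G)).ker := h2 ▸ Subgroup.mem_top x
      rw [MonoidHom.mem_ker] at h3
      have h4 : x • P = P := by
        have := congrArg (fun σ : Equiv.Perm (Sylow p G) => σ P) h3
        exact this
      exact Sylow.smul_eq_iff_mem_normalizer.1 h4
  obtain ⟨o, ho1, ho2⟩ := OrbitSign.card_dvd_of_commute (Ω := Sylow p G) hG
    hfaith (P : Subgroup G) K
    (by rw [hP']; exact hp.out.odd_of_ne_two hp2) h.comm
    (by rw [hP']; exact ((hp.out.coprime_iff_not_dvd).2 h.not_dvd).symm)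
    (fun ω ω' hω hω' => by rw [(hfixiff ω).1 hω, (hfixiff ω').1 hω'])
    (fun ω hω => eq_one_of_moved hp.out hP' hω)
  have h1 : Nat.card {Q : Sylow p G // ∀ y ∈ (P : Subgroup G), y • Q = Q} = 1 := by
    rw [Nat.card_eq_one_iff_unique]
    refine ⟨⟨fun a b => Subtype.ext ?_⟩, ⟨⟨P, (hfixiff P).2 rfl⟩⟩⟩
    rw [(hfixiff _).1 a.2, (hfixiff _).1 b.2]
  rw [h1, hP'] at ho1
  refine ⟨o, ho1, ?_⟩
  rcases ho2 with h3 | ⟨h3, h4⟩
  · exact Or.inl h3
  · right
    refine ⟨?_, h4⟩
    have : o ≠ 0 := by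
      rintro rfl
      rw [mul_zero, add_zero] at ho1
      have := Embed.five_le_card_sylow hG hdvd
      omega
    omega

/-- A simple group with a subgroup of index `p` or `p + 1` and Sylow `p`-subgroups of order `p` has
`|N(P)|` dividing `p (p - 1) / 2`. -/
theorem two_mul_card_normalizer_dvd [IsSimpleGroup G] (hG : ¬ IsMulCommutative G) {p : ℕ}
    [hp : Fact p.Prime] (hp2 : p ≠ 2) {P : Sylow p G} (hP : Nat.card P = p)
    (H : Subgroup G) (hH : H ≠ ⊤) (hidx : H.index = p ∨ H.index = p + 1) :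
    2 * Nat.card (normalizer (P : Set G)) ∣ p * (p - 1) := by
  classical
  obtain ⟨f, hf⟩ := Cfsg.Agent.S0991.result hG H hH
  have hP' : Nat.card (P : Subgroup G) = p := hP
  let A := alternatingGroup (Fin H.index)
  have hfc : Fintype.card (Fin H.index) = p ∨ Fintype.card (Fin H.index) = p + 1 := by
    rwa [Fintype.card_fin]
  have hcard1 : Nat.card ((P : Subgroup G).map f) = p := by
    rw [Nat.card_congr ((P : Subgroup G).equivMapOfInjective f hf).symm.toEquiv, hP']
  have hcard2 : Nat.card (((P : Subgroup G).map f).map A.subtype) = p := by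
    rw [Nat.card_congr (((P : Subgroup G).map f).equivMapOfInjective A.subtype
      A.subtype_injective).symm.toEquiv, hcard1]
  obtain ⟨Q, hQ⟩ := IsPGroup.exists_le_sylow (IsPGroup.of_card (n := 1)
    (by rw [hcard2, pow_one]) : IsPGroup p (((P : Subgroup G).map f).map A.subtype))
  have hQcard : Nat.card (Q : Subgroup (Equiv.Perm (Fin H.index))) = p :=
    Cfsg.Agent.S0989.card_sylow p hfc Q
  have hQeq : ((P : Subgroup G).map f).map A.subtype = (Q : Subgroup (Equiv.Perm (Fin H.index))) :=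
    Subgroup.eq_of_le_of_card_ge hQ (by rw [hcard2, hQcard])
  have h1 := Cfsg.Agent.S0989.result p hfc Q
  have h2 := (Cfsg.Agent.S0990.result (by
    rcases hfc with h | h
    · rw [h]; exact hp.out.two_le
    · rw [h]; exact hp.out.two_le.trans (Nat.le_succ p)) p hp2 Q).2
  have h3 : (Q : Subgroup (Equiv.Perm (Fin H.index))).subgroupOf A = (P : Subgroup G).map f := by
    rw [← hQeq]
    exact Subgroup.comap_map_eq_self_of_injective A.subtype_injective _
  have h4 : (normalizer (P : Set G)).map f ≤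
      normalizer ((((Q : Subgroup (Equiv.Perm (Fin H.index))).subgroupOf A :
        Subgroup A)) : Set A) := by
    rw [h3]
    exact le_normalizer_map f
  have h5 := Subgroup.card_dvd_of_le h4
  rw [Nat.card_congr ((normalizer (P : Set G)).equivMapOfInjective f hf).symm.toEquiv] at h5
  rw [← h1, ← h2]
  exact Nat.mul_dvd_mul_left 2 h5

/-- In terms of local data. -/
theorem IsLocal.dvd_of_index_succ [IsSimpleGroup G] (hG : ¬ IsMulCommutative G) {p : ℕ}
    [hp : Fact p.Prime] (hp2 : p ≠ 2) {P : Sylow p G} (hP : Nat.card P = p) {e : ℕ}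
    {K : Subgroup G} (h : IsLocal p P e K) (H : Subgroup G) (hH : H ≠ ⊤)
    (hidx : H.index = p ∨ H.index = p + 1) : 2 * (e * Nat.card K) ∣ p - 1 := by
  have h1 := two_mul_card_normalizer_dvd hG hp2 hP H hH hidx
  rw [h.card_normalizer] at h1
  have h2 : 2 * (p * e * Nat.card K) = p * (2 * (e * Nat.card K)) := by ring
  rw [h2] at h1
  exact Nat.dvd_of_mul_dvd_mul_left hp.out.pos h1

theorem IsLocal.dvd_of_card_sylow_succ [IsSimpleGroup G] (hG : ¬ IsMulCommutative G) {p : ℕ}
    [hp : Fact p.Prime] (hp2 : p ≠ 2) {P : Sylow p G} (hP : Nat.card P = p) {e : ℕ}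
    {K : Subgroup G} (h : IsLocal p P e K) (hidx : Nat.card (Sylow p G) = p + 1) :
    2 * (e * Nat.card K) ∣ p - 1 := by
  have hdvd : p ∣ Nat.card G := by
    have := (P : Subgroup G).card_subgroup_dvd_card
    rwa [show Nat.card (P : Subgroup G) = p from hP] at this
  exact h.dvd_of_index_succ hG hp2 hP _ (Embed.normalizer_sylow_ne_top hG hdvd P)
    (Or.inr (by rw [← hidx]; exact P.card_eq_index_normalizer.symm))

end Cfsg.Agent.SmallSimple.PrimeLocal
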