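import Mathlib
import Cfsg.Agent.Characters.Core
import Cfsg.Agent.Characters.Values
import Cfsg.Agent.Characters.ClassMul
import Cfsg.Agent.Blocks.Basic
import Cfsg.Agent.S0141
import Cfsg.Agent.S0145
import Cfsg.Agent.MTwelve.SmallDegree

/-!
# Columns of involutions

Common tools for the characterisation of simple groups by their order.

* `exists_int`: values at involutions are integers `z`, `|z| < χ(1)`, `z ≡ χ(1)` modulo `4`;
* `dvd_index_mul`: `χ(1)` divides `|g^G| χ(g)` for rational values;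
* `ne_mul_of_odd`: no element of `P# ` is a product of two involutions if `|N(P) : C(P)|` is odd;
* `sum_conj_mul`, `sum_mul_mul`: sums `∑ χ(a) χ(b) conj χ(x) / χ(1)` over all irreducible
  characters in terms of the principal `p`-block (Brauer's theorem for `|P| = p`);
* `relTwo`: `∑ ε χ(a) χ(b)/χ(1) = d Θ(a) Θ(b)/Θ(1)` for involutions `a, b`;
* `exists_nat_classMul`: class multiplication constants;
* `sum_sq_le`: `∑ z_χ² ≤ |C(g)|`.
-/

set_option autoImplicit false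
set_option linter.unusedSectionVars false

namespace Cfsg.Agent.SmallSimple.InvolColumn

open Cfsg Subgroup Cfsg.Agent.Characters.Core
open scoped ComplexConjugate
open Cfsg.Agent.MTwelve

universe u
variable {G : Type u} [Group G]

/-- Values at involutions, general form. -/
theorem exists_int_of_char {χ : G → ℂ} (hχ : IsCharacter G χ) {t : G} (ht : t ^ 2 = 1) :
    ∃ (n : ℕ) (z : ℤ), χ 1 = n ∧ χ t = z ∧ |z| ≤ n ∧ (2 : ℤ) ∣ n - z := by
  obtain ⟨a, b, h1, h2⟩ := SmallDegree.exists_eq_sub_of_sq_eq_one hχ ht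
  refine ⟨a + b, (a : ℤ) - b, by rw [h1]; push_cast; rfl, by rw [h2]; push_cast; rfl, ?_, ?_⟩
  · rw [abs_le]; constructor <;> push_cast <;> omega
  · exact ⟨b, by push_cast; ring⟩

/-- Values at involutions in a simple group. -/
theorem exists_int [Finite G] [IsSimpleGroup G] (hG : commutator G = ⊤) {χ : G → ℂ}
    (hχ : IsIrrCharacter G χ) (hχ1 : χ ≠ 1) {t : G} (ht : t ^ 2 = 1) (ht1 : t ≠ 1) :
    ∃ z : ℤ, χ t = z ∧ |z| < charDegree χ ∧ (4 : ℤ) ∣ charDegree χ - z := by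
  obtain ⟨n, z, hn, hz, hle, -⟩ := exists_int_of_char (isIrr_isCharacter hχ) ht
  have hdeg := Cfsg.Agent.Blocks.Basic.irr_one_eq_charDegree hχ
  have hnd : n = charDegree χ := by
    rw [hn] at hdeg; exact_mod_cast hdeg
  subst hnd
  refine ⟨z, hz, ?_, ?_⟩
  · refine lt_of_le_of_ne hle fun h => ht1 ?_
    refine SmallDegree.eq_one_of_norm_eq hG hχ hχ1 ?_
    rw [hz, hn]
    rw [Complex.norm_intCast, Complex.norm_natCast]
    have : ((|z| : ℤ) : ℝ) = ((charDegree χ : ℤ) : ℝ) := by rw [h]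
    rw [Int.cast_abs] at this
    rw [this]; norm_cast
  · obtain ⟨k, hk⟩ := SmallDegree.character_eq_add_four_mul hG (isIrr_isCharacter hχ) ht
    rw [hn, hz] at hk
    refine ⟨k, ?_⟩
    have : ((charDegree χ : ℤ) : ℂ) = ((z + 4 * k : ℤ) : ℂ) := by push_cast; exact hk
    have h2 : (charDegree χ : ℤ) = z + 4 * k := by exact_mod_cast this
    rw [h2]; ring

theorem exists_int_of_isIntegral {q : ℚ} (h : IsIntegral ℤ (q : ℂ)) : ∃ z : ℤ, (z : ℚ) = q := by
  have h1 : IsIntegral ℤ q := by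
    have h2 : IsIntegral ℤ (algebraMap ℚ ℂ q) := by simpa using h
    exact (isIntegral_algebraMap_iff (algebraMap ℚ ℂ).injective).1 h2
  obtain ⟨z, hz⟩ := IsIntegrallyClosed.isIntegral_iff.1 h1
  exact ⟨z, by simpa using hz⟩

/-- The degree divides `|g^G| χ(g)` for rational values. -/
theorem dvd_index_mul [Finite G] {χ : G → ℂ} (hχ : IsIrrCharacter G χ) {g : G} {z : ℤ}
    (hz : χ g = z) :
    (charDegree χ : ℤ) ∣ ((centralizer ({g} : Set G)).index : ℤ) * z := by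
  have hdeg := Cfsg.Agent.Blocks.Basic.irr_one_eq_charDegree hχ
  have hne := Cfsg.Agent.Blocks.Basic.irr_one_ne_zero hχ
  obtain ⟨n, ρ, hρ, rfl⟩ := hχ
  have h1 := Cfsg.Agent.S0141.result ρ g
  rw [hz, ← ρ.char_one, hdeg] at h1
  rw [hdeg] at hne
  set m := charDegree ρ.character
  have hm : (m : ℚ) ≠ 0 := by exact_mod_cast hne
  obtain ⟨w, hw⟩ := exists_int_of_isIntegral (q := ((centralizer ({g} : Set G)).index : ℚ) * z / m)
    (by push_cast; exact h1)
  refine ⟨w, ?_⟩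
  rw [eq_div_iff hm] at hw
  have : ((centralizer ({g} : Set G)).index : ℚ) * z = m * w := by rw [← hw]; ring
  exact_mod_cast this

section NotReal

/-- If `|N(P) : C(P)|` is odd then no nontrivial element of odd order in `P` is real. -/
theorem conj_ne_inv_of_odd {P : Subgroup G} {e : ℕ}
    (he : (centralizer (P : Set G)).relIndex (normalizer (P : Set G)) = e) (hodd : Odd e)
    (hcyc : ∀ x ∈ P, x ≠ 1 → P = zpowers x) (hPodd : Odd (Nat.card P))
    {x : G} (hx : x ∈ P) (hx1 : x ≠ 1) (u : G) : u * x * u⁻¹ ≠ x⁻¹ := by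
  intro h
  have hu : u ∈ normalizer (P : Set G) := by
    rw [hcyc x hx hx1]
    have h1 : (zpowers x).map (MulAut.conj u).toMonoidHom = zpowers x := by
      rw [MonoidHom.map_zpowers]
      have : (MulAut.conj u).toMonoidHom x = x⁻¹ := h
      rw [this, zpowers_inv]
    rw [mem_normalizer_iff]
    intro g
    constructor
    · intro hg
      rw [← h1]
      exact ⟨g, hg, rfl⟩
    · intro hg
      rw [← h1] at hg
      obtain ⟨g', hg', hg''⟩ := hg
      have : g' = g := (MulAut.conj u).injective hg''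
      rwa [← this]
  have hn : ((centralizer (P : Set G)).subgroupOf (normalizer (P : Set G))).Normal := by
    have := Subgroup.normalizerMonoidHom_ker (H := P)
    rw [← this]; infer_instance
  have h2 := Subgroup.pow_index_mem ((centralizer (P : Set G)).subgroupOf
    (normalizer (P : Set G))) (⟨u, hu⟩ : normalizer (P : Set G))
  have h3 : u ^ e ∈ centralizer (P : Set G) := by
    rw [← he]; exact h2
  have h4 : x * u ^ e = u ^ e * x := mem_centralizer_iff.1 h3 x hx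
  have key : ∀ k : ℕ, u ^ k * x * (u ^ k)⁻¹ = x ^ ((-1 : ℤ) ^ k) := by
    intro k
    induction k with
    | zero => simp
    | succ k ih =>
      have h5 : u ^ (k + 1) * x * (u ^ (k + 1))⁻¹ = u * (u ^ k * x * (u ^ k)⁻¹) * u⁻¹ := by
        rw [pow_succ']; group
      rw [h5, ih, ← conj_zpow, h, inv_zpow', pow_succ]
      congr 1; ring
  have h6 := key e
  rw [hodd.neg_one_pow, zpow_neg_one, ← h4, mul_inv_cancel_right] at h6
  have h7 : orderOf x ∣ 2 := orderOf_dvd_of_pow_eq_one (by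
    rw [pow_two]; nth_rewrite 2 [h6]; exact mul_inv_cancel x)
  have h8 : orderOf x ∣ Nat.card P := by
    have := orderOf_dvd_natCard (⟨x, hx⟩ : P)
    simpa using this
  have h9 : orderOf x ∣ 1 := by
    have := Nat.dvd_gcd h7 h8
    rwa [Nat.Coprime.gcd_eq_one (Nat.coprime_two_left.2 hPodd)] at this
  exact hx1 (orderOf_eq_one_iff.1 (Nat.dvd_one.1 h9))

/-- Such an element is not a product of two involutions. -/
theorem ne_mul_of_odd {P : Subgroup G} {e : ℕ}
    (he : (centralizer (P : Set G)).relIndex (normalizer (P : Set G)) = e) (hodd : Odd e)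
    (hcyc : ∀ x ∈ P, x ≠ 1 → P = zpowers x) (hPodd : Odd (Nat.card P))
    {x : G} (hx : x ∈ P) (hx1 : x ≠ 1) {u v : G} (hu : u ^ 2 = 1) (hv : v ^ 2 = 1) :
    u * v ≠ x := by
  intro h
  refine conj_ne_inv_of_odd he hodd hcyc hPodd hx hx1 u ?_
  have hu' : u⁻¹ = u := by rw [inv_eq_iff_mul_eq_one, ← pow_two, hu]
  have hv' : v⁻¹ = v := by rw [inv_eq_iff_mul_eq_one, ← pow_two, hv]
  rw [← h, mul_inv_rev, hu', hv', ← mul_assoc, ← pow_two, hu, one_mul]

end NotReal

theorem zpowers_eq_of_card_prime [Finite G] {p : ℕ} (hp : p.Prime) {P : Subgroup G}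
    (hP : Nat.card P = p) : ∀ x ∈ P, x ≠ 1 → P = zpowers x := by
  intro x hx hx1
  have : Fact p.Prime := ⟨hp⟩
  have h1 : zpowers x ≤ P := by rwa [zpowers_le]
  refine (Subgroup.eq_of_le_of_card_ge h1 ?_).symm
  rw [hP, Nat.card_zpowers]
  have h2 : orderOf x ∣ p := by
    have := orderOf_dvd_natCard (⟨x, hx⟩ : P)
    rw [hP] at this
    simpa using this
  rcases (Nat.dvd_prime hp).1 h2 with h | h
  · exact absurd (orderOf_eq_one_iff.1 h) hx1
  · exact h.ge

/-- Class multiplication constants, two involutions, a non-real element. -/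
theorem sum_involutions_eq_zero [Finite G] [Fintype (IrrCharacter G)] {x a b : G}
    (h : ∀ u v : G, IsConj a u → IsConj b v → u * v ≠ x) :
    ∑ χ : IrrCharacter G, (χ : G → ℂ) a * (χ : G → ℂ) b * conj ((χ : G → ℂ) x) /
      (χ : G → ℂ) 1 = 0 := by
  have h1 := Cfsg.Agent.Characters.ClassMul.card_class_mul a b x
  have h2 : IsEmpty {p : G × G // IsConj a p.1 ∧ IsConj b p.2 ∧ p.1 * p.2 = x} :=
    ⟨fun p => h _ _ p.2.1 p.2.2.1 p.2.2.2⟩
  rw [Nat.card_of_isEmpty, Nat.cast_zero] at h1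
  have h3 : ((centralizer ({a} : Set G)).index : ℂ) ≠ 0 := by
    exact_mod_cast Subgroup.index_ne_zero_of_finite
  have h4 : ((centralizer ({b} : Set G)).index : ℂ) ≠ 0 := by
    exact_mod_cast Subgroup.index_ne_zero_of_finite
  have h5 : (Nat.card G : ℂ) ≠ 0 := by exact_mod_cast Nat.card_pos.ne'
  exact (mul_eq_zero.1 h1.symm).resolve_left (div_ne_zero (mul_ne_zero h3 h4) h5)

/-- The relation data at a `p`-element `x` delivered by Brauer's theorem (`theoremB`): `NE` are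
the non-exceptional, `X` the exceptional characters. `R` is a set of elements (the `p`-regular
ones) on which the relation `∑ ε χ(g) = d Θ(g)` holds. -/
structure Rel (x : G) (R : G → Prop) (NE X : Finset (IrrCharacter G)) (ε : IrrCharacter G → ℤ)
    (d : ℤ) : Prop where
  disj : Disjoint NE X
  val : ∀ χ ∈ NE, (χ : G → ℂ) x = ε χ
  out : ∀ χ : IrrCharacter G, χ ∉ NE → χ ∉ X → (χ : G → ℂ) x = 0
  hd : d = 1 ∨ d = -1
  rel : ∀ Θ ∈ X, ∀ g, R g → ∑ χ ∈ NE, (ε χ : ℂ) * (χ : G → ℂ) g = d * (Θ : G → ℂ) g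
  one : R 1
  ne_one : x ≠ 1

section Rel

variable [Finite G] {x : G} {R : G → Prop} {NE X : Finset (IrrCharacter G)}
  {ε : IrrCharacter G → ℤ} {d : ℤ}

theorem Rel.eq_of_mem (h : Rel x R NE X ε d) {Θ Θ' : IrrCharacter G} (hΘ : Θ ∈ X) (hΘ' : Θ' ∈ X)
    {g : G} (hg : R g) : (Θ : G → ℂ) g = (Θ' : G → ℂ) g := by
  have h1 := (h.rel Θ hΘ g hg).symm.trans (h.rel Θ' hΘ' g hg)
  have hd : (d : ℂ) ≠ 0 := by
    rcases h.hd with rfl | rfl <;> norm_num
  exact mul_left_cancel₀ hd h1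

theorem finsum_eq_sum [Fintype (IrrCharacter G)] (f : IrrCharacter G → ℂ) :
    ∑ᶠ χ, f χ = ∑ χ, f χ := finsum_eq_sum_of_fintype f

theorem sum_split [Fintype (IrrCharacter G)] [DecidableEq (IrrCharacter G)]
    (h : Rel x R NE X ε d) (f : IrrCharacter G → ℂ) :
    ∑ χ : IrrCharacter G, f χ * conj ((χ : G → ℂ) x) =
      ∑ χ ∈ NE, f χ * ε χ + ∑ χ ∈ X, f χ * conj ((χ : G → ℂ) x) := by
  have h1 : ∑ χ : IrrCharacter G, f χ * conj ((χ : G → ℂ) x) =
      ∑ χ ∈ NE ∪ X, f χ * conj ((χ : G → ℂ) x) := by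
    refine (Finset.sum_subset (Finset.subset_univ _) fun χ _ hχ => ?_).symm
    rw [Finset.mem_union, not_or] at hχ
    rw [h.out χ hχ.1 hχ.2, map_zero, mul_zero]
  rw [h1, Finset.sum_union h.disj]
  congr 1
  refine Finset.sum_congr rfl fun χ hχ => ?_
  rw [h.val χ hχ, map_intCast]

/-- The exceptional characters sum to `-d` at `x`. -/
theorem Rel.sum_exc (h : Rel x R NE X ε d) {Θ : IrrCharacter G} (hΘ : Θ ∈ X) :
    ∑ χ ∈ X, conj ((χ : G → ℂ) x) = -d := by
  classical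
  have hfin : Finite (IrrCharacter G) := finite_irr
  have := Fintype.ofFinite (IrrCharacter G)
  have h1 : ¬ IsConj (1 : G) x := fun h2 => h.ne_one (isConj_one_right.1 h2)
  have h2 := (Cfsg.Agent.S0145.result (1 : G) x).2 h1
  rw [finsum_eq_sum, sum_split h] at h2
  have h3 : ∑ χ ∈ X, (χ : G → ℂ) 1 * conj ((χ : G → ℂ) x) =
      (Θ : G → ℂ) 1 * ∑ χ ∈ X, conj ((χ : G → ℂ) x) := by
    rw [Finset.mul_sum]
    exact Finset.sum_congr rfl fun χ hχ => by rw [h.eq_of_mem hχ hΘ h.one]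
  have h4 : ∑ χ ∈ NE, (χ : G → ℂ) 1 * ε χ = d * (Θ : G → ℂ) 1 := by
    rw [← h.rel Θ hΘ 1 h.one]
    exact Finset.sum_congr rfl fun χ _ => mul_comm _ _
  rw [h3, h4] at h2
  have h5 : (Θ : G → ℂ) 1 ≠ 0 := Cfsg.Agent.Blocks.Basic.irr_one_ne_zero Θ.2
  have h6 : (Θ : G → ℂ) 1 * (d + ∑ χ ∈ X, conj ((χ : G → ℂ) x)) = 0 := by
    rw [← h2]; ring
  exact eq_neg_of_add_eq_zero_right ((mul_eq_zero.1 h6).resolve_left h5)

/-- Column `x` against any function constant on the exceptional characters. -/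
theorem Rel.sum_conj_mul [Fintype (IrrCharacter G)] (h : Rel x R NE X ε d)
    {Θ : IrrCharacter G} (hΘ : Θ ∈ X) (f : IrrCharacter G → ℂ) (hf : ∀ χ ∈ X, f χ = f Θ) :
    ∑ χ : IrrCharacter G, f χ * conj ((χ : G → ℂ) x) = ∑ χ ∈ NE, ε χ * f χ - d * f Θ := by
  classical
  rw [sum_split h]
  have h3 : ∑ χ ∈ X, f χ * conj ((χ : G → ℂ) x) = f Θ * ∑ χ ∈ X, conj ((χ : G → ℂ) x) := by
    rw [Finset.mul_sum]
    exact Finset.sum_congr rfl fun χ hχ => by rw [hf χ hχ]
  rw [h3, h.sum_exc hΘ]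
  have h4 : ∑ χ ∈ NE, f χ * ε χ = ∑ χ ∈ NE, ε χ * f χ :=
    Finset.sum_congr rfl fun χ _ => mul_comm _ _
  rw [h4]; ring

/-- `∑ χ(a) χ(b) conj χ(x) / χ(1)` over all irreducible characters. -/
theorem Rel.sum_mul_mul [Fintype (IrrCharacter G)] (h : Rel x R NE X ε d)
    {Θ : IrrCharacter G} (hΘ : Θ ∈ X) {a b : G} (ha : R a) (hb : R b) :
    ∑ χ : IrrCharacter G, (χ : G → ℂ) a * (χ : G → ℂ) b * conj ((χ : G → ℂ) x) / (χ : G → ℂ) 1 =
      ∑ χ ∈ NE, ε χ * ((χ : G → ℂ) a * (χ : G → ℂ) b / (χ : G → ℂ) 1) -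
        d * ((Θ : G → ℂ) a * (Θ : G → ℂ) b / (Θ : G → ℂ) 1) := by
  rw [← h.sum_conj_mul hΘ (fun χ => (χ : G → ℂ) a * (χ : G → ℂ) b / (χ : G → ℂ) 1)
    fun χ hχ => by rw [h.eq_of_mem hχ hΘ ha, h.eq_of_mem hχ hΘ hb, h.eq_of_mem hχ hΘ h.one]]
  exact Finset.sum_congr rfl fun χ _ => by ring

/-- **(R2)** If `x` is not a product of a conjugate of `a` and a conjugate of `b`. -/
theorem Rel.relTwo (h : Rel x R NE X ε d) {Θ : IrrCharacter G} (hΘ : Θ ∈ X) {a b : G}
    (ha : R a) (hb : R b) (hab : ∀ u v : G, IsConj a u → IsConj b v → u * v ≠ x) :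
    ∑ χ ∈ NE, ε χ * ((χ : G → ℂ) a * (χ : G → ℂ) b / (χ : G → ℂ) 1) =
        d * ((Θ : G → ℂ) a * (Θ : G → ℂ) b / (Θ : G → ℂ) 1) := by
  have hfin : Finite (IrrCharacter G) := finite_irr
  have := Fintype.ofFinite (IrrCharacter G)
  have h1 := sum_involutions_eq_zero hab
  rw [h.sum_mul_mul hΘ ha hb] at h1
  exact sub_eq_zero.1 h1

/-- Class multiplication constants are natural numbers. -/
theorem Rel.exists_nat_classMul (h : Rel x R NE X ε d) {Θ : IrrCharacter G} (hΘ : Θ ∈ X) {a b : G}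
    (ha : R a) (hb : R b) : ∃ n : ℕ,
    ((centralizer ({a} : Set G)).index : ℂ) * ((centralizer ({b} : Set G)).index : ℂ) *
      (∑ χ ∈ NE, ε χ * ((χ : G → ℂ) a * (χ : G → ℂ) b / (χ : G → ℂ) 1) -
        d * ((Θ : G → ℂ) a * (Θ : G → ℂ) b / (Θ : G → ℂ) 1)) = Nat.card G * n ∧
    n = Nat.card {p : G × G // IsConj a p.1 ∧ IsConj b p.2 ∧ p.1 * p.2 = x} := by
  have hfin : Finite (IrrCharacter G) := finite_irr
  have := Fintype.ofFinite (IrrCharacter G)
  refine ⟨_, ?_, rfl⟩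
  rw [Cfsg.Agent.Characters.ClassMul.card_class_mul a b x, h.sum_mul_mul hΘ ha hb]
  have h5 : (Nat.card G : ℂ) ≠ 0 := by exact_mod_cast Nat.card_pos.ne'
  field_simp

end Rel

/-- The sum of the squares of some values is at most the order of the centralizer. -/
theorem sum_norm_sq_le [Finite G] (s : Finset (IrrCharacter G)) (g : G) :
    ∑ χ ∈ s, ‖(χ : G → ℂ) g‖ ^ 2 ≤ (Nat.card (centralizer ({g} : Set G)) : ℝ) := by
  have hfin : Finite (IrrCharacter G) := finite_irr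
  have := Fintype.ofFinite (IrrCharacter G)
  have h1 := (Cfsg.Agent.S0145.result g g).1 (IsConj.refl g)
  rw [finsum_eq_sum] at h1
  have h2 : ∑ χ : IrrCharacter G, ‖(χ : G → ℂ) g‖ ^ 2 =
      (Nat.card (centralizer ({g} : Set G)) : ℝ) := by
    have h3 : ((∑ χ : IrrCharacter G, ‖(χ : G → ℂ) g‖ ^ 2 : ℝ) : ℂ) =
        (Nat.card (centralizer ({g} : Set G)) : ℂ) := by
      rw [← h1]; push_cast
      exact Finset.sum_congr rfl fun χ _ => by
        rw [Complex.mul_conj, Complex.normSq_eq_norm_sq]; push_cast; rfl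
    exact_mod_cast h3
  rw [← h2]
  exact Finset.sum_le_sum_of_subset_of_nonneg (Finset.subset_univ _) fun _ _ _ => sq_nonneg _

/-- The same for integral values. -/
theorem sum_sq_le [Finite G] (s : Finset (IrrCharacter G)) (g : G) (z : IrrCharacter G → ℤ)
    (hz : ∀ χ ∈ s, (χ : G → ℂ) g = z χ) :
    ∑ χ ∈ s, z χ ^ 2 ≤ (Nat.card (centralizer ({g} : Set G)) : ℤ) := by
  have h1 := sum_norm_sq_le s g
  have h2 : ∑ χ ∈ s, ‖(χ : G → ℂ) g‖ ^ 2 = ((∑ χ ∈ s, z χ ^ 2 : ℤ) : ℝ) := by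
    push_cast
    refine Finset.sum_congr rfl fun χ hχ => ?_
    rw [hz χ hχ, Complex.norm_intCast, sq_abs]
  rw [h2] at h1
  exact_mod_cast h1

end Cfsg.Agent.SmallSimple.InvolColumn
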