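import Cfsg.Agent.SmallSimple.TheoremB
import Cfsg.Agent.S0145

/-!
Corollaries of Theorem B: the self-centralizing case, degrees, and the kernel lemma.
-/

set_option autoImplicit false
open Cfsg
open scoped ComplexConjugate

namespace Cfsg.Agent.SmallSimple.TheoremBCor

open Subgroup
open Cfsg.Agent.Characters.Core
open Cfsg.Agent.SmallSimple.PrimeDual

universe u

variable {G : Type u} [Group G]

/-! ### The kernel lemma -/

/-- If a character has zero sum over a subgroup `Q` then it has zero sum over every coset. -/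
theorem sum_mul_eq_zero [Finite G] {χ : G → ℂ} (hχ : IsCharacter G χ) (Q : Subgroup G) [Fintype Q]
    (h : ∑ x : Q, χ x = 0) (y : G) : ∑ x : Q, χ (x * y) = 0 := by
  obtain ⟨n, ρ, rfl⟩ := hχ
  -- the averaging operator
  let E : Module.End ℂ (Fin n → ℂ) := ∑ x : Q, ρ (x : G)
  have hE2 : E * E = (Nat.card Q : ℂ) • E := by
    have h1 : ∀ x : Q, ρ (x : G) * E = E := by
      intro x
      simp only [E, Finset.mul_sum]
      refine Fintype.sum_equiv (Equiv.mulLeft x) _ _ fun z => ?_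
      rw [Equiv.coe_mulLeft, ← map_mul]
      rfl
    calc E * E = ∑ x : Q, ρ (x : G) * E := by simp only [E, Finset.sum_mul]
      _ = ∑ _x : Q, E := Finset.sum_congr rfl fun x _ => h1 x
      _ = (Nat.card Q : ℂ) • E := by
        rw [Finset.sum_const, Finset.card_univ, ← Nat.card_eq_fintype_card,
          Nat.cast_smul_eq_nsmul]
  have hc : (Nat.card Q : ℂ) ≠ 0 := card_ne_zero_complex
  have htr : LinearMap.trace ℂ _ E = 0 := by
    simp only [E, map_sum]
    exact h
  -- the idempotent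
  let F : Module.End ℂ (Fin n → ℂ) := (Nat.card Q : ℂ)⁻¹ • E
  have hF : IsIdempotentElem F := by
    show F * F = F
    simp only [F]
    rw [smul_mul_smul_comm, hE2, smul_smul]
    congr 1
    field_simp
  have htrF : LinearMap.trace ℂ _ F = 0 := by
    simp only [F, map_smul, htr, smul_zero]
  have hF0 : F = 0 := by
    have hp := (LinearMap.isProj_range_iff_isIdempotentElem F).2 hF
    have h3 := hp.trace
    rw [htrF] at h3
    have h4 : Module.finrank ℂ (LinearMap.range F) = 0 := by exact_mod_cast h3.symm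
    have h5 : LinearMap.range F = ⊥ := Submodule.finrank_eq_zero.1 h4
    exact LinearMap.range_eq_bot.1 h5
  have hE0 : E = 0 := by
    have : E = (Nat.card Q : ℂ) • F := by
      simp only [F]
      rw [smul_smul, mul_inv_cancel₀ hc, one_smul]
    rw [this, hF0, smul_zero]
  have h6 : ∑ x : Q, ρ.character (x * y) = LinearMap.trace ℂ _ (E * ρ y) := by
    simp only [E, Finset.sum_mul, map_sum, Representation.character, ← map_mul]
  rw [h6, hE0, zero_mul, map_zero]

/-- The multiplicity of the trivial character of `Q` in `χ`. -/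
theorem exists_sum_eq [Finite G] {χ : G → ℂ} (hχ : IsCharacter G χ) (Q : Subgroup G) [Fintype Q] :
    ∃ m : ℕ, ∑ x : Q, χ x = m * (Nat.card Q : ℂ) := by
  obtain ⟨m, hm⟩ := classInner_isNat (isCharacter_comp Q.subtype hχ) (isCharacter_one (G := Q))
  rw [classInner_def] at hm
  have hc : (Nat.card Q : ℂ) ≠ 0 := card_ne_zero_complex
  rw [inv_mul_eq_iff_eq_mul₀ hc] at hm
  refine ⟨m, ?_⟩
  rw [mul_comm, ← hm]
  refine Finset.sum_congr rfl fun x _ => ?_
  simp

/-- The sum over a group of order `p` of a function which is constant off `1`. -/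
theorem sum_const_off {Q : Type*} [Group Q] [Fintype Q] {f : Q → ℂ} {c : ℂ}
    (h : ∀ x : Q, x ≠ 1 → f x = c) : ∑ x : Q, f x = f 1 + ((Nat.card Q : ℂ) - 1) * c := by
  classical
  rw [← Finset.add_sum_erase _ _ (Finset.mem_univ (1 : Q)),
    Finset.sum_congr rfl (fun x hx => h x (Finset.ne_of_mem_erase hx)), Finset.sum_const,
    Finset.card_erase_of_mem (Finset.mem_univ _), Finset.card_univ, nsmul_eq_mul,
    ← Nat.card_eq_fintype_card, Nat.cast_sub (Nat.one_le_iff_ne_zero.2 Nat.card_pos.ne'),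
    Nat.cast_one]

/-- The sum over a group of order `p` of a function which is `d * ∑ l ∈ S, l` off `1`. -/
theorem sum_exc_off {Q : Type u} [Group Q] [Fintype Q] {f : Q → ℂ} {d : ℂ} {S : Finset (Q →* ℂˣ)}
    (hS : 1 ∉ S) (h : ∀ x : Q, x ≠ 1 → f x = d * ∑ l ∈ S, ((l x : ℂˣ) : ℂ)) :
    ∑ x : Q, f x = f 1 - d * S.card := by
  classical
  have h1 : ∑ x : Q, d * ∑ l ∈ S, ((l x : ℂˣ) : ℂ) = 0 := by
    rw [← Finset.mul_sum, Finset.sum_comm, Finset.sum_eq_zero, mul_zero]
    intro l hl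
    exact sum_hom_eq_zero (by rintro rfl; exact hS hl)
  have h2 : ∑ x : Q, (f x - d * ∑ l ∈ S, ((l x : ℂˣ) : ℂ)) = f 1 - d * S.card := by
    rw [Finset.sum_eq_single (1 : Q)]
    · simp
    · intro x _ hx
      rw [h x hx, sub_self]
    · intro h; exact absurd (Finset.mem_univ _) h
  rw [Finset.sum_sub_distrib, h1, sub_zero] at h2
  exact h2

/-- Degree of a nonexceptional character: `χ(1) = ε + p * u` with `u = (mult of 1_P) - ε`. -/
theorem degree_nonexc [Finite G] {p : ℕ} {P : Subgroup G} (hP : Nat.card P = p)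
    {χ : G → ℂ} (hχ : IsCharacter G χ) {ε : ℤ} (h : ∀ x ∈ P, x ≠ 1 → χ x = ε) :
    ∃ m : ℕ, χ 1 = ε + p * ((m : ℂ) - ε) := by
  have := Fintype.ofFinite P
  obtain ⟨m, hm⟩ := exists_sum_eq hχ P
  have h1 := sum_const_off (f := fun x : P => χ x) (c := (ε : ℂ))
    (fun x hx => h x x.2 (fun h' => hx (Subtype.ext h')))
  rw [hm, hP] at h1
  refine ⟨m, ?_⟩
  have h2 : χ ((1 : P) : G) = χ 1 := rfl
  simp only [h2] at h1
  linear_combination -h1

/-- Degree of an exceptional character: `Θ(1) = d * e + p * m`, `m` the multiplicity of `1_P`. -/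
theorem degree_exc [Finite G] {p : ℕ} {P : Subgroup G} (hP : Nat.card P = p)
    {χ : G → ℂ} (hχ : IsCharacter G χ) {d : ℤ} {S : Finset (P →* ℂˣ)} (hS : 1 ∉ S)
    (h : ∀ x : P, x ≠ 1 → χ x = d * ∑ l ∈ S, ((l x : ℂˣ) : ℂ)) :
    ∃ m : ℕ, χ 1 = d * S.card + p * m := by
  have := Fintype.ofFinite P
  obtain ⟨m, hm⟩ := exists_sum_eq hχ P
  have h1 := sum_exc_off (f := fun x : P => χ x) (d := (d : ℂ)) hS h
  rw [hm, hP] at h1
  refine ⟨m, ?_⟩
  have h2 : χ ((1 : P) : G) = χ 1 := rfl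
  simp only [h2] at h1
  linear_combination -h1

/-- **Kernel lemma.** If `χ` is in the principal block and has no `P`-fixed vectors, then the
`p`-regular elements of `C(P)` are in the kernel of `χ`. -/
theorem apply_eq_of_sum_eq_zero [Finite G] {p : ℕ} [Fact p.Prime] {M : Ideal AlgInt}
    (hM : IsPModular p M) (P : Sylow p G) (hP : Nat.card P = p) {χ : IrrCharacter G}
    (hχ : χ ∈ principalBlock M G) [Fintype P] (h : ∑ x : P, (χ : G → ℂ) x = 0)
    {y : G} (hy : y ∈ centralizer (P : Set G)) (hyp : ¬ p ∣ orderOf y) :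
    (χ : G → ℂ) y = (χ : G → ℂ) 1 := by
  classical
  have h1 := sum_mul_eq_zero (isIrr_isCharacter χ.2) (P : Subgroup G) h y
  have e1 := Finset.add_sum_erase Finset.univ (fun x : P => (χ : G → ℂ) x) (Finset.mem_univ 1)
  have e2 := Finset.add_sum_erase Finset.univ (fun x : P => (χ : G → ℂ) (x * y))
    (Finset.mem_univ 1)
  replace h := e1.trans h
  replace h1 := e2.trans h1
  have h2 : ∑ x ∈ Finset.univ.erase (1 : P), (χ : G → ℂ) (x * y) =
      ∑ x ∈ Finset.univ.erase (1 : P), (χ : G → ℂ) x := by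
    refine Finset.sum_congr rfl fun x hx => ?_
    have hx1 : (x : G) ≠ 1 := fun h => (Finset.ne_of_mem_erase hx) (Subtype.ext h)
    exact Blocks.CyclicOrtho.mul_eq P hP hM x.2 hx1 (mem_centralizer_iff.1 hy x x.2) hyp hχ
  rw [h2] at h1
  have h3 : (χ : G → ℂ) (((1 : P) : G) * y) = (χ : G → ℂ) y := by
    rw [OneMemClass.coe_one, one_mul]
  have h4 : (χ : G → ℂ) ((1 : P) : G) = (χ : G → ℂ) 1 := by rw [OneMemClass.coe_one]
  rw [h3] at h1
  rw [h4] at h
  exact add_right_cancel (h1.trans h.symm)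

/-! ### The self-centralizing case -/

/-- Theorem B when `C_G(P) = P`; no blocks in the statement. -/
theorem theoremB_selfCent [Finite G] (p : ℕ) [Fact p.Prime] (hp2 : p ≠ 2) (P : Sylow p G)
    (hP : Nat.card P = p) (hC : centralizer (P : Set G) = (P : Subgroup G)) (e t : ℕ)
    (he : (centralizer (P : Set G)).relIndex (normalizer (P : Set G)) = e) (ht : e * t = p - 1) :
    ∃ (NE X : Finset (IrrCharacter G)) (ε : IrrCharacter G → ℤ) (d : ℤ)
      (S : IrrCharacter G → Finset (P →* ℂˣ)),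
      Disjoint NE X ∧ NE.card = e ∧ X.card = t ∧
      (∀ χ ∈ NE, ε χ = 1 ∨ ε χ = -1) ∧ (d = 1 ∨ d = -1) ∧
      (∃ χ₁ ∈ NE, (χ₁ : G → ℂ) = 1 ∧ ε χ₁ = 1) ∧
      (∀ χ ∈ NE, ∀ x ∈ P, x ≠ 1 → (χ : G → ℂ) x = ε χ) ∧
      (∀ Θ ∈ X, (S Θ).card = e ∧ 1 ∉ S Θ ∧ ∀ x : P, x ≠ 1 →
        (Θ : G → ℂ) x = d * ∑ l ∈ S Θ, ((l x : ℂˣ) : ℂ)) ∧
      (∀ Θ ∈ X, ∀ Θ' ∈ X, Θ ≠ Θ' → Disjoint (S Θ) (S Θ')) ∧
      (∀ Θ ∈ X, ∀ g : G, ¬ p ∣ orderOf g →
        ∑ χ ∈ NE, (ε χ : ℂ) * (χ : G → ℂ) g = d * (Θ : G → ℂ) g) ∧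
      (∀ χ : IrrCharacter G, χ ∉ NE → χ ∉ X →
        (∀ x ∈ P, x ≠ 1 → (χ : G → ℂ) x = 0) ∧ p ∣ charDegree (χ : G → ℂ)) := by
  classical
  have hp : p.Prime := Fact.out
  obtain ⟨M, hM⟩ := Blocks.ExistsModular.exists_isPModular hp
  obtain ⟨NE, X, ε, d, S, hB, h1, h2, h3, h4, h5, h6, h7, h8, h9, h10⟩ :=
    TheoremB.theoremB p hp2 M hM P hP e t he ht
  have hone : ¬ p ∣ orderOf (1 : G) := by
    rw [orderOf_one]; exact fun h => hp.one_lt.ne' (Nat.dvd_one.1 h)
  have := finite_irr (G := G)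
  have := Fintype.ofFinite (IrrCharacter G)
  have := Fintype.ofFinite G
  have := Fintype.ofFinite P
  refine ⟨NE, X, ε, d, S, h1, h2, h3, h4, h5, h6, ?_, ?_, h9, h10, ?_⟩
  · intro χ hχ x hx hx1
    have := h7 χ hχ x hx hx1 1 (one_mem _) hone
    rwa [mul_one] at this
  · intro Θ hΘ
    refine ⟨(h8 Θ hΘ).1, (h8 Θ hΘ).2.1, fun x hx => ?_⟩
    have := (h8 Θ hΘ).2.2 x hx 1 (one_mem _) hone
    rwa [mul_one] at this
  · intro χ hχ hχ'
    have hv : ∀ x ∈ P, x ≠ 1 → (χ : G → ℂ) x = 0 := by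
      intro x hx hx1
      have hcol := S0145.sum_irr_mul_conj x x
      have hC' : centralizer ({x} : Set G) = (P : Subgroup G) :=
        (Blocks.CyclicOrtho.centralizer_eq P hP hx hx1).trans hC
      rw [if_pos (IsConj.refl x), hC'] at hcol
      have hgram := Blocks.CyclicOrtho.gram P hP hM hx hx1 hx hx1
      rw [if_pos (IsConj.refl x)] at hgram
      have hBX : ∀ χ : IrrCharacter G, χ ∈ principalBlock M G ↔ χ ∈ NE ∪ X := by
        intro χ; rw [hB, Finset.mem_union]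
      have hgram' : ∑ χ ∈ NE ∪ X, (χ : G → ℂ) x * conj ((χ : G → ℂ) x) = p := by
        rw [← hgram, ← finsum_mem_coe_finset]
        refine finsum_mem_congr ?_ fun _ _ => rfl
        ext χ
        exact (hBX χ).symm
      have hPc : (Nat.card (P : Subgroup G) : ℂ) = p := by rw [hP]
      rw [hPc, ← Finset.sum_sdiff (Finset.subset_univ (NE ∪ X)), hgram'] at hcol
      have h0 : ∑ χ ∈ Finset.univ \ (NE ∪ X), (χ : G → ℂ) x * conj ((χ : G → ℂ) x) = 0 := by
        have := add_eq_right.1 hcol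
        exact this
      have h0' : ∑ χ ∈ Finset.univ \ (NE ∪ X), Complex.normSq ((χ : G → ℂ) x) = 0 := by
        have : ((∑ χ ∈ Finset.univ \ (NE ∪ X), Complex.normSq ((χ : G → ℂ) x) : ℝ) : ℂ) = 0 := by
          rw [← h0]
          push_cast
          refine Finset.sum_congr rfl fun χ _ => ?_
          rw [Complex.mul_conj]
        exact_mod_cast this
      have h11 := (Finset.sum_eq_zero_iff_of_nonneg (fun χ _ => Complex.normSq_nonneg _)).1 h0' χ
        (by rw [Finset.mem_sdiff, Finset.mem_union]; exact ⟨Finset.mem_univ _, by tauto⟩)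
      exact Complex.normSq_eq_zero.1 h11
    refine ⟨hv, ?_⟩
    obtain ⟨m, hm⟩ := degree_nonexc hP (isIrr_isCharacter χ.2) (ε := 0)
      (fun x hx hx1 => by rw [hv x hx hx1]; simp)
    obtain ⟨n, hn, hn'⟩ := isIrr_apply_one χ.2
    have h12 : (n : ℂ) = ((p * m : ℕ) : ℂ) := by
      rw [← hn', hm]; push_cast; ring
    have h13 : n = p * m := by exact_mod_cast h12
    have h14 : charDegree (χ : G → ℂ) = n := by
      unfold charDegree; rw [hn']; simp
    rw [h14, h13]
    exact dvd_mul_right _ _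

end Cfsg.Agent.SmallSimple.TheoremBCor
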