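import Cfsg.Agent.SmallSimple.PrimeOrbits

/-!
Structure of a family of `e + t` characters satisfying block orthogonality on `P#`, `|P| = p`.
-/

set_option autoImplicit false
open Cfsg
open scoped ComplexConjugate

namespace Cfsg.Agent.SmallSimple.PrimeRows

open Subgroup
open Cfsg.Agent.Characters.Core Cfsg.Agent.Characters.Linear
open Cfsg.Agent.SmallSimple.PrimeDual Cfsg.Agent.SmallSimple.PrimeOrbits
open Cfsg.Agent.SmallSimple.RowComb

universe u

variable {G : Type u} [Group G]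

/-- The setoid of orbits of the normalizer on the nontrivial linear characters. -/
def setoidL (P : Subgroup G) : Setoid {l : P →* ℂˣ // l ≠ 1} where
  r a b := Rel P a.1 b.1
  iseqv := ⟨fun a => rel_refl P a.1, fun h => rel_symm h, fun h h' => rel_trans h h'⟩

theorem exists_structure [Finite G] {p : ℕ} (hp : p.Prime) {P : Subgroup G} (hP : Nat.card P = p)
    {e t : ℕ} (he : (centralizer (P : Set G)).relIndex (normalizer (P : Set G)) = e)
    (het : e * t = p - 1)
    {ι : Type*} [Fintype ι] [DecidableEq ι] (χ : ι → G → ℂ) (hχ : ∀ i, IsCharacter G (χ i))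
    (hO : ∀ u v : P, u ≠ 1 → v ≠ 1 → ∑ i, χ i u * conj (χ i v) =
      open scoped Classical in if IsConj (u : G) (v : G) then (p : ℂ) else 0)
    (hnz : ∀ i, ∃ x : P, x ≠ 1 ∧ χ i x ≠ 0)
    (hcard : Fintype.card ι = e + t) (i₀ : ι) (hi₀ : χ i₀ = 1) :
    ∃ (NE : Finset ι) (ε c : ι → ℤ) (S : ι → Finset (P →* ℂˣ)),
      NE.card = e ∧ i₀ ∈ NE ∧ ε i₀ = 1 ∧
      (∀ i ∈ NE, (ε i = 1 ∨ ε i = -1) ∧ ∀ x : P, x ≠ 1 → χ i x = ε i) ∧
      (∀ i, i ∉ NE → (c i = 1 ∨ c i = -1) ∧ (S i).card = e ∧ 1 ∉ S i ∧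
        ∀ x : P, x ≠ 1 → χ i x = c i * ∑ l ∈ S i, ((l x : ℂˣ) : ℂ)) ∧
      (∀ i, i ∉ NE → ∀ j, j ∉ NE → i ≠ j → Disjoint (S i) (S j)) ∧
      (∀ l : P →* ℂˣ, l ≠ 1 → ∃ i, i ∉ NE ∧ l ∈ S i) := by
  classical
  have := finite_dual hp hP
  have := Fintype.ofFinite (P →* ℂˣ)
  obtain ⟨r, hr1, hr2, hr3, hr4⟩ := gram hp hP χ hχ (fun u v hu hv => by
    rw [hO u v hu hv]) 
  rw [he] at hr4
  have hcardL : Fintype.card (P →* ℂˣ) = p := by
    rw [← Nat.card_eq_fintype_card, card_dual hp hP]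
  have hcardL1 : Fintype.card {l : P →* ℂˣ // l ≠ 1} = p - 1 := by
    rw [Fintype.card_subtype_compl, hcardL, Fintype.card_subtype_eq]
  let s := setoidL P
  let κ := Quotient s
  have := Fintype.ofFinite κ
  have hp1 := hp.one_lt
  have hepos : 0 < e := by
    rcases Nat.eq_zero_or_pos e with h | h
    · rw [h, zero_mul] at het; omega
    · exact h
  -- the fibres
  have hfib : ∀ q : κ, (Finset.univ.filter
      (fun l : P →* ℂˣ => ∃ h : l ≠ 1, (Quotient.mk s ⟨l, h⟩ : κ) = q)).card = e := by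
    intro q
    obtain ⟨⟨l₀, hl₀⟩, rfl⟩ := Quotient.exists_rep q
    rw [← he, ← card_orbit hp hP hl₀]
    congr 1
    ext l
    simp only [Finset.mem_filter, Finset.mem_univ, true_and]
    constructor
    · rintro ⟨h, h'⟩
      exact rel_symm (Quotient.exact h')
    · rintro h
      have hl : l ≠ 1 := by
        obtain ⟨n, rfl⟩ := h
        exact tw_ne_one hl₀
      exact ⟨hl, Quotient.sound (rel_symm h)⟩
  have hκ : Fintype.card κ = t := by
    have h1 : Fintype.card {l : P →* ℂˣ // l ≠ 1} = ∑ q : κ, e := by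
      rw [Fintype.card_subtype, Finset.card_eq_sum_card_fiberwise
        (f := fun l : P →* ℂˣ => if h : l ≠ 1 then some (Quotient.mk s ⟨l, h⟩ : κ) else none)
        (t := (Finset.univ : Finset κ).map ⟨some, Option.some_injective _⟩)]
      · rw [Finset.sum_map]
        refine Finset.sum_congr rfl fun q _ => ?_
        rw [← hfib q]
        congr 1
        ext l
        simp only [Finset.mem_filter, Finset.mem_univ, true_and, Function.Embedding.coeFn_mk]
        constructor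
        · rintro ⟨h, h'⟩
          rw [dif_pos h] at h'
          exact ⟨h, Option.some_injective _ h'⟩
        · rintro ⟨h, h'⟩
          refine ⟨h, ?_⟩
          rw [dif_pos h, h']
      · intro l hl
        have hl' : l ≠ 1 := by simpa using hl
        simp [hl']
    rw [hcardL1, Finset.sum_const, Finset.card_univ, smul_eq_mul, ← het, mul_comm] at h1
    exact (Nat.eq_of_mul_eq_mul_right hepos h1).symm
  have htpos : 1 ≤ t := by
    rcases Nat.eq_zero_or_pos t with h | h
    · rw [h, mul_zero] at het; omega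
    · exact h
  -- the rows
  have hrel : ∀ i (l : P →* ℂˣ) (hl : l ≠ 1),
      r i (Quotient.mk s ⟨l, hl⟩ : κ).out.1 = r i l := by
    intro i l hl
    have h1 : Rel P (Quotient.mk s ⟨l, hl⟩ : κ).out.1 l := Quotient.mk_out (s := s) ⟨l, hl⟩
    obtain ⟨n, hn⟩ := h1
    rw [← hr3 i _ n, hn]
  have hgram : ∀ a b : κ, ∑ i, r i a.out.1 * r i b.out.1 = e + if a = b then 1 else 0 := by
    intro a b
    rw [hr4 _ _ a.out.2 b.out.2]
    have : Rel P a.out.1 b.out.1 ↔ a = b := by
      constructor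
      · intro h
        have h2 : Quotient.mk s a.out = Quotient.mk s b.out := Quotient.sound h
        rwa [Quotient.out_eq, Quotient.out_eq] at h2
      · rintro rfl
        exact rel_refl P _
    simp only [this]
  have hne : ∀ i, ∃ a : κ, r i a.out.1 ≠ 0 := by
    intro i
    obtain ⟨x, hx, hxi⟩ := hnz i
    by_contra hcon
    push Not at hcon
    apply hxi
    rw [hr1 i x hx]
    refine Finset.sum_eq_zero fun l _ => ?_
    by_cases hl : l = 1
    · rw [hl, hr2]; simp
    · rw [← hrel i l hl, hcon]; simp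
  have hi₀r : ∀ l : P →* ℂˣ, l ≠ 1 → r i₀ l = -1 := by
    intro l hl
    let b : (P →* ℂˣ) → ℂ := fun l => (r i₀ l : ℂ) - if l = 1 then 1 else 0
    have hb : ∀ x : P, x ≠ 1 → ∑ l : P →* ℂˣ, b l * conj ((l x : ℂˣ) : ℂ) = 0 := by
      intro x hx
      have h1 := hr1 i₀ x hx
      rw [hi₀] at h1
      have h2 := congrArg conj h1
      rw [map_sum] at h2
      have h3 : ∑ l : P →* ℂˣ, b l * conj ((l x : ℂˣ) : ℂ) =
          ∑ l : P →* ℂˣ, conj ((r i₀ l : ℂ) * ((l x : ℂˣ) : ℂ)) -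
            ∑ l : P →* ℂˣ, (if l = 1 then (1 : ℂ) else 0) * conj ((l x : ℂˣ) : ℂ) := by
        rw [← Finset.sum_sub_distrib]
        refine Finset.sum_congr rfl fun l _ => ?_
        rw [map_mul, map_intCast]
        simp only [b]
        ring
      rw [h3, ← h2]
      simp
    have h4 := eq_of_sum_eq_zero b hb l 1
    simp only [b, if_neg hl, if_true, hr2] at h4
    have h5 : ((r i₀ l : ℤ) : ℂ) = ((-1 : ℤ) : ℂ) := by
      push_cast
      simpa using h4
    exact_mod_cast h5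
  obtain ⟨NE, f, hi₀NE, hNE, hrow1, hrow2, hinj⟩ := rows_all hepos
    (fun (i : ι) (q : κ) => r i q.out.1) hne hgram (by rw [hcard, hκ]) (by rw [hκ]; exact htpos)
    i₀ (fun a => hi₀r _ a.out.2)
  -- extraction
  have hsum : ∀ x : P, x ≠ 1 → ∀ c : ℤ, ∑ l : P →* ℂˣ, (if l = 1 then 0 else (c : ℂ)) *
      ((l x : ℂˣ) : ℂ) = -c := by
    intro x hx c
    have h1 := sum_dual_eq_zero hp hP hx
    have h2 : ∀ l : P →* ℂˣ, (if l = 1 then 0 else (c : ℂ)) * ((l x : ℂˣ) : ℂ) =
        c * ((l x : ℂˣ) : ℂ) - if l = 1 then (c : ℂ) else 0 := by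
      intro l
      split_ifs with h
      · rw [h]; simp
      · simp
    simp only [h2, Finset.sum_sub_distrib, ← Finset.mul_sum, h1]
    simp
  have hx₀ : ∃ x : P, x ≠ 1 := by
    obtain ⟨x, hx, -⟩ := hnz i₀
    exact ⟨x, hx⟩
  have hε : ∀ i, ∃ c : ℤ, i ∈ NE → (c = 1 ∨ c = -1) ∧ ∀ x : P, x ≠ 1 → χ i x = c := by
    intro i
    by_cases hi : i ∈ NE
    · obtain ⟨c, hc, hcr⟩ : ∃ c : ℤ, (c = 1 ∨ c = -1) ∧ ∀ q : κ, r i q.out.1 = c := by
        rcases hrow1 i hi with h | h
        · exact ⟨1, Or.inl rfl, h⟩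
        · exact ⟨-1, Or.inr rfl, h⟩
      refine ⟨-c, fun _ => ⟨by rcases hc with h | h <;> omega, fun x hx => ?_⟩⟩
      rw [hr1 i x hx]
      have := hsum x hx c
      push_cast
      rw [← this]
      refine Finset.sum_congr rfl fun l _ => ?_
      by_cases hl : l = 1
      · rw [hl, hr2, if_pos rfl]; simp
      · rw [if_neg hl, ← hrel i l hl, hcr]
    · exact ⟨0, fun h => absurd h hi⟩
  choose ε hε using hε
  have hcS : ∀ i, ∃ c : ℤ, i ∉ NE → (c = 1 ∨ c = -1) ∧ ∀ x : P, x ≠ 1 → χ i x = c *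
      ∑ l ∈ Finset.univ.filter (fun l : P →* ℂˣ => ∃ h : l ≠ 1, (Quotient.mk s ⟨l, h⟩ : κ) = f i),
        ((l x : ℂˣ) : ℂ) := by
    intro i
    by_cases hi : i ∈ NE
    · exact ⟨0, fun h => absurd hi h⟩
    · obtain ⟨c, hc, hcr⟩ := hrow2 i hi
      refine ⟨c, fun _ => ⟨hc, fun x hx => ?_⟩⟩
      rw [hr1 i x hx, Finset.mul_sum, Finset.sum_filter]
      refine Finset.sum_congr rfl fun l _ => ?_
      by_cases hl : l = 1
      · rw [hl, hr2, if_neg]
        · simp
        · rintro ⟨h, -⟩; exact h rfl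
      · by_cases hq : (Quotient.mk s ⟨l, hl⟩ : κ) = f i
        · rw [if_pos ⟨hl, hq⟩, ← hrel i l hl, hcr, if_pos hq]
        · rw [if_neg (fun h => hq h.2), ← hrel i l hl, hcr, if_neg hq]
          simp
  choose c hc using hcS
  refine ⟨NE, ε, c, fun i => Finset.univ.filter
    (fun l : P →* ℂˣ => ∃ h : l ≠ 1, (Quotient.mk s ⟨l, h⟩ : κ) = f i), hNE, hi₀NE, ?_, hε, ?_, ?_, ?_⟩
  · obtain ⟨x, hx⟩ := hx₀
    have h1 := (hε i₀ hi₀NE).2 x hx
    rw [hi₀] at h1
    have h2 : ((ε i₀ : ℤ) : ℂ) = ((1 : ℤ) : ℂ) := by rw [← h1]; simp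
    exact_mod_cast h2
  · intro i hi
    refine ⟨(hc i hi).1, hfib _, ?_, (hc i hi).2⟩
    simp
  · intro i hi j hj hij
    rw [Finset.disjoint_left]
    intro l hl hl'
    simp only [Finset.mem_filter, Finset.mem_univ, true_and] at hl hl'
    obtain ⟨h1, h2⟩ := hl
    obtain ⟨h3, h4⟩ := hl'
    exact hij (hinj i hi j hj (h2.symm.trans h4))
  · intro l hl
    have hsurj : ∀ q : κ, ∃ i, i ∉ NE ∧ f i = q := by
      intro q
      have h1 : (Finset.univ \ NE : Finset ι).card = t := by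
        rw [Finset.card_sdiff_of_subset (Finset.subset_univ _), Finset.card_univ, hcard, hNE]
        omega
      have h2 : ((Finset.univ \ NE : Finset ι).image f).card = t := by
        rw [Finset.card_image_of_injOn, h1]
        intro i hi j hj hij
        have hi' : i ∉ NE := by simpa using hi
        have hj' : j ∉ NE := by simpa using hj
        exact hinj i hi' j hj' hij
      have h3 : (Finset.univ \ NE : Finset ι).image f = Finset.univ := by
        apply Finset.eq_univ_of_card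
        rw [h2, hκ]
      have h4 : q ∈ (Finset.univ \ NE : Finset ι).image f := h3 ▸ Finset.mem_univ q
      rw [Finset.mem_image] at h4
      obtain ⟨i, hi, hiq⟩ := h4
      exact ⟨i, by simpa using hi, hiq⟩
    obtain ⟨i, hi, hiq⟩ := hsurj (Quotient.mk s ⟨l, hl⟩)
    refine ⟨i, hi, ?_⟩
    simp only [Finset.mem_filter, Finset.mem_univ, true_and]
    exact ⟨hl, hiq.symm⟩

end Cfsg.Agent.SmallSimple.PrimeRows
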