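import Cfsg.Agent.S0960
import Cfsg.Agent.Blocks.CyclicOrtho
import Cfsg.Agent.Blocks.ExistsModular
import Cfsg.Agent.Blocks.Local
import Cfsg.Agent.SmallSimple.PrimeRows

/-!
Theorem B: the structure of the principal `p`-block of a group whose Sylow `p`-subgroup has prime
order `p` (Brauer).
-/

set_option autoImplicit false
open Cfsg
open scoped ComplexConjugate

namespace Cfsg.Agent.SmallSimple.TheoremB

open Subgroup
open Cfsg.Agent.Characters.Core
open Cfsg.Agent.SmallSimple.PrimeDual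

universe u

variable {G : Type u} [Group G] [Finite G]

theorem centralChar_one (g : G) :
    centralChar (fun _ : G => (1 : ℂ)) g = ((centralizer ({g} : Set G)).index : ℂ) := by
  unfold centralChar; simp

/-- Characters in the principal block do not vanish on `P#`. -/
theorem apply_ne_zero {p : ℕ} [Fact p.Prime] {M : Ideal AlgInt} (hM : IsPModular p M)
    (P : Sylow p G) (hP : Nat.card P = p) {χ : IrrCharacter G} (hχ : χ ∈ principalBlock M G)
    {x : G} (hx : x ∈ P) (hx1 : x ≠ 1) : (χ : G → ℂ) x ≠ 0 := by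
  intro h0
  have h1 : MemLocalIdeal M (centralChar (fun _ : G => (1 : ℂ)) x - centralChar (χ : G → ℂ) x) :=
    hχ x
  have h2 : centralChar (χ : G → ℂ) x = 0 := by
    unfold centralChar; rw [h0]; simp
  rw [centralChar_one, h2, sub_zero, Blocks.Local.memLocalIdeal_natCast_iff hM] at h1
  have h3 : (P : Subgroup G) ≤ centralizer ({x} : Set G) := by
    rw [Blocks.CyclicOrtho.centralizer_eq P hP hx hx1]
    have : IsCyclic (P : Subgroup G) := isCyclic_of_prime_card hP
    have : IsMulCommutative (P : Subgroup G) := inferInstance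
    exact Subgroup.le_centralizer (P : Subgroup G)
  exact P.not_dvd_index (h1.trans (index_dvd_of_le h3))

/-- **Theorem B** (Brauer). -/
theorem theoremB (p : ℕ) [Fact p.Prime] (hp2 : p ≠ 2)
    (M : Ideal AlgInt) (hM : IsPModular p M) (P : Sylow p G) (hP : Nat.card P = p) (e t : ℕ)
    (he : (centralizer (P : Set G)).relIndex (normalizer (P : Set G)) = e) (ht : e * t = p - 1) :
    ∃ (NE X : Finset (IrrCharacter G)) (ε : IrrCharacter G → ℤ) (d : ℤ)
      (S : IrrCharacter G → Finset (P →* ℂˣ)),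
      (∀ χ : IrrCharacter G, χ ∈ principalBlock M G ↔ χ ∈ NE ∨ χ ∈ X) ∧ Disjoint NE X ∧
      NE.card = e ∧ X.card = t ∧
      (∀ χ ∈ NE, ε χ = 1 ∨ ε χ = -1) ∧ (d = 1 ∨ d = -1) ∧
      (∃ χ₁ ∈ NE, (χ₁ : G → ℂ) = 1 ∧ ε χ₁ = 1) ∧
      (∀ χ ∈ NE, ∀ x ∈ P, x ≠ 1 → ∀ y ∈ centralizer (P : Set G), ¬ p ∣ orderOf y →
        (χ : G → ℂ) (x * y) = ε χ) ∧
      (∀ Θ ∈ X, (S Θ).card = e ∧ 1 ∉ S Θ ∧ ∀ x : P, x ≠ 1 →
        ∀ y ∈ centralizer (P : Set G), ¬ p ∣ orderOf y →
        (Θ : G → ℂ) (x * y) = d * ∑ l ∈ S Θ, ((l x : ℂˣ) : ℂ)) ∧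
      (∀ Θ ∈ X, ∀ Θ' ∈ X, Θ ≠ Θ' → Disjoint (S Θ) (S Θ')) ∧
      (∀ Θ ∈ X, ∀ g : G, ¬ p ∣ orderOf g →
        ∑ χ ∈ NE, (ε χ : ℂ) * (χ : G → ℂ) g = d * (Θ : G → ℂ) g) := by
  classical
  have hp : p.Prime := Fact.out
  have hp1 := hp.one_lt
  have := finite_irr (G := G)
  have := Fintype.ofFinite (IrrCharacter G)
  have := finite_dual hp hP
  have := Fintype.ofFinite (P →* ℂˣ)
  let B := principalBlock M G
  have := Fintype.ofFinite B
  have hsumB : ∀ f : IrrCharacter G → ℂ, ∑ᶠ χ ∈ principalBlock M G, f χ = ∑ i : B, f i := by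
    intro f
    rw [← finsum_set_coe_eq_finsum_mem, finsum_eq_sum_of_fintype]
  have hcard := (S0960.result p M hM hp2 P hP e he).1
  have hepos : 0 < e := by
    rcases Nat.eq_zero_or_pos e with h | h
    · rw [h, zero_mul] at ht; omega
    · exact h
  have hdiv : (p - 1) / e = t := by rw [← ht, Nat.mul_div_cancel_left t hepos]
  rw [hdiv] at hcard
  have hcardB : Fintype.card B = e + t := by rw [← Nat.card_eq_fintype_card]; exact hcard
  have hone : (⟨(1 : G → ℂ), isIrr_one⟩ : IrrCharacter G) ∈ B := by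
    intro g
    show MemLocalIdeal M (centralChar (fun _ : G => (1 : ℂ)) g -
      centralChar (fun _ : G => (1 : ℂ)) g)
    rw [sub_self]
    have := (Blocks.Local.memLocalIdeal_natCast_iff hM 0).2 (dvd_zero p)
    simpa using this
  have hx₀ : ∃ x : P, x ≠ 1 := by
    have : Nontrivial P := by
      rw [← Finite.one_lt_card_iff_nontrivial]
      exact hp1.trans_eq hP.symm
    exact exists_ne 1
  obtain ⟨x₀, hx₀⟩ := hx₀
  have hcoe1 : ∀ x : P, x ≠ 1 → (x : G) ≠ 1 := fun x hx h => hx (Subtype.ext h)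
  obtain ⟨NE, ε, c, S, hNE, hi₀, hεi₀, hNEv, hXv, hSdisj, hScov⟩ :=
    PrimeRows.exists_structure hp hP he ht (fun i : B => ((i : IrrCharacter G) : G → ℂ))
      (fun i => isIrr_isCharacter i.1.2)
      (fun u v hu hv => by
        have h1 := Blocks.CyclicOrtho.gram P hP hM u.2 (hcoe1 u hu) v.2 (hcoe1 v hv)
        rw [hsumB] at h1
        rw [h1])
      (fun i => ⟨x₀, hx₀, apply_ne_zero hM P hP i.2 x₀.2 (hcoe1 x₀ hx₀)⟩)
      hcardB ⟨⟨(1 : G → ℂ), isIrr_one⟩, hone⟩ rfl
  -- the relation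
  have hrel : ∀ i : B, i ∉ NE → ∀ g : G, ¬ p ∣ orderOf g →
      ∑ j ∈ NE, (ε j : ℂ) * (j.1 : G → ℂ) g = c i * (i.1 : G → ℂ) g := by
    intro i hi g hg
    let A : ℂ := ∑ j ∈ NE, (ε j : ℂ) * (j.1 : G → ℂ) g
    let b : (P →* ℂˣ) → ℂ := fun l => (if l = 1 then A else 0) +
      ∑ j ∈ Finset.univ \ NE, if l ∈ S j then (c j : ℂ) * (j.1 : G → ℂ) g else 0
    have hb : ∀ x : P, x ≠ 1 → ∑ l : P →* ℂˣ, b l * conj ((l x : ℂˣ) : ℂ) = 0 := by
      intro x hx
      have h1 := Blocks.CyclicOrtho.kernel_regular P hP hM x.2 (hcoe1 x hx) hg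
      rw [hsumB] at h1
      have h2 : ∑ l : P →* ℂˣ, b l * conj ((l x : ℂˣ) : ℂ) =
          A + ∑ j ∈ Finset.univ \ NE, (c j : ℂ) * (j.1 : G → ℂ) g *
            ∑ l ∈ S j, conj ((l x : ℂˣ) : ℂ) := by
        simp only [b, add_mul, Finset.sum_add_distrib, ite_mul, zero_mul, Finset.sum_mul]
        congr 1
        · rw [Finset.sum_ite_eq' Finset.univ (1 : P →* ℂˣ), if_pos (Finset.mem_univ _)]
          simp
        · rw [Finset.sum_comm]
          refine Finset.sum_congr rfl fun j _ => ?_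
          rw [Finset.mul_sum, ← Finset.sum_filter]
          refine Finset.sum_congr ?_ fun _ _ => rfl
          ext l; simp
      rw [h2, ← h1, ← Finset.sum_sdiff (Finset.subset_univ NE), add_comm]
      congr 1
      · refine Finset.sum_congr rfl fun j hj => ?_
        have hj' : j ∉ NE := by simpa using hj
        rw [(hXv j hj').2.2.2 x hx, map_mul, map_sum]
        have : conj ((c j : ℤ) : ℂ) = c j := by
          rw [← Complex.ofReal_intCast, Complex.conj_ofReal]
        rw [this]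
        ring
      · refine Finset.sum_congr rfl fun j hj => ?_
        rw [(hNEv j hj).2 x hx]
        have : conj ((ε j : ℤ) : ℂ) = ε j := by
          rw [← Complex.ofReal_intCast, Complex.conj_ofReal]
        rw [this]
        ring
    obtain ⟨l, hl⟩ : (S i).Nonempty := by
      rw [← Finset.card_pos, (hXv i hi).2.1]; exact hepos
    have hl1 : l ≠ 1 := by rintro rfl; exact (hXv i hi).2.2.1 hl
    have h3 := eq_of_sum_eq_zero b hb l 1
    have h4 : b l = (c i : ℂ) * (i.1 : G → ℂ) g := by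
      simp only [b, if_neg hl1, zero_add]
      rw [Finset.sum_eq_single i]
      · rw [if_pos hl]
      · intro j hj hji
        have hj' : j ∉ NE := by simpa using hj
        rw [if_neg]
        intro hlj
        exact Finset.disjoint_left.1 (hSdisj i hi j hj' hji.symm) hl hlj
      · intro h
        exact absurd (by simpa using hi) h
    have h5 : b 1 = A := by
      simp only [b, if_true]
      rw [Finset.sum_eq_zero, add_zero]
      intro j hj
      have hj' : j ∉ NE := by simpa using hj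
      rw [if_neg (hXv j hj').2.2.1]
    rw [h4, h5] at h3
    exact h3.symm
  -- the common sign
  have hXcard : (Finset.univ \ NE : Finset B).card = t := by
    rw [Finset.card_sdiff_of_subset (Finset.subset_univ _), Finset.card_univ, hcardB, hNE]
    omega
  have htpos : 0 < t := by
    rcases Nat.eq_zero_or_pos t with h | h
    · rw [h, mul_zero] at ht; omega
    · exact h
  obtain ⟨i₁, hi₁⟩ : (Finset.univ \ NE : Finset B).Nonempty := by
    rw [← Finset.card_pos, hXcard]; exact htpos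
  have hi₁' : i₁ ∉ NE := by simpa using hi₁
  have hp1' : ¬ p ∣ orderOf (1 : G) := by
    rw [orderOf_one]; exact fun h => hp1.ne' (Nat.dvd_one.1 h)
  have hd : ∀ i : B, i ∉ NE → c i = c i₁ := by
    intro i hi
    have h1 := (hrel i hi 1 hp1').symm.trans (hrel i₁ hi₁' 1 hp1')
    obtain ⟨a, ha, ha'⟩ := isIrr_apply_one i.1.2
    obtain ⟨a₁, ha₁, ha₁'⟩ := isIrr_apply_one i₁.1.2
    rw [ha', ha₁'] at h1
    have h2 : c i * (a : ℤ) = c i₁ * (a₁ : ℤ) := by exact_mod_cast h1
    rcases (hXv i hi).1 with h3 | h3 <;> rcases (hXv i₁ hi₁').1 with h4 | h4 <;>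
      rw [h3, h4] at h2 ⊢ <;> omega
  have hcC : ∀ x ∈ P, ∀ y ∈ centralizer (P : Set G), Commute x y := by
    intro x hx y hy
    exact mem_centralizer_iff.1 hy x hx
  refine ⟨NE.map (Function.Embedding.subtype _), (Finset.univ \ NE).map (Function.Embedding.subtype _),
    fun χ => if h : χ ∈ B then ε ⟨χ, h⟩ else 0, c i₁,
    fun χ => if h : χ ∈ B then S ⟨χ, h⟩ else ∅, ?_, ?_, ?_, ?_, ?_, ?_, ?_, ?_, ?_, ?_, ?_⟩
  · intro χ
    constructor
    · intro h
      by_cases hχ : (⟨χ, h⟩ : B) ∈ NE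
      · left
        rw [Finset.mem_map]
        exact ⟨⟨χ, h⟩, hχ, rfl⟩
      · right
        rw [Finset.mem_map]
        exact ⟨⟨χ, h⟩, by simpa using hχ, rfl⟩
    · rintro (h | h)
      · rw [Finset.mem_map] at h
        obtain ⟨i, -, rfl⟩ := h
        exact i.2
      · rw [Finset.mem_map] at h
        obtain ⟨i, -, rfl⟩ := h
        exact i.2
  · rw [Finset.disjoint_map]
    exact Finset.disjoint_sdiff
  · rw [Finset.card_map, hNE]
  · rw [Finset.card_map, hXcard]
  · intro χ hχ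
    rw [Finset.mem_map] at hχ
    obtain ⟨i, hi, rfl⟩ := hχ
    have h1 : (Function.Embedding.subtype _ i : IrrCharacter G) ∈ B := i.2
    simp only [dif_pos h1]
    exact (hNEv i hi).1
  · exact (hXv i₁ hi₁').1
  · refine ⟨⟨(1 : G → ℂ), isIrr_one⟩, ?_, rfl, ?_⟩
    · rw [Finset.mem_map]
      exact ⟨_, hi₀, rfl⟩
    · simp only [dif_pos hone]
      exact hεi₀
  · intro χ hχ x hx hx1 y hy hyp
    rw [Finset.mem_map] at hχ
    obtain ⟨i, hi, rfl⟩ := hχ
    have h1 : (Function.Embedding.subtype _ i : IrrCharacter G) ∈ B := i.2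
    simp only [dif_pos h1]
    rw [Blocks.CyclicOrtho.mul_eq P hP hM hx hx1 (hcC x hx y hy) hyp h1]
    exact (hNEv i hi).2 ⟨x, hx⟩ (fun h => hx1 (congrArg Subtype.val h))
  · intro χ hχ
    rw [Finset.mem_map] at hχ
    obtain ⟨i, hi, rfl⟩ := hχ
    have hi' : i ∉ NE := by simpa using hi
    have h1 : (Function.Embedding.subtype _ i : IrrCharacter G) ∈ B := i.2
    simp only [dif_pos h1]
    refine ⟨(hXv i hi').2.1, (hXv i hi').2.2.1, ?_⟩
    intro x hx1 y hy hyp
    rw [Blocks.CyclicOrtho.mul_eq P hP hM x.2 (hcoe1 x hx1) (hcC x x.2 y hy) hyp h1, ← hd i hi']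
    exact (hXv i hi').2.2.2 x hx1
  · intro χ hχ χ' hχ' hne
    rw [Finset.mem_map] at hχ hχ'
    obtain ⟨i, hi, rfl⟩ := hχ
    obtain ⟨j, hj, rfl⟩ := hχ'
    have hi' : i ∉ NE := by simpa using hi
    have hj' : j ∉ NE := by simpa using hj
    have h1 : (Function.Embedding.subtype _ i : IrrCharacter G) ∈ B := i.2
    have h2 : (Function.Embedding.subtype _ j : IrrCharacter G) ∈ B := j.2
    simp only [dif_pos h1, dif_pos h2]
    exact hSdisj i hi' j hj' (fun h => hne (by rw [h]))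
  · intro χ hχ g hg
    rw [Finset.mem_map] at hχ
    obtain ⟨i, hi, rfl⟩ := hχ
    have hi' : i ∉ NE := by simpa using hi
    rw [← hd i hi', Finset.sum_map]
    rw [← show (c i : ℂ) * (i.1 : G → ℂ) g = c i * ((Function.Embedding.subtype _ i : IrrCharacter G) : G → ℂ) g from rfl,
      ← hrel i hi' g hg]
    refine Finset.sum_congr rfl fun j _ => ?_
    have h1 : (Function.Embedding.subtype _ j : IrrCharacter G) ∈ B := j.2
    simp only [dif_pos h1]
    rfl

end Cfsg.Agent.SmallSimple.TheoremB
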