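import Mathlib
import Cfsg.Prelude.Def_Characters
import Cfsg.Agent.Characters.GaloisBasic

/-!
# The determinant argument for `C_G(P) = P × K`

Let `x` have prime order `p` and let `K` be a group of order prime to `p` commuting with `x`.
If a character `χ` satisfies `χ (x ^ j * k) = χ (x ^ j)` for all `j` prime to `p` and `k ∈ K`
(characters of the principal block of a group with Sylow subgroup `⟨x⟩`, characters of `p`-defect
zero) and is afforded by a representation of determinant one, then `K` acts with determinant one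
on every eigenspace of `x`, and it acts trivially there only if it acts trivially on the whole
space.  So `K` embeds in `SL (a, ℂ)` for every multiplicity `a` of an eigenvalue of `x`.
-/

set_option autoImplicit false

open Cfsg Module Finset

namespace Cfsg.Agent.SmallSimple.DetKernel

section sums

variable {ι : Type*} [Fintype ι]

theorem sum_pow_eq_zero {z : ℂ} {n : ℕ} (hz : z ^ n = 1) (h1 : z ≠ 1) :
    ∑ r ∈ range n, z ^ r = 0 := by
  have h := geom_sum_mul z n
  rw [hz, sub_self] at h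
  exact (mul_eq_zero.1 h).resolve_right (sub_ne_zero.2 h1)

theorem ne_zero_of_pow_eq_one {z : ℂ} {n : ℕ} (hn : n ≠ 0) (hz : z ^ n = 1) : z ≠ 0 := by
  rintro rfl
  rw [zero_pow hn] at hz
  exact zero_ne_one hz

open Classical in
/-- Fourier inversion. -/
theorem wsum (α w : ι → ℂ) {p : ℕ} (hp : p ≠ 0) (hα : ∀ j, α j ^ p = 1) {l : ℂ}
    (hl : l ^ p = 1) :
    (p : ℂ) * ∑ j with α j = l, w j = ∑ r ∈ range p, (l⁻¹) ^ r * ∑ j, α j ^ r * w j := by
  have hl0 : l ≠ 0 := ne_zero_of_pow_eq_one hp hl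
  have h1 : ∀ j, ∑ r ∈ range p, (l⁻¹) ^ r * (α j ^ r * w j) = if α j = l then (p : ℂ) * w j else 0 := by
    intro j
    split_ifs with h
    · rw [h]
      have : ∀ r ∈ range p, (l⁻¹) ^ r * (l ^ r * w j) = w j := by
        intro r _
        rw [← mul_assoc, ← mul_pow, inv_mul_cancel₀ hl0, one_pow, one_mul]
      rw [Finset.sum_congr rfl this]
      simp
    · have h2 : l⁻¹ * α j ≠ 1 := by
        intro h3
        apply h
        have := congrArg (fun t => l * t) h3
        simpa [← mul_assoc, mul_inv_cancel₀ hl0] using this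
      have h3 : (l⁻¹ * α j) ^ p = 1 := by
        rw [mul_pow, inv_pow, hl, hα]; simp
      have h4 := sum_pow_eq_zero h3 h2
      have : ∀ r ∈ range p, (l⁻¹) ^ r * (α j ^ r * w j) = (l⁻¹ * α j) ^ r * w j := by
        intro r _
        rw [mul_pow]; ring
      rw [Finset.sum_congr rfl this, ← Finset.sum_mul, h4, zero_mul]
  rw [Finset.mul_sum, Finset.sum_filter]
  simp_rw [Finset.mul_sum]
  rw [Finset.sum_comm]
  exact (Finset.sum_congr rfl fun j _ => h1 j).symm

open Classical in
/-- The nontrivial eigenvalues of `k` are equally distributed over the eigenspaces of `x`. -/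
theorem count_fiber (α β : ι → ℂ) {p m : ℕ} (hp : p ≠ 0) (hm : m ≠ 0) (hα : ∀ j, α j ^ p = 1)
    (hβ : ∀ j, β j ^ m = 1)
    (h : ∀ r, 0 < r → r < p → ∀ s, ∑ j, α j ^ r * β j ^ s = ∑ j, α j ^ r)
    {l b : ℂ} (hl : l ^ p = 1) (hb : b ≠ 1) :
    #{j | β j = b} = p * #{j | α j = l ∧ β j = b} := by
  by_cases hbm : b ^ m = 1
  swap
  · have h0 : #{j | β j = b} = 0 := by
      rw [Finset.card_eq_zero, Finset.filter_eq_empty_iff]
      intro j _ hj
      exact hbm (hj ▸ hβ j)
    have h1 : #{j | α j = l ∧ β j = b} = 0 := by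
      rw [Finset.card_eq_zero, Finset.filter_eq_empty_iff]
      intro j _ hj
      exact hbm (hj.2 ▸ hβ j)
    rw [h0, h1, mul_zero]
  -- the partial sums vanish
  have h1 : ∀ r, 0 < r → r < p → ∑ j with β j = b, α j ^ r = 0 := by
    intro r h0 h2
    have h3 := wsum β (fun j => α j ^ r) hm hβ hbm
    have h4 : ∑ s ∈ range m, (b⁻¹) ^ s * ∑ j, β j ^ s * α j ^ r = 0 := by
      have : ∀ s ∈ range m, (b⁻¹) ^ s * ∑ j, β j ^ s * α j ^ r = (b⁻¹) ^ s * ∑ j, α j ^ r := by
        intro s _
        rw [← h r h0 h2 s]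
        congr 1
        exact Finset.sum_congr rfl fun j _ => mul_comm _ _
      rw [Finset.sum_congr rfl this, ← Finset.sum_mul, sum_pow_eq_zero, zero_mul]
      · rw [inv_pow, hbm, inv_one]
      · intro h5
        exact hb (inv_eq_one.1 h5)
    rw [h4] at h3
    exact (mul_eq_zero.1 h3).resolve_left (by exact_mod_cast hm)
  have h2 := wsum α (fun j => if β j = b then (1 : ℂ) else 0) hp hα hl
  have h3 : ∑ r ∈ range p, (l⁻¹) ^ r * ∑ j, α j ^ r * (if β j = b then (1 : ℂ) else 0) =
      (#{j | β j = b} : ℂ) := by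
    rw [Finset.sum_eq_single 0]
    · simp
    · intro r hr hr0
      have : ∑ j, α j ^ r * (if β j = b then (1 : ℂ) else 0) = ∑ j with β j = b, α j ^ r := by
        rw [Finset.sum_filter]
        exact Finset.sum_congr rfl fun j _ => by split_ifs <;> simp
      rw [this, h1 r (Nat.pos_of_ne_zero hr0) (Finset.mem_range.1 hr), mul_zero]
    · intro h0
      exact absurd (Finset.mem_range.2 (Nat.pos_of_ne_zero hp)) h0
  have h4 : ∑ j with α j = l, (if β j = b then (1 : ℂ) else 0) =
      (#{j | α j = l ∧ β j = b} : ℂ) := by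
    rw [← Finset.sum_filter, Finset.filter_filter]
    simp
  rw [h3, h4] at h2
  exact_mod_cast h2.symm

open Classical in
theorem prod_pow_eq (α β : ι → ℂ) {p m : ℕ} (hp : p ≠ 0) (hm : m ≠ 0) (hα : ∀ j, α j ^ p = 1)
    (hβ : ∀ j, β j ^ m = 1)
    (h : ∀ r, 0 < r → r < p → ∀ s, ∑ j, α j ^ r * β j ^ s = ∑ j, α j ^ r)
    {l : ℂ} (hl : l ^ p = 1) : (∏ j with α j = l, β j) ^ p = ∏ j, β j := by
  have h1 : ∏ j, β j = ∏ b ∈ univ.image β, b ^ #{j | β j = b} := Finset.prod_comp (fun x => x) β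
  have h2 : ∏ j with α j = l, β j = ∏ b ∈ univ.image β, b ^ #{j | α j = l ∧ β j = b} := by
    rw [← Finset.prod_fiberwise_of_maps_to (s := univ.filter fun j => α j = l)
      (t := univ.image β) (g := β) (fun j _ => Finset.mem_image_of_mem _ (Finset.mem_univ j))]
    refine Finset.prod_congr rfl fun b _ => ?_
    rw [Finset.filter_filter]
    rw [Finset.prod_congr rfl (g := fun _ => b) (fun j hj => (Finset.mem_filter.1 hj).2.2)]
    simp
  rw [h1, h2, ← Finset.prod_pow]
  refine Finset.prod_congr rfl fun b _ => ?_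
  by_cases hb : b = 1
  · simp [hb]
  · rw [count_fiber α β hp hm hα hβ h hl hb, ← pow_mul, mul_comm]

open Classical in
theorem eq_one_of_fiber (α β : ι → ℂ) {p m : ℕ} (hp : p ≠ 0) (hm : m ≠ 0)
    (hα : ∀ j, α j ^ p = 1) (hβ : ∀ j, β j ^ m = 1)
    (h : ∀ r, 0 < r → r < p → ∀ s, ∑ j, α j ^ r * β j ^ s = ∑ j, α j ^ r)
    {l : ℂ} (hl : l ^ p = 1) (h1 : ∀ j, α j = l → β j = 1) (j : ι) : β j = 1 := by
  by_contra hj
  have h2 := count_fiber α β hp hm hα hβ h hl hj
  have h3 : #{i | α i = l ∧ β i = β j} = 0 := by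
    rw [Finset.card_eq_zero, Finset.filter_eq_empty_iff]
    rintro i _ ⟨hi, hi'⟩
    exact hj (hi' ▸ h1 i hi)
  rw [h3, mul_zero, Finset.card_eq_zero, Finset.filter_eq_empty_iff] at h2
  exact h2 (Finset.mem_univ j) rfl

end sums

section linear

variable {V : Type*} [AddCommGroup V] [Module ℂ V]

/-- Commuting endomorphisms of coprime finite orders have a joint eigenbasis. -/
theorem exists_joint_basis [FiniteDimensional ℂ V] (X A : Module.End ℂ V) (hc : Commute X A)
    {p m : ℕ} (hp : p ≠ 0) (hm : m ≠ 0) (hpm : p.Coprime m) (hX : X ^ p = 1) (hA : A ^ m = 1) :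
    ∃ (b : Basis (Fin (finrank ℂ V)) ℂ V) (α β : Fin (finrank ℂ V) → ℂ),
      (∀ j, X (b j) = α j • b j) ∧ (∀ j, A (b j) = β j • b j) ∧
      (∀ j, α j ^ p = 1) ∧ ∀ j, β j ^ m = 1 := by
  have hT : (X * A) ^ (p * m) = 1 := by
    rw [hc.mul_pow, pow_mul, hX, one_pow, one_mul, mul_comm p m, pow_mul, hA, one_pow]
  obtain ⟨b, c, h1, h2⟩ := Cfsg.Agent.Characters.GaloisBasic.exists_basis_eigenvectors
    (X * A) (mul_ne_zero hp hm) hT
  obtain ⟨u, hu1, hu2⟩ := Nat.chineseRemainder hpm 1 0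
  obtain ⟨v, hv1, hv2⟩ := Nat.chineseRemainder hpm 0 1
  have key : ∀ (B : Module.End ℂ V) (n : ℕ), n ≠ 0 → B ^ n = 1 → ∀ a b : ℕ, a ≡ b [MOD n] →
      B ^ a = B ^ b := by
    intro B n hn hB a b hab
    have h3 : ∀ a : ℕ, B ^ a = B ^ (a % n) := by
      intro a
      conv_lhs => rw [← Nat.div_add_mod a n, pow_add, pow_mul, hB, one_pow, one_mul]
    rw [h3 a, h3 b, hab]
  have hXu : (X * A) ^ u = X := by
    rw [hc.mul_pow, key X p hp hX u 1 hu1, key A m hm hA u 0 hu2, pow_one, pow_zero, mul_one]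
  have hAv : (X * A) ^ v = A := by
    rw [hc.mul_pow, key X p hp hX v 0 hv1, key A m hm hA v 1 hv2, pow_one, pow_zero, one_mul]
  have h3 := Cfsg.Agent.Characters.GaloisBasic.pow_apply_of_basis (X * A) b c h1
  have hXj : ∀ j, X (b j) = c j ^ u • b j := fun j => by rw [← h3, hXu]
  have hAj : ∀ j, A (b j) = c j ^ v • b j := fun j => by rw [← h3, hAv]
  have aux : ∀ (B : Module.End ℂ V) (n : ℕ), B ^ n = 1 → ∀ (μ : Fin (finrank ℂ V) → ℂ),
      (∀ j, B (b j) = μ j • b j) → ∀ j, μ j ^ n = 1 := by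
    intro B n hB μ hμ j
    have h4 := Cfsg.Agent.Characters.GaloisBasic.pow_apply_of_basis B b μ hμ n j
    rw [hB, Module.End.one_apply] at h4
    have h5 : (μ j ^ n - 1) • b j = 0 := by rw [sub_smul, one_smul, ← h4, sub_self]
    rcases smul_eq_zero.1 h5 with h | h
    · exact sub_eq_zero.1 h
    · exact absurd h (b.ne_zero j)
  exact ⟨b, fun j => c j ^ u, fun j => c j ^ v, hXj, hAj, aux X p hX _ hXj, aux A m hA _ hAj⟩

variable {ι : Type*} [Fintype ι]

theorem exists_eigen_basis (b : Basis ι ℂ V) (α : ι → ℂ) (X : Module.End ℂ V)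
    (h : ∀ j, X (b j) = α j • b j) (l : ℂ) :
    ∃ c : Basis {j // α j = l} ℂ (Module.End.eigenspace X l), ∀ j, (c j : V) = b j := by
  classical
  have hmem : ∀ j : {j // α j = l}, b j ∈ Module.End.eigenspace X l := fun j =>
    Module.End.mem_eigenspace_iff.2 (by rw [h, j.2])
  let v : {j // α j = l} → Module.End.eigenspace X l := fun j => ⟨b j, hmem j⟩
  have hli : LinearIndependent ℂ v := by
    apply LinearIndependent.of_comp (Module.End.eigenspace X l).subtype
    exact b.linearIndependent.comp (fun j : {j // α j = l} => (j : ι)) Subtype.val_injective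
  have hsp : ⊤ ≤ Submodule.span ℂ (Set.range v) := by
    rintro ⟨w, hw⟩ -
    have hw' := Module.End.mem_eigenspace_iff.1 hw
    have h1 : ∀ j, α j ≠ l → b.repr w j = 0 := by
      intro j hj
      have h2 : b.repr (X w) j = α j * b.repr w j := by
        have h3 : X w = ∑ i, b.repr w i • (α i • b i) := by
          conv_lhs => rw [← b.sum_repr w]
          rw [map_sum]
          exact Finset.sum_congr rfl fun i _ => by rw [map_smul, h]
        rw [h3]
        simp only [map_sum, map_smul, Finsupp.coe_finsetSum, Finset.sum_apply, Finsupp.smul_apply,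
          Basis.repr_self, smul_eq_mul]
        rw [Finset.sum_eq_single j]
        · simp [mul_comm]
        · intro i _ hi
          simp [hi]
        · intro h0
          exact absurd (Finset.mem_univ j) h0
      rw [hw', map_smul, Finsupp.smul_apply, smul_eq_mul] at h2
      have h4 : (l - α j) * b.repr w j = 0 := by rw [sub_mul, h2, sub_self]
      exact (mul_eq_zero.1 h4).resolve_left (sub_ne_zero.2 (Ne.symm hj))
    have h5 : (⟨w, hw⟩ : Module.End.eigenspace X l) =
        ∑ j : {j // α j = l}, b.repr w (j : ι) • v j := by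
      apply Subtype.ext
      rw [Submodule.coe_sum]
      simp only [Submodule.coe_smul, v]
      conv_lhs => rw [← b.sum_repr w]
      rw [← Finset.sum_subtype (univ.filter fun j => α j = l) (fun j => by simp)
        (fun j => b.repr w j • b j), Finset.sum_filter]
      refine Finset.sum_congr rfl fun j _ => ?_
      split_ifs with hj
      · rfl
      · rw [h1 j hj, zero_smul]
    rw [h5]
    exact Submodule.sum_mem _ fun j _ => Submodule.smul_mem _ _ (Submodule.subset_span ⟨j, rfl⟩)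
  refine ⟨Basis.mk hli hsp, fun j => ?_⟩
  rw [Basis.mk_apply]

theorem mapsTo_eigenspace {X A : Module.End ℂ V} (hc : Commute X A) (l : ℂ) :
    ∀ v ∈ Module.End.eigenspace X l, A v ∈ Module.End.eigenspace X l := by
  intro v hv
  have hv' := Module.End.mem_eigenspace_iff.1 hv
  refine Module.End.mem_eigenspace_iff.2 ?_
  have h1 : X (A v) = A (X v) := by
    have := congrArg (fun B : Module.End ℂ V => B v) hc.eq
    simpa using this
  rw [h1, hv', map_smul]

open Classical in
theorem det_trace_restrict (b : Basis ι ℂ V) (α β : ι → ℂ) (X A : Module.End ℂ V)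
    (hX : ∀ j, X (b j) = α j • b j) (hA : ∀ j, A (b j) = β j • b j) (l : ℂ)
    (hmt : ∀ v ∈ Module.End.eigenspace X l, A v ∈ Module.End.eigenspace X l) :
    LinearMap.det (A.restrict hmt) = ∏ j with α j = l, β j ∧
      LinearMap.trace ℂ _ (A.restrict hmt) = ∑ j with α j = l, β j ∧
      finrank ℂ (Module.End.eigenspace X l) = #{j | α j = l} := by
  obtain ⟨c, hc⟩ := exists_eigen_basis b α X hX l
  have h1 : LinearMap.toMatrix c c (A.restrict hmt) =
      Matrix.diagonal fun j : {j // α j = l} => β (j : ι) := by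
    ext i j
    rw [LinearMap.toMatrix_apply]
    have h2 : (A.restrict hmt) (c j) = β (j : ι) • c j := by
      apply Subtype.ext
      rw [LinearMap.coe_restrict_apply, Submodule.coe_smul, hc, hA]
    rw [h2, map_smul, Finsupp.smul_apply, Basis.repr_self, Matrix.diagonal_apply, smul_eq_mul,
      Finsupp.single_apply]
    by_cases hij : i = j
    · simp [hij]
    · simp [hij, Ne.symm hij]
  refine ⟨?_, ?_, ?_⟩
  · rw [← LinearMap.det_toMatrix c, h1, Matrix.det_diagonal]
    exact (Finset.prod_subtype (univ.filter fun j => α j = l) (fun j => by simp) _).symm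
  · rw [LinearMap.trace_eq_matrix_trace ℂ c, h1, Matrix.trace_diagonal]
    exact (Finset.sum_subtype (univ.filter fun j => α j = l) (fun j => by simp) _).symm
  · rw [Module.finrank_eq_card_basis c, Fintype.card_subtype]

theorem det_of_basis (b : Basis ι ℂ V) (β : ι → ℂ) (A : Module.End ℂ V)
    (hA : ∀ j, A (b j) = β j • b j) : LinearMap.det A = ∏ j, β j := by
  classical
  have h1 : LinearMap.toMatrix b b A = Matrix.diagonal β := by
    ext i j
    rw [LinearMap.toMatrix_apply, hA, map_smul, Finsupp.smul_apply, Basis.repr_self,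
      Matrix.diagonal_apply, smul_eq_mul, Finsupp.single_apply]
    by_cases hij : i = j
    · simp [hij]
    · simp [hij, Ne.symm hij]
  rw [← LinearMap.det_toMatrix b, h1, Matrix.det_diagonal]

theorem trace_of_basis (b : Basis ι ℂ V) (β : ι → ℂ) (A : Module.End ℂ V)
    (hA : ∀ j, A (b j) = β j • b j) : LinearMap.trace ℂ V A = ∑ j, β j := by
  have := Cfsg.Agent.Characters.GaloisBasic.trace_pow_of_basis A b β hA 1
  simpa using this

/-- The main statement for one element `A` commuting with `X`. -/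
theorem main_linear [FiniteDimensional ℂ V] (X A : Module.End ℂ V) (hc : Commute X A)
    {p m : ℕ} (hp : p ≠ 0) (hm : m ≠ 0) (hpm : p.Coprime m) (hX : X ^ p = 1) (hA : A ^ m = 1)
    (htr : ∀ r, 0 < r → r < p → ∀ s, LinearMap.trace ℂ V (X ^ r * A ^ s) =
      LinearMap.trace ℂ V (X ^ r)) (hdet : LinearMap.det A = 1) {l : ℂ} (hl : l ^ p = 1) :
    LinearMap.det (A.restrict (mapsTo_eigenspace hc l)) = 1 ∧
    ((∀ v ∈ Module.End.eigenspace X l, A v = v) → A = 1) ∧
    (p : ℂ) * LinearMap.trace ℂ _ (A.restrict (mapsTo_eigenspace hc l)) =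
      p * finrank ℂ (Module.End.eigenspace X l) + (LinearMap.trace ℂ V A - finrank ℂ V) ∧
    (p : ℂ) * finrank ℂ (Module.End.eigenspace X l) =
      ∑ r ∈ range p, (l⁻¹) ^ r * LinearMap.trace ℂ V (X ^ r) := by
  classical
  obtain ⟨b, α, β, h1, h2, h3, h4⟩ := exists_joint_basis X A hc hp hm hpm hX hA
  have hXA : ∀ r s, ∀ j, (X ^ r * A ^ s) (b j) = (α j ^ r * β j ^ s) • b j := by
    intro r s j
    rw [Module.End.mul_apply, Cfsg.Agent.Characters.GaloisBasic.pow_apply_of_basis A b β h2,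
      map_smul, Cfsg.Agent.Characters.GaloisBasic.pow_apply_of_basis X b α h1, smul_smul, mul_comm]
  have hXr : ∀ r, LinearMap.trace ℂ V (X ^ r) = ∑ j, α j ^ r := fun r =>
    Cfsg.Agent.Characters.GaloisBasic.trace_pow_of_basis X b α h1 r
  have htr' : ∀ r, 0 < r → r < p → ∀ s, ∑ j, α j ^ r * β j ^ s = ∑ j, α j ^ r := by
    intro r h0 h5 s
    rw [← hXr, ← htr r h0 h5 s, trace_of_basis b _ _ (hXA r s)]
  obtain ⟨h5, h6, h7⟩ := det_trace_restrict b α β X A h1 h2 l (mapsTo_eigenspace hc l)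
  have h8 : (∏ j with α j = l, β j) = 1 := by
    have h9 := prod_pow_eq α β hp hm h3 h4 htr' hl
    rw [← det_of_basis b β A h2, hdet] at h9
    have h10 : (∏ j with α j = l, β j) ^ m = 1 := by
      rw [← Finset.prod_pow]
      exact Finset.prod_eq_one fun j _ => h4 j
    have h11 : orderOf (∏ j with α j = l, β j) ∣ p := orderOf_dvd_of_pow_eq_one h9
    have h12 : orderOf (∏ j with α j = l, β j) ∣ m := orderOf_dvd_of_pow_eq_one h10
    exact orderOf_eq_one_iff.1 (Nat.dvd_one.1 (hpm ▸ Nat.dvd_gcd h11 h12))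
  have hrank : (p : ℂ) * finrank ℂ (Module.End.eigenspace X l) =
      ∑ r ∈ range p, (l⁻¹) ^ r * LinearMap.trace ℂ V (X ^ r) := by
    have h9 := wsum α (fun _ => (1 : ℂ)) hp h3 hl
    rw [h7]
    rw [Finset.sum_const, nsmul_eq_mul, mul_one] at h9
    rw [h9]
    refine Finset.sum_congr rfl fun r _ => ?_
    rw [hXr]
    simp
  refine ⟨h5.trans h8, ?_, ?_, hrank⟩
  · intro h9
    have h10 : ∀ j, α j = l → β j = 1 := by
      intro j hj
      have h11 := h9 (b j) (Module.End.mem_eigenspace_iff.2 (by rw [h1, hj]))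
      rw [h2] at h11
      have h12 : (β j - 1) • b j = 0 := by rw [sub_smul, one_smul, h11, sub_self]
      rcases smul_eq_zero.1 h12 with h | h
      · exact sub_eq_zero.1 h
      · exact absurd h (b.ne_zero j)
    have h13 := eq_one_of_fiber α β hp hm h3 h4 htr' hl h10
    refine b.ext fun j => ?_
    rw [h2, h13, one_smul, Module.End.one_apply]
  · rw [h6, wsum α β hp h3 hl, hrank]
    have h9 : ∀ r ∈ range p, r ≠ 0 → (l⁻¹) ^ r * ∑ j, α j ^ r * β j =
        (l⁻¹) ^ r * LinearMap.trace ℂ V (X ^ r) := by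
      intro r hr hr0
      have := htr' r (Nat.pos_of_ne_zero hr0) (Finset.mem_range.1 hr) 1
      simp only [pow_one] at this
      rw [this, hXr]
    have h0 : 0 ∈ range p := Finset.mem_range.2 (Nat.pos_of_ne_zero hp)
    rw [← Finset.add_sum_erase _ _ h0, ← Finset.add_sum_erase _ _ h0]
    rw [Finset.sum_congr rfl fun r hr => h9 r (Finset.mem_of_mem_erase hr)
      (Finset.ne_of_mem_erase hr)]
    simp only [pow_zero, one_mul]
    rw [trace_of_basis b β A h2, Module.End.one_eq_id, LinearMap.trace_id]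
    ring

end linear

section matrices

/-- The trace of an involution of determinant one. -/
theorem trace_involution {a : ℕ} (A : Matrix (Fin a) (Fin a) ℂ) (h2 : A * A = 1) (hd : A.det = 1)
    (hne : A ≠ 1) : ∃ m : ℕ, 0 < m ∧ 2 * m ≤ a ∧ A.trace = a - 4 * m := by
  classical
  have hf : (Matrix.toLin' A) ^ 2 = 1 := by
    rw [pow_two]
    have h3 : Matrix.toLin' A * Matrix.toLin' A = Matrix.toLin' (A * A) := by
      rw [Matrix.toLin'_mul]; rfl
    rw [h3, h2, Matrix.toLin'_one]; rfl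
  obtain ⟨b, β, h3, h4⟩ := Cfsg.Agent.Characters.GaloisBasic.exists_basis_eigenvectors
    (Matrix.toLin' A) two_ne_zero hf
  have h5 : ∀ j, β j = 1 ∨ β j = -1 := fun j => mul_self_eq_one_iff.1 (by rw [← pow_two, h4 j])
  have htr : A.trace = ∑ j, β j := by
    rw [← trace_of_basis b β (Matrix.toLin' A) h3, Matrix.trace_toLin'_eq]
  have hdet : ∏ j, β j = 1 := by
    rw [← det_of_basis b β (Matrix.toLin' A) h3, LinearMap.det_toLin', hd]
  have hcard : #(univ : Finset (Fin (finrank ℂ (Fin a → ℂ)))) = a := by simp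
  have hprod : ∏ j, β j = (-1) ^ #{j | β j = -1} := by
    rw [← Finset.prod_filter_mul_prod_filter_not univ (fun j => β j = -1)]
    rw [Finset.prod_congr rfl (g := fun _ => (-1 : ℂ)) (fun j hj => (Finset.mem_filter.1 hj).2),
      Finset.prod_congr rfl (g := fun _ => (1 : ℂ))
        (fun j hj => (h5 j).resolve_right (Finset.mem_filter.1 hj).2)]
    simp
  have hsum : ∑ j, β j = a - 2 * #{j | β j = -1} := by
    rw [← Finset.sum_filter_add_sum_filter_not univ (fun j => β j = -1)]
    rw [Finset.sum_congr rfl (g := fun _ => (-1 : ℂ)) (fun j hj => (Finset.mem_filter.1 hj).2),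
      Finset.sum_congr rfl (g := fun _ => (1 : ℂ))
        (fun j hj => (h5 j).resolve_right (Finset.mem_filter.1 hj).2)]
    have h6 : #{j | β j = -1} + #{j | ¬ β j = -1} = a := by
      rw [Finset.card_filter_add_card_filter_not, hcard]
    have h7 : (#{j | β j = -1} : ℂ) + #{j | ¬ β j = -1} = a := by exact_mod_cast h6
    rw [Finset.sum_const, Finset.sum_const, nsmul_eq_mul, nsmul_eq_mul, ← h7]
    ring
  have heven : Even #{j | β j = -1} := by
    rw [hprod] at hdet
    by_contra hodd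
    rw [Nat.not_even_iff_odd] at hodd
    rw [hodd.neg_one_pow] at hdet
    norm_num at hdet
  obtain ⟨m, hm⟩ := heven
  refine ⟨m, ?_, ?_, ?_⟩
  · rcases Nat.eq_zero_or_pos m with h0 | h0
    · exfalso
      apply hne
      rw [h0, add_zero, Finset.card_eq_zero, Finset.filter_eq_empty_iff] at hm
      have h8 : Matrix.toLin' A = 1 := by
        refine b.ext fun j => ?_
        rw [h3, (h5 j).resolve_right (hm (Finset.mem_univ j)), one_smul, Module.End.one_apply]
      apply Matrix.toLin'.injective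
      rw [h8, Matrix.toLin'_one]; rfl
    · exact h0
  · have h9 : #{j | β j = -1} ≤ a := (Finset.card_le_card (Finset.filter_subset _ _)).trans hcard.le
    omega
  · rw [htr, hsum, hm]
    push_cast
    ring

end matrices

section group

universe u

variable {G : Type u} [Group G]

theorem det_eq_one [IsSimpleGroup G] (hnc : ∃ a b : G, a * b ≠ b * a) {V : Type*}
    [AddCommGroup V] [Module ℂ V] (ρ : Representation ℂ G V) (g : G) :
    LinearMap.det (ρ g) = 1 := by
  let f : G →* ℂ := (LinearMap.det : (V →ₗ[ℂ] V) →* ℂ).comp ρ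
  have hf : ∀ g, f g = LinearMap.det (ρ g) := fun g => rfl
  rcases IsSimpleGroup.eq_bot_or_eq_top_of_normal f.ker inferInstance with h | h
  · exfalso
    obtain ⟨a, b, hab⟩ := hnc
    apply hab
    have hinj := (MonoidHom.ker_eq_bot_iff f).1 h
    apply hinj
    rw [map_mul, map_mul, mul_comm]
  · have h1 : g ∈ f.ker := h ▸ Subgroup.mem_top g
    rw [← hf]
    exact MonoidHom.mem_ker.1 h1

theorem injective_of_ne [IsSimpleGroup G] {V : Type*}
    [AddCommGroup V] [Module ℂ V] (ρ : Representation ℂ G V)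
    (hne : ∃ g, ρ.character g ≠ ρ.character 1) : Function.Injective ρ := by
  rcases IsSimpleGroup.eq_bot_or_eq_top_of_normal (MonoidHom.ker ρ) inferInstance with h | h
  · exact (MonoidHom.ker_eq_bot_iff ρ).1 h
  · exfalso
    obtain ⟨g, hg⟩ := hne
    apply hg
    have h1 : g ∈ MonoidHom.ker ρ := h ▸ Subgroup.mem_top g
    have h2 : ρ g = 1 := MonoidHom.mem_ker.1 h1
    show LinearMap.trace ℂ V (ρ g) = LinearMap.trace ℂ V (ρ 1)
    rw [h2, show ρ 1 = 1 from map_one ρ]

/-- **Main theorem.**  `K` embeds in `SL (a, ℂ)`, where `a` is the multiplicity of an eigenvalue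
of `x` in a nontrivial character `χ` with `χ (x ^ r * k) = χ (x ^ r)`. -/
theorem exists_hom_SL [IsSimpleGroup G] (hnc : ∃ a b : G, a * b ≠ b * a) {χ : G → ℂ}
    (hχ : IsCharacter G χ) (hne : ∃ g, χ g ≠ χ 1) {p : ℕ} (hp : p ≠ 0) {x : G} (hx : x ^ p = 1)
    (K : Subgroup G) [Finite K] (hcop : p.Coprime (Nat.card K)) (hcomm : ∀ k ∈ K, k * x = x * k)
    (hconst : ∀ r, 0 < r → r < p → ∀ k ∈ K, χ (x ^ r * k) = χ (x ^ r))
    {l : ℂ} (hl : l ^ p = 1) {a : ℕ} (ha : ∑ r ∈ range p, l ^ r * χ (x ^ r) = p * a) :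
    ∃ σ : K →* Matrix.SpecialLinearGroup (Fin a) ℂ, Function.Injective σ ∧
      ∀ k : K, (p : ℂ) * (σ k).1.trace = p * a + (χ k - χ 1) := by
  classical
  obtain ⟨n, ρ, rfl⟩ := hχ
  have hinj := injective_of_ne ρ hne
  have hm : Nat.card K ≠ 0 := Nat.card_pos.ne'
  have hX : (ρ x) ^ p = 1 := by rw [← map_pow, hx, map_one]
  have hli : (l⁻¹) ^ p = 1 := by rw [inv_pow, hl, inv_one]
  have hc : ∀ k : K, Commute (ρ x) (ρ (k : G)) := by
    intro k
    show ρ x * ρ (k : G) = ρ (k : G) * ρ x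
    rw [← map_mul, ← map_mul, hcomm k k.2]
  have hmain : ∀ k : K, _ := fun k => main_linear (ρ x) (ρ (k : G)) (hc k) hp hm hcop hX
    (by
      rw [← map_pow]
      have : (k : G) ^ Nat.card K = 1 := by
        have h1 : k ^ Nat.card K = 1 := pow_card_eq_one'
        rw [← Subgroup.coe_pow, h1, Subgroup.coe_one]
      rw [this, map_one])
    (by
      intro r h0 h1 s
      have := hconst r h0 h1 ((k : G) ^ s) (K.pow_mem k.2 s)
      rw [← map_pow, ← map_pow, ← map_mul]
      exact this)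
    (det_eq_one hnc ρ k) hli
  have hrank : finrank ℂ (Module.End.eigenspace (ρ x) l⁻¹) = a := by
    have h1 := (hmain 1).2.2.2
    have h2 : ∑ r ∈ range p, ((l⁻¹)⁻¹) ^ r * LinearMap.trace ℂ _ ((ρ x) ^ r) = p * a := by
      rw [← ha]
      refine Finset.sum_congr rfl fun r _ => ?_
      rw [inv_inv, ← map_pow]
      rfl
    rw [h2] at h1
    have h3 : (p : ℂ) ≠ 0 := by exact_mod_cast hp
    have h4 := mul_left_cancel₀ h3 h1
    exact_mod_cast h4
  let E := Module.End.eigenspace (ρ x) l⁻¹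
  let τ : K →* (E →ₗ[ℂ] E) :=
    { toFun := fun k => (ρ (k : G)).restrict (mapsTo_eigenspace (hc k) l⁻¹)
      map_one' := by
        ext v
        simp [LinearMap.coe_restrict_apply]
      map_mul' := by
        intro k k'
        ext v
        simp [LinearMap.coe_restrict_apply] }
  let e : Basis (Fin a) ℂ E := Module.finBasisOfFinrankEq ℂ E hrank
  have hdτ : ∀ k, (LinearMap.toMatrixAlgEquiv e (τ k)).det = 1 := by
    intro k
    have h1 : LinearMap.det (τ k) = 1 := (hmain k).1
    rw [← LinearMap.det_toMatrix e] at h1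
    exact h1
  let σ : K →* Matrix.SpecialLinearGroup (Fin a) ℂ :=
    { toFun := fun k => ⟨LinearMap.toMatrixAlgEquiv e (τ k), hdτ k⟩
      map_one' := by
        ext i j
        simp
      map_mul' := by
        intro k k'
        apply Subtype.ext
        show LinearMap.toMatrixAlgEquiv e (τ (k * k')) =
          LinearMap.toMatrixAlgEquiv e (τ k) * LinearMap.toMatrixAlgEquiv e (τ k')
        rw [map_mul, map_mul] }
  have hσ : ∀ k, (σ k).1 = LinearMap.toMatrixAlgEquiv e (τ k) := fun k => rfl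
  refine ⟨σ, ?_, fun k => ?_⟩
  · rw [← MonoidHom.ker_eq_bot_iff, eq_bot_iff]
    intro k hk
    have h1 : (σ k).1 = 1 := by rw [MonoidHom.mem_ker.1 hk]; rfl
    rw [hσ] at h1
    have h2 : τ k = 1 := by
      apply (LinearMap.toMatrixAlgEquiv e).injective
      rw [h1, map_one]
    have h3 : ∀ v ∈ Module.End.eigenspace (ρ x) l⁻¹, ρ (k : G) v = v := by
      intro v hv
      have h4 := congrArg (fun B : E →ₗ[ℂ] E => ((B ⟨v, hv⟩ : E) : Fin n → ℂ)) h2
      simpa [τ, LinearMap.coe_restrict_apply] using h4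
    have h4 := (hmain k).2.1 h3
    rw [Subgroup.mem_bot]
    apply Subtype.ext
    apply hinj
    rw [h4]
    simp
  · have h1 := (hmain k).2.2.1
    rw [hσ]
    have h2 : (LinearMap.toMatrixAlgEquiv e (τ k)).trace = LinearMap.trace ℂ E (τ k) :=
      (LinearMap.trace_eq_matrix_trace ℂ e (τ k)).symm
    rw [h2]
    have h3 : ρ.character 1 = finrank ℂ (Fin n → ℂ) := Representation.char_one ρ
    rw [h3, ← hrank]
    exact h1

theorem eq_bot_of_injective {K : Subgroup G} {a : ℕ} (ha : a ≤ 1)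
    (σ : K →* Matrix.SpecialLinearGroup (Fin a) ℂ) (hσ : Function.Injective σ) : K = ⊥ := by
  have hs : Subsingleton (Fin a) := Fin.subsingleton_iff_le_one.2 ha
  rw [Subgroup.eq_bot_iff_forall]
  intro k hk
  have h1 : σ ⟨k, hk⟩ = σ 1 := Subsingleton.elim _ _
  have h2 := hσ h1
  have h3 := congrArg (fun t : K => (t : G)) h2
  simpa using h3

/-- The value of the character at an involution of `K`. -/
theorem value_involution {χ : G → ℂ} {p : ℕ} {K : Subgroup G} {a : ℕ}
    (σ : K →* Matrix.SpecialLinearGroup (Fin a) ℂ) (hσ : Function.Injective σ)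
    (hv : ∀ k : K, (p : ℂ) * (σ k).1.trace = p * a + (χ k - χ 1))
    {t : G} (ht : t ∈ K) (ht2 : t * t = 1) (ht1 : t ≠ 1) :
    ∃ m : ℕ, 0 < m ∧ 2 * m ≤ a ∧ χ t = χ 1 - 4 * p * m := by
  have h1 : (σ ⟨t, ht⟩).1 * (σ ⟨t, ht⟩).1 = 1 := by
    rw [← Matrix.SpecialLinearGroup.coe_mul, ← map_mul]
    have h2 : (⟨t, ht⟩ * ⟨t, ht⟩ : K) = 1 := Subtype.ext ht2
    rw [h2, map_one]; rfl
  have h3 : (σ ⟨t, ht⟩).1 ≠ 1 := by
    intro h4
    apply ht1
    have h5 : σ ⟨t, ht⟩ = σ 1 := by
      apply Subtype.ext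
      rw [h4, map_one]; rfl
    have h6 := congrArg (fun t : K => (t : G)) (hσ h5)
    simpa using h6
  obtain ⟨m, hm, hma, htr⟩ := trace_involution _ h1 (σ ⟨t, ht⟩).2 h3
  refine ⟨m, hm, hma, ?_⟩
  have h7 := hv ⟨t, ht⟩
  rw [htr] at h7
  linear_combination -h7

/-! ### Versions for a Sylow subgroup of prime order -/

variable {p : ℕ} [Fact p.Prime]

omit [Fact p.Prime] in
theorem pow_ne_one_of_lt {x : G} (hx : orderOf x = p) {r : ℕ} (h0 : 0 < r) (hr : r < p) :
    x ^ r ≠ 1 := by
  intro h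
  have h1 := orderOf_dvd_of_pow_eq_one h
  rw [hx] at h1
  exact absurd (Nat.le_of_dvd h0 h1) (not_le.2 hr)

theorem exists_generator [Finite G] (P : Sylow p G) (hP : Nat.card P = p) :
    ∃ x ∈ P, orderOf x = p := by
  have hp : Fact p.Prime := inferInstance
  obtain ⟨x, hx⟩ := exists_prime_orderOf_dvd_card' (G := P) p (by rw [hP])
  exact ⟨x, x.2, by rw [Subgroup.orderOf_coe, hx]⟩

theorem not_dvd_orderOf [Finite G] {K : Subgroup G} (hcop : p.Coprime (Nat.card K)) {k : G}
    (hk : k ∈ K) : ¬ p ∣ orderOf k := by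
  intro h
  have h1 : orderOf k ∣ Nat.card K := by
    have := orderOf_dvd_natCard (⟨k, hk⟩ : K)
    rwa [Subgroup.orderOf_mk] at this
  exact (Nat.Prime.coprime_iff_not_dvd Fact.out).1 hcop (h.trans h1)

/-- `χ` takes the constant value `δ ∈ {0, 1, -1}` on `x * y`, `x ∈ P` nontrivial, `y ∈ C(P)` of
order prime to `p` (nonexceptional characters of the principal block, defect zero characters).
If `χ 1 = p a + δ` (`δ = 0, 1`), resp. `χ 1 = p (a + 1) - 1` (`δ = -1`), every `p'`-subgroup of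
`C(P)` embeds in `SL (a, ℂ)`. -/
theorem exists_hom_SL_of_const [Finite G] [IsSimpleGroup G] (hnc : ∃ a b : G, a * b ≠ b * a)
    (P : Sylow p G) (hP : Nat.card P = p) {χ : G → ℂ} (hχ : IsCharacter G χ)
    (hne : ∃ g, χ g ≠ χ 1) {δ : ℤ}
    (hval : ∀ x ∈ P, x ≠ 1 → ∀ y ∈ Subgroup.centralizer (P : Set G), ¬ p ∣ orderOf y →
      χ (x * y) = δ) {a : ℕ}
    (ha : ((δ = 0 ∨ δ = 1) ∧ χ 1 = p * a + δ) ∨ (δ = -1 ∧ χ 1 + 1 = p * (a + 1)))
    (K : Subgroup G) (hK : K ≤ Subgroup.centralizer (P : Set G)) (hcop : p.Coprime (Nat.card K)) :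
    ∃ σ : K →* Matrix.SpecialLinearGroup (Fin a) ℂ, Function.Injective σ ∧
      ∀ k : K, (p : ℂ) * (σ k).1.trace = p * a + (χ k - χ 1) := by
  have hp : p.Prime := Fact.out
  obtain ⟨x, hxP, hx⟩ := exists_generator P hP
  have hconst : ∀ r, 0 < r → r < p → ∀ k ∈ K, χ (x ^ r * k) = δ := fun r h0 hr k hk =>
    hval (x ^ r) (P.pow_mem hxP r) (pow_ne_one_of_lt hx h0 hr) k (hK hk) (not_dvd_orderOf hcop hk)
  have hconst1 : ∀ r, 0 < r → r < p → χ (x ^ r) = δ := fun r h0 hr => by
    have := hconst r h0 hr 1 K.one_mem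
    rwa [mul_one] at this
  have hcomm : ∀ k ∈ K, k * x = x * k := fun k hk =>
    ((Subgroup.mem_centralizer_iff.1 (hK hk)) x hxP).symm
  have hsum : ∀ l : ℂ, ∑ r ∈ range p, l ^ r * χ (x ^ r) =
      χ 1 - δ + δ * ∑ r ∈ range p, l ^ r := by
    intro l
    have h0 : 0 ∈ range p := Finset.mem_range.2 hp.pos
    rw [← Finset.add_sum_erase _ _ h0, ← Finset.add_sum_erase _ _ h0]
    rw [Finset.sum_congr rfl (g := fun r => l ^ r * (δ : ℂ)) (fun r hr => by
      rw [hconst1 r (Nat.pos_of_ne_zero (Finset.ne_of_mem_erase hr))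
        (Finset.mem_range.1 (Finset.mem_of_mem_erase hr))])]
    rw [← Finset.sum_mul]
    simp only [pow_zero, one_mul]
    ring
  have hxp : x ^ p = 1 := by rw [← hx, pow_orderOf_eq_one]
  rcases ha with ⟨-, ha⟩ | ⟨hδ, ha⟩
  · have hζ := Complex.isPrimitiveRoot_exp p hp.ne_zero
    have hζ1 := hζ.ne_one hp.one_lt
    refine exists_hom_SL hnc hχ hne hp.ne_zero hxp K hcop hcomm
      (fun r h0 hr k hk => by rw [hconst r h0 hr k hk, hconst1 r h0 hr]) hζ.pow_eq_one ?_
    rw [hsum, sum_pow_eq_zero hζ.pow_eq_one hζ1, ha]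
    ring
  · refine exists_hom_SL hnc hχ hne hp.ne_zero hxp K hcop hcomm
      (fun r h0 hr k hk => by rw [hconst r h0 hr k hk, hconst1 r h0 hr]) (one_pow p) ?_
    rw [hsum, hδ]
    simp only [one_pow, Finset.sum_const, Finset.card_range, nsmul_eq_mul, mul_one]
    push_cast
    linear_combination ha

/-- Exceptional characters of the principal block. -/
theorem exists_hom_SL_of_sum [Finite G] [IsSimpleGroup G] (hnc : ∃ a b : G, a * b ≠ b * a)
    (P : Sylow p G) (hP : Nat.card P = p) {χ : G → ℂ} (hχ : IsCharacter G χ)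
    (hne : ∃ g, χ g ≠ χ 1) {d : ℤ} (S : Finset (P →* ℂˣ)) (hS1 : 1 ∉ S) (hS : S.Nonempty)
    (hval : ∀ x : P, x ≠ 1 → ∀ y ∈ Subgroup.centralizer (P : Set G), ¬ p ∣ orderOf y →
      χ (x * y) = d * ∑ l ∈ S, (l x : ℂ)) {a : ℕ}
    (ha : (d = 1 ∧ χ 1 = p * a + #S) ∨ (d = -1 ∧ χ 1 + #S = p * (a + 1)))
    (K : Subgroup G) (hK : K ≤ Subgroup.centralizer (P : Set G)) (hcop : p.Coprime (Nat.card K)) :
    ∃ σ : K →* Matrix.SpecialLinearGroup (Fin a) ℂ, Function.Injective σ ∧
      ∀ k : K, (p : ℂ) * (σ k).1.trace = p * a + (χ k - χ 1) := by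
  classical
  have hp : p.Prime := Fact.out
  obtain ⟨x, hxP, hx⟩ := exists_generator P hP
  have hxp : x ^ p = 1 := by rw [← hx, pow_orderOf_eq_one]
  let x' : P := ⟨x, hxP⟩
  have hx'p : x' ^ p = 1 := Subtype.ext hxp
  have hne1 : ∀ r, 0 < r → r < p → x' ^ r ≠ 1 := by
    intro r h0 hr h
    apply pow_ne_one_of_lt hx h0 hr
    have := congrArg (fun t : P => (t : G)) h
    simpa using this
  have hgen : ∀ y : P, ∃ r : ℕ, x' ^ r = y := by
    intro y
    have h1 : orderOf x' = p := (Subgroup.orderOf_mk x hxP).trans hx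
    have h2 : Subgroup.zpowers x' = ⊤ := Subgroup.eq_top_of_card_eq _
      ((Nat.card_zpowers x').trans (h1.trans hP.symm))
    have h3 : y ∈ Subgroup.zpowers x' := h2 ▸ Subgroup.mem_top y
    exact (mem_powers_iff_mem_zpowers.2 h3)
  have hinj : ∀ l l' : P →* ℂˣ, l x' = l' x' → l = l' := by
    intro l l' h
    ext y
    obtain ⟨r, rfl⟩ := hgen y
    rw [map_pow, map_pow, h]
  have hconst : ∀ r, 0 < r → r < p → ∀ k ∈ K, χ (x ^ r * k) = d * ∑ l ∈ S, ((l x' : ℂˣ) : ℂ) ^ r := by
    intro r h0 hr k hk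
    have h1 := hval (x' ^ r) (hne1 r h0 hr) k (hK hk) (not_dvd_orderOf hcop hk)
    rw [show ((x' ^ r : P) : G) = x ^ r from rfl] at h1
    rw [h1]
    congr 1
    refine Finset.sum_congr rfl fun l _ => ?_
    rw [map_pow]
    push_cast
    rfl
  have hconst1 : ∀ r, 0 < r → r < p → χ (x ^ r) = d * ∑ l ∈ S, ((l x' : ℂˣ) : ℂ) ^ r :=
    fun r h0 hr => by
      have := hconst r h0 hr 1 K.one_mem
      rwa [mul_one] at this
  have hcomm : ∀ k ∈ K, k * x = x * k := fun k hk =>
    ((Subgroup.mem_centralizer_iff.1 (hK hk)) x hxP).symm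
  have hsum : ∀ l₀ : ℂ, ∑ r ∈ range p, l₀ ^ r * χ (x ^ r) =
      χ 1 - d * #S + d * ∑ l ∈ S, ∑ r ∈ range p, (l₀ * ((l x' : ℂˣ) : ℂ)) ^ r := by
    intro l₀
    have h0 : 0 ∈ range p := Finset.mem_range.2 hp.pos
    rw [Finset.sum_comm, ← Finset.add_sum_erase _ _ h0, ← Finset.add_sum_erase _ _ h0]
    rw [Finset.sum_congr rfl (g := fun r => (d : ℂ) * ∑ l ∈ S, (l₀ * ((l x' : ℂˣ) : ℂ)) ^ r)
      (fun r hr => by
        rw [hconst1 r (Nat.pos_of_ne_zero (Finset.ne_of_mem_erase hr))
          (Finset.mem_range.1 (Finset.mem_of_mem_erase hr)), mul_left_comm]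
        congr 1
        rw [Finset.mul_sum]
        exact Finset.sum_congr rfl fun l _ => by rw [mul_pow])]
    rw [← Finset.mul_sum]
    simp only [pow_zero, one_mul, Finset.sum_const, nsmul_eq_mul, mul_one]
    ring
  have hpow : ∀ l : P →* ℂˣ, ((l x' : ℂˣ) : ℂ) ^ p = 1 := by
    intro l
    have : (l x') ^ p = 1 := by rw [← map_pow, hx'p, map_one]
    rw [← Units.val_pow_eq_pow_val, this, Units.val_one]
  rcases ha with ⟨hd, ha⟩ | ⟨hd, ha⟩
  · refine exists_hom_SL hnc hχ hne hp.ne_zero hxp K hcop hcomm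
      (fun r h0 hr k hk => by rw [hconst r h0 hr k hk, hconst1 r h0 hr]) (one_pow p) ?_
    rw [hsum, Finset.sum_eq_zero, ha, hd]
    · push_cast
      ring
    · intro l hl
      apply sum_pow_eq_zero
      · rw [one_mul, hpow]
      · rw [one_mul]
        intro h
        apply hS1
        have h1 : l = 1 := by
          apply hinj
          apply Units.ext
          rw [h]
          rfl
        rwa [h1] at hl
  · obtain ⟨l₀, hl₀⟩ := hS
    have h0 : ((l₀ x' : ℂˣ) : ℂ) ≠ 0 := (l₀ x').ne_zero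
    have hl0p : ((l₀ x' : ℂˣ) : ℂ)⁻¹ ^ p = 1 := by rw [inv_pow, hpow, inv_one]
    refine exists_hom_SL hnc hχ hne hp.ne_zero hxp K hcop hcomm
      (fun r h0 hr k hk => by rw [hconst r h0 hr k hk, hconst1 r h0 hr]) hl0p ?_
    rw [hsum, Finset.sum_eq_single l₀]
    · rw [inv_mul_cancel₀ h0, hd]
      simp only [one_pow, Finset.sum_const, Finset.card_range, nsmul_eq_mul, mul_one]
      push_cast
      linear_combination ha
    · intro l _ hl
      apply sum_pow_eq_zero
      · rw [mul_pow, hl0p, hpow, one_mul]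
      · intro h
        apply hl
        apply hinj
        apply Units.ext
        have := congrArg (fun t => ((l₀ x' : ℂˣ) : ℂ) * t) h
        simpa [← mul_assoc, mul_inv_cancel₀ h0] using this
    · intro h
      exact absurd hl₀ h

/-- If all `p'`-subgroups of `C(P)` are trivial then `C(P) = P`. -/
theorem centralizer_eq [Finite G] (P : Sylow p G) (hP : Nat.card P = p)
    (h : ∀ K : Subgroup G, K ≤ Subgroup.centralizer (P : Set G) → p.Coprime (Nat.card K) →
      K = ⊥) : Subgroup.centralizer (P : Set G) = P := by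
  have hp : p.Prime := Fact.out
  have hcomm : ∀ a ∈ (P : Subgroup G), ∀ b ∈ (P : Subgroup G), a * b = b * a := by
    have hcyc : IsCyclic P := isCyclic_of_prime_card hP
    intro a ha b hb
    have hc : ∀ u v : P, u * v = v * u := (IsCyclic.commGroup (α := P)).mul_comm
    have := congrArg (fun t : P => (t : G)) (hc ⟨a, ha⟩ ⟨b, hb⟩)
    simpa using this
  have hle : (P : Subgroup G) ≤ Subgroup.centralizer (P : Set G) := by
    intro a ha
    rw [Subgroup.mem_centralizer_iff]
    intro b hb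
    exact hcomm b hb a ha
  have hnd : ¬ p ∣ (P : Subgroup G).relIndex (Subgroup.centralizer (P : Set G)) := by
    intro hd
    exact P.not_dvd_index (hd.trans (Subgroup.relIndex_dvd_index_of_le hle))
  have hcard : Nat.card (Subgroup.centralizer (P : Set G)) =
      p * (P : Subgroup G).relIndex (Subgroup.centralizer (P : Set G)) := by
    have h1 := Subgroup.card_mul_index ((P : Subgroup G).subgroupOf (Subgroup.centralizer (P : Set G)))
    rw [← h1, Nat.card_congr (Subgroup.subgroupOfEquivOfLe hle).toEquiv, hP]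
    rfl
  have hone : (P : Subgroup G).relIndex (Subgroup.centralizer (P : Set G)) = 1 := by
    by_contra hne
    obtain ⟨q, hq, hqd⟩ := Nat.exists_prime_and_dvd hne
    have : Fact q.Prime := ⟨hq⟩
    obtain ⟨y, hy⟩ := exists_prime_orderOf_dvd_card' (G := Subgroup.centralizer (P : Set G)) q
      (hcard ▸ Dvd.dvd.mul_left hqd p)
    have hqp : p ≠ q := by
      rintro rfl
      exact hnd hqd
    have h1 := h (Subgroup.zpowers (y : G)) (by
      rw [Subgroup.zpowers_le]
      exact y.2) (by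
      rw [Nat.card_zpowers, Subgroup.orderOf_coe, hy]
      exact (Nat.coprime_primes hp hq).2 hqp)
    rw [Subgroup.zpowers_eq_bot] at h1
    rw [← Subgroup.orderOf_coe, h1, orderOf_one] at hy
    exact hq.one_lt.ne hy
  refine le_antisymm ?_ hle
  exact Subgroup.relIndex_eq_one.1 hone

end group

end Cfsg.Agent.SmallSimple.DetKernel
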