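import Mathlib

/-!
Sylow `p`-subgroups of prime order: fixed points on sets of Sylow subgroups.
-/

set_option autoImplicit false

namespace Cfsg.Agent.SmallSimple.SylowPrime

open Subgroup MulAction

variable {G : Type*} [Group G]

/-- If `P` has prime order and `v ∈ P`, `v ≠ 1`, then every element of `P` is a power of `v`. -/
theorem mem_zpowers_of_card_prime {p : ℕ} (hp : p.Prime) {P : Subgroup G} (hP : Nat.card P = p)
    {v u : G} (hv : v ∈ P) (hv1 : v ≠ 1) (hu : u ∈ P) : u ∈ zpowers v := by
  haveI := Fact.mk hp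
  have h : (⟨u, hu⟩ : P) ∈ zpowers (⟨v, hv⟩ : P) :=
    mem_zpowers_of_prime_card hP (by simpa [Subtype.ext_iff] using hv1)
  obtain ⟨k, hk⟩ := mem_zpowers_iff.1 h
  exact mem_zpowers_iff.2 ⟨k, by simpa [Subtype.ext_iff] using hk⟩

/-- If `x` normalizes but does not centralize `P` of prime order, then `x` fixes at most one
point in each `P`-orbit. -/
theorem smul_eq_of_fixed {X : Type*} [MulAction G X] {p : ℕ} (hp : p.Prime) {P : Subgroup G}
    (hP : Nat.card P = p) {x : G} (hxN : x ∈ normalizer (P : Set G))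
    (hxC : x ∉ centralizer (P : Set G)) {ω : X} {u : G} (hu : u ∈ P)
    (h1 : x • ω = ω) (h2 : x • u • ω = u • ω) : u • ω = ω := by
  have hv : u⁻¹ * (x⁻¹ * u * x) ∈ P := by
    refine P.mul_mem (P.inv_mem hu) ?_
    have := (mem_normalizer_iff.1 (inv_mem hxN) u).1 hu
    simpa using this
  have hvω : (u⁻¹ * (x⁻¹ * u * x)) • ω = ω := by
    rw [mul_smul, mul_smul, mul_smul, h1, ← h2, inv_smul_smul, inv_smul_eq_iff]
  by_cases hv1 : u⁻¹ * (x⁻¹ * u * x) = 1
  · have hcomm : x * u = u * x := by
      have h3 : x⁻¹ * u * x = u := by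
        have := congrArg (u * ·) hv1
        simpa using this
      calc x * u = x * (x⁻¹ * u * x) := by rw [h3]
        _ = u * x := by group
    by_cases hu1 : u = 1
    · simp [hu1]
    · exfalso
      apply hxC
      rw [mem_centralizer_iff]
      intro w hw
      obtain ⟨k, rfl⟩ := mem_zpowers_iff.1 (mem_zpowers_of_card_prime hp hP hu hu1 hw)
      exact ((show Commute u x from hcomm.symm).zpow_left k).eq
  · have huz := mem_zpowers_of_card_prime hp hP hv hv1 hu
    obtain ⟨k, hk⟩ := mem_zpowers_iff.1 huz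
    have : (u⁻¹ * (x⁻¹ * u * x)) ∈ stabilizer G ω := hvω
    have h4 := zpow_mem this k
    rw [hk] at h4
    exact h4

/-- If `x` normalizes but does not centralize `P` of prime order, then `x` fixes at most as many
points as there are `P`-orbits. -/
theorem card_fixedBy_le_card_orbits {X : Type*} [MulAction G X] [Finite X] {p : ℕ} (hp : p.Prime)
    {P : Subgroup G} (hP : Nat.card P = p) {x : G} (hxN : x ∈ normalizer (P : Set G))
    (hxC : x ∉ centralizer (P : Set G)) :
    Nat.card (fixedBy X x) ≤ Nat.card (orbitRel.Quotient P X) := by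
  refine Nat.card_le_card_of_injective
    (fun ω : fixedBy X x => (Quotient.mk _ ω.1 : orbitRel.Quotient P X)) ?_
  rintro ⟨a, ha⟩ ⟨b, hb⟩ hab
  have hab' := Quotient.exact hab
  obtain ⟨⟨u, hu⟩, hu2⟩ := hab'
  have hu2' : u • b = a := hu2
  have h1 : x • b = b := hb
  have h2 : x • a = a := ha
  have := smul_eq_of_fixed hp hP hxN hxC hu h1 (by rw [hu2', h2])
  ext
  show a = b
  rw [← hu2', this]

/-- An element of order `p` (`|P| = p`) lies in the Sylow `p`-subgroups it normalizes. -/
theorem mem_of_mem_normalizer_sylow {p : ℕ} [hp : Fact p.Prime] {P : Sylow p G}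
    {y : G} (hy : orderOf y = p) (hyN : y ∈ normalizer (P : Set G)) : y ∈ P := by
  have h1 : IsPGroup p (zpowers y) := IsPGroup.of_card (n := 1) (by rw [Nat.card_zpowers, hy, pow_one])
  have h2 := h1.inf_normalizer_sylow P
  have h3 : y ∈ zpowers y ⊓ normalizer (P : Set G) := ⟨mem_zpowers y, hyN⟩
  rw [h2] at h3
  exact h3.2

theorem smul_sylow_eq_iff {p : ℕ} [hp : Fact p.Prime] {P : Sylow p G}
    (hP : Nat.card P = p) {y : G} (hy : orderOf y = p) : y • P = P ↔ (P : Subgroup G) = zpowers y := by
  rw [Sylow.smul_eq_iff_mem_normalizer]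
  constructor
  · intro h
    have h1 := mem_of_mem_normalizer_sylow hy h
    apply le_antisymm
    · intro u hu
      apply mem_zpowers_of_card_prime hp.out hP h1 _ hu
      rintro rfl
      rw [orderOf_one] at hy
      exact hp.out.one_lt.ne hy
    · rwa [zpowers_le]
  · intro h
    have : y ∈ (P : Subgroup G) := h ▸ mem_zpowers y
    exact le_normalizer this

end Cfsg.Agent.SmallSimple.SylowPrime
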