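import Mathlib
import Cfsg.Agent.SmallSimple.PrimeLocal
import Cfsg.Agent.SmallSimple.SylowPrime

/-!
# Counting the `p`-singular elements when the Sylow `p`-subgroups have order `p`
-/

set_option autoImplicit false
set_option linter.unusedSectionVars false

namespace Cfsg.Agent.SmallSimple.ElementCount

open Subgroup Cfsg.Agent.SmallSimple.PrimeLocal

variable {G : Type*} [Group G] [Finite G]

/-- If the Sylow `p`-subgroups have order `p` and their centralizers have order `p * c`, `c` prime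
to `p`, then there are at least `n_p * ((p - 1) * c)` elements `x` of order dividing `p * c`
with `x ^ c ≠ 1`. -/
theorem card_le {p c : ℕ} [hp : Fact p.Prime] (hP : ∀ P : Sylow p G, Nat.card P = p)
    (hC : ∀ P : Sylow p G, Nat.card (centralizer (P : Set G)) = p * c) :
    Nat.card (Sylow p G) * ((p - 1) * c) ≤
      Nat.card {x : G // x ^ c ≠ 1 ∧ orderOf x ∣ p * c} := by
  classical
  have hP' : ∀ P : Sylow p G, Nat.card (P : Subgroup G) = p := hP
  -- the set attached to one Sylow subgroup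
  have hone : ∀ P : Sylow p G,
      Nat.card {x : G // x ∈ centralizer (P : Set G) ∧ x ^ c ≠ 1} = (p - 1) * c := by
    intro P
    obtain ⟨K, hK1, hK2, hK3⟩ := exists_complement (P : Subgroup G)
      (comm_of_card_prime hp.out _ (hP' P)) (by
        rw [hP' P, hp.out.coprime_iff_not_dvd]; exact P.not_dvd_index)
    have hKc : Nat.card K = c := by
      have h1 : p * Nat.card K = p * c := by
        rw [← hC P]
        have := hK1
        rw [hP' P] at this
        exact this.symm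
      exact Nat.eq_of_mul_eq_mul_left hp.out.pos h1
    rw [hKc] at hK3
    have h1 : Nat.card {x : G // x ∈ centralizer (P : Set G) ∧ x ^ c ≠ 1} =
        Nat.card {x : centralizer (P : Set G) // ¬ (x : G) ^ c = 1} :=
      Nat.card_congr
        { toFun := fun x => ⟨⟨x.1, x.2.1⟩, x.2.2⟩
          invFun := fun x => ⟨x.1.1, x.1.2, x.2⟩
          left_inv := fun _ => rfl
          right_inv := fun _ => rfl }
    have h2 : Nat.card {x : centralizer (P : Set G) // (x : G) ^ c = 1} = c := by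
      refine Eq.trans ?_ hKc
      exact Nat.card_congr
        { toFun := fun x => ⟨x.1.1, (hK3 _).2 ⟨x.1.2, x.2⟩⟩
          invFun := fun x => ⟨⟨x.1, ((hK3 _).1 x.2).1⟩, ((hK3 _).1 x.2).2⟩
          left_inv := fun _ => rfl
          right_inv := fun _ => rfl }
    have : Fintype (centralizer (P : Set G)) := Fintype.ofFinite _
    have h3 := Nat.card_congr (Equiv.sumCompl (fun x : centralizer (P : Set G) => (x : G) ^ c = 1))
    rw [Nat.card_sum, h2, hC P] at h3
    rw [h1, Nat.sub_mul, one_mul]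
    omega
  -- the sets are disjoint
  have hmem : ∀ (P : Sylow p G) (x : G), x ∈ centralizer (P : Set G) → x ^ c ≠ 1 →
      (P : Subgroup G) = zpowers (x ^ c) := by
    intro P x hx hx1
    have h1 : orderOf (x ^ c) = p := by
      have h2 : (x ^ c) ^ p = 1 := by
        rw [← pow_mul, mul_comm, ← hC P]
        have := pow_card_eq_one' (x := (⟨x, hx⟩ : centralizer (P : Set G)))
        exact congrArg Subtype.val this
      exact orderOf_eq_prime h2 hx1
    have h2 : x ^ c ∈ normalizer (P : Set G) :=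
      Subgroup.centralizer_le_normalizer _ (pow_mem hx c)
    have h3 : x ^ c ∈ P := SylowPrime.mem_of_mem_normalizer_sylow h1 h2
    symm
    apply Subgroup.eq_of_le_of_card_ge
    · rw [zpowers_le]; exact h3
    · rw [hP' P, Nat.card_zpowers, h1]
  let f : (Σ P : Sylow p G, {x : G // x ∈ centralizer (P : Set G) ∧ x ^ c ≠ 1}) →
      {x : G // x ^ c ≠ 1 ∧ orderOf x ∣ p * c} := fun s => ⟨s.2.1, s.2.2.2, by
        rw [← hC s.1]
        exact Subgroup.orderOf_dvd_natCard _ s.2.2.1⟩
  have hf : Function.Injective f := by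
    rintro ⟨P, x, hx⟩ ⟨Q, y, hy⟩ hxy
    have h1 : x = y := congrArg Subtype.val hxy
    subst h1
    have h2 : P = Q := Sylow.ext ((hmem P x hx.1 hx.2).trans (hmem Q x hy.1 hy.2).symm)
    subst h2
    rfl
  have h1 := Nat.card_le_card_of_injective f hf
  have : Fintype (Sylow p G) := Fintype.ofFinite _
  rw [Nat.card_sigma] at h1
  simp only [hone] at h1
  rw [Finset.sum_const, Finset.card_univ, smul_eq_mul, ← Nat.card_eq_fintype_card] at h1
  exact h1

/-- Three disjoint sets of elements. -/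
theorem three_le (G : Type*) [Group G] [Finite G] (a₁ b₁ a₂ b₂ a₃ b₃ : ℕ)
    (h12 : Nat.gcd b₁ b₂ = 1) (h13 : Nat.gcd b₁ b₃ = 1) (h23 : Nat.gcd b₂ b₃ = 1) :
    Nat.card {x : G // x ^ a₁ ≠ 1 ∧ orderOf x ∣ b₁} +
      Nat.card {x : G // x ^ a₂ ≠ 1 ∧ orderOf x ∣ b₂} +
      Nat.card {x : G // x ^ a₃ ≠ 1 ∧ orderOf x ∣ b₃} < Nat.card G := by
  classical
  have key : ∀ (a b b' : ℕ) (x : G), Nat.gcd b b' = 1 → orderOf x ∣ b → orderOf x ∣ b' →
      x ^ a ≠ 1 → False := by
    intro a b b' x h h1 h2 h3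
    have h4 : orderOf x = 1 := Nat.eq_one_of_dvd_coprimes h h1 h2
    rw [orderOf_eq_one_iff] at h4
    exact h3 (by rw [h4, one_pow])
  let f : (({x : G // x ^ a₁ ≠ 1 ∧ orderOf x ∣ b₁} ⊕ {x : G // x ^ a₂ ≠ 1 ∧ orderOf x ∣ b₂}) ⊕
      {x : G // x ^ a₃ ≠ 1 ∧ orderOf x ∣ b₃}) → G :=
    Sum.elim (Sum.elim Subtype.val Subtype.val) Subtype.val
  have hf : Function.Injective f := by
    rintro ((⟨x, hx, hx'⟩ | ⟨x, hx, hx'⟩) | ⟨x, hx, hx'⟩) ((⟨y, hy, hy'⟩ | ⟨y, hy, hy'⟩) | ⟨y, hy, hy'⟩) hxy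
      <;> simp only [f, Sum.elim_inl, Sum.elim_inr] at hxy <;> subst hxy
    all_goals first
      | rfl
      | exact (key _ _ _ _ h12 hx' hy' hx).elim
      | exact (key _ _ _ _ h13 hx' hy' hx).elim
      | exact (key _ _ _ _ h23 hx' hy' hx).elim
      | exact (key _ _ _ _ h12 hy' hx' hx).elim
      | exact (key _ _ _ _ h13 hy' hx' hx).elim
      | exact (key _ _ _ _ h23 hy' hx' hx).elim
  have h1 : Nat.card (({x : G // x ^ a₁ ≠ 1 ∧ orderOf x ∣ b₁} ⊕ {x : G // x ^ a₂ ≠ 1 ∧ orderOf x ∣ b₂}) ⊕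
      {x : G // x ^ a₃ ≠ 1 ∧ orderOf x ∣ b₃}) < Nat.card G := by
    apply lt_of_le_of_ne (Nat.card_le_card_of_injective f hf)
    intro heq
    have hb : Function.Bijective f := (Nat.bijective_iff_injective_and_card f).2 ⟨hf, heq⟩
    obtain ⟨s, hs⟩ := hb.2 1
    rcases s with (⟨x, hx, hx'⟩ | ⟨x, hx, hx'⟩) | ⟨x, hx, hx'⟩ <;>
      simp only [f, Sum.elim_inl, Sum.elim_inr] at hs <;> exact hx (by rw [hs, one_pow])
  rwa [Nat.card_sum, Nat.card_sum] at h1

end Cfsg.Agent.SmallSimple.ElementCount
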