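import Mathlib

set_option autoImplicit false

/-! Klein four-subgroups of the dihedral group of order 8. -/

namespace Cfsg.Agent.SmallSimple.KleinDihedral

open Subgroup

/-- Klein four-groups: elementary criterion. -/
theorem isKleinFour_iff {V : Type*} [Group V] :
    IsKleinFour V ↔ Nat.card V = 4 ∧ ∀ x : V, x * x = 1 := by
  constructor
  · intro h
    exact ⟨h.card_four, fun x => IsKleinFour.mul_self x⟩
  · rintro ⟨h, h2⟩
    have hfin : Finite V := Nat.finite_of_card_ne_zero (by omega)
    refine ⟨h, ?_⟩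
    have hdvd : Monoid.exponent V ∣ 2 :=
      Monoid.exponent_dvd_of_forall_pow_eq_one (fun x => by rw [pow_two]; exact h2 x)
    rcases (Nat.dvd_prime Nat.prime_two).1 hdvd with h' | h'
    · exfalso
      have := Monoid.exp_eq_one_iff.1 h'
      have := Nat.card_of_subsingleton (1 : V)
      omega
    · exact h'

theorem isKleinFour_congr {V W : Type*} [Group V] [Group W] (e : V ≃* W) :
    IsKleinFour V ↔ IsKleinFour W := by
  rw [isKleinFour_iff, isKleinFour_iff, Nat.card_congr e.toEquiv]
  refine and_congr Iff.rfl ⟨fun h x => ?_, fun h x => ?_⟩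
  · apply e.symm.injective
    rw [map_mul, h, map_one]
  · apply e.injective
    rw [map_mul, h, map_one]

theorem finset_cases : ∀ s : Finset (DihedralGroup 4), s.card = 4 → (∀ x ∈ s, x * x = 1) →
    (∀ x ∈ s, ∀ y ∈ s, x * y ∈ s) →
    s = {1, DihedralGroup.r 2, DihedralGroup.sr 0, DihedralGroup.sr 2} ∨
    s = {1, DihedralGroup.r 2, DihedralGroup.sr 1, DihedralGroup.sr 3} := by
  decide +kernel

/-- The two Klein four-subgroups of `DihedralGroup 4`. -/
def K (i : ZMod 4) : Subgroup (DihedralGroup 4) where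
  carrier := {x | x = 1 ∨ x = DihedralGroup.r 2 ∨ x = DihedralGroup.sr i ∨
    x = DihedralGroup.sr (i + 2)}
  one_mem' := Or.inl rfl
  mul_mem' := by
    intro a b
    show (a = 1 ∨ a = DihedralGroup.r 2 ∨ a = DihedralGroup.sr i ∨ a = DihedralGroup.sr (i + 2)) →
      (b = 1 ∨ b = DihedralGroup.r 2 ∨ b = DihedralGroup.sr i ∨ b = DihedralGroup.sr (i + 2)) →
      (a * b = 1 ∨ a * b = DihedralGroup.r 2 ∨ a * b = DihedralGroup.sr i ∨
        a * b = DihedralGroup.sr (i + 2))
    revert i a b
    decide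
  inv_mem' := by
    intro a
    show (a = 1 ∨ a = DihedralGroup.r 2 ∨ a = DihedralGroup.sr i ∨ a = DihedralGroup.sr (i + 2)) →
      (a⁻¹ = 1 ∨ a⁻¹ = DihedralGroup.r 2 ∨ a⁻¹ = DihedralGroup.sr i ∨
        a⁻¹ = DihedralGroup.sr (i + 2))
    revert i a
    decide

theorem mem_K (i : ZMod 4) (x : DihedralGroup 4) : x ∈ K i ↔ (x = 1 ∨ x = DihedralGroup.r 2 ∨
    x = DihedralGroup.sr i ∨ x = DihedralGroup.sr (i + 2)) := Iff.rfl

theorem isKleinFour_K (i : ZMod 4) : IsKleinFour (K i) := by
  rw [isKleinFour_iff]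
  constructor
  · have h2 : Nat.card (K i) = ({1, DihedralGroup.r 2, DihedralGroup.sr i,
        DihedralGroup.sr (i + 2)} : Finset (DihedralGroup 4)).card :=
      Nat.subtype_card _ (fun x => by simp [mem_K])
    rw [h2]
    clear h2
    revert i
    decide
  · rintro ⟨x, hx⟩
    apply Subtype.ext
    show x * x = 1
    rw [mem_K] at hx
    revert i x
    decide

theorem eq_K (U : Subgroup (DihedralGroup 4)) (hU : IsKleinFour U) : U = K 0 ∨ U = K 1 := by
  classical
  rw [isKleinFour_iff] at hU
  obtain ⟨h1, h2⟩ := hU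
  let s : Finset (DihedralGroup 4) := Finset.univ.filter (· ∈ U)
  have hs : ∀ x, x ∈ s ↔ x ∈ U := fun x => by simp [s]
  have hcard : s.card = 4 := (Nat.subtype_card s hs).symm.trans h1
  rcases finset_cases s hcard
    (fun x hx => congrArg Subtype.val (h2 ⟨x, (hs x).1 hx⟩))
    (fun x hx y hy => (hs _).2 (U.mul_mem ((hs x).1 hx) ((hs y).1 hy))) with h | h
  · left
    ext x
    rw [← hs, h, mem_K]
    revert x
    decide
  · right
    ext x
    rw [← hs, h, mem_K]
    revert x
    decide

theorem K_zero_ne_K_one : K 0 ≠ K 1 := by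
  intro h
  have h1 : DihedralGroup.sr 0 ∈ K 0 := Or.inr (Or.inr (Or.inl rfl))
  rw [h, mem_K] at h1
  revert h1
  decide

/-- A group isomorphic to `DihedralGroup 4` has exactly two Klein four-subgroups. -/
theorem exists_pair {T : Type*} [Group T] (e : T ≃* DihedralGroup 4) :
    ∃ U₁ U₂ : Subgroup T, U₁ ≠ U₂ ∧ IsKleinFour U₁ ∧ IsKleinFour U₂ ∧
      ∀ U : Subgroup T, IsKleinFour U → U = U₁ ∨ U = U₂ := by
  refine ⟨(K 0).comap e.toMonoidHom, (K 1).comap e.toMonoidHom, ?_, ?_, ?_, ?_⟩
  · intro h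
    exact K_zero_ne_K_one (Subgroup.comap_injective (f := e.toMonoidHom) e.surjective h)
  · refine (isKleinFour_congr (e.subgroupMap _)).2 ?_
    rw [show ((K 0).comap e.toMonoidHom).map (e : T →* DihedralGroup 4) = K 0 from
      Subgroup.map_comap_eq_self_of_surjective e.surjective (K 0)]
    exact isKleinFour_K 0
  · refine (isKleinFour_congr (e.subgroupMap _)).2 ?_
    rw [show ((K 1).comap e.toMonoidHom).map (e : T →* DihedralGroup 4) = K 1 from
      Subgroup.map_comap_eq_self_of_surjective e.surjective (K 1)]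
    exact isKleinFour_K 1
  · intro U hU
    have h1 : IsKleinFour (U.map e.toMonoidHom) :=
      (isKleinFour_congr (e.subgroupMap U)).1 hU
    rcases eq_K _ h1 with h | h
    · left
      rw [← h, Subgroup.comap_map_eq_self_of_injective e.injective]
    · right
      rw [← h, Subgroup.comap_map_eq_self_of_injective e.injective]

end Cfsg.Agent.SmallSimple.KleinDihedral
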