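import Mathlib
import Cfsg.Agent.SmallSimple.Simple168

set_option autoImplicit false

namespace Cfsg.Agent.SmallSimple.Simple168Classes

open Subgroup MulAction Cfsg.Agent.SmallSimple.Simple168

/-! ### Non-abelian groups of order 8 -/

section Eight

variable {K : Type*} [Group K]

theorem card_center_eq_two (h8 : Nat.card K = 8) (hna : ¬ ∀ x y : K, x * y = y * x) :
    Nat.card (center K) = 2 := by
  have hfin : Finite K := Nat.finite_of_card_ne_zero (by rw [h8]; norm_num)
  have hp : IsPGroup 2 K := IsPGroup.of_card (n := 3) (by rw [h8]; norm_num)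
  have hnt : Nontrivial K := Finite.one_lt_card_iff_nontrivial.1 (by rw [h8]; norm_num)
  have hc : Nontrivial (center K) := hp.center_nontrivial
  have h1 : 1 < Nat.card (center K) := Finite.one_lt_card_iff_nontrivial.2 hc
  have h2 := (center K).card_mul_index
  rw [h8] at h2
  by_contra hne
  have h3 : (center K).index = 1 ∨ (center K).index = 2 := by
    have h4 : Nat.card (center K) ∣ 8 := ⟨_, h2.symm⟩
    have h5 : Nat.card (center K) ≤ 8 := Nat.le_of_dvd (by norm_num) h4
    generalize Nat.card (center K) = c at *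
    generalize (center K).index = d at *
    interval_cases c <;> omega
  have hcyc : IsCyclic (K ⧸ center K) := by
    rcases h3 with h3 | h3
    · have : Subsingleton (K ⧸ center K) := by
        rw [← Finite.card_le_one_iff_subsingleton]
        exact h3.le
      exact isCyclic_of_subsingleton
    · exact isCyclic_of_prime_card (p := 2) h3
  have hcomm := isMulCommutative_of_isCyclic_quotient_center_self (G := K)
  exact hna (fun x y => mul_comm' x y)

theorem orderOf_cases_eight (h8 : Nat.card K = 8) (hna : ¬ ∀ x y : K, x * y = y * x) (x : K) :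
    orderOf x = 1 ∨ orderOf x = 2 ∨ orderOf x = 4 := by
  have hfin : Finite K := Nat.finite_of_card_ne_zero (by rw [h8]; norm_num)
  have h1 : orderOf x ∣ 8 := h8 ▸ orderOf_dvd_natCard x
  have h2 : orderOf x ≠ 8 := by
    intro h2
    have hcyc : IsCyclic K := isCyclic_of_orderOf_eq_card x (by rw [h2, h8])
    apply hna
    let _ := hcyc.commGroup
    intro a b
    exact mul_comm a b
  have h3 : orderOf x ≤ 8 := Nat.le_of_dvd (by norm_num) h1
  generalize orderOf x = n at *
  interval_cases n <;> omega

theorem exists_orderOf_four (h8 : Nat.card K = 8) (hna : ¬ ∀ x y : K, x * y = y * x) :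
    ∃ x : K, orderOf x = 4 := by
  by_contra hcon
  push Not at hcon
  apply hna
  have hsq : ∀ x : K, x * x = 1 := by
    intro x
    rcases orderOf_cases_eight h8 hna x with h | h | h
    · rw [orderOf_eq_one_iff.1 h, one_mul]
    · rw [← pow_two, ← h, pow_orderOf_eq_one]
    · exact absurd h (hcon x)
  intro x y
  have h1 := hsq (x * y)
  have hx : x⁻¹ = x := inv_eq_of_mul_eq_one_right (hsq x)
  have hy : y⁻¹ = y := inv_eq_of_mul_eq_one_right (hsq y)
  calc x * y = (x * y)⁻¹ := (inv_eq_of_mul_eq_one_right h1).symm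
    _ = y⁻¹ * x⁻¹ := mul_inv_rev x y
    _ = y * x := by rw [hx, hy]

theorem zpowers_normal (h8 : Nat.card K = 8) {r : K} (hr : orderOf r = 4) :
    (zpowers r).Normal := by
  apply normal_of_index_eq_two
  have h := (zpowers r).card_mul_index
  rw [Nat.card_zpowers, hr, h8] at h
  omega

theorem mem_zpowers_four {r : K} (hr : orderOf r = 4) {y : K} (hy : y ∈ zpowers r) :
    y = 1 ∨ y = r ∨ y = r ^ 2 ∨ y = r ^ 3 := by
  classical
  have hfin : IsOfFinOrder r := by
    rw [← orderOf_pos_iff, hr]; norm_num
  rw [hfin.mem_zpowers_iff_mem_range_orderOf, hr] at hy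
  simp only [Finset.mem_image, Finset.mem_range] at hy
  obtain ⟨k, hk, rfl⟩ := hy
  interval_cases k
  · left; simp
  · right; left; simp
  · right; right; left; rfl
  · right; right; right; rfl

theorem conj_four (h8 : Nat.card K = 8) {r : K} (hr : orderOf r = 4) (g : K) :
    g * r * g⁻¹ = r ∨ g * r * g⁻¹ = r⁻¹ := by
  have hfin : Finite K := Nat.finite_of_card_ne_zero (by rw [h8]; norm_num)
  have h1 : g * r * g⁻¹ ∈ zpowers r := (zpowers_normal h8 hr).conj_mem r (mem_zpowers r) g
  have h2 : orderOf (g * r * g⁻¹) = 4 := by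
    rw [← hr]
    have e : g * r * g⁻¹ = MulAut.conj g r := rfl
    rw [e, MulEquiv.orderOf_eq]
  rcases mem_zpowers_four hr h1 with h | h | h | h
  · rw [h, orderOf_one] at h2; norm_num at h2
  · left; exact h
  · rw [h, orderOf_pow, hr] at h2; norm_num at h2
  · right
    rw [h]
    apply eq_inv_of_mul_eq_one_left
    have h4 : r ^ 4 = 1 := by rw [← hr, pow_orderOf_eq_one]
    rw [← pow_succ]; exact h4

theorem sq_mem_center (h8 : Nat.card K = 8) {r : K} (hr : orderOf r = 4) :
    r ^ 2 ∈ center K := by
  rw [mem_center_iff]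
  intro g
  have h4 : r ^ 4 = 1 := by rw [← hr, pow_orderOf_eq_one]
  have h1 : g * r ^ 2 * g⁻¹ = r ^ 2 := by
    have h2 : g * r ^ 2 * g⁻¹ = (g * r * g⁻¹) ^ 2 := by
      rw [conj_pow]
    rw [h2]
    rcases conj_four h8 hr g with h | h
    · rw [h]
    · rw [h, inv_pow]
      apply inv_eq_of_mul_eq_one_right
      rw [← pow_add]; exact h4
  calc g * r ^ 2 = g * r ^ 2 * g⁻¹ * g := by group
    _ = r ^ 2 * g := by rw [h1]

/-- In a non-abelian group of order 8, central elements different from 1 all coincide. -/
theorem center_unique (h8 : Nat.card K = 8) (hna : ¬ ∀ x y : K, x * y = y * x) {z w : K}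
    (hz : z ∈ center K) (hz1 : z ≠ 1) (hw : w ∈ center K) (hw1 : w ≠ 1) : z = w := by
  have h := card_center_eq_two h8 hna
  rw [Nat.card_eq_two_iff' (1 : center K)] at h
  obtain ⟨u, -, hu⟩ := h
  have h1 := hu ⟨z, hz⟩ (fun e => hz1 (congrArg Subtype.val e))
  have h2 := hu ⟨w, hw⟩ (fun e => hw1 (congrArg Subtype.val e))
  exact congrArg Subtype.val (h1.trans h2.symm)

theorem orderOf_of_mem_center (h8 : Nat.card K = 8) (hna : ¬ ∀ x y : K, x * y = y * x) {z : K}
    (hz : z ∈ center K) (hz1 : z ≠ 1) : orderOf z = 2 := by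
  have hfin : Finite K := Nat.finite_of_card_ne_zero (by rw [h8]; norm_num)
  obtain ⟨r, hr⟩ := exists_orderOf_four h8 hna
  have h1 : r ^ 2 ≠ 1 := by
    intro h
    have := orderOf_dvd_of_pow_eq_one h
    rw [hr] at this
    revert this; decide
  rw [center_unique h8 hna hz hz1 (sq_mem_center h8 hr) h1, orderOf_pow, hr]
  norm_num

/-- A non-abelian group of order 8 with a non-central involution is dihedral. -/
theorem nonempty_dihedral (h8 : Nat.card K = 8) (hna : ¬ ∀ x y : K, x * y = y * x)
    {r s : K} (hr : orderOf r = 4) (hs : orderOf s = 2) (hsr : s ∉ zpowers r) :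
    Nonempty (K ≃* DihedralGroup 4) := by
  have hss : s * s = 1 := by rw [← pow_two, ← hs, pow_orderOf_eq_one]
  have hsi : s⁻¹ = s := inv_eq_of_mul_eq_one_right hss
  refine Cfsg.Agent.Lib.Dihedral.nonempty_mulEquiv (by norm_num) r s hr hss ?_ hsr (by rw [h8])
  rcases conj_four h8 hr s with h | h
  · exfalso
    -- `s` commutes with `r`, so `K` is abelian
    have hcomm : s * r = r * s := by
      calc s * r = s * r * s⁻¹ * s := by group
        _ = r * s := by rw [h]
    have hcen : centralizer ({r} : Set K) = ⊤ := by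
      have hle : zpowers r ≤ centralizer ({r} : Set K) := by
        rw [zpowers_le, mem_centralizer_singleton_iff]
      have hfin : Finite K := Nat.finite_of_card_ne_zero (by rw [h8]; norm_num)
      have hsc : s ∈ centralizer ({r} : Set K) := by
        rw [mem_centralizer_singleton_iff]
        exact hcomm
      have hlt : zpowers r < centralizer ({r} : Set K) := lt_of_le_of_ne hle (by
        intro e
        rw [← e] at hsc
        exact hsr hsc)
      have h2 : Nat.card (zpowers r) < Nat.card (centralizer ({r} : Set K)) := by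
        exact Set.Finite.card_lt_card (Set.toFinite _) hlt
      rw [Nat.card_zpowers, hr] at h2
      have h3 : Nat.card (centralizer ({r} : Set K)) ∣ 8 := h8 ▸ card_subgroup_dvd_card _
      have h4 : Nat.card (centralizer ({r} : Set K)) = 8 := by
        have := Nat.le_of_dvd (by norm_num) h3
        generalize Nat.card (centralizer ({r} : Set K)) = c at *
        interval_cases c <;> omega
      exact (Subgroup.card_eq_iff_eq_top _).1 (by rw [h4, h8])
    have hrc : r ∈ center K := by
      rw [mem_center_iff]
      intro g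
      have hg : g ∈ centralizer ({r} : Set K) := hcen ▸ mem_top g
      rw [mem_centralizer_singleton_iff] at hg
      exact hg
    have h5 := orderOf_of_mem_center h8 hna hrc (by
      intro e; rw [e, orderOf_one] at hr; norm_num at hr)
    omega
  · rw [← h, hsi]

end Eight

/-! ### Simple groups of order 168 -/

section Main

variable {G : Type*} [Group G] [Finite G] [IsSimpleGroup G]

theorem not_comm' (h : Nat.card G = 168) (T : Sylow 2 G) :
    ¬ ∀ x y : (T : Subgroup G), x * y = y * x := by
  intro h1
  apply sylow_two_not_comm h T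
  intro x hx y hy
  exact congrArg Subtype.val (h1 ⟨x, hx⟩ ⟨y, hy⟩)

/-- A subgroup of order 8 is a Sylow 2-subgroup. -/
theorem exists_sylow_of_card_eight {G : Type*} [Group G] [Finite G] (h : Nat.card G = 168) (H : Subgroup G) (hH : Nat.card H = 8) :
    ∃ T : Sylow 2 G, (T : Subgroup G) = H := by
  have hp : IsPGroup 2 H := IsPGroup.of_card (n := 3) (by rw [hH]; norm_num)
  obtain ⟨T, hT⟩ := hp.exists_le_sylow
  exact ⟨T, (Subgroup.eq_of_le_of_card_ge hT (by rw [hH, card_of_sylow_two h])).symm⟩

/-- The centralizer of a non-trivial central element of a Sylow 2-subgroup `T` is `T`. -/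
theorem centralizer_eq_of_central (h : Nat.card G = 168) (T : Sylow 2 G) (z : G)
    (hz : z ∈ (T : Subgroup G)) (hz1 : z ≠ 1) (hc : ∀ t ∈ (T : Subgroup G), t * z = z * t) :
    centralizer ({z} : Set G) = T := by
  have h1 : (T : Subgroup G) ≤ centralizer ({z} : Set G) := by
    intro t ht
    rw [mem_centralizer_singleton_iff]
    have := hc t ht
    exact this
  have h2 : 2 ∣ orderOf z := by
    have h3 : orderOf z ∣ 2 ^ 3 := by
      have := orderOf_dvd_natCard (⟨z, hz⟩ : (T : Subgroup G))
      rw [card_of_sylow_two h] at this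
      rw [← Subgroup.orderOf_coe] at this
      exact this
    obtain ⟨k, hk, hk2⟩ := (Nat.dvd_prime_pow Nat.prime_two).1 h3
    rw [hk2]
    rcases k with _ | k
    · exfalso
      apply hz1
      rw [pow_zero] at hk2
      exact orderOf_eq_one_iff.1 hk2
    · exact dvd_pow_self 2 (by omega)
  symm
  apply Subgroup.eq_of_le_of_card_ge h1
  rw [card_of_sylow_two h]
  exact Nat.le_of_dvd (by norm_num) (card_centralizer_dvd_eight h z h2)

theorem mem_sylow_of_card_centralizer (h : Nat.card G = 168) (x : G)
    (hx : Nat.card (centralizer ({x} : Set G)) = 8) (hx1 : x ≠ 1) : orderOf x = 2 := by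
  obtain ⟨T, hT⟩ := exists_sylow_of_card_eight h _ hx
  have hxT : x ∈ (T : Subgroup G) := by
    rw [hT, mem_centralizer_singleton_iff]
  have hcen : (⟨x, hxT⟩ : (T : Subgroup G)) ∈ center (T : Subgroup G) := by
    rw [mem_center_iff]
    rintro ⟨g, hg⟩
    apply Subtype.ext
    have hg' := hg
    rw [hT, mem_centralizer_singleton_iff] at hg'
    exact hg'
  have := orderOf_of_mem_center (card_of_sylow_two h T) (not_comm' h T) hcen
    (fun e => hx1 (congrArg Subtype.val e))
  rwa [← Subgroup.orderOf_coe] at this

/-- The centralizer of an element of order 4 has order 4. -/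
theorem card_centralizer_four (h : Nat.card G = 168) (x : G) (hx : orderOf x = 4) :
    Nat.card (centralizer ({x} : Set G)) = 4 := by
  have h1 := card_centralizer_dvd_eight h x (by rw [hx]; norm_num)
  have h2 : 4 ∣ Nat.card (centralizer ({x} : Set G)) := by
    have hle : zpowers x ≤ centralizer ({x} : Set G) := by
      rw [zpowers_le, mem_centralizer_singleton_iff]
    have := card_dvd_of_le hle
    rwa [Nat.card_zpowers, hx] at this
  have h3 : Nat.card (centralizer ({x} : Set G)) ≠ 8 := by
    intro h3
    have := mem_sylow_of_card_centralizer h x h3 (by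
      intro e; rw [e, orderOf_one] at hx; norm_num at hx)
    omega
  have h4 := Nat.le_of_dvd (by norm_num) h1
  generalize Nat.card (centralizer ({x} : Set G)) = c at *
  interval_cases c <;> omega

/-- Element orders. -/
theorem orderOf_cases (h : Nat.card G = 168) (g : G) :
    orderOf g = 1 ∨ orderOf g = 2 ∨ orderOf g = 3 ∨ orderOf g = 4 ∨ orderOf g = 7 := by
  have hdvd : orderOf g ∣ 168 := h ▸ orderOf_dvd_natCard g
  have hpos : 0 < orderOf g := orderOf_pos g
  have key : ∀ p : ℕ, p.Prime → (∀ y : G, orderOf y = p →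
      Nat.card (centralizer ({y} : Set G)) = p) → p ∣ orderOf g → orderOf g = p := by
    intro p hp hc hd
    obtain ⟨m, hm⟩ := hd
    have hm0 : m ≠ 0 := by rintro rfl; omega
    have h1 : orderOf (g ^ m) = p := by
      rw [orderOf_pow_of_dvd hm0 ⟨p, by rw [hm, mul_comm]⟩, hm]
      exact Nat.mul_div_cancel _ (Nat.pos_of_ne_zero hm0)
    have h2 : g ∈ centralizer ({g ^ m} : Set G) := by
      rw [mem_centralizer_singleton_iff]
      exact ((Commute.refl g).pow_right m).eq
    have h3 : orderOf g ∣ p := by
      have := orderOf_dvd_natCard (⟨g, h2⟩ : centralizer ({g ^ m} : Set G))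
      rw [hc _ h1] at this
      rwa [← Subgroup.orderOf_coe] at this
    exact Nat.dvd_antisymm h3 ⟨m, hm⟩
  by_cases h7 : 7 ∣ orderOf g
  · right; right; right; right
    exact key 7 (by norm_num) (card_centralizer_seven h) h7
  by_cases h3 : 3 ∣ orderOf g
  · right; right; left
    exact key 3 (by norm_num) (card_centralizer_three h) h3
  have h8 : orderOf g ∣ 8 := by
    have hd : orderOf g ∣ 8 * 21 := hdvd
    apply Nat.Coprime.dvd_of_dvd_mul_right _ hd
    have e : (21 : ℕ) = 3 * 7 := by norm_num
    rw [e]
    apply Nat.Coprime.mul_right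
    · exact ((Nat.Prime.coprime_iff_not_dvd (by norm_num)).2 h3).symm
    · exact ((Nat.Prime.coprime_iff_not_dvd (by norm_num)).2 h7).symm
  have hp : IsPGroup 2 (zpowers g) := by
    obtain ⟨k, hk, hk2⟩ := (Nat.dvd_prime_pow Nat.prime_two).1 (show orderOf g ∣ 2 ^ 3 from h8)
    exact IsPGroup.of_card (n := k) (by rw [Nat.card_zpowers, hk2])
  obtain ⟨T, hT⟩ := hp.exists_le_sylow
  have hgT : g ∈ (T : Subgroup G) := hT (mem_zpowers g)
  rcases orderOf_cases_eight (card_of_sylow_two h T) (not_comm' h T) ⟨g, hgT⟩ with h1 | h1 | h1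
  · left; rwa [← Subgroup.orderOf_coe] at h1
  · right; left; rwa [← Subgroup.orderOf_coe] at h1
  · right; right; right; left; rwa [← Subgroup.orderOf_coe] at h1

theorem card_orderOf_three (h : Nat.card G = 168) : Nat.card {x : G // orderOf x = 3} = 56 := by
  rw [card_orderOf_eq_prime 3 (card_of_sylow_three h), card_sylow_three h]

theorem card_orderOf_seven (h : Nat.card G = 168) : Nat.card {x : G // orderOf x = 7} = 48 := by
  rw [card_orderOf_eq_prime 7 (card_of_sylow_seven h), card_sylow_seven h]

theorem card_orderOf_two_add_four (h : Nat.card G = 168) :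
    Nat.card {x : G // orderOf x = 2} + Nat.card {x : G // orderOf x = 4} = 63 := by
  classical
  have : Fintype G := Fintype.ofFinite G
  have h1 := Finset.card_eq_sum_card_fiberwise (s := (Finset.univ : Finset G))
    (t := ({1, 2, 3, 4, 7} : Finset ℕ)) (f := fun x => orderOf x) (by
      intro x _
      have := orderOf_cases h x
      simpa using this)
  have hcard : ∀ n : ℕ, (Finset.univ.filter (fun x : G => orderOf x = n)).card =
      Nat.card {x : G // orderOf x = n} := by
    intro n
    rw [Nat.card_eq_fintype_card, Fintype.card_subtype]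
  rw [Finset.card_univ, ← Nat.card_eq_fintype_card, h] at h1
  simp only [hcard] at h1
  have h2 : Nat.card {x : G // orderOf x = 1} = 1 := by
    rw [Nat.card_eq_one_iff_unique]
    refine ⟨⟨?_⟩, ⟨⟨1, orderOf_one⟩⟩⟩
    rintro ⟨a, ha⟩ ⟨b, hb⟩
    apply Subtype.ext
    exact (orderOf_eq_one_iff.1 ha).trans (orderOf_eq_one_iff.1 hb).symm
  have h3 := card_orderOf_three h
  have h7 := card_orderOf_seven h
  rw [Finset.sum_insert (by decide), Finset.sum_insert (by decide), Finset.sum_insert (by decide),
    Finset.sum_insert (by decide), Finset.sum_singleton] at h1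
  omega

/-- The class of `x` consists of elements of the same order. -/
theorem card_class_le {G : Type*} [Group G] [Finite G] (x : G) (n : ℕ) (hx : orderOf x = n) :
    Nat.card {g : G // IsConj x g} ≤ Nat.card {g : G // orderOf g = n} := by
  apply Nat.card_le_card_of_injective (fun g => (⟨g.1, by
    obtain ⟨c, hc⟩ := isConj_iff.1 g.2
    rw [← hc, ← hx]
    have e : c * x * c⁻¹ = MulAut.conj c x := rfl
    rw [e, MulEquiv.orderOf_eq]⟩ : {g : G // orderOf g = n}))
  intro a b hab
  exact Subtype.ext (congrArg (fun y : {g : G // orderOf g = n} => y.1) hab)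

theorem isConj_of_card_class {G : Type*} [Group G] [Finite G] (x : G) (n : ℕ) (hx : orderOf x = n)
    (hc : Nat.card {g : G // orderOf g = n} ≤ Nat.card {g : G // IsConj x g}) (y : G)
    (hy : orderOf y = n) : IsConj x y := by
  classical
  let f : {g : G // IsConj x g} → {g : G // orderOf g = n} := fun g => (⟨g.1, by
    obtain ⟨c, hc⟩ := isConj_iff.1 g.2
    rw [← hc, ← hx]
    have e : c * x * c⁻¹ = MulAut.conj c x := rfl
    rw [e, MulEquiv.orderOf_eq]⟩ : {g : G // orderOf g = n})
  have hf : Function.Injective f := by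
    intro a b hab
    exact Subtype.ext (congrArg (fun y : {g : G // orderOf g = n} => y.1) hab)
  have hb : Function.Bijective f := by
    rw [Nat.bijective_iff_injective_and_card]
    exact ⟨hf, le_antisymm (card_class_le x n hx) hc⟩
  obtain ⟨⟨g, hg⟩, hg2⟩ := hb.2 ⟨y, hy⟩
  have : g = y := congrArg Subtype.val hg2
  exact this ▸ hg

theorem exists_four (h : Nat.card G = 168) (T : Sylow 2 G) :
    ∃ r ∈ (T : Subgroup G), orderOf r = 4 := by
  obtain ⟨r, hr⟩ := exists_orderOf_four (card_of_sylow_two h T) (not_comm' h T)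
  exact ⟨r.1, r.2, by rw [Subgroup.orderOf_coe]; exact hr⟩

theorem card_class_four (h : Nat.card G = 168) (x : G) (hx : orderOf x = 4) :
    Nat.card {g : G // IsConj x g} = 42 := by
  have h1 := card_isConj_mul_card_centralizer x
  rw [card_centralizer_four h x hx, h] at h1
  omega

theorem card_class_two_ge (h : Nat.card G = 168) (x : G) (hx : orderOf x = 2) :
    21 ≤ Nat.card {g : G // IsConj x g} := by
  have h1 := card_isConj_mul_card_centralizer x
  have h2 := Nat.le_of_dvd (by norm_num) (card_centralizer_dvd_eight h x (by rw [hx]))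
  rw [h] at h1
  nlinarith

theorem card_orderOf_two_four (h : Nat.card G = 168) :
    Nat.card {x : G // orderOf x = 2} = 21 ∧ Nat.card {x : G // orderOf x = 4} = 42 := by
  obtain ⟨r, -, hr⟩ := exists_four h (default : Sylow 2 G)
  have h1 := card_orderOf_two_add_four h
  have h2 := card_class_le r 4 hr
  rw [card_class_four h r hr] at h2
  have hr2 : orderOf (r ^ 2) = 2 := by rw [orderOf_pow, hr]; norm_num
  have h3 := card_class_le (r ^ 2) 2 hr2
  have h4 := card_class_two_ge h (r ^ 2) hr2
  omega

theorem card_orderOf_two (h : Nat.card G = 168) : Nat.card {x : G // orderOf x = 2} = 21 :=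
  (card_orderOf_two_four h).1

theorem card_orderOf_four (h : Nat.card G = 168) : Nat.card {x : G // orderOf x = 4} = 42 :=
  (card_orderOf_two_four h).2

/-- Any two involutions are conjugate. -/
theorem isConj_of_orderOf_two (h : Nat.card G = 168) (s t : G) (hs : orderOf s = 2)
    (ht : orderOf t = 2) : IsConj s t :=
  isConj_of_card_class s 2 hs (by rw [card_orderOf_two h]; exact card_class_two_ge h s hs) t ht

/-- Any two elements of order 4 are conjugate. -/
theorem isConj_of_orderOf_four (h : Nat.card G = 168) (s t : G) (hs : orderOf s = 4)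
    (ht : orderOf t = 4) : IsConj s t :=
  isConj_of_card_class s 4 hs (by rw [card_orderOf_four h, card_class_four h s hs]) t ht

theorem card_class_three (h : Nat.card G = 168) (x : G) (hx : orderOf x = 3) :
    Nat.card {g : G // IsConj x g} = 56 := by
  have h1 := card_isConj_mul_card_centralizer x
  rw [card_centralizer_three h x hx, h] at h1
  omega

theorem card_class_seven (h : Nat.card G = 168) (x : G) (hx : orderOf x = 7) :
    Nat.card {g : G // IsConj x g} = 24 := by
  have h1 := card_isConj_mul_card_centralizer x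
  rw [card_centralizer_seven h x hx, h] at h1
  omega

/-- Any two elements of order 3 are conjugate. -/
theorem isConj_of_orderOf_three (h : Nat.card G = 168) (s t : G) (hs : orderOf s = 3)
    (ht : orderOf t = 3) : IsConj s t :=
  isConj_of_card_class s 3 hs (by rw [card_orderOf_three h, card_class_three h s hs]) t ht

theorem card_class_two (h : Nat.card G = 168) (x : G) (hx : orderOf x = 2) :
    Nat.card {g : G // IsConj x g} = 21 := by
  apply le_antisymm
  · rw [← card_orderOf_two h]; exact card_class_le x 2 hx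
  · exact card_class_two_ge h x hx

/-- The centralizer of an involution has order 8. -/
theorem card_centralizer_two (h : Nat.card G = 168) (x : G) (hx : orderOf x = 2) :
    Nat.card (centralizer ({x} : Set G)) = 8 := by
  have h1 := card_isConj_mul_card_centralizer x
  rw [card_class_two h x hx, h] at h1
  omega

/-- Two elements of order 4 of a Sylow 2-subgroup have the same square. -/
theorem sq_eq_sq_of_mem (h : Nat.card G = 168) (T : Sylow 2 G) {x y : G}
    (hx : x ∈ (T : Subgroup G)) (hy : y ∈ (T : Subgroup G)) (hx4 : orderOf x = 4)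
    (hy4 : orderOf y = 4) : x ^ 2 = y ^ 2 := by
  have key : ∀ w : G, ∀ hw : w ∈ (T : Subgroup G), orderOf w = 4 →
      (⟨w, hw⟩ : (T : Subgroup G)) ^ 2 ∈ center (T : Subgroup G) ∧
      (⟨w, hw⟩ : (T : Subgroup G)) ^ 2 ≠ 1 := by
    intro w hw hw4
    have h4 : orderOf (⟨w, hw⟩ : (T : Subgroup G)) = 4 := by
      rw [← Subgroup.orderOf_coe]; exact hw4
    refine ⟨sq_mem_center (card_of_sylow_two h T) h4, fun e => ?_⟩
    have := orderOf_dvd_of_pow_eq_one e
    rw [h4] at this
    revert this; decide
  have := center_unique (card_of_sylow_two h T) (not_comm' h T) (key x hx hx4).1 (key x hx hx4).2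
    (key y hy hy4).1 (key y hy hy4).2
  exact congrArg Subtype.val this

/-- A Sylow 2-subgroup contains an involution outside any given cyclic subgroup of order 4. -/
theorem exists_involution_not_mem (h : Nat.card G = 168) (T : Sylow 2 G) {r : G}
    (hr : r ∈ (T : Subgroup G)) (hr4 : orderOf r = 4) :
    ∃ s ∈ (T : Subgroup G), orderOf s = 2 ∧ s ∉ zpowers r := by
  classical
  by_contra hcon
  push Not at hcon
  -- an element outside `⟨r⟩`
  obtain ⟨y, hyT, hyr⟩ : ∃ y ∈ (T : Subgroup G), y ∉ zpowers r := by
    by_contra hcon2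
    push Not at hcon2
    have hle : (T : Subgroup G) ≤ zpowers r := hcon2
    have := card_le_of_le hle
    rw [card_of_sylow_two h, Nat.card_zpowers, hr4] at this
    omega
  have hy4 : orderOf y = 4 := by
    rcases orderOf_cases_eight (card_of_sylow_two h T) (not_comm' h T) ⟨y, hyT⟩ with h1 | h1 | h1
    · exfalso
      rw [← Subgroup.orderOf_coe] at h1
      have : y = 1 := orderOf_eq_one_iff.1 h1
      exact hyr (this ▸ one_mem _)
    · exfalso
      rw [← Subgroup.orderOf_coe] at h1
      exact hyr (hcon y hyT h1)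
    · rwa [← Subgroup.orderOf_coe] at h1
  have hyz : y ^ 2 = r ^ 2 := sq_eq_sq_of_mem h T hyT hr hy4 hr4
  have hr4' : r ^ 4 = 1 := by rw [← hr4, pow_orderOf_eq_one]
  have hriz : (r⁻¹) ^ 2 = r ^ 2 := by
    rw [inv_pow]
    apply inv_eq_of_mul_eq_one_right
    rw [← pow_add]; exact hr4'
  have hz2 : orderOf (r ^ 2) = 2 := by rw [orderOf_pow, hr4]; norm_num
  choose c hc using fun t : {t : G // orderOf t = 2} =>
    isConj_iff.1 (isConj_of_orderOf_two h (r ^ 2) t.1 hz2 t.2)
  let v : Fin 3 → G := ![r, r⁻¹, y]
  have hv2 : ∀ i, v i ^ 2 = r ^ 2 := by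
    intro i
    fin_cases i
    · rfl
    · exact hriz
    · exact hyz
  have hv4 : ∀ i, orderOf (v i) = 4 := by
    intro i
    fin_cases i
    · exact hr4
    · exact (orderOf_inv r).trans hr4
    · exact hy4
  have hrri : r ≠ r⁻¹ := by
    intro e
    have : r ^ 2 = 1 := by rw [pow_two]; nth_rw 2 [e]; exact mul_inv_cancel r
    rw [this, orderOf_one] at hz2
    omega
  have hyr1 : r ≠ y := by rintro rfl; exact hyr (mem_zpowers _)
  have hyr2 : r⁻¹ ≠ y := by rintro rfl; exact hyr (inv_mem (mem_zpowers _))
  have hvinj : Function.Injective v := by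
    intro i j hij
    fin_cases i <;> fin_cases j <;> first
      | rfl
      | exact absurd hij hrri
      | exact absurd hij hrri.symm
      | exact absurd hij hyr1
      | exact absurd hij hyr1.symm
      | exact absurd hij hyr2
      | exact absurd hij hyr2.symm
  let F : {t : G // orderOf t = 2} × Fin 3 → {x : G // orderOf x = 4} := fun p =>
    ⟨c p.1 * v p.2 * (c p.1)⁻¹, by
      have e : c p.1 * v p.2 * (c p.1)⁻¹ = MulAut.conj (c p.1) (v p.2) := rfl
      rw [e, MulEquiv.orderOf_eq, hv4]⟩
  have hFsq : ∀ p, (F p).1 ^ 2 = p.1.1 := by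
    intro p
    show (c p.1 * v p.2 * (c p.1)⁻¹) ^ 2 = p.1.1
    rw [conj_pow, hv2, hc]
  have hF : Function.Injective F := by
    intro p q hpq
    have h1 : p.1 = q.1 := by
      apply Subtype.ext
      rw [← hFsq p, ← hFsq q, hpq]
    have h2 : v p.2 = v q.2 := by
      have h3 : c p.1 * v p.2 * (c p.1)⁻¹ = c q.1 * v q.2 * (c q.1)⁻¹ := congrArg Subtype.val hpq
      rw [h1] at h3
      exact mul_left_cancel (mul_right_cancel h3)
    exact Prod.ext h1 (hvinj h2)
  have hle := Nat.card_le_card_of_injective F hF
  rw [Nat.card_prod, card_orderOf_two h, card_orderOf_four h, Nat.card_eq_fintype_card,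
    Fintype.card_fin] at hle
  omega

/-- Sylow 2-subgroups are dihedral of order 8. -/
theorem sylow_two_dihedral (h : Nat.card G = 168) (T : Sylow 2 G) :
    Nonempty ((T : Subgroup G) ≃* DihedralGroup 4) := by
  obtain ⟨r, hr, hr4⟩ := exists_four h T
  obtain ⟨s, hs, hs2, hsr⟩ := exists_involution_not_mem h T hr hr4
  apply nonempty_dihedral (card_of_sylow_two h T) (not_comm' h T) (r := ⟨r, hr⟩) (s := ⟨s, hs⟩)
  · rw [← Subgroup.orderOf_coe]; exact hr4
  · rw [← Subgroup.orderOf_coe]; exact hs2
  · intro hmem
    apply hsr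
    obtain ⟨k, hk⟩ := hmem
    exact ⟨k, congrArg Subtype.val hk⟩

end Main

end Cfsg.Agent.SmallSimple.Simple168Classes
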