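import Mathlib
import Cfsg.Agent.SmallSimple.SylowCount
import Cfsg.Agent.SmallSimple.KleinDihedral
import Cfsg.Agent.SmallSimple.Simple168Classes

set_option autoImplicit false
set_option linter.unusedSectionVars false

/-! Klein four-subgroups of a simple group of order 168, and their normalizers. -/

namespace Cfsg.Agent.SmallSimple.Simple168Klein

open Subgroup Cfsg.Agent.SmallSimple Cfsg.Agent.SmallSimple.SylowCount
  Cfsg.Agent.SmallSimple.KleinDihedral

section general

variable {G : Type*} [Group G] [Finite G]

theorem le_normalizer_of_card {U T : Subgroup G} (hUT : U ≤ T)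
    (hcard : Nat.card T = 2 * Nat.card U) : T ≤ normalizer (U : Set G) := by
  rw [← normal_subgroupOf_iff_le_normalizer hUT]
  apply normal_of_index_eq_two
  have h1 : (U.subgroupOf T).index * Nat.card (U.subgroupOf T) = Nat.card T :=
    index_mul_card _
  rw [Nat.card_congr (subgroupOfEquivOfLe hUT).toEquiv, hcard] at h1
  exact Nat.eq_of_mul_eq_mul_right Nat.card_pos h1

theorem normalizer_map_conj (U : Subgroup G) (g : G) :
    normalizer ((U.map (MulAut.conj g).toMonoidHom : Subgroup G) : Set G) =
      (normalizer (U : Set G)).map (MulAut.conj g).toMonoidHom :=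
  (map_equiv_normalizer_eq U (MulAut.conj g)).symm

theorem map_conj_map_conj (U : Subgroup G) (g k : G) :
    (U.map (MulAut.conj g).toMonoidHom).map (MulAut.conj k).toMonoidHom =
      U.map (MulAut.conj (k * g)).toMonoidHom := by
  rw [Subgroup.map_map]
  congr 1
  ext x
  simp [mul_assoc]

theorem map_conj_one (U : Subgroup G) : U.map (MulAut.conj (1 : G)).toMonoidHom = U := by
  have : (MulAut.conj (1 : G)).toMonoidHom = MonoidHom.id G := by ext; simp
  rw [this, Subgroup.map_id]

theorem card_map_conj (U : Subgroup G) (g : G) :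
    Nat.card (U.map (MulAut.conj g).toMonoidHom : Subgroup G) = Nat.card U :=
  (Nat.card_congr (U.equivMapOfInjective _ (MulAut.conj g).injective).toEquiv).symm

theorem map_conj_eq_iff_mem_normalizer (U : Subgroup G) (g : G) :
    U.map (MulAut.conj g).toMonoidHom = U ↔ g ∈ normalizer (U : Set G) := by
  rw [mem_normalizer_iff_map_conj_eq]
  exact Iff.rfl

end general

variable {G : Type*} [Group G] [Finite G] [IsSimpleGroup G]

theorem index_ge_seven (h : Nat.card G = 168) (H : Subgroup G) (hH : H ≠ ⊤) : 7 ≤ H.index := by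
  have h1 := card_dvd_factorial_index H hH
  rw [h] at h1
  by_contra hcon
  push Not at hcon
  interval_cases H.index <;> revert h1 <;> decide

section

variable (h : Nat.card G = 168)
include h

theorem card_sylow (T : Sylow 2 G) : Nat.card (T : Subgroup G) = 8 := by
  obtain ⟨e⟩ := Simple168Classes.sylow_two_dihedral h T
  rw [Nat.card_congr e.toEquiv, DihedralGroup.nat_card]

theorem exists_sylow_eq_centralizer (x : G) (hx : orderOf x = 2) :
    ∃ T : Sylow 2 G, (T : Subgroup G) = centralizer {x} := by
  have h1 := Simple168Classes.card_centralizer_two h x hx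
  have h2 : IsPGroup 2 (centralizer {x} : Subgroup G) := IsPGroup.of_card (n := 3) h1
  obtain ⟨T, hT⟩ := h2.exists_le_sylow
  refine ⟨T, (Subgroup.eq_of_le_of_card_ge hT ?_).symm⟩
  rw [card_sylow h T, h1]

theorem centralizer_injective (x y : G) (hx : orderOf x = 2) (hy : orderOf y = 2)
    (hxy : centralizer {x} = centralizer {y}) : x = y := by
  obtain ⟨T, hT⟩ := exists_sylow_eq_centralizer h x hx
  obtain ⟨e⟩ := Simple168Classes.sylow_two_dihedral h T
  have hxT : x ∈ (T : Subgroup G) := by rw [hT, mem_centralizer_singleton_iff]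
  have hyT : y ∈ (T : Subgroup G) := by rw [hT, hxy, mem_centralizer_singleton_iff]
  have key : ∀ z w : DihedralGroup 4, z ≠ 1 → w ≠ 1 → (∀ t, t * z = z * t) →
    (∀ t, t * w = w * t) → z = w := by decide
  have h1 : e ⟨x, hxT⟩ = e ⟨y, hyT⟩ := by
    apply key
    · intro h0
      rw [map_eq_one_iff e e.injective] at h0
      have : x = 1 := congrArg Subtype.val h0
      rw [this] at hx
      simp at hx
    · intro h0
      rw [map_eq_one_iff e e.injective] at h0
      have : y = 1 := congrArg Subtype.val h0
      rw [this] at hy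
      simp at hy
    · intro t
      obtain ⟨⟨t, ht⟩, rfl⟩ := e.surjective t
      rw [← map_mul, ← map_mul]
      congr 1
      apply Subtype.ext
      show t * x = x * t
      rw [hT, mem_centralizer_singleton_iff] at ht
      exact ht
    · intro t
      obtain ⟨⟨t, ht⟩, rfl⟩ := e.surjective t
      rw [← map_mul, ← map_mul]
      congr 1
      apply Subtype.ext
      show t * y = y * t
      rw [hT, hxy, mem_centralizer_singleton_iff] at ht
      exact ht
  exact congrArg Subtype.val (e.injective h1)

end

/-- Data attached to a Klein four-subgroup `U`: two distinct involutions. -/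
theorem exists_two_involutions {U : Subgroup G} (hU : IsKleinFour U) :
    ∃ a b : G, a ∈ U ∧ b ∈ U ∧ a ≠ b ∧ orderOf a = 2 ∧ orderOf b = 2 := by
  have hU' := isKleinFour_iff.1 hU
  have hfin : Finite U := inferInstance
  have h2 : ∀ x ∈ U, x ≠ 1 → orderOf x = 2 := by
    intro x hx hx1
    apply orderOf_eq_prime _ hx1
    rw [pow_two]
    exact congrArg Subtype.val (hU'.2 ⟨x, hx⟩)
  have h1 : U ≠ ⊥ := by
    rintro rfl
    have := hU'.1
    simp at this
  obtain ⟨⟨a, haU⟩, ha'⟩ := (Subgroup.ne_bot_iff_exists_ne_one (H := U)).1 h1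
  have ha : a ≠ 1 := fun h => ha' (Subtype.ext h)
  have h3 : ∃ b ∈ U, b ∉ zpowers a := by
    by_contra hcon
    push Not at hcon
    have h4 : U ≤ zpowers a := hcon
    have h5 := Subgroup.card_dvd_of_le h4
    rw [hU'.1, Nat.card_zpowers, h2 a haU ha] at h5
    revert h5
    decide
  obtain ⟨b, hbU, hb⟩ := h3
  refine ⟨a, b, haU, hbU, ?_, h2 a haU ha, h2 b hbU ?_⟩
  · rintro rfl
    exact hb (mem_zpowers a)
  · rintro rfl
    exact hb (one_mem _)

theorem le_centralizer {U : Subgroup G} (hU : IsKleinFour U) {a : G} (ha : a ∈ U) :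
    U ≤ centralizer {a} := by
  have := IsKleinFour.isMulCommutative (G := U)
  intro x hx
  rw [mem_centralizer_singleton_iff]
  have h1 := this.is_comm.comm (⟨x, hx⟩ : U) ⟨a, ha⟩
  have h2 : x * a = a * x := congrArg Subtype.val h1
  exact h2

theorem centralizer_le_normalizer (h : Nat.card G = 168) {U : Subgroup G} (hU : IsKleinFour U)
    {a : G} (ha : a ∈ U) (ha2 : orderOf a = 2) :
    centralizer {a} ≤ normalizer (U : Set G) := by
  apply le_normalizer_of_card (le_centralizer hU ha)
  rw [Simple168Classes.card_centralizer_two h a ha2, hU.card_four]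

/-- The normalizer of a Klein four-subgroup has index 7. -/
theorem index_normalizer (h : Nat.card G = 168) {U : Subgroup G} (hU : IsKleinFour U) :
    (normalizer (U : Set G)).index = 7 := by
  obtain ⟨a, b, ha, hb, hab, ha2, hb2⟩ := exists_two_involutions hU
  have h1 := centralizer_le_normalizer h hU ha ha2
  have h2 := centralizer_le_normalizer h hU hb hb2
  have hne : centralizer {a} ≠ centralizer {b} :=
    fun h0 => hab (centralizer_injective h a b ha2 hb2 h0)
  have hNtop : normalizer (U : Set G) ≠ ⊤ := by
    intro h0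
    rw [normalizer_eq_top_iff] at h0
    have h4 := hU.card_four
    rcases h0.eq_bot_or_eq_top with h5 | h5
    · rw [h5] at h4
      simp at h4
    · rw [h5, Nat.card_congr Subgroup.topEquiv.toEquiv, h] at h4
      simp at h4
  have h7 := index_ge_seven h _ hNtop
  have hc := (normalizer (U : Set G)).card_mul_index
  have h8 := Subgroup.card_dvd_of_le h1
  rw [Simple168Classes.card_centralizer_two h a ha2] at h8
  have h9 : Nat.card (normalizer (U : Set G)) ≠ 8 := by
    intro h0
    apply hne
    have e1 : centralizer {a} = normalizer (U : Set G) :=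
      Subgroup.eq_of_le_of_card_ge h1 (by rw [h0, Simple168Classes.card_centralizer_two h a ha2])
    have e2 : centralizer {b} = normalizer (U : Set G) :=
      Subgroup.eq_of_le_of_card_ge h2 (by rw [h0, Simple168Classes.card_centralizer_two h b hb2])
    rw [e1, e2]
  rw [h] at hc
  obtain ⟨k, hk⟩ := h8
  rw [hk] at hc h9
  have h10 : k * (normalizer (U : Set G)).index = 21 := by
    have : 8 * (k * (normalizer (U : Set G)).index) = 8 * 21 := by rw [← mul_assoc, hc]
    exact Nat.eq_of_mul_eq_mul_left (by norm_num) this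
  generalize (normalizer (U : Set G)).index = m at *
  have hm : m ∣ 21 := Dvd.intro_left k h10
  have hm2 : m ≤ 21 := Nat.le_of_dvd (by norm_num) hm
  have hk1 : k ≠ 1 := by
    rintro rfl
    exact h9 rfl
  interval_cases m <;> first | rfl | (exfalso; omega)

theorem card_normalizer (h : Nat.card G = 168) {U : Subgroup G} (hU : IsKleinFour U) :
    Nat.card (normalizer (U : Set G)) = 24 := by
  have h1 := (normalizer (U : Set G)).card_mul_index
  rw [index_normalizer h hU, h] at h1
  omega

/-- A Klein four-subgroup is the intersection of two centralizers of its involutions. -/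
theorem inf_centralizer (h : Nat.card G = 168) {U : Subgroup G} (hU : IsKleinFour U) {a b : G}
    (ha : a ∈ U) (hb : b ∈ U) (hab : a ≠ b) (ha2 : orderOf a = 2) (hb2 : orderOf b = 2) :
    centralizer {a} ⊓ centralizer {b} = U := by
  symm
  apply Subgroup.eq_of_le_of_card_ge (le_inf (le_centralizer hU ha) (le_centralizer hU hb))
  have hlt : centralizer {a} ⊓ centralizer {b} < centralizer {a} := by
    refine lt_of_le_of_ne inf_le_left ?_
    intro h0
    apply hab
    apply centralizer_injective h a b ha2 hb2
    apply Subgroup.eq_of_le_of_card_ge (inf_eq_left.1 h0)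
    rw [Simple168Classes.card_centralizer_two h a ha2, Simple168Classes.card_centralizer_two h b hb2]
  have h1 := Subgroup.card_dvd_of_le hlt.le
  have h2 : Nat.card (centralizer {a} ⊓ centralizer {b} : Subgroup G) ≠
      Nat.card (centralizer {a} : Subgroup G) := by
    intro h0
    exact hlt.ne (Subgroup.eq_of_le_of_card_ge hlt.le h0.ge)
  rw [Simple168Classes.card_centralizer_two h a ha2] at h1 h2
  rw [hU.card_four]
  have h3 := Nat.le_of_dvd (by norm_num) h1
  generalize Nat.card (centralizer {a} ⊓ centralizer {b} : Subgroup G) = m at *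
  interval_cases m <;> revert h1 h2 <;> decide

/-- A `2`-group normalized by a Sylow `2`-subgroup is contained in it. -/
theorem le_sylow_of_le_normalizer {V : Subgroup G} (hV : IsPGroup 2 V) (T : Sylow 2 G)
    (hT : (T : Subgroup G) ≤ normalizer (V : Set G)) : V ≤ (T : Subgroup G) := by
  have h1 : IsPGroup 2 (T ⊔ V : Subgroup G) :=
    IsPGroup.to_sup_of_normal_right' T.isPGroup' hV hT
  have h2 : (T ⊔ V : Subgroup G) = T := T.is_maximal' h1 le_sup_left
  rw [← h2]
  exact le_sup_right

/-- A Klein four-subgroup is determined by its normalizer. -/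
theorem eq_of_normalizer_eq (h : Nat.card G = 168) {U V : Subgroup G} (hU : IsKleinFour U)
    (hV : IsKleinFour V) (hUV : normalizer (U : Set G) = normalizer (V : Set G)) : U = V := by
  obtain ⟨a, b, ha, hb, hab, ha2, hb2⟩ := exists_two_involutions hU
  symm
  apply Subgroup.eq_of_le_of_card_ge _ (by rw [hU.card_four, hV.card_four])
  rw [← inf_centralizer h hU ha hb hab ha2 hb2]
  have hVp : IsPGroup 2 V := IsPGroup.of_card (n := 2) hV.card_four
  apply le_inf
  · obtain ⟨T, hT⟩ := exists_sylow_eq_centralizer h a ha2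
    rw [← hT]
    apply le_sylow_of_le_normalizer hVp
    rw [hT, ← hUV]
    exact centralizer_le_normalizer h hU ha ha2
  · obtain ⟨T, hT⟩ := exists_sylow_eq_centralizer h b hb2
    rw [← hT]
    apply le_sylow_of_le_normalizer hVp
    rw [hT, ← hUV]
    exact centralizer_le_normalizer h hU hb hb2

/-- In a Sylow `2`-subgroup there are exactly two Klein four-subgroups. -/
theorem exists_pair (h : Nat.card G = 168) (T : Sylow 2 G) :
    ∃ U₁ U₂ : Subgroup G, U₁ ≠ U₂ ∧ U₁ ≤ T ∧ U₂ ≤ T ∧ IsKleinFour U₁ ∧ IsKleinFour U₂ ∧
      ∀ U : Subgroup G, U ≤ T → IsKleinFour U → U = U₁ ∨ U = U₂ := by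
  obtain ⟨e⟩ := Simple168Classes.sylow_two_dihedral h T
  obtain ⟨V₁, V₂, hne, h1, h2, h3⟩ := KleinDihedral.exists_pair e
  have hinj : Function.Injective (Subgroup.map (T : Subgroup G).subtype) :=
    Subgroup.map_injective (T : Subgroup G).subtype_injective
  refine ⟨V₁.map (T : Subgroup G).subtype, V₂.map (T : Subgroup G).subtype,
    fun h0 => hne (hinj h0), map_subtype_le _, map_subtype_le _, ?_, ?_, ?_⟩
  · exact (isKleinFour_congr (V₁.equivMapOfInjective _ (T : Subgroup G).subtype_injective)).1 h1
  · exact (isKleinFour_congr (V₂.equivMapOfInjective _ (T : Subgroup G).subtype_injective)).1 h2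
  · intro U hUT hU
    have h4 : IsKleinFour (U.subgroupOf T) :=
      (isKleinFour_congr (subgroupOfEquivOfLe hUT)).2 hU
    have h5 : (U.subgroupOf (T : Subgroup G)).map (T : Subgroup G).subtype = U :=
      map_subgroupOf_eq_of_le hUT
    rcases h3 _ h4 with h6 | h6
    · left
      rw [← h6, h5]
    · right
      rw [← h6, h5]

/-- Distinct Klein four-subgroups of a Sylow `2`-subgroup are not conjugate. -/
theorem not_conj (h : Nat.card G = 168) (T : Sylow 2 G) {U W : Subgroup G} (hUT : U ≤ T)
    (hWT : W ≤ T) (hU : IsKleinFour U) (hW : IsKleinFour W) (hUW : U ≠ W) (g : G) :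
    U.map (MulAut.conj g).toMonoidHom ≠ W := by
  intro hg
  have hTU : (T : Subgroup G) ≤ normalizer (U : Set G) := by
    apply le_normalizer_of_card hUT
    rw [card_sylow h T, hU.card_four]
  have hTW : (T : Subgroup G) ≤ normalizer (W : Set G) := by
    apply le_normalizer_of_card hWT
    rw [card_sylow h T, hW.card_four]
  have hgT : ((g • T : Sylow 2 G) : Subgroup G) ≤ normalizer (W : Set G) := by
    rw [← hg, normalizer_map_conj]
    rw [Sylow.coe_subgroup_smul]
    exact Subgroup.map_mono hTU
  obtain ⟨⟨n, hn⟩, hn'⟩ := MulAction.exists_smul_eq (normalizer (W : Set G))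
    ((g • T : Sylow 2 G).subtype hgT) (T.subtype hTW)
  have h1 : (n * g) • T = T := by
    have h2 := Sylow.subtype_injective ((Sylow.smul_subtype hgT ⟨n, hn⟩).symm.trans hn')
    rw [mul_smul]
    exact h2
  rw [Sylow.smul_eq_iff_mem_normalizer] at h1
  have h1' : n * g ∈ (T : Subgroup G) := by
    have := Simple168.normalizer_sylow_two h T
    rw [← this]
    exact h1
  have h3 : U.map (MulAut.conj (n * g)).toMonoidHom = U :=
    (map_conj_eq_iff_mem_normalizer U _).2 (hTU h1')
  have h4 : U.map (MulAut.conj (n * g)).toMonoidHom = W := by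
    rw [← map_conj_map_conj, hg]
    exact (map_conj_eq_iff_mem_normalizer W n).2 hn
  exact hUW (h3.symm.trans h4)

/-- Every Klein four-subgroup is conjugate to one contained in a given Sylow `2`-subgroup. -/
theorem exists_conj_le (T : Sylow 2 G) {U : Subgroup G} (hU : IsKleinFour U) :
    ∃ (V : Subgroup G) (g : G), V ≤ T ∧ IsKleinFour V ∧
      U = V.map (MulAut.conj g).toMonoidHom := by
  have hUp : IsPGroup 2 U := IsPGroup.of_card (n := 2) hU.card_four
  obtain ⟨S, hS⟩ := hUp.exists_le_sylow
  obtain ⟨g, hg⟩ := MulAction.exists_smul_eq G S T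
  refine ⟨U.map (MulAut.conj g).toMonoidHom, g⁻¹, ?_, ?_, ?_⟩
  · rw [← hg, Sylow.coe_subgroup_smul]
    exact Subgroup.map_mono hS
  · exact (isKleinFour_congr (U.equivMapOfInjective _ (MulAut.conj g).injective)).1 hU
  · rw [map_conj_map_conj, inv_mul_cancel, map_conj_one]

end Cfsg.Agent.SmallSimple.Simple168Klein
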