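import Mathlib
import Cfsg.Agent.SmallSimple.Parity
import Cfsg.Agent.SmallSimple.BurnsideNC

/-!
# Fixed points on the Sylow `p`-subgroups of elements centralizing a Sylow `p`-subgroup
-/

set_option autoImplicit false

namespace Cfsg.Agent.SmallSimple.CentralizerFix

open Subgroup MulAction

variable {G : Type*} [Group G] [Finite G] {p : ℕ} [hp : Fact p.Prime]

/-- The set of Sylow `p`-subgroups normalized by `c`, as a `P`-set, when `c` centralizes `P`. -/
def fixedSub (P : Sylow p G) (c : G) (hc : c ∈ centralizer (P : Set G)) :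
    SubMulAction P (Sylow p G) where
  carrier := {Q | c • Q = Q}
  smul_mem' := by
    rintro ⟨g, hg⟩ Q hQ
    have hQ' : c • Q = Q := hQ
    change c • g • Q = g • Q
    rw [← mul_smul, ← (mem_centralizer_iff.1 hc) g hg, mul_smul, hQ']

/-- An element centralizing a Sylow `p`-subgroup `P` normalizes `≡ 1 mod p` Sylow
`p`-subgroups. -/
theorem card_fixedBy_modEq_one (P : Sylow p G) {c : G} (hc : c ∈ centralizer (P : Set G)) :
    Nat.card (fixedBy (Sylow p G) c) ≡ 1 [MOD p] := by
  have h1 := P.isPGroup'.card_modEq_card_fixedPoints (fixedSub P c hc)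
  have h2 : Nat.card (fixedPoints P (fixedSub P c hc)) = 1 := by
    rw [Nat.card_eq_one_iff_unique]
    constructor
    · constructor
      have key : ∀ x : fixedPoints P (fixedSub P c hc), x.1.1 = P := by
        rintro ⟨⟨Q, hQ⟩, hx⟩
        have h3 : Q ∈ fixedPoints P (Sylow p G) := by
          intro g
          exact congrArg Subtype.val (hx g)
        have h4 := (P.isPGroup'.sylow_mem_fixedPoints_iff).1 h3
        exact Sylow.ext (P.is_maximal' Q.isPGroup' h4)
      intro a b
      exact Subtype.ext (Subtype.ext ((key a).trans (key b).symm))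
    · have hcP : c • P = P := by
        rw [Sylow.smul_eq_iff_mem_normalizer]
        exact BurnsideNC.centralizer_le_normalizer (P : Subgroup G) hc
      refine ⟨⟨⟨P, hcP⟩, ?_⟩⟩
      intro g
      apply Subtype.ext
      change (g : G) • P = P
      rw [Sylow.smul_eq_iff_mem_normalizer]
      exact le_normalizer g.2
  rw [h2] at h1
  exact h1

/-- An action of a simple group by a nontrivial permutation: faithful on Sylow subgroups. -/
theorem card_fixedBy_lt [IsSimpleGroup G] (h1 : Nat.card (Sylow p G) ≠ 1) {c : G} (hc : c ≠ 1) :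
    Nat.card (fixedBy (Sylow p G) c) < Nat.card (Sylow p G) := by
  rcases lt_or_eq_of_le (Nat.card_le_card_of_injective
    (fun x : fixedBy (Sylow p G) c => x.1) Subtype.val_injective) with h | h
  · exact h
  · exfalso
    have h4 : Function.Bijective (fun x : fixedBy (Sylow p G) c => x.1) := by
      rw [Nat.bijective_iff_injective_and_card]
      exact ⟨Subtype.val_injective, h⟩
    have hall : ∀ Q : Sylow p G, c • Q = Q := by
      intro Q
      obtain ⟨y, rfl⟩ := h4.2 Q
      exact y.2
    have hmem : c ∈ (MulAction.toPermHom G (Sylow p G)).ker := by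
      rw [MonoidHom.mem_ker]
      ext Q : 1
      exact hall Q
    rcases Subgroup.Normal.eq_bot_or_eq_top (H := (MulAction.toPermHom G (Sylow p G)).ker)
      inferInstance with hk | hk
    · rw [hk] at hmem
      exact hc (Subgroup.mem_bot.1 hmem)
    · apply h1
      rw [Nat.card_eq_one_iff_unique]
      refine ⟨⟨fun P Q => ?_⟩, inferInstance⟩
      obtain ⟨g, hg⟩ := MulAction.exists_smul_eq G P Q
      have hgk : g ∈ (MulAction.toPermHom G (Sylow p G)).ker := by rw [hk]; exact mem_top g
      rw [MonoidHom.mem_ker] at hgk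
      have := Equiv.congr_fun hgk P
      rw [← hg]
      exact this.symm

omit [Finite G] in
/-- Elements of 2-power order: some power is an involution. -/
theorem exists_pow_involution {c : G} {k : ℕ} (hc : orderOf c = 2 ^ k) (hc1 : c ≠ 1) :
    ∃ j : ℕ, orderOf (c ^ j) = 2 := by
  have hk : k ≠ 0 := by
    rintro rfl
    rw [pow_zero, orderOf_eq_one_iff] at hc
    exact hc1 hc
  obtain ⟨m, rfl⟩ := Nat.exists_eq_succ_of_ne_zero hk
  refine ⟨2 ^ m, ?_⟩
  rw [orderOf_pow' _ (by positivity), hc, pow_succ, Nat.gcd_eq_right (Dvd.intro _ rfl)]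
  rw [Nat.mul_div_cancel_left _ (by positivity)]

end Cfsg.Agent.SmallSimple.CentralizerFix
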