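import Mathlib
import Cfsg.Agent.SmallSimple.PrimeLocal
import Cfsg.Agent.SmallSimple.EvenOrder
import Cfsg.Agent.SmallSimple.SylowInter
import Cfsg.Agent.SmallSimple.SylowPrimeInvol

/-!
# Further tests for orders of simple groups
-/

set_option autoImplicit false
set_option linter.unusedSectionVars false

namespace Cfsg.Agent.SmallSimple.SieveTools

open Subgroup Cfsg.Agent.SmallSimple.PrimeLocal

variable {G : Type*} [Group G] [Finite G]

/-- If `|P| = p`, a subgroup of `N(P)` meeting `C(P)` trivially is cyclic. -/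
theorem isCyclic_of_inf_eq_bot {p : ℕ} (hp : p.Prime) {P : Subgroup G} (hP : Nat.card P = p)
    (T : Subgroup G) (hT : T ≤ normalizer (P : Set G)) (h : T ⊓ centralizer (P : Set G) = ⊥) :
    IsCyclic T := by
  have : Fact p.Prime := ⟨hp⟩
  have hc : IsCyclic P := isCyclic_of_prime_card hP
  have hPp : (Nat.card P).Prime := hP ▸ hp
  have : Fact (Nat.card P).Prime := ⟨hPp⟩
  have hcyc : IsCyclic (MulAut P) := by
    have e := IsCyclic.mulAutMulEquiv P
    exact isCyclic_of_surjective e.symm e.symm.surjective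
  let f : T →* MulAut P := P.normalizerMonoidHom.comp (Subgroup.inclusion hT)
  apply isCyclic_of_injective f
  rw [← MonoidHom.ker_eq_bot_iff, eq_bot_iff]
  intro x hx
  have h1 : Subgroup.inclusion hT x ∈ P.normalizerMonoidHom.ker := hx
  rw [normalizerMonoidHom_ker] at h1
  have h2 : (x : G) ∈ centralizer (P : Set G) := h1
  have h3 : (x : G) ∈ T ⊓ centralizer (P : Set G) := ⟨x.2, h2⟩
  rw [h, Subgroup.mem_bot] at h3
  rw [Subgroup.mem_bot]
  exact Subtype.ext h3

/-- Rule C: in a simple group with `|P| = p` odd, the `2`-part of `e = |N(P):C(P)|` is less than the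
`2`-part of `|G|`. -/
theorem IsLocal.not_odd [IsSimpleGroup G] (hG : ¬ IsMulCommutative G) {p : ℕ}
    [hp : Fact p.Prime] {P : Sylow p G} (hP : Nat.card P = p) {e : ℕ}
    {K : Subgroup G} (h : IsLocal p P e K) (he : 2 ∣ e)
    (hodd : ¬ 2 ∣ Nat.card (Sylow p G) * (p * Nat.card K)) : False := by
  have h2 : Fact (Nat.Prime 2) := ⟨Nat.prime_two⟩
  have hP' : Nat.card (P : Subgroup G) = p := hP
  set N := normalizer (P : Set G) with hN
  let T : Sylow 2 N := default
  have hTG : ¬ 2 ∣ ((T : Subgroup N).map N.subtype).index := by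
    rw [Subgroup.index_map_subtype]
    intro hd
    rcases (Nat.prime_two.dvd_mul).1 hd with hd | hd
    · exact T.not_dvd_index hd
    · apply hodd
      rw [hN, ← P.card_eq_index_normalizer] at hd
      exact hd.mul_right _
  obtain ⟨S, hS⟩ : ∃ S : Sylow 2 G, (S : Subgroup G) = (T : Subgroup N).map N.subtype := by
    have hp2 : IsPGroup 2 ((T : Subgroup N).map N.subtype) := T.isPGroup'.map N.subtype
    exact ⟨hp2.toSylow hTG, rfl⟩
  apply EvenOrder.not_isCyclic_sylow_two hG ?_ S
  · have hcyc : IsCyclic (S : Subgroup G) := by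
      rw [hS]
      apply isCyclic_of_inf_eq_bot hp.out hP'
      · rintro x ⟨y, _, rfl⟩
        exact y.2
      · rw [eq_bot_iff]
        rintro x ⟨hx1, hx2⟩
        rw [Subgroup.mem_bot]
        have h3 : orderOf x ∣ p * Nat.card K := by
          rw [← h.card_centralizer]
          exact Subgroup.orderOf_dvd_natCard _ hx2
        have h4 : ¬ 2 ∣ orderOf x := fun hd => hodd ((hd.trans h3).mul_left _)
        obtain ⟨k, hk⟩ := (T.isPGroup'.map N.subtype).exists_card_eq
        have h5 : orderOf x ∣ 2 ^ k := by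
          rw [← hk]
          exact Subgroup.orderOf_dvd_natCard _ hx1
        obtain ⟨j, _, hj⟩ := (Nat.dvd_prime_pow Nat.prime_two).1 h5
        have h6 : j = 0 := by
          by_contra hj0
          exact h4 (hj ▸ dvd_pow_self 2 hj0)
        rw [h6, pow_zero] at hj
        exact orderOf_eq_one_iff.1 hj
    exact hcyc
  · rw [h.card_eq]
    exact (he.mul_left p).mul_right _ |>.mul_left _

/-- Rule for `|P| = p ^ 2`. -/
theorem gcd_ne_one_of_sq [IsSimpleGroup G] (hG : ¬ IsMulCommutative G) {p : ℕ} [hp : Fact p.Prime]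
    {P : Sylow p G} (hP : Nat.card P = p ^ 2) {c : ℕ}
    (hc : Nat.card G = Nat.card (Sylow p G) * (p ^ 2 * c)) :
    Nat.gcd ((p ^ 2 - 1) * (p - 1)) c ≠ 1 := by
  intro hg
  have hne : Nat.card G ≠ p := fun h => Embed.card_not_prime_of_not_comm hG (h ▸ hp.out)
  have hdvd : p ∣ Nat.card G := by
    rw [hc]
    exact ((dvd_pow_self p two_ne_zero).mul_right c).mul_left _
  have h1 := BurnsideNC.relIndex_ne_one hdvd hne P
  have h2 := BurnsideNC.relIndex_dvd_of_card_eq_sq P hP
  have h3 := BurnsideNC.card_sylow_mul_card_normalizer P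
  have hcomm : IsMulCommutative P := IsPGroup.isMulCommutative_of_card_eq_prime_sq hP
  have h4 := BurnsideNC.coprime_relIndex P hcomm
  have h5 := BurnsideNC.card_normalizer_eq (P : Subgroup G)
  have h6 : Nat.card (normalizer (P : Set G)) = p ^ 2 * c := by
    have hpos : 0 < Nat.card (Sylow p G) := Nat.card_pos
    exact Nat.eq_of_mul_eq_mul_left hpos (h3.trans hc)
  have h7 : (centralizer (P : Set G)).relIndex (normalizer (P : Set G)) ∣ p ^ 2 * c := by
    rw [← h6]
    exact Dvd.intro_left _ h5.symm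
  have h8 : (centralizer (P : Set G)).relIndex (normalizer (P : Set G)) ∣ c :=
    (Nat.Coprime.dvd_mul_left (Nat.Coprime.pow_right 2 h4.symm)).1 h7
  exact h1 (Nat.eq_one_of_dvd_coprimes hg h2 h8)

/-- Sylow `p`-subgroups of `M ≥ P, Q`, `P ≠ Q`. -/
theorem one_lt_card_sylow_of_le {p : ℕ} [Fact p.Prime] (P Q : Sylow p G) (hPQ : P ≠ Q)
    (M : Subgroup G) (hP : (P : Subgroup G) ≤ M) (hQ : (Q : Subgroup G) ≤ M) :
    1 < Nat.card (Sylow p M) := by
  rw [Finite.one_lt_card_iff_nontrivial]
  refine ⟨P.subtype hP, Q.subtype hQ, fun h => hPQ ?_⟩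
  exact Sylow.subtype_injective h

theorem card_sylow_subgroup {p : ℕ} [hp : Fact p.Prime] (P : Sylow p G)
    (M : Subgroup G) (hP : (P : Subgroup G) ≤ M) {a t : ℕ} (hPa : Nat.card P = p ^ a)
    (hM : Nat.card M = p ^ a * t) : Nat.card (Sylow p M) ∣ t := by
  have h1 := (P.subtype hP).card_dvd_index
  have h2 : Nat.card (P.subtype hP) = p ^ a := by
    rw [← hPa]
    exact Nat.card_congr (subgroupOfEquivOfLe hP).toEquiv
  have h3 := ((P.subtype hP : Sylow p M) : Subgroup M).card_mul_index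
  have h4 : Nat.card ((P.subtype hP : Sylow p M) : Subgroup M) = p ^ a := h2
  rw [h4, hM] at h3
  rw [Nat.eq_of_mul_eq_mul_left (pow_pos hp.out.pos a) h3] at h1
  exact h1

/-- Sylow intersections: if `|P| = p ^ a`, `2 ≤ a` and `n_p` is not `1` mod `p ^ 2`, there are Sylow
subgroups `P ≠ Q` such that `D = P ∩ Q` has index `p` in both, and `N(D)` is proper and has more
than one Sylow `p`-subgroup. -/
theorem exists_inter [IsSimpleGroup G] (hG : ¬ IsMulCommutative G) {p a : ℕ} [hp : Fact p.Prime]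
    (P : Sylow p G) (hPa : Nat.card P = p ^ a) (ha : 2 ≤ a)
    (hmod : ¬ Nat.card (Sylow p G) ≡ 1 [MOD p ^ 2]) :
    ∃ Q : Sylow p G, P ≠ Q ∧
      Nat.card ((P : Subgroup G) ⊓ Q : Subgroup G) = p ^ (a - 1) ∧
      (P : Subgroup G) ≤ normalizer (((P : Subgroup G) ⊓ Q : Subgroup G) : Set G) ∧
      (Q : Subgroup G) ≤ normalizer (((P : Subgroup G) ⊓ Q : Subgroup G) : Set G) ∧
      normalizer (((P : Subgroup G) ⊓ Q : Subgroup G) : Set G) ≠ ⊤ := by
  obtain ⟨Q, hPQ, hdvd⟩ := SylowInter.exists_ne_pow_dvd_card_inf p 2 a hmod P hPa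
  set D : Subgroup G := (P : Subgroup G) ⊓ Q with hD
  have hDP : D ≤ P := inf_le_left
  have hDQ : D ≤ Q := inf_le_right
  have hQa : Nat.card Q = p ^ a := by
    rw [← hPa]
    exact Nat.card_congr (Q.equiv P).toEquiv
  have hPa' : Nat.card (P : Subgroup G) = p ^ a := hPa
  have hQa' : Nat.card (Q : Subgroup G) = p ^ a := hQa
  have hcardD : Nat.card D = p ^ (a - 1) := by
    have h1 : Nat.card D ∣ p ^ a := hPa' ▸ Subgroup.card_dvd_of_le hDP
    obtain ⟨j, hj, hj'⟩ := (Nat.dvd_prime_pow hp.out).1 h1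
    have h2 : j ≠ a := by
      rintro rfl
      apply hPQ
      have h3 : D = P := Subgroup.eq_of_le_of_card_ge hDP (by rw [hj', hPa'])
      have h4 : (P : Subgroup G) ≤ Q := h3 ▸ hDQ
      exact (Sylow.ext (P.3 Q.isPGroup' h4)).symm
    have h3 : a + 1 - 2 ≤ j := by
      rw [hj'] at hdvd
      exact (Nat.pow_dvd_pow_iff_le_right hp.out.one_lt).1 hdvd
    rw [hj']
    congr 1
    omega
  have hnorm : ∀ R : Sylow p G, Nat.card (R : Subgroup G) = p ^ a → D ≤ R →
      (R : Subgroup G) ≤ normalizer (D : Set G) := by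
    intro R hR hDR
    have hidx : (D.subgroupOf R).index = p := by
      have h1 := (D.subgroupOf (R : Subgroup G)).card_mul_index
      rw [Nat.card_congr (subgroupOfEquivOfLe hDR).toEquiv, hcardD, hR] at h1
      have h2 : p ^ a = p ^ (a - 1) * p := by
        rw [← pow_succ]; congr 1; omega
      rw [h2] at h1
      exact Nat.eq_of_mul_eq_mul_left (pow_pos hp.out.pos _) h1
    have hn : (D.subgroupOf (R : Subgroup G)).Normal := by
      apply Subgroup.normal_of_index_eq_minFac_card
      rw [hidx, hR, hp.out.pow_minFac (by omega)]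
    exact (Subgroup.normal_subgroupOf_iff_le_normalizer hDR).1 hn
  refine ⟨Q, hPQ, hcardD, hnorm P hPa' hDP, hnorm Q hQa' hDQ, ?_⟩
  intro htop
  have hn : D.Normal := normalizer_eq_top_iff.1 htop
  rcases hn.eq_bot_or_eq_top with h | h
  · rw [h, Subgroup.card_bot] at hcardD
    have : 1 < p ^ (a - 1) := Nat.one_lt_pow (by omega) hp.out.one_lt
    omega
  · have hPtop : (P : Subgroup G) = ⊤ := top_le_iff.1 (h ▸ hDP)
    have hdvdG : p ∣ Nat.card G := by
      have h1 := (P : Subgroup G).card_subgroup_dvd_card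
      rw [hPa'] at h1
      exact (dvd_pow_self p (by omega)).trans h1
    apply Embed.normalizer_sylow_ne_top hG hdvdG P
    rw [hPtop, normalizer_eq_top_iff]
    infer_instance

end Cfsg.Agent.SmallSimple.SieveTools
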