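import Mathlib
import Cfsg.Agent.SmallSimple.SieveTools
import Cfsg.Agent.SmallSimple.SylowPSq

/-!
# A verified sieve for the orders of non-abelian simple groups

`autoDead n = true` (evaluated by the kernel) implies that there is no non-abelian finite simple
group of order `n < 6241`.
-/

set_option autoImplicit false
set_option linter.unusedSectionVars false

namespace Cfsg.Agent.SmallSimple.Sieve

open Subgroup Cfsg.Agent.SmallSimple.PrimeLocal

/-- Necessary condition on the index `m` of a proper subgroup of a simple group of order `n`. -/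
def okIdx (n m : ℕ) : Bool := Nat.ble 60 m || Nat.beq (m.factorial % (2 * n)) 0

/-- Necessary condition on `k = |K|` when `P` has `o` orbits. -/
def okK (o k : ℕ) : Bool :=
  Nat.ble 30 o || Nat.beq (o.factorial % (2 * k)) 0 || (Nat.beq o 1 && Nat.beq k 1)

/-- `d = n_p`, `e = |N:C|`, `|P| = p`. -/
def candE (n p d e : ℕ) : Bool :=
  Nat.blt 1 e && Nat.beq ((p - 1) % e) 0 && Nat.beq ((n / (d * p)) % e) 0 &&
    !Nat.beq ((n / (d * p) / e) % p) 0 && okK ((d - 1) / p) (n / (d * p) / e) &&
    (!Nat.beq d (p + 1) || Nat.beq ((p - 1) % (2 * (e * (n / (d * p) / e)))) 0) &&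
    !(Nat.beq (e % 2) 0 && Nat.beq ((d * (p * (n / (d * p) / e))) % 2) 1)

def cand1 (n p d : ℕ) : Bool := (List.range p).any (candE n p d)

def cand2 (n p d : ℕ) : Bool := !Nat.beq (Nat.gcd ((p ^ 2 - 1) * (p - 1)) (n / (d * p ^ 2))) 1

/-- The Sylow intersection test. -/
def inter (n p a : ℕ) : Bool :=
  (List.range (n / p ^ a + 1)).any fun t =>
    !Nat.beq t 0 && Nat.beq ((n / p ^ a) % t) 0 && okIdx n (n / p ^ a / t) &&
      (List.range (t / p + 1)).any fun j => !Nat.beq j 0 && Nat.beq (t % (1 + j * p)) 0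

def candD (n p a d : ℕ) : Bool :=
  match a with
  | 0 => true
  | 1 => Nat.beq p 2 || cand1 n p d
  | 2 => cand2 n p d && (Nat.beq (d % (p ^ 2)) 1 || inter n p 2)
  | a + 3 => Nat.beq (d % (p ^ 2)) 1 || inter n p (a + 3)

def killed (n p a : ℕ) : Bool :=
  !Nat.beq a 0 && Nat.beq (n % p ^ a) 0 && !Nat.beq (n % p ^ (a + 1)) 0 &&
    (List.range (n / p ^ a / p + 1)).all fun j =>
      Nat.beq j 0 || !Nat.beq ((n / p ^ a) % (1 + j * p)) 0 || !okIdx n (1 + j * p) ||
        !candD n p a (1 + j * p)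

theorem okK_of {o k : ℕ} (h : 2 * k ∣ o.factorial ∨ (o = 1 ∧ k = 1)) : okK o k = true := by
  rw [okK, Bool.or_eq_true, Bool.or_eq_true, Bool.and_eq_true, Nat.beq_eq, Nat.beq_eq, Nat.beq_eq]
  rcases h with h | h
  · exact Or.inl (Or.inr (Nat.mod_eq_zero_of_dvd h))
  · exact Or.inr h

variable {G : Type*} [Group G] [Finite G]

theorem okIdx_of [IsSimpleGroup G] (hG : ¬ IsMulCommutative G) (H : Subgroup G) (hH : H ≠ ⊤) :
    okIdx (Nat.card G) H.index = true := by
  rw [okIdx, Bool.or_eq_true, Nat.beq_eq]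
  exact Or.inr (Nat.mod_eq_zero_of_dvd (Embed.two_mul_card_dvd_factorial_index hG H hH))

theorem cand1_of [IsSimpleGroup G] (hG : ¬ IsMulCommutative G) {p : ℕ} [hp : Fact p.Prime]
    (hp2 : p ≠ 2) (h1 : p ∣ Nat.card G) (h2 : ¬ p ^ 2 ∣ Nat.card G) :
    cand1 (Nat.card G) p (Nat.card (Sylow p G)) = true := by
  let P : Sylow p G := default
  have hP := card_of_not_sq_dvd h1 h2 P
  obtain ⟨e, K, hl⟩ := exists_local hG h1 h2 P
  obtain ⟨o, ho1, ho2⟩ := hl.card_sylow hG hp2 hP
  have hdpos : 0 < Nat.card (Sylow p G) := Nat.card_pos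
  have hKpos : 0 < Nat.card K := Nat.card_pos
  have hppos := hp.out.pos
  have he1 := hl.one_lt
  have hN : Nat.card G / (Nat.card (Sylow p G) * p) = e * Nat.card K := by
    rw [hl.card_eq]
    have : Nat.card (Sylow p G) * (p * e * Nat.card K) =
      (Nat.card (Sylow p G) * p) * (e * Nat.card K) := by ring
    rw [this]
    exact Nat.mul_div_cancel_left _ (Nat.mul_pos hdpos hppos)
  have hk : e * Nat.card K / e = Nat.card K := Nat.mul_div_cancel_left _ (by omega)
  have ho : (Nat.card (Sylow p G) - 1) / p = o := by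
    rw [ho1, Nat.add_sub_cancel_left, Nat.mul_div_cancel_left _ hppos]
  rw [cand1, List.any_eq_true]
  refine ⟨e, ?_, ?_⟩
  · rw [List.mem_range]
    have := Nat.le_of_dvd (by have := hp.out.two_le; omega) hl.dvd_pred
    have := hp.out.two_le
    omega
  · rw [candE, hN, hk, ho]
    simp only [Bool.and_eq_true, Bool.or_eq_true, Bool.not_eq_true', Nat.beq_eq, Nat.blt_eq]
    refine ⟨⟨⟨⟨⟨⟨he1, ?_⟩, ?_⟩, ?_⟩, okK_of ho2⟩, ?_⟩, ?_⟩
    · exact Nat.mod_eq_zero_of_dvd hl.dvd_pred
    · exact Nat.mul_mod_right _ _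
    · rw [← Bool.not_eq_true, Nat.beq_eq]
      exact fun h => hl.not_dvd (Nat.dvd_of_mod_eq_zero h)
    · by_cases hd : Nat.card (Sylow p G) = p + 1
      · right
        exact Nat.mod_eq_zero_of_dvd (hl.dvd_of_card_sylow_succ hG hp2 hP hd)
      · left
        rw [← Bool.not_eq_true, Nat.beq_eq]
        exact hd
    · rw [← Bool.not_eq_true, Bool.and_eq_true, Nat.beq_eq, Nat.beq_eq]
      rintro ⟨h3, h4⟩
      refine SieveTools.IsLocal.not_odd hG hP hl (Nat.dvd_of_mod_eq_zero h3) ?_
      intro hd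
      have := Nat.mod_eq_zero_of_dvd hd
      omega

theorem cand2_of [IsSimpleGroup G] (hG : ¬ IsMulCommutative G) {p : ℕ} [hp : Fact p.Prime]
    {P : Sylow p G} (hP : Nat.card P = p ^ 2) :
    cand2 (Nat.card G) p (Nat.card (Sylow p G)) = true := by
  have h1 := BurnsideNC.card_sylow_mul_card_normalizer P
  have h2 : p ^ 2 ∣ Nat.card (normalizer (P : Set G)) := by
    rw [← hP]
    exact Subgroup.card_dvd_of_le (Subgroup.le_normalizer (H := (P : Subgroup G)))
  obtain ⟨c, hc⟩ := h2
  rw [hc] at h1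
  have h3 := SieveTools.gcd_ne_one_of_sq hG hP h1.symm
  have hdpos : 0 < Nat.card (Sylow p G) := Nat.card_pos
  rw [cand2, ← h1, ← mul_assoc, Nat.mul_div_cancel_left _
    (Nat.mul_pos hdpos (pow_pos hp.out.pos 2)), Bool.not_eq_true', ← Bool.not_eq_true, Nat.beq_eq]
  exact h3

theorem inter_of [IsSimpleGroup G] (hG : ¬ IsMulCommutative G) {p a : ℕ} [hp : Fact p.Prime]
    {P : Sylow p G} (hP : Nat.card P = p ^ a) (ha : 2 ≤ a) :
    (Nat.beq (Nat.card (Sylow p G) % (p ^ 2)) 1 || inter (Nat.card G) p a) = true := by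
  rw [Bool.or_eq_true, Nat.beq_eq]
  by_cases hmod : Nat.card (Sylow p G) ≡ 1 [MOD p ^ 2]
  · left
    have h1 : 1 % p ^ 2 = 1 := Nat.mod_eq_of_lt (Nat.one_lt_pow two_ne_zero hp.out.one_lt)
    rw [← h1]
    rw [hmod, h1]
  · right
    obtain ⟨Q, hPQ, hD, hPN, hQN, htop⟩ := SieveTools.exists_inter hG P hP ha hmod
    set D : Subgroup G := (P : Subgroup G) ⊓ Q with hDdef
    set M := normalizer (D : Set G) with hM
    have h1 : p ^ a ∣ Nat.card M := by
      rw [← hP]
      exact Subgroup.card_dvd_of_le hPN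
    obtain ⟨t, ht⟩ := h1
    have hr1 := SieveTools.one_lt_card_sylow_of_le P Q hPQ M hPN hQN
    have hr2 := SieveTools.card_sylow_subgroup P M hPN hP ht
    have hr3 := card_sylow_modEq_one p M
    have hMi := M.card_mul_index
    rw [ht] at hMi
    have hpa : 0 < p ^ a := pow_pos hp.out.pos a
    have htpos : 0 < t := by
      rcases Nat.eq_zero_or_pos t with h | h
      · rw [h, mul_zero] at ht
        exact absurd ht Nat.card_pos.ne'
      · exact h
    have hm : Nat.card G / p ^ a = t * M.index := by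
      rw [← hMi, mul_assoc, Nat.mul_div_cancel_left _ hpa]
    have hi : M.index ≠ 0 := Subgroup.index_ne_zero_of_finite
    rw [inter, List.any_eq_true]
    refine ⟨t, ?_, ?_⟩
    · rw [List.mem_range, hm]
      have := Nat.le_mul_of_pos_right t (Nat.pos_of_ne_zero hi)
      omega
    · rw [hm]
      simp only [Bool.and_eq_true, Bool.not_eq_true', Nat.beq_eq]
      refine ⟨⟨⟨?_, Nat.mul_mod_right _ _⟩, ?_⟩, ?_⟩
      · rw [← Bool.not_eq_true, Nat.beq_eq]
        omega
      · rw [Nat.mul_div_cancel_left _ htpos]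
        exact okIdx_of hG M htop
      · rw [List.any_eq_true]
        have h5 : p ∣ Nat.card (Sylow p M) - 1 := (Nat.modEq_iff_dvd' hr1.le).1 hr3.symm
        obtain ⟨j, hj⟩ := h5
        have h6 : Nat.card (Sylow p M) = 1 + j * p := by
          rw [mul_comm j p, ← hj]; omega
        refine ⟨j, ?_, ?_⟩
        · rw [List.mem_range]
          have h7 : j * p ≤ t := by
            have := Nat.le_of_dvd htpos hr2
            omega
          have := (Nat.le_div_iff_mul_le hp.out.pos).2 h7
          omega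
        · simp only [Bool.and_eq_true, Bool.not_eq_true', Nat.beq_eq]
          refine ⟨?_, ?_⟩
          · rw [← Bool.not_eq_true, Nat.beq_eq]
            rintro rfl
            omega
          · rw [← h6]
            exact Nat.mod_eq_zero_of_dvd hr2

theorem candD_of [IsSimpleGroup G] (hG : ¬ IsMulCommutative G) {p a : ℕ} (hp : p.Prime)
    (h1 : p ^ a ∣ Nat.card G) (h2 : ¬ p ^ (a + 1) ∣ Nat.card G) :
    candD (Nat.card G) p a (Nat.card (Sylow p G)) = true := by
  have : Fact p.Prime := ⟨hp⟩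
  let P : Sylow p G := default
  have hP : Nat.card P = p ^ a := by
    rw [P.card_eq_multiplicity]
    congr 1
    have h3 : ¬ a + 1 ≤ (Nat.card G).factorization p := fun h =>
      h2 ((hp.pow_dvd_iff_le_factorization Nat.card_pos.ne').2 h)
    have h4 := (hp.pow_dvd_iff_le_factorization Nat.card_pos.ne').1 h1
    omega
  match a with
  | 0 => rfl
  | 1 =>
    rw [candD, Bool.or_eq_true, Nat.beq_eq]
    by_cases hp2 : p = 2
    · exact Or.inl hp2
    · right
      rw [pow_one] at h1
      exact cand1_of hG hp2 h1 h2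
  | 2 =>
    rw [candD, Bool.and_eq_true]
    exact ⟨cand2_of hG hP, inter_of hG hP le_rfl⟩
  | a + 3 =>
    rw [candD]
    exact inter_of hG hP (by omega)

/-- Soundness of the sieve. -/
theorem killed_sound [IsSimpleGroup G] (hG : ¬ IsMulCommutative G) {p a : ℕ} (hp : p.Prime)
    (h : killed (Nat.card G) p a = true) : False := by
  have : Fact p.Prime := ⟨hp⟩
  rw [killed] at h
  simp only [Bool.and_eq_true, Bool.not_eq_true', Nat.beq_eq] at h
  obtain ⟨⟨⟨h1, h2⟩, h3⟩, h4⟩ := h
  have ha : a ≠ 0 := by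
    rw [← Bool.not_eq_true, Nat.beq_eq] at h1
    exact h1
  have h2' : p ^ a ∣ Nat.card G := Nat.dvd_of_mod_eq_zero h2
  have h3' : ¬ p ^ (a + 1) ∣ Nat.card G := by
    rw [← Bool.not_eq_true, Nat.beq_eq] at h3
    exact fun h => h3 (Nat.mod_eq_zero_of_dvd h)
  have hdvd : p ∣ Nat.card G := (dvd_pow_self p ha).trans h2'
  have h5 := Embed.five_le_card_sylow hG hdvd
  have h6 := card_sylow_modEq_one p G
  have h7 : p ∣ Nat.card (Sylow p G) - 1 := (Nat.modEq_iff_dvd' (by omega)).1 h6.symm
  obtain ⟨j, hj⟩ := h7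
  have h8 : Nat.card (Sylow p G) = 1 + j * p := by
    rw [mul_comm j p, ← hj]; omega
  obtain ⟨m, hm⟩ := h2'
  have hmpos : 0 < m := by
    rcases Nat.eq_zero_or_pos m with h | h
    · rw [h, mul_zero] at hm
      exact absurd hm Nat.card_pos.ne'
    · exact h
  have hmp : ¬ p ∣ m := by
    intro h
    apply h3'
    rw [hm, pow_succ]
    exact Nat.mul_dvd_mul_left _ h
  have h9 : Nat.card G / p ^ a = m := by
    rw [hm, Nat.mul_div_cancel_left _ (pow_pos hp.pos a)]
  have h10 : Nat.card (Sylow p G) ∣ m := SylowPrimeInvol.card_sylow_dvd_of_card_eq default hm hmp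
  rw [List.all_eq_true] at h4
  have h11 := h4 j (by
    rw [List.mem_range, h9]
    have h12 : j * p ≤ m := by
      have := Nat.le_of_dvd hmpos h10
      omega
    have := (Nat.le_div_iff_mul_le hp.pos).2 h12
    omega)
  rw [← h8, h9] at h11
  simp only [Bool.or_eq_true, Bool.not_eq_true', Nat.beq_eq] at h11
  rcases h11 with ((h11 | h11) | h11) | h11
  · rw [h11] at h8
    omega
  · rw [← Bool.not_eq_true, Nat.beq_eq] at h11
    exact h11 (Nat.mod_eq_zero_of_dvd h10)
  · have h12 := okIdx_of hG _ (Embed.normalizer_sylow_ne_top hG hdvd (default : Sylow p G))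
    have h13 := (default : Sylow p G).card_eq_index_normalizer
    rw [h13] at h11
    exact absurd (h12.symm.trans h11) (by decide)
  · have h12 := candD_of hG hp ⟨m, hm⟩ h3'
    exact absurd (h12.symm.trans h11) (by decide)

/-! ### The automatic sieve for `n < 6241` -/

def primes : List ℕ := [2, 3, 5, 7, 11, 13, 17, 19, 23, 29, 31, 37, 41, 43, 47, 53, 59, 61, 67, 71,
  73, 79]

theorem primes_prime : ∀ p ∈ primes, p.Prime := by
  intro p hp
  fin_cases hp <;> norm_num

/-- divide out `p` -/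
def strip : ℕ → ℕ → ℕ → ℕ
  | 0, n, _ => n
  | f + 1, n, p => bif Nat.beq (n % p) 0 then strip f (n / p) p else n

/-- exponent of `p` -/
def expo : ℕ → ℕ → ℕ → ℕ
  | 0, _, _ => 0
  | f + 1, n, p => bif Nat.beq (n % p) 0 then expo f (n / p) p + 1 else 0

/-- no prime `< 80` divides `n` -/
def noSmall (n : ℕ) : Bool := primes.all fun p => !Nat.beq (n % p) 0

/-- `p` is the smallest prime divisor, `p^3 ∤ n`, and not (`p = 2`, `12 ∣ n`). -/
def minRuleAt (n p : ℕ) : Bool :=
  Nat.beq (n % p) 0 && ((List.range p).all fun q => Nat.ble q 1 || !Nat.beq (n % q) 0) &&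
    !Nat.beq (n % p ^ 3) 0 && !(Nat.beq p 2 && Nat.beq (n % 12) 0)

def autoDead (n : ℕ) : Bool :=
  noSmall n || primes.any (minRuleAt n) ||
    primes.any (fun p => Nat.beq (n % p) 0 && killed n p (expo 13 n p)) ||
    (noSmall (primes.foldl (strip 13) n) && Nat.blt 1 (primes.foldl (strip 13) n) &&
      killed n (primes.foldl (strip 13) n) 1)

theorem prime_of_noSmall {q : ℕ} (h : noSmall q = true) (h1 : 1 < q) (h2 : q < 6241) : q.Prime := by
  by_contra hcon
  have hm := Nat.minFac_sq_le_self (by omega : 0 < q) hcon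
  have hmp : (Nat.minFac q).Prime := Nat.minFac_prime (by omega)
  have hlt : Nat.minFac q < 79 := by nlinarith
  rw [noSmall, List.all_eq_true] at h
  have hmem : Nat.minFac q ∈ primes := by
    generalize Nat.minFac q = m at hmp hlt
    interval_cases m <;> first | decide | (exfalso; revert hmp; norm_num)
  have h3 := h _ hmem
  rw [Bool.not_eq_true', ← Bool.not_eq_true, Nat.beq_eq] at h3
  exact h3 (Nat.mod_eq_zero_of_dvd (Nat.minFac_dvd q))

theorem minRuleAt_sound [IsSimpleGroup G] (hG : ¬ IsMulCommutative G) {p : ℕ} (hp : p.Prime)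
    (h : minRuleAt (Nat.card G) p = true) : False := by
  have hf : Fact p.Prime := ⟨hp⟩
  rw [minRuleAt] at h
  simp only [Bool.and_eq_true, Bool.not_eq_true', Nat.beq_eq] at h
  obtain ⟨⟨⟨h1, h2⟩, h3⟩, h4⟩ := h
  rw [List.all_eq_true] at h2
  rw [← Bool.not_eq_true, Nat.beq_eq] at h3
  rw [← Bool.not_eq_true, Bool.and_eq_true, Nat.beq_eq, Nat.beq_eq] at h4
  have hdvd : p ∣ Nat.card G := Nat.dvd_of_mod_eq_zero h1
  have hmin : (Nat.card G).minFac = p := by
    apply le_antisymm (Nat.minFac_le_of_dvd hp.two_le hdvd)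
    by_contra hlt
    push Not at hlt
    have h5 := h2 _ (List.mem_range.2 hlt)
    have h6 : (Nat.card G).minFac.Prime := Nat.minFac_prime (by
      have := Finite.one_lt_card (α := G); omega)
    rw [Bool.or_eq_true] at h5
    rcases h5 with h5 | h5
    · have h7 := Nat.le_of_ble_eq_true h5
      have := h6.two_le
      omega
    · rw [Bool.not_eq_true', ← Bool.not_eq_true, Nat.beq_eq] at h5
      exact h5 (Nat.mod_eq_zero_of_dvd (Nat.minFac_dvd _))
  have hsq := EvenOrder.minFac_sq_dvd_card hG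
  rw [hmin] at hsq
  let P : Sylow p G := default
  have hP : Nat.card P = p ^ 2 := by
    rw [P.card_eq_multiplicity]
    congr 1
    have h5 : ¬ 3 ≤ (Nat.card G).factorization p := fun h =>
      h3 (Nat.mod_eq_zero_of_dvd ((hp.pow_dvd_iff_le_factorization Nat.card_pos.ne').2 h))
    have h6 := (hp.pow_dvd_iff_le_factorization Nat.card_pos.ne').1 hsq
    omega
  have hne : Nat.card G ≠ p := fun h => Embed.card_not_prime_of_not_comm hG (h ▸ hp)
  obtain ⟨h5, h6⟩ := SylowPSq.two_of_card_sylow_sq hmin P hP hne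
  apply h4
  refine ⟨h5, ?_⟩
  rw [h5] at hsq
  have h7 : 4 * 3 ∣ Nat.card G := Nat.Coprime.mul_dvd_of_dvd_of_dvd (by norm_num) hsq h6
  exact Nat.mod_eq_zero_of_dvd h7

theorem autoDead_sound [IsSimpleGroup G] (hG : ¬ IsMulCommutative G) (hlt : Nat.card G < 6241)
    (h : autoDead (Nat.card G) = true) : False := by
  have hone : 1 < Nat.card G := Finite.one_lt_card
  rw [autoDead] at h
  simp only [Bool.or_eq_true, Bool.and_eq_true, List.any_eq_true] at h
  rcases h with ((h | h) | h) | h
  · exact Embed.card_not_prime_of_not_comm hG (prime_of_noSmall h hone hlt)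
  · obtain ⟨p, hp, h⟩ := h
    exact minRuleAt_sound hG (primes_prime p hp) h
  · obtain ⟨p, hp, h⟩ := h
    exact killed_sound hG (primes_prime p hp) h.2
  · obtain ⟨⟨h1, h2⟩, h3⟩ := h
    generalize primes.foldl (strip 13) (Nat.card G) = q at h1 h2 h3
    have h2' : 1 < q := by
      rw [Nat.blt_eq] at h2; exact h2
    have hq : q ≤ Nat.card G := by
      have h4 := h3
      rw [killed] at h4
      simp only [Bool.and_eq_true, Bool.not_eq_true', Nat.beq_eq] at h4
      have h5 : q ∣ Nat.card G := by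
        have := Nat.dvd_of_mod_eq_zero h4.1.1.2
        rwa [pow_one] at this
      exact Nat.le_of_dvd (by omega) h5
    exact killed_sound hG (prime_of_noSmall h1 h2' (by omega)) h3

/-- The form used for ranges: all survivors of the sieve among `a, a+1, ..., a+len-1` are in `L`. -/
theorem mem_of_range [IsSimpleGroup G] (hG : ¬ IsMulCommutative G) (a len : ℕ) (L : List ℕ)
    (hL : ((List.range len).all fun i => autoDead (a + i) || L.any (Nat.beq (a + i))) = true)
    (h1 : a ≤ Nat.card G) (h2 : Nat.card G < a + len) (hlt : Nat.card G < 6241) :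
    Nat.card G ∈ L := by
  rw [List.all_eq_true] at hL
  obtain ⟨i, hi⟩ := Nat.exists_eq_add_of_le h1
  have h3 := hL i (List.mem_range.2 (by omega))
  rw [← hi, Bool.or_eq_true] at h3
  rcases h3 with h3 | h3
  · exact absurd (autoDead_sound hG hlt h3) id
  · rw [List.any_eq_true] at h3
    obtain ⟨x, hx, h4⟩ := h3
    rw [Nat.beq_eq] at h4
    rw [h4]
    exact hx

end Cfsg.Agent.SmallSimple.Sieve
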