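import Mathlib
import Cfsg.Agent.SmallSimple.Sieve

/-!
# Numerical local data `(n_p, e, k)` of a simple group for the primes dividing the order once
-/

set_option autoImplicit false
set_option linter.unusedSectionVars false

namespace Cfsg.Agent.SmallSimple.LocalData

open Subgroup Cfsg.Agent.SmallSimple.PrimeLocal Cfsg.Agent.SmallSimple.Sieve

variable {G : Type*} [Group G] [Finite G]

/-- The list of all triples `(n_p, e, k)` passing the elementary tests. -/
def candList (n p : ℕ) : List (ℕ × ℕ × ℕ) :=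
  (List.range (n / p / p + 1)).flatMap fun j =>
    bif !Nat.beq j 0 && Nat.beq ((n / p) % (1 + j * p)) 0 && okIdx n (1 + j * p) then
      ((List.range p).filter (candE n p (1 + j * p))).map
        fun e => (1 + j * p, e, n / ((1 + j * p) * p) / e)
    else []

/-- Every Sylow `p`-subgroup has order `p`, `|N(P):C(P)| = e` and `|C(P)| = p k`. -/
structure Data (G : Type*) [Group G] [Finite G] (p e k : ℕ) : Prop where
  prime : p.Prime
  dvd : p ∣ Nat.card G
  not_sq_dvd : ¬ p ^ 2 ∣ Nat.card G
  loc : ∀ P : Sylow p G, ∃ K : Subgroup G, IsLocal p P e K ∧ Nat.card K = k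

theorem card_normalizer_eq {p : ℕ} [Fact p.Prime] (P Q : Sylow p G) :
    Nat.card (normalizer (P : Set G)) = Nat.card (normalizer (Q : Set G)) := by
  have h1 := BurnsideNC.card_sylow_mul_card_normalizer P
  have h2 := BurnsideNC.card_sylow_mul_card_normalizer Q
  exact Nat.eq_of_mul_eq_mul_left Nat.card_pos (h1.trans h2.symm)

theorem card_centralizer_le {p : ℕ} (P : Sylow p G) (g : G) :
    Nat.card (centralizer (P : Set G)) ≤ Nat.card (centralizer ((g • P : Sylow p G) : Set G)) := by
  have h1 := map_centralizer_le_centralizer_image (P : Set G) (MulAut.conj g).toMonoidHom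
  have h2 := Subgroup.card_le_of_le h1
  rw [Nat.card_congr ((centralizer (P : Set G)).equivMapOfInjective _
    (MulAut.conj g).injective).symm.toEquiv] at h2
  exact h2

theorem card_centralizer_eq {p : ℕ} [Fact p.Prime] (P Q : Sylow p G) :
    Nat.card (centralizer (P : Set G)) = Nat.card (centralizer (Q : Set G)) := by
  obtain ⟨g, hg⟩ := MulAction.exists_smul_eq G P Q
  obtain ⟨g', hg'⟩ := MulAction.exists_smul_eq G Q P
  apply le_antisymm
  · rw [← hg]; exact card_centralizer_le P g
  · rw [← hg']; exact card_centralizer_le Q g'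

theorem exists_data [IsSimpleGroup G] (hG : ¬ IsMulCommutative G) {p : ℕ} (hp : p.Prime)
    (hp2 : p ≠ 2) (h1 : p ∣ Nat.card G) (h2 : ¬ p ^ 2 ∣ Nat.card G) :
    ∃ e k : ℕ, Data G p e k ∧ (Nat.card (Sylow p G), e, k) ∈ candList (Nat.card G) p := by
  have : Fact p.Prime := ⟨hp⟩
  let P : Sylow p G := default
  have hP := card_of_not_sq_dvd h1 h2 P
  obtain ⟨e, K, hl⟩ := exists_local hG h1 h2 P
  refine ⟨e, Nat.card K, ⟨hp, h1, h2, ?_⟩, ?_⟩
  · intro Q
    obtain ⟨e', K', hl'⟩ := exists_local hG h1 h2 Q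
    have h3 := card_centralizer_eq P Q
    rw [hl.card_centralizer, hl'.card_centralizer] at h3
    have h4 := Nat.eq_of_mul_eq_mul_left hp.pos h3
    have h5 := card_normalizer_eq P Q
    rw [hl.card_normalizer, hl'.card_normalizer, h4] at h5
    have h6 := Nat.eq_of_mul_eq_mul_left hp.pos
      (Nat.eq_of_mul_eq_mul_right (Nat.card_pos (α := K')) h5)
    subst h6
    exact ⟨K', hl', h4.symm⟩
  · -- membership in the list
    have h5 := Embed.five_le_card_sylow hG h1
    have h6 := card_sylow_modEq_one p G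
    have h7 : p ∣ Nat.card (Sylow p G) - 1 := (Nat.modEq_iff_dvd' (by omega)).1 h6.symm
    obtain ⟨j, hj⟩ := h7
    have h8 : Nat.card (Sylow p G) = 1 + j * p := by
      rw [mul_comm j p, ← hj]; omega
    have hdpos : 0 < Nat.card (Sylow p G) := Nat.card_pos
    have hKpos : 0 < Nat.card K := Nat.card_pos
    have hepos : 0 < e := by have := hl.one_lt; omega
    have h9 : Nat.card G / p = Nat.card (Sylow p G) * (e * Nat.card K) := by
      rw [hl.card_eq]
      have : Nat.card (Sylow p G) * (p * e * Nat.card K) =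
        p * (Nat.card (Sylow p G) * (e * Nat.card K)) := by ring
      rw [this, Nat.mul_div_cancel_left _ hp.pos]
    have h10 : Nat.card G / (Nat.card (Sylow p G) * p) / e = Nat.card K := by
      have : Nat.card G = (Nat.card (Sylow p G) * p) * (e * Nat.card K) := by
        rw [hl.card_eq]; ring
      rw [this, Nat.mul_div_cancel_left _ (Nat.mul_pos hdpos hp.pos),
        Nat.mul_div_cancel_left _ hepos]
    have hcand : candE (Nat.card G) p (Nat.card (Sylow p G)) e = true := by
      obtain ⟨o, ho1, ho2⟩ := hl.card_sylow hG hp2 hP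
      have he1 := hl.one_lt
      have hN : Nat.card G / (Nat.card (Sylow p G) * p) = e * Nat.card K := by
        have : Nat.card G = (Nat.card (Sylow p G) * p) * (e * Nat.card K) := by
          rw [hl.card_eq]; ring
        rw [this]
        exact Nat.mul_div_cancel_left _ (Nat.mul_pos hdpos hp.pos)
      have hk : e * Nat.card K / e = Nat.card K := Nat.mul_div_cancel_left _ (by omega)
      have ho : (Nat.card (Sylow p G) - 1) / p = o := by
        rw [ho1, Nat.add_sub_cancel_left, Nat.mul_div_cancel_left _ hp.pos]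
      rw [candE, hN, hk, ho]
      simp only [Bool.and_eq_true, Bool.or_eq_true, Bool.not_eq_true', Nat.beq_eq, Nat.blt_eq]
      refine ⟨⟨⟨⟨⟨⟨he1, ?_⟩, ?_⟩, ?_⟩, okK_of ho2⟩, ?_⟩, ?_⟩
      · exact Nat.mod_eq_zero_of_dvd hl.dvd_pred
      · exact Nat.mul_mod_right _ _
      · rw [← Bool.not_eq_true, Nat.beq_eq]
        exact fun h => hl.not_dvd (Nat.dvd_of_mod_eq_zero h)
      · by_cases hd : Nat.card (Sylow p G) = p + 1
        · right
          exact Nat.mod_eq_zero_of_dvd (hl.dvd_of_card_sylow_succ hG hp2 hP hd)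
        · left
          rw [← Bool.not_eq_true, Nat.beq_eq]
          exact hd
      · rw [← Bool.not_eq_true, Bool.and_eq_true, Nat.beq_eq, Nat.beq_eq]
        rintro ⟨h3, h4⟩
        refine SieveTools.IsLocal.not_odd hG hP hl (Nat.dvd_of_mod_eq_zero h3) ?_
        intro hd
        have := Nat.mod_eq_zero_of_dvd hd
        omega
    rw [candList, List.mem_flatMap]
    refine ⟨j, ?_, ?_⟩
    · rw [List.mem_range]
      have h12 : j * p ≤ Nat.card G / p := by
        rw [h9]
        have := Nat.le_mul_of_pos_right (Nat.card (Sylow p G)) (Nat.mul_pos hepos hKpos)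
        omega
      have := (Nat.le_div_iff_mul_le hp.pos).2 h12
      omega
    · rw [← h8]
      have hc : (!Nat.beq j 0 && Nat.beq ((Nat.card G / p) % Nat.card (Sylow p G)) 0 &&
          okIdx (Nat.card G) (Nat.card (Sylow p G))) = true := by
        simp only [Bool.and_eq_true, Bool.not_eq_true', Nat.beq_eq]
        refine ⟨⟨?_, ?_⟩, ?_⟩
        · rw [← Bool.not_eq_true, Nat.beq_eq]
          rintro rfl
          omega
        · rw [h9]
          exact Nat.mul_mod_right _ _
        · rw [P.card_eq_index_normalizer]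
          exact okIdx_of hG _ (Embed.normalizer_sylow_ne_top hG h1 P)
      rw [hc, cond_true, List.mem_map]
      refine ⟨e, ?_, ?_⟩
      · rw [List.mem_filter, List.mem_range]
        refine ⟨?_, hcand⟩
        have := Nat.le_of_dvd (by have := hp.two_le; omega) hl.dvd_pred
        have := hp.two_le
        omega
      · rw [h10]

theorem Data.card_sylow_mul {p e k : ℕ} (h : Data G p e k) :
    Nat.card (Sylow p G) * (p * e * k) = Nat.card G := by
  have : Fact p.Prime := ⟨h.prime⟩
  obtain ⟨K, hK, rfl⟩ := h.loc default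
  exact hK.card_eq.symm

theorem Data.card_normalizer {p e k : ℕ} (h : Data G p e k) (P : Sylow p G) :
    Nat.card (normalizer (P : Set G)) = p * e * k := by
  obtain ⟨K, hK, rfl⟩ := h.loc P
  exact hK.card_normalizer

theorem Data.card_centralizer {p e k : ℕ} (h : Data G p e k) (P : Sylow p G) :
    Nat.card (centralizer (P : Set G)) = p * k := by
  obtain ⟨K, hK, rfl⟩ := h.loc P
  exact hK.card_centralizer

theorem Data.card_eq {p e k : ℕ} (h : Data G p e k) (P : Sylow p G) : Nat.card P = p :=
  have : Fact p.Prime := ⟨h.prime⟩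
  card_of_not_sq_dvd h.dvd h.not_sq_dvd P

/-- A subgroup of order `q` (`q ∥ |G|`) is a Sylow subgroup. -/
theorem exists_sylow_eq {q : ℕ} (hq : q.Prime) (h2 : ¬ q ^ 2 ∣ Nat.card G) (R : Subgroup G)
    (hR : Nat.card R = q) : ∃ S : Sylow q G, (S : Subgroup G) = R := by
  have : Fact q.Prime := ⟨hq⟩
  have h1 : q ∣ Nat.card G := hR ▸ R.card_subgroup_dvd_card
  obtain ⟨S, hS⟩ := IsPGroup.exists_le_sylow (IsPGroup.of_card (n := 1) (by rw [hR, pow_one]) :
    IsPGroup q R)
  refine ⟨S, (Subgroup.eq_of_le_of_card_ge hS ?_).symm⟩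
  have h3 : Nat.card (S : Subgroup G) = q := card_of_not_sq_dvd h1 h2 S
  rw [hR, h3]

/-- If `q ∣ k_p` then a Sylow `p`-subgroup centralizes some Sylow `q`-subgroup. -/
theorem Data.exists_commuting {p e k q : ℕ} (h : Data G p e k) (P : Sylow p G) (hq : q.Prime)
    (hqk : q ∣ k) (h2 : ¬ q ^ 2 ∣ Nat.card G) :
    ∃ R : Sylow q G, (R : Subgroup G) ≤ centralizer (P : Set G) := by
  have : Fact q.Prime := ⟨hq⟩
  obtain ⟨K, hK, rfl⟩ := h.loc P
  obtain ⟨x, hx⟩ := exists_prime_orderOf_dvd_card' q hqk
  have h3 : Nat.card (zpowers (x : G)) = q := by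
    rw [Nat.card_zpowers, Subgroup.orderOf_coe, hx]
  obtain ⟨R, hR⟩ := exists_sylow_eq hq h2 (zpowers (x : G)) h3
  refine ⟨R, ?_⟩
  rw [hR, zpowers_le]
  exact hK.le_centralizer x.2

/-- If `q ∣ k_p` then `p ∣ k_q`. -/
theorem Data.dvd_of_dvd {p e k q e' k' : ℕ} (h : Data G p e k) (h' : Data G q e' k')
    (hpq : p ≠ q) (hqk : q ∣ k) : p ∣ k' := by
  have : Fact p.Prime := ⟨h.prime⟩
  have : Fact q.Prime := ⟨h'.prime⟩
  obtain ⟨R, hR⟩ := h.exists_commuting default h'.prime hqk h'.not_sq_dvd
  have h1 : ((default : Sylow p G) : Subgroup G) ≤ centralizer (R : Set G) := by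
    exact (Subgroup.le_centralizer_iff (H := (R : Subgroup G))
      (K := ((default : Sylow p G) : Subgroup G))).1 hR
  have h2 := Subgroup.card_dvd_of_le h1
  rw [h'.card_centralizer R] at h2
  have h3 : Nat.card ((default : Sylow p G) : Subgroup G) = p := h.card_eq _
  rw [h3] at h2
  rcases (h.prime.dvd_mul).1 h2 with h4 | h4
  · exact absurd ((Nat.prime_dvd_prime_iff_eq h.prime h'.prime).1 h4) hpq
  · exact h4

/-- If `q ∣ k_p` and a group of order `k_p` has only one Sylow `q`-subgroup for numerical reasons,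
then `N(P)` normalizes a Sylow `q`-subgroup of `G`. -/
theorem Data.dvd_normalizer {p e k q e' k' : ℕ} (h : Data G p e k) (h' : Data G q e' k')
    (hqk : q ∣ k) (huniq : ∀ r, r ∣ k / q → r % q = 1 → r = 1) :
    p * e * k ∣ q * e' * k' := by
  have : Fact p.Prime := ⟨h.prime⟩
  have hq : Fact q.Prime := ⟨h'.prime⟩
  obtain ⟨K, hK, rfl⟩ := h.loc default
  -- Sylow `q`-subgroup of `K`
  have hKq2 : ¬ q ^ 2 ∣ Nat.card K := fun h3 => h'.not_sq_dvd (h3.trans K.card_subgroup_dvd_card)
  let R : Sylow q K := default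
  have hRc : Nat.card R = q := card_of_not_sq_dvd hqk hKq2 R
  have hRc' : Nat.card (R : Subgroup K) = q := hRc
  have h1 : Nat.card (Sylow q K) ∣ Nat.card K / q := by
    have h3 := R.card_dvd_index
    have h4 := (R : Subgroup K).card_mul_index
    rw [hRc'] at h4
    rwa [← h4, Nat.mul_div_cancel_left _ hq.out.pos]
  have h2 : Nat.card (Sylow q K) = 1 := by
    apply huniq _ h1
    have h3 := card_sylow_modEq_one q K
    have h4 : 1 % q = 1 := Nat.mod_eq_of_lt hq.out.one_lt
    rw [← h4]
    rw [h3, h4]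
  have hsub : Subsingleton (Sylow q K) := (Nat.card_eq_one_iff_unique.1 h2).1
  have hchar : (R : Subgroup K).Characteristic := R.characteristic_of_subsingleton
  have h3 : normalizer (K : Set G) ≤ normalizer (((R : Subgroup K).map K.subtype : Subgroup G) : Set G) := by
    intro g hg
    rw [mem_normalizer_iff]
    have key : ∀ g ∈ normalizer (K : Set G), ∀ x, x ∈ (R : Subgroup K).map K.subtype →
        g * x * g⁻¹ ∈ (R : Subgroup K).map K.subtype := by
      rintro g hg x ⟨y, hy, rfl⟩
      let φ : MulAut K := K.normalizerMonoidHom ⟨g, hg⟩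
      have h4 : φ y ∈ (R : Subgroup K) := by
        have h5 := hchar.fixed φ
        have h6 : y ∈ (R : Subgroup K).comap φ.toMonoidHom := by rw [h5]; exact hy
        exact h6
      exact ⟨φ y, h4, rfl⟩
    intro x
    constructor
    · exact key g hg x
    · intro h4
      have := key g⁻¹ (inv_mem hg) _ h4
      simpa [mul_assoc] using this
  have h4 : Nat.card ((R : Subgroup K).map K.subtype) = q := by
    rw [Nat.card_congr ((R : Subgroup K).equivMapOfInjective _ K.subtype_injective).symm.toEquiv]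
    exact hRc
  obtain ⟨S, hS⟩ := exists_sylow_eq hq.out h'.not_sq_dvd _ h4
  rw [← hS] at h3
  have h5 := Subgroup.card_dvd_of_le (hK.normalizer_le.trans h3)
  have h6 := h'.card_normalizer S
  rw [hK.card_normalizer] at h5
  exact h5.trans (dvd_of_eq h6)

/-- Tool K for the index of a subgroup. -/
theorem Data.dvd_of_index [IsSimpleGroup G] (hG : ¬ IsMulCommutative G) {p e k : ℕ}
    (h : Data G p e k) (hp2 : p ≠ 2) (H : Subgroup G) (hH : H ≠ ⊤) {o : ℕ}
    (hm : H.index = p * o) : 2 * k ∣ o.factorial ∨ (o = 1 ∧ k = 1) := by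
  have : Fact p.Prime := ⟨h.prime⟩
  obtain ⟨K, hK, rfl⟩ := h.loc default
  refine hK.dvd_of_index hG hp2 (h.card_eq _) H hH ?_ hm rfl
  intro hd
  apply h.not_sq_dvd
  rw [← H.card_mul_index, hm, pow_two]
  exact Nat.mul_dvd_mul hd (Dvd.intro o rfl)

theorem Data.dvd_of_index_succ [IsSimpleGroup G] (hG : ¬ IsMulCommutative G) {p e k : ℕ}
    (h : Data G p e k) (hp2 : p ≠ 2) (H : Subgroup G) (hH : H ≠ ⊤)
    (hidx : H.index = p ∨ H.index = p + 1) : 2 * (e * k) ∣ p - 1 := by
  have : Fact p.Prime := ⟨h.prime⟩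
  obtain ⟨K, hK, rfl⟩ := h.loc default
  exact hK.dvd_of_index_succ hG hp2 (h.card_eq _) H hH hidx

/-- Tool K for the index `n_q`. -/
theorem Data.dvd_of_card_sylow [IsSimpleGroup G] (hG : ¬ IsMulCommutative G) {p e k q : ℕ}
    (h : Data G p e k) (hp2 : p ≠ 2) (hq : q.Prime) (hqd : q ∣ Nat.card G) {o : ℕ}
    (hm : Nat.card (Sylow q G) = p * o) : 2 * k ∣ o.factorial ∨ (o = 1 ∧ k = 1) := by
  have : Fact q.Prime := ⟨hq⟩
  refine h.dvd_of_index hG hp2 _ (Embed.normalizer_sylow_ne_top hG hqd (default : Sylow q G)) ?_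
  rw [← hm]
  exact (default : Sylow q G).card_eq_index_normalizer.symm

/-- The possible numbers of Sylow `p`-subgroups according to the sieve. -/
def sylList (n p a : ℕ) : List ℕ :=
  ((List.range (n / p ^ a / p + 1)).filter fun j =>
    !Nat.beq j 0 && Nat.beq ((n / p ^ a) % (1 + j * p)) 0 && okIdx n (1 + j * p) &&
      candD n p a (1 + j * p)).map fun j => 1 + j * p

theorem mem_sylList [IsSimpleGroup G] (hG : ¬ IsMulCommutative G) {p a : ℕ} (hp : p.Prime)
    (ha : a ≠ 0) (h1 : p ^ a ∣ Nat.card G) (h2 : ¬ p ^ (a + 1) ∣ Nat.card G) :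
    Nat.card (Sylow p G) ∈ sylList (Nat.card G) p a := by
  have : Fact p.Prime := ⟨hp⟩
  have hdvd : p ∣ Nat.card G := (dvd_pow_self p ha).trans h1
  have h5 := Embed.five_le_card_sylow hG hdvd
  have h6 := card_sylow_modEq_one p G
  have h7 : p ∣ Nat.card (Sylow p G) - 1 := (Nat.modEq_iff_dvd' (by omega)).1 h6.symm
  obtain ⟨j, hj⟩ := h7
  have h8 : Nat.card (Sylow p G) = 1 + j * p := by
    rw [mul_comm j p, ← hj]; omega
  obtain ⟨m, hm⟩ := h1
  have hmpos : 0 < m := by
    rcases Nat.eq_zero_or_pos m with h | h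
    · rw [h, mul_zero] at hm
      exact absurd hm Nat.card_pos.ne'
    · exact h
  have hmp : ¬ p ∣ m := by
    intro h
    apply h2
    rw [hm, pow_succ]
    exact Nat.mul_dvd_mul_left _ h
  have h9 : Nat.card G / p ^ a = m := by
    rw [hm, Nat.mul_div_cancel_left _ (pow_pos hp.pos a)]
  have h10 : Nat.card (Sylow p G) ∣ m := SylowPrimeInvol.card_sylow_dvd_of_card_eq default hm hmp
  rw [sylList, List.mem_map]
  refine ⟨j, ?_, h8.symm⟩
  rw [List.mem_filter, List.mem_range, h9, ← h8]
  refine ⟨?_, ?_⟩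
  · have h12 : j * p ≤ m := by
      have := Nat.le_of_dvd hmpos h10
      omega
    have := (Nat.le_div_iff_mul_le hp.pos).2 h12
    omega
  · simp only [Bool.and_eq_true, Bool.not_eq_true', Nat.beq_eq]
    refine ⟨⟨⟨?_, Nat.mod_eq_zero_of_dvd h10⟩, ?_⟩, candD_of hG hp ⟨m, hm⟩ h2⟩
    · rw [← Bool.not_eq_true, Nat.beq_eq]
      rintro rfl
      omega
    · rw [(default : Sylow p G).card_eq_index_normalizer]
      exact okIdx_of hG _ (Embed.normalizer_sylow_ne_top hG hdvd (default : Sylow p G))

/-- The possible `t = |N(D)| / p^a` for a Sylow intersection `D` of index `p`. -/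
def interList (n p a : ℕ) : List ℕ :=
  (List.range (n / p ^ a + 1)).filter fun t =>
    !Nat.beq t 0 && Nat.beq ((n / p ^ a) % t) 0 && okIdx n (n / p ^ a / t) &&
      (List.range (t / p + 1)).any fun j => !Nat.beq j 0 && Nat.beq (t % (1 + j * p)) 0

/-- Sylow intersections of index `p`, numerically. -/
theorem exists_inter' [IsSimpleGroup G] (hG : ¬ IsMulCommutative G) {p a : ℕ} (hp : p.Prime)
    (ha : 2 ≤ a) (h1 : p ^ a ∣ Nat.card G) (h2 : ¬ p ^ (a + 1) ∣ Nat.card G)
    (hmod : ¬ Nat.card (Sylow p G) ≡ 1 [MOD p ^ 2]) :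
    ∃ (P Q : Sylow p G) (t : ℕ), P ≠ Q ∧ Nat.card P = p ^ a ∧
      Nat.card ((P : Subgroup G) ⊓ Q : Subgroup G) = p ^ (a - 1) ∧
      (P : Subgroup G) ≤ normalizer (((P : Subgroup G) ⊓ Q : Subgroup G) : Set G) ∧
      (Q : Subgroup G) ≤ normalizer (((P : Subgroup G) ⊓ Q : Subgroup G) : Set G) ∧
      normalizer (((P : Subgroup G) ⊓ Q : Subgroup G) : Set G) ≠ ⊤ ∧
      Nat.card (normalizer (((P : Subgroup G) ⊓ Q : Subgroup G) : Set G)) = p ^ a * t ∧
      Nat.card G / p ^ a = t * (normalizer (((P : Subgroup G) ⊓ Q : Subgroup G) : Set G)).index ∧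
      t ∈ interList (Nat.card G) p a := by
  have : Fact p.Prime := ⟨hp⟩
  let P : Sylow p G := default
  have hP : Nat.card P = p ^ a := by
    rw [P.card_eq_multiplicity]
    congr 1
    have h3 : ¬ a + 1 ≤ (Nat.card G).factorization p := fun h =>
      h2 ((hp.pow_dvd_iff_le_factorization Nat.card_pos.ne').2 h)
    have h4 := (hp.pow_dvd_iff_le_factorization Nat.card_pos.ne').1 h1
    omega
  obtain ⟨Q, hPQ, hD, hPN, hQN, htop⟩ := SieveTools.exists_inter hG P hP ha hmod
  have hPt : p ^ a ∣ Nat.card (normalizer (((P : Subgroup G) ⊓ Q : Subgroup G) : Set G)) := by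
    rw [← hP]
    exact Subgroup.card_dvd_of_le hPN
  obtain ⟨t, ht⟩ := hPt
  set M := normalizer (((P : Subgroup G) ⊓ Q : Subgroup G) : Set G) with hM
  have hr1 := SieveTools.one_lt_card_sylow_of_le P Q hPQ M hPN hQN
  have hr2 := SieveTools.card_sylow_subgroup P M hPN hP ht
  have hr3 := card_sylow_modEq_one p M
  have hMi := M.card_mul_index
  rw [ht] at hMi
  have hpa : 0 < p ^ a := pow_pos hp.pos a
  have htpos : 0 < t := by
    rcases Nat.eq_zero_or_pos t with h | h
    · rw [h, mul_zero] at ht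
      exact absurd ht Nat.card_pos.ne'
    · exact h
  have hm : Nat.card G / p ^ a = t * M.index := by
    rw [← hMi, mul_assoc, Nat.mul_div_cancel_left _ hpa]
  have hi : M.index ≠ 0 := Subgroup.index_ne_zero_of_finite
  refine ⟨P, Q, t, hPQ, hP, hD, hPN, hQN, htop, ht, hm, ?_⟩
  rw [interList, List.mem_filter, List.mem_range, hm]
  refine ⟨?_, ?_⟩
  · have := Nat.le_mul_of_pos_right t (Nat.pos_of_ne_zero hi)
    omega
  · simp only [Bool.and_eq_true, Bool.not_eq_true', Nat.beq_eq]
    refine ⟨⟨⟨?_, Nat.mul_mod_right _ _⟩, ?_⟩, ?_⟩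
    · rw [← Bool.not_eq_true, Nat.beq_eq]
      omega
    · rw [Nat.mul_div_cancel_left _ htpos]
      exact okIdx_of hG M htop
    · rw [List.any_eq_true]
      have h5 : p ∣ Nat.card (Sylow p M) - 1 := (Nat.modEq_iff_dvd' hr1.le).1 hr3.symm
      obtain ⟨j, hj⟩ := h5
      have h6 : Nat.card (Sylow p M) = 1 + j * p := by
        rw [mul_comm j p, ← hj]; omega
      refine ⟨j, ?_, ?_⟩
      · rw [List.mem_range]
        have h7 : j * p ≤ t := by
          have := Nat.le_of_dvd htpos hr2
          omega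
        have := (Nat.le_div_iff_mul_le hp.pos).2 h7
        omega
      · simp only [Bool.and_eq_true, Bool.not_eq_true', Nat.beq_eq]
        refine ⟨?_, ?_⟩
        · rw [← Bool.not_eq_true, Nat.beq_eq]
          rintro rfl
          omega
        · rw [← h6]
          exact Nat.mod_eq_zero_of_dvd hr2

theorem mod_eq_one_of_modEq {p r : ℕ} (hp : 1 < p) (h : r ≡ 1 [MOD p]) : r % p = 1 := by
  have h4 : 1 % p = 1 := Nat.mod_eq_of_lt hp
  have h5 : r % p = 1 % p := h
  rw [h5, h4]

/-- Sylow counting in a subgroup `M` with `p ∣ |M|`. -/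
theorem Data.subgroup_count {p e k : ℕ} (h : Data G p e k) (M : Subgroup G)
    (hpM : p ∣ Nat.card M) :
    ∃ r y, Nat.card M = r * y ∧ r % p = 1 ∧ p ∣ y ∧ y ∣ p * e * k := by
  have hf : Fact p.Prime := ⟨h.prime⟩
  have hM2 : ¬ p ^ 2 ∣ Nat.card M := fun h3 => h.not_sq_dvd (h3.trans M.card_subgroup_dvd_card)
  let R : Sylow p M := default
  have hRc : Nat.card R = p := card_of_not_sq_dvd hpM hM2 R
  have h4 : Nat.card ((R : Subgroup M).map M.subtype) = p := by
    rw [Nat.card_congr ((R : Subgroup M).equivMapOfInjective _ M.subtype_injective).symm.toEquiv]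
    exact hRc
  obtain ⟨S, hS⟩ := exists_sylow_eq h.prime h.not_sq_dvd _ h4
  refine ⟨Nat.card (Sylow p M), Nat.card (normalizer (R : Set M)), ?_, ?_, ?_, ?_⟩
  · exact (BurnsideNC.card_sylow_mul_card_normalizer R).symm
  · exact mod_eq_one_of_modEq hf.out.one_lt (card_sylow_modEq_one p M)
  · have h5 := Subgroup.card_dvd_of_le (Subgroup.le_normalizer (H := (R : Subgroup M)))
    rwa [show Nat.card (R : Subgroup M) = p from hRc] at h5
  · rw [← h.card_normalizer S]
    have h5 : (normalizer (R : Set M)).map M.subtype ≤ normalizer (S : Set G) := by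
      have h6 : (S : Set G) = (((R : Subgroup M).map M.subtype : Subgroup G) : Set G) := by
        rw [← hS]; rfl
      rw [h6]
      exact le_normalizer_map M.subtype
    have h7 := Subgroup.card_dvd_of_le h5
    rwa [Nat.card_congr ((normalizer (R : Set M)).equivMapOfInjective _
      M.subtype_injective).symm.toEquiv] at h7

/-- Sylow counting in a subgroup `M` containing `N(P)`. -/
theorem Data.subgroup_count_of_le {p e k : ℕ} (h : Data G p e k) (M : Subgroup G) (P : Sylow p G)
    (hM : normalizer (P : Set G) ≤ M) :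
    ∃ r, Nat.card M = p * e * k * r ∧ r % p = 1 := by
  have hf : Fact p.Prime := ⟨h.prime⟩
  have hPM : (P : Subgroup G) ≤ M := (le_normalizer (H := (P : Subgroup G))).trans hM
  refine ⟨Nat.card (Sylow p M), ?_, mod_eq_one_of_modEq hf.out.one_lt (card_sylow_modEq_one p M)⟩
  rw [← BurnsideNC.card_sylow_mul_card_normalizer (P.subtype hPM), mul_comm]
  congr 1
  rw [← h.card_normalizer P]
  have h1 : (normalizer (P.subtype hPM : Set M)).map M.subtype = normalizer (P : Set G) := by
    have h2 : normalizer (P.subtype hPM : Set M) = (normalizer (P : Set G)).subgroupOf M := by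
      have h3 : (P.subtype hPM : Set M) = (((P : Subgroup G).subgroupOf M : Subgroup M) : Set M) := rfl
      rw [h3]
      ext x
      rw [mem_subgroupOf, mem_normalizer_iff]
      change _ ↔ (x : G) ∈ normalizer ((P : Subgroup G) : Set G)
      rw [mem_normalizer_iff]
      constructor
      · intro h4 y
        constructor
        · intro hy
          have := (h4 ⟨y, hPM hy⟩).1 (mem_subgroupOf.2 hy)
          exact mem_subgroupOf.1 this
        · intro hy
          have hy' : (x : G) * y * (x : G)⁻¹ ∈ M := hPM hy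
          have hyM : y ∈ M := by
            have := M.mul_mem (M.mul_mem (M.inv_mem x.2) hy') x.2
            simpa [mul_assoc] using this
          have := (h4 ⟨y, hyM⟩).2 (mem_subgroupOf.2 hy)
          exact mem_subgroupOf.1 this
      · intro h4 y
        rw [mem_subgroupOf, mem_subgroupOf]
        exact h4 (y : G)
    rw [h2]
    rw [Subgroup.subgroupOf_map_subtype]
    exact inf_eq_left.2 hM
  rw [← h1]
  exact Nat.card_congr ((normalizer (P.subtype hPM : Set M)).equivMapOfInjective _
    M.subtype_injective).toEquiv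

/-- The number of elements of order `p`. -/
theorem Data.card_orderOf_eq {p e k : ℕ} (h : Data G p e k) :
    Nat.card {x : G // orderOf x = p} = Nat.card (Sylow p G) * (p - 1) := by
  classical
  have hf : Fact p.Prime := ⟨h.prime⟩
  have := Fintype.ofFinite (Sylow p G)
  have hcard : ∀ P : Sylow p G, Nat.card {x : (P : Subgroup G) // x ≠ 1} = p - 1 := by
    intro P
    have := Fintype.ofFinite (P : Subgroup G)
    rw [Nat.card_eq_fintype_card]
    have h1 : Fintype.card {x : (P : Subgroup G) // x ≠ 1} =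
        Fintype.card (P : Subgroup G) - 1 := by
      simp
    rw [h1, ← Nat.card_eq_fintype_card]
    exact congrArg (· - 1) (h.card_eq P)
  have hord : ∀ P : Sylow p G, ∀ x ∈ (P : Subgroup G), x ≠ 1 → orderOf x = p ∧ zpowers x = P := by
    intro P x hx hx1
    have h1 : orderOf x ∣ p := by
      have h2 := Subgroup.orderOf_dvd_natCard (P : Subgroup G) hx
      rwa [show Nat.card (P : Subgroup G) = p from h.card_eq P] at h2
    have h2 : orderOf x = p := by
      rcases (Nat.dvd_prime h.prime).1 h1 with h3 | h3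
      · exact absurd (orderOf_eq_one_iff.1 h3) hx1
      · exact h3
    refine ⟨h2, ?_⟩
    apply Subgroup.eq_of_le_of_card_ge ((zpowers_le).2 hx)
    rw [Nat.card_zpowers, h2]
    exact (h.card_eq P).le
  have e : (Σ P : Sylow p G, {x : (P : Subgroup G) // x ≠ 1}) ≃ {x : G // orderOf x = p} :=
    Equiv.ofBijective (fun y => ⟨(y.2.1 : G), (hord y.1 y.2.1 y.2.1.2
      (fun h1 => y.2.2 (Subtype.ext h1))).1⟩) (by
      constructor
      · rintro ⟨P, ⟨x, hx⟩⟩ ⟨Q, ⟨y, hy⟩⟩ hxy
        have hxy' : (x : G) = (y : G) := congrArg Subtype.val hxy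
        have h1 := (hord P x x.2 (fun h1 => hx (Subtype.ext h1))).2
        have h2 := (hord Q y y.2 (fun h1 => hy (Subtype.ext h1))).2
        have h3 : P = Q := by
          apply Sylow.ext
          rw [← h1, ← h2, hxy']
        subst h3
        have h4 : x = y := Subtype.ext hxy'
        subst h4
        rfl
      · rintro ⟨x, hx⟩
        have h1 : Nat.card (zpowers x) = p := by rw [Nat.card_zpowers, hx]
        obtain ⟨S, hS⟩ := exists_sylow_eq h.prime h.not_sq_dvd _ h1
        have hxS : x ∈ (S : Subgroup G) := by rw [hS]; exact mem_zpowers x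
        refine ⟨⟨S, ⟨⟨x, hxS⟩, ?_⟩⟩, rfl⟩
        intro h2
        have h3 : x = 1 := congrArg Subtype.val h2
        rw [h3, orderOf_one] at hx
        exact h.prime.one_lt.ne hx)
  rw [← Nat.card_congr e, Nat.card_sigma]
  rw [Finset.sum_congr rfl (fun P _ => hcard P), Finset.sum_const, Finset.card_univ,
    ← Nat.card_eq_fintype_card, smul_eq_mul]

/-- Elements of three different prime orders. -/
theorem card_add_add_lt (p q r : ℕ) (hpq : p ≠ q) (hpr : p ≠ r) (hqr : q ≠ r)
    (h1 : p ≠ 1) (h2 : q ≠ 1) (h3 : r ≠ 1) :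
    Nat.card {x : G // orderOf x = p} + Nat.card {x : G // orderOf x = q} +
      Nat.card {x : G // orderOf x = r} < Nat.card G := by
  classical
  have := Fintype.ofFinite G
  have hc : ∀ s : ℕ, Nat.card {x : G // orderOf x = s} =
      (Finset.univ.filter fun x : G => orderOf x = s).card := by
    intro s
    rw [Nat.card_eq_fintype_card, Fintype.card_subtype]
  rw [hc, hc, hc, Nat.card_eq_fintype_card]
  rw [← Finset.card_union_of_disjoint, ← Finset.card_union_of_disjoint]
  · rw [← Finset.card_univ]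
    apply Finset.card_lt_card
    rw [Finset.ssubset_univ_iff]
    intro h
    have h4 : (1 : G) ∈ (Finset.univ : Finset G) := Finset.mem_univ _
    rw [← h] at h4
    simp only [Finset.mem_union, Finset.mem_filter, Finset.mem_univ, true_and, orderOf_one] at h4
    rcases h4 with (h4 | h4) | h4
    · exact h1 h4.symm
    · exact h2 h4.symm
    · exact h3 h4.symm
  · rw [Finset.disjoint_left]
    intro x hx hx'
    simp only [Finset.mem_union, Finset.mem_filter, Finset.mem_univ, true_and] at hx hx'
    rcases hx with hx | hx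
    · exact hpr (hx.symm.trans hx')
    · exact hqr (hx.symm.trans hx')
  · rw [Finset.disjoint_left]
    intro x hx hx'
    simp only [Finset.mem_filter, Finset.mem_univ, true_and] at hx hx'
    exact hpq (hx.symm.trans hx')

end Cfsg.Agent.SmallSimple.LocalData
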