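import Mathlib
import Cfsg.Agent.Transfer.ResidualComplement
import Cfsg.Agent.Classification.TransferSign
import Cfsg.Agent.SmallSimple.Simple168

set_option autoImplicit false

/-! Simple groups whose order is divisible by 8 and not by 16: one class of involutions. -/

namespace Cfsg.Agent.SmallSimple.SylowEight

open Subgroup

/-- A homomorphism from a simple nonabelian group to an abelian group is trivial. -/
theorem hom_eq_one {G A : Type*} [Group G] [IsSimpleGroup G] (hG : ¬ IsMulCommutative G)
    [Group A] (hA : ∀ a b : A, a * b = b * a) (f : G →* A) (x : G) : f x = 1 := by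
  rcases Subgroup.Normal.eq_bot_or_eq_top (H := f.ker) inferInstance with h | h
  · exfalso
    apply hG
    have hinj : Function.Injective f := (MonoidHom.ker_eq_bot_iff _).1 h
    refine ⟨⟨fun a b => hinj ?_⟩⟩
    rw [map_mul, map_mul, hA]
  · have : x ∈ f.ker := by rw [h]; exact mem_top x
    exact this

/-- Thompson transfer in a simple nonabelian group. -/
theorem exists_conj_mem {G : Type*} [Group G] [Finite G] [IsSimpleGroup G]
    (hG : ¬ IsMulCommutative G) (T : Sylow 2 G) (Q : Subgroup G) (hQT : Q ≤ (T : Subgroup G))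
    (hQi : Q.relIndex (T : Subgroup G) = 2) (u : G) (hu : orderOf u = 2) :
    ∃ g : G, g * u * g⁻¹ ∈ Q := by
  by_contra hcon
  push Not at hcon
  obtain ⟨f, hf⟩ := Cfsg.Agent.Classification.TransferSign.exists_hom_neg_one T Q hQT hQi u hu hcon
  have h1 := hom_eq_one hG (fun a b => mul_comm a b) f u
  rw [hf] at h1
  exact absurd h1 (by decide)

/-- In a simple nonabelian group with abelian Sylow `p`-subgroup `T`, nothing in `T` except `1` is
centralized by `N(T)`. -/
theorem eq_one_of_forall_normalizer {G : Type*} [Group G] [Finite G] [IsSimpleGroup G]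
    (hG : ¬ IsMulCommutative G) {p : ℕ} [Fact p.Prime] (T : Sylow p G)
    (hT : ∀ x ∈ (T : Subgroup G), ∀ y ∈ (T : Subgroup G), x * y = y * x) (z : G)
    (hz : z ∈ (T : Subgroup G))
    (hzc : ∀ n ∈ normalizer ((T : Subgroup G) : Set G), n * z = z * n) : z = 1 := by
  have hcomm : IsMulCommutative T :=
    ⟨⟨fun a b => Subtype.ext (hT a.1 a.2 b.1 b.2)⟩⟩
  exact Cfsg.Agent.Transfer.ResidualComplement.eq_one_of_mem_center_normalizer T
    (fun f x => hom_eq_one hG (fun a b => Subtype.ext (hT a.1 a.2 b.1 b.2)) f x) z hz hzc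

/-- In a group of order 8, two elements of order 4 have the same square. -/
theorem sq_eq_sq {G : Type*} [Group G] [Finite G] (T : Subgroup G) (hT : Nat.card T = 8)
    {r s : G} (hr : r ∈ T) (hs : s ∈ T) (hr4 : orderOf r = 4) (hs4 : orderOf s = 4) :
    r ^ 2 = s ^ 2 := by
  have hrT : zpowers r ≤ T := (zpowers_le).2 hr
  have hidx : ((zpowers r).subgroupOf T).index = 2 := by
    have h1 := ((zpowers r).subgroupOf T).card_mul_index
    rw [Nat.card_congr (subgroupOfEquivOfLe hrT).toEquiv, Nat.card_zpowers, hr4, hT] at h1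
    omega
  have h2 : (⟨s, hs⟩ : T) ^ 2 ∈ (zpowers r).subgroupOf T := sq_mem_of_index_two hidx _
  have h3 : s ^ 2 ∈ zpowers r := h2
  have hcyc : IsCyclic (zpowers r) := inferInstance
  apply Cfsg.Agent.Classification.TransferSign.eq_of_isCyclic (zpowers r) hcyc
    (pow_mem (mem_zpowers r) 2) h3
  · rw [← pow_two, ← pow_mul, show 2 * 2 = orderOf r by rw [hr4], pow_orderOf_eq_one]
  · rw [← pow_two, ← pow_mul, show 2 * 2 = orderOf s by rw [hs4], pow_orderOf_eq_one]
  · intro h
    have := orderOf_dvd_of_pow_eq_one h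
    rw [hr4] at this
    revert this
    decide
  · intro h
    have := orderOf_dvd_of_pow_eq_one h
    rw [hs4] at this
    revert this
    decide

theorem card_sylow_eight {G : Type*} [Group G] [Finite G] (h8 : 8 ∣ Nat.card G)
    (h16 : ¬ 16 ∣ Nat.card G) (T : Sylow 2 G) : Nat.card (T : Subgroup G) = 8 := by
  obtain ⟨m, hm⟩ := h8
  apply Cfsg.Agent.SmallSimple.Simple168.card_sylow_of_eq 2 3 m (by rw [hm]; norm_num)
  rintro ⟨k, hk⟩
  exact h16 ⟨k, by rw [hm, hk]; ring⟩

/-- Elements of an order 8 group without elements of order 4 are involutions. -/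
theorem mul_self_eq_one {G : Type*} [Group G] [Finite G] (T : Subgroup G) (hT : Nat.card T = 8)
    (h4 : ∀ x ∈ T, orderOf x ≠ 4) (x : G) (hx : x ∈ T) : x * x = 1 := by
  have h1 : orderOf x ∣ 2 ^ 3 := by
    have := orderOf_dvd_natCard (⟨x, hx⟩ : T)
    rw [Subgroup.orderOf_mk, hT] at this
    exact this
  obtain ⟨k, hk, hk'⟩ := (Nat.dvd_prime_pow Nat.prime_two).1 h1
  rw [← pow_two]
  apply orderOf_dvd_iff_pow_eq_one.1
  interval_cases k
  · rw [hk']; norm_num
  · rw [hk']; norm_num
  · exact absurd hk' (h4 x hx)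
  · exfalso
    apply h4 (x ^ 2) (T.pow_mem hx 2)
    rw [orderOf_pow, hk']
    norm_num

section Orbits

variable {G : Type*} [Group G] [Finite G] [IsSimpleGroup G]

/-- In the elementary abelian case, the seven involutions form one orbit under `N(T)`. -/
theorem elementary_case (hG : ¬ IsMulCommutative G) (T : Sylow 2 G)
    (hT : Nat.card (T : Subgroup G) = 8) (h4 : ∀ x ∈ (T : Subgroup G), orderOf x ≠ 4) :
    7 ∣ Nat.card G ∧ ∀ x ∈ (T : Subgroup G), ∀ y ∈ (T : Subgroup G), x ≠ 1 → y ≠ 1 →
      IsConj x y := by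
  classical
  have hsq := mul_self_eq_one (T : Subgroup G) hT h4
  have hcomm : ∀ x ∈ (T : Subgroup G), ∀ y ∈ (T : Subgroup G), x * y = y * x := by
    intro x hx y hy
    have h1 := hsq x hx
    have h2 := hsq y hy
    have h3 := hsq (x * y) ((T : Subgroup G).mul_mem hx hy)
    have hx' : x⁻¹ = x := inv_eq_of_mul_eq_one_left h1
    have hy' : y⁻¹ = y := inv_eq_of_mul_eq_one_left h2
    have h4 : (x * y)⁻¹ = x * y := inv_eq_of_mul_eq_one_left h3
    rw [mul_inv_rev, hx', hy'] at h4
    exact h4.symm
  set N := normalizer ((T : Subgroup G) : Set G) with hN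
  let A : Subgroup (MulAut (T : Subgroup G)) := (T : Subgroup G).normalizerMonoidHom.range
  have hAmem : ∀ a : A, ∃ n : N, ∀ x : (T : Subgroup G), ((a • x : (T : Subgroup G)) : G) =
      (n : G) * x * (n : G)⁻¹ := by
    rintro ⟨a, n, rfl⟩
    exact ⟨n, fun x => rfl⟩
  have hNmem : ∀ n : N, ∃ a : A, ∀ x : (T : Subgroup G), ((a • x : (T : Subgroup G)) : G) =
      (n : G) * x * (n : G)⁻¹ := fun n => ⟨⟨_, n, rfl⟩, fun x => rfl⟩
  have hAodd : ¬ 2 ∣ Nat.card A := by
    have h1 : Nat.card A = (T : Subgroup G).normalizerMonoidHom.ker.index := by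
      rw [Subgroup.index_ker]
    have h2 : (T : Subgroup G).subgroupOf N ≤ (T : Subgroup G).normalizerMonoidHom.ker := by
      rw [normalizerMonoidHom_ker]
      intro x hx
      rw [mem_subgroupOf] at hx ⊢
      rw [mem_centralizer_iff]
      intro y hy
      exact hcomm y hy _ hx
    have h3 := Subgroup.index_dvd_of_le h2
    have h4 : ((T : Subgroup G).subgroupOf N).index ∣ (T : Subgroup G).index :=
      ⟨N.index, (Subgroup.relIndex_mul_index le_normalizer).symm⟩
    intro h5
    exact T.not_dvd_index (h5.trans ((h1 ▸ h3).trans h4))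
  -- orbit sizes
  have horb_dvd : ∀ x : (T : Subgroup G), (MulAction.orbit A x).ncard ∣ Nat.card A := by
    intro x
    rw [← MulAction.index_stabilizer]
    exact Subgroup.index_dvd_card _
  have horb : ∀ x : (T : Subgroup G), x ≠ 1 → 3 ≤ (MulAction.orbit A x).ncard ∧
      Odd (MulAction.orbit A x).ncard := by
    intro x hx
    have hodd : Odd (MulAction.orbit A x).ncard := by
      rw [← Nat.not_even_iff_odd, even_iff_two_dvd]
      exact fun h => hAodd (h.trans (horb_dvd x))
    refine ⟨?_, hodd⟩
    have h1 : (MulAction.orbit A x).ncard ≠ 1 := by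
      intro h1
      rw [Set.ncard_eq_one] at h1
      obtain ⟨y, hy⟩ := h1
      have hxy : x = y := by
        have := MulAction.mem_orbit_self (M := A) x
        rw [hy] at this
        exact this
      subst hxy
      apply hx
      apply Subtype.ext
      apply eq_one_of_forall_normalizer hG T hcomm x.1 x.2
      intro n hn
      obtain ⟨a, ha⟩ := hNmem ⟨n, hn⟩
      have h2 : a • x ∈ MulAction.orbit A x := MulAction.mem_orbit x a
      rw [hy] at h2
      have h3 : a • x = x := h2
      have h4 := ha x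
      rw [h3] at h4
      exact (eq_mul_inv_iff_mul_eq.1 h4).symm
    have h0 : 0 < (MulAction.orbit A x).ncard :=
      (Set.ncard_pos (Set.toFinite _)).2 ⟨x, MulAction.mem_orbit_self x⟩
    obtain ⟨k, hk⟩ := hodd
    omega
  have hone : ∀ x : (T : Subgroup G), x ≠ 1 → (1 : (T : Subgroup G)) ∉ MulAction.orbit A x := by
    rintro x hx ⟨a, ha⟩
    apply hx
    have h1 : a • x = 1 := ha
    have h2 : a • x = a • 1 := by rw [h1, smul_one]
    exact smul_left_cancel a h2
  have hdisj : ∀ x y : (T : Subgroup G), y ∉ MulAction.orbit A x →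
      Disjoint (MulAction.orbit A x) (MulAction.orbit A y) := by
    intro x y hxy
    rw [Set.disjoint_left]
    intro w hw1 hw2
    apply hxy
    have e1 := MulAction.orbit_eq_iff.2 hw1
    have e2 := MulAction.orbit_eq_iff.2 hw2
    rw [← e1, e2]
    exact MulAction.mem_orbit_self y
  have hcardT : (Set.univ : Set (T : Subgroup G)).ncard = 8 := by
    rw [Set.ncard_univ, hT]
  -- transitivity
  have htrans : ∀ x y : (T : Subgroup G), x ≠ 1 → y ≠ 1 → y ∈ MulAction.orbit A x := by
    intro x y hx hy
    by_contra hxy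
    have hd := hdisj x y hxy
    obtain ⟨hx3, kx, hkx⟩ := horb x hx
    obtain ⟨hy3, ky, hky⟩ := horb y hy
    set S : Set (T : Subgroup G) := insert 1 (MulAction.orbit A x ∪ MulAction.orbit A y) with hS
    have hScard : S.ncard = 1 + (MulAction.orbit A x).ncard + (MulAction.orbit A y).ncard := by
      rw [hS, Set.ncard_insert_of_notMem, Set.ncard_union_eq hd]
      · ring
      · rintro (h | h)
        · exact hone x hx h
        · exact hone y hy h
    have hSle : S.ncard ≤ 8 := by
      rw [← hcardT]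
      exact Set.ncard_le_ncard (Set.subset_univ _)
    have hSlt : S.ncard < 8 := by
      rw [hScard, hkx, hky] at hSle ⊢
      omega
    obtain ⟨w, hw⟩ : ∃ w, w ∉ S := by
      by_contra hcon
      push Not at hcon
      rw [Set.eq_univ_of_forall hcon, hcardT] at hSlt
      omega
    have hw1 : w ≠ 1 := fun h => hw (by rw [h]; exact Set.mem_insert _ _)
    have hwx : w ∉ MulAction.orbit A x := fun h => hw (Or.inr (Or.inl h))
    have hwy : w ∉ MulAction.orbit A y := fun h => hw (Or.inr (Or.inr h))
    obtain ⟨hw3, -⟩ := horb w hw1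
    have hdw : Disjoint S (MulAction.orbit A w) := by
      rw [hS, Set.disjoint_insert_left]
      exact ⟨hone w hw1, Set.disjoint_union_left.2 ⟨hdisj x w hwx, hdisj y w hwy⟩⟩
    have hU : (S ∪ MulAction.orbit A w).ncard = S.ncard + (MulAction.orbit A w).ncard :=
      Set.ncard_union_eq hdw
    have hUle : (S ∪ MulAction.orbit A w).ncard ≤ 8 := by
      rw [← hcardT]
      exact Set.ncard_le_ncard (Set.subset_univ _)
    omega
  constructor
  · obtain ⟨x, hx⟩ : ∃ x : (T : Subgroup G), x ≠ 1 := by
      have : Nontrivial (T : Subgroup G) := by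
        apply (Finite.one_lt_card_iff_nontrivial).1
        rw [hT]
        norm_num
      exact exists_ne 1
    have h1 : MulAction.orbit A x = {1}ᶜ := by
      ext y
      constructor
      · intro hy h1
        have : y = 1 := h1
        rw [this] at hy
        exact hone x hx hy
      · intro hy
        exact htrans x y hx hy
    have h2 : (MulAction.orbit A x).ncard = 7 := by
      rw [h1, Set.ncard_compl, Set.ncard_singleton, hT]
    have h3 : 7 ∣ Nat.card A := h2 ▸ horb_dvd x
    have h4 : Nat.card A ∣ Nat.card N := Subgroup.card_range_dvd _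
    exact h3.trans (h4.trans (Subgroup.card_subgroup_dvd_card N))
  · intro x hx y hy hx1 hy1
    obtain ⟨a, ha⟩ := htrans ⟨x, hx⟩ ⟨y, hy⟩ (fun h => hx1 (congrArg Subtype.val h))
      (fun h => hy1 (congrArg Subtype.val h))
    obtain ⟨n, hn⟩ := hAmem a
    rw [isConj_iff]
    refine ⟨n, ?_⟩
    have h1 := hn ⟨x, hx⟩
    have h2 : a • (⟨x, hx⟩ : (T : Subgroup G)) = ⟨y, hy⟩ := ha
    rw [h2] at h1
    exact h1.symm

end Orbits

/-- A nonabelian simple group with Sylow `2`-subgroups of order 8 has one class of involutions. -/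
theorem isConj_of_card_sylow_eight {G : Type*} [Group G] [Finite G] [IsSimpleGroup G]
    (hG : ¬ IsMulCommutative G) (h8 : 8 ∣ Nat.card G) (h16 : ¬ 16 ∣ Nat.card G) (x y : G)
    (hx : orderOf x = 2) (hy : orderOf y = 2) : IsConj x y := by
  obtain ⟨T⟩ : Nonempty (Sylow 2 G) := inferInstance
  have hT := card_sylow_eight h8 h16 T
  by_cases h4 : ∀ r ∈ (T : Subgroup G), orderOf r ≠ 4
  · obtain ⟨-, h1⟩ := elementary_case hG T hT h4
    -- conjugate into `T`
    have key : ∀ x : G, orderOf x = 2 → ∃ x' ∈ (T : Subgroup G), x' ≠ 1 ∧ IsConj x x' := by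
      intro x hx
      have hp : IsPGroup 2 (zpowers x) := IsPGroup.of_card (n := 1) (by
        rw [Nat.card_zpowers, hx, pow_one])
      obtain ⟨S, hS⟩ := hp.exists_le_sylow
      obtain ⟨g, hg⟩ := MulAction.exists_smul_eq G S T
      refine ⟨g * x * g⁻¹, ?_, ?_, isConj_iff.2 ⟨g, rfl⟩⟩
      · rw [← hg, Sylow.coe_subgroup_smul]
        exact Subgroup.mem_map_of_mem (MulAut.conj g).toMonoidHom (hS (mem_zpowers x))
      · intro h0
        rw [mul_inv_eq_one, mul_eq_left] at h0
        rw [h0, orderOf_one] at hx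
        omega
    obtain ⟨x', hx'T, hx'1, hxx'⟩ := key x hx
    obtain ⟨y', hy'T, hy'1, hyy'⟩ := key y hy
    exact hxx'.trans ((h1 x' hx'T y' hy'T hx'1 hy'1).trans hyy'.symm)
  · push Not at h4
    obtain ⟨r, hr, hr4⟩ := h4
    have hrT : zpowers r ≤ (T : Subgroup G) := (zpowers_le).2 hr
    have hidx : (zpowers r).relIndex (T : Subgroup G) = 2 := by
      have h1 := ((zpowers r).subgroupOf (T : Subgroup G)).card_mul_index
      rw [Nat.card_congr (subgroupOfEquivOfLe hrT).toEquiv, Nat.card_zpowers, hr4, hT] at h1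
      show ((zpowers r).subgroupOf (T : Subgroup G)).index = 2
      omega
    have key : ∀ x : G, orderOf x = 2 → IsConj x (r ^ 2) := by
      intro x hx
      obtain ⟨g, hg⟩ := exists_conj_mem hG T (zpowers r) hrT hidx x hx
      rw [isConj_iff]
      refine ⟨g, ?_⟩
      have hcyc : IsCyclic (zpowers r) := inferInstance
      have hx2 : x * x = 1 := by rw [← pow_two, ← hx, pow_orderOf_eq_one]
      have hx1 : x ≠ 1 := by
        rintro rfl
        simp at hx
      apply Cfsg.Agent.Classification.TransferSign.eq_of_isCyclic (zpowers r) hcyc hg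
        (pow_mem (mem_zpowers r) 2)
      · rw [show g * x * g⁻¹ * (g * x * g⁻¹) = g * (x * x) * g⁻¹ by group, hx2, mul_one,
          mul_inv_cancel]
      · rw [← pow_two, ← pow_mul, show 2 * 2 = orderOf r by rw [hr4], pow_orderOf_eq_one]
      · intro h0
        rw [mul_inv_eq_one, mul_eq_left] at h0
        exact hx1 h0
      · intro h
        have := orderOf_dvd_of_pow_eq_one h
        rw [hr4] at this
        revert this
        decide
    exact (key x hx).trans (key y hy).symm

/-- If moreover 7 does not divide the order, the Sylow `2`-subgroups are not abelian. -/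
theorem not_comm_sylow_of_card_eight {G : Type*} [Group G] [Finite G] [IsSimpleGroup G]
    (hG : ¬ IsMulCommutative G) (h8 : 8 ∣ Nat.card G) (h16 : ¬ 16 ∣ Nat.card G)
    (h7 : ¬ 7 ∣ Nat.card G) (T : Sylow 2 G) : ¬ IsMulCommutative T := by
  intro hcomm
  have hT := card_sylow_eight h8 h16 T
  have hcomm' : ∀ x ∈ (T : Subgroup G), ∀ y ∈ (T : Subgroup G), x * y = y * x :=
    fun x hx y hy => congrArg Subtype.val (hcomm.is_comm.comm (⟨x, hx⟩ : T) ⟨y, hy⟩)
  by_cases h4 : ∀ r ∈ (T : Subgroup G), orderOf r ≠ 4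
  · exact h7 (elementary_case hG T hT h4).1
  · push Not at h4
    obtain ⟨r, hr, hr4⟩ := h4
    have h1 : r ^ 2 = 1 := by
      apply eq_one_of_forall_normalizer hG T hcomm' (r ^ 2) (pow_mem hr 2)
      intro n hn
      have h2 : n * r * n⁻¹ ∈ (T : Subgroup G) := (mem_normalizer_iff.1 hn r).1 hr
      have h3 : orderOf (n * r * n⁻¹) = 4 := by
        rw [← hr4]
        exact MulEquiv.orderOf_eq (MulAut.conj n) r
      have h5 := sq_eq_sq (T : Subgroup G) hT hr h2 hr4 h3
      have h6 : n * r ^ 2 * n⁻¹ = r ^ 2 := by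
        rw [← conj_pow]
        exact h5.symm
      exact mul_inv_eq_iff_eq_mul.1 h6
    have := orderOf_dvd_of_pow_eq_one h1
    rw [hr4] at this
    revert this
    decide

end Cfsg.Agent.SmallSimple.SylowEight
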