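import Mathlib
import Cfsg.Agent.SmallSimple.Parity

/-!
Transfer of an involution into a cyclic quotient of a subgroup of odd index.
-/

set_option autoImplicit false

namespace Cfsg.Agent.SmallSimple.TransferInvol

open MulAction

/-- If `t ^ 2 = 1`, `H` has odd index and every conjugate of `t` lying in `H` is mapped by
`φ : H →* A` to the same element `e`, `e ^ 2 = 1`, then the transfer of `t` is `e`. -/
theorem transfer_eq_of_odd_index {G : Type*} [Group G] (H : Subgroup G) [H.FiniteIndex]
    {A : Type*} [CommGroup A] (φ : H →* A) (t : G) (ht2 : t ^ 2 = 1) (hodd : Odd H.index)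
    (e : A) (he : e ^ 2 = 1) (hφ : ∀ x : H, IsConj t (x : G) → φ x = e) :
    MonoidHom.transfer φ t = e := by
  classical
  have hfin : Finite (G ⧸ H) := H.finite_quotient_of_finiteIndex
  have := Fintype.ofFinite (G ⧸ H)
  have := Fintype.ofFinite (Quotient (orbitRel (Subgroup.zpowers t) (G ⧸ H)))
  rw [MonoidHom.transfer_eq_prod_quotient_orbitRel_zpowers_quot]
  have hmin : ∀ x : G ⧸ H, Function.minimalPeriod (t • ·) x = 1 ∨
      Function.minimalPeriod (t • ·) x = 2 := by
    intro x
    have h1 : Function.IsPeriodicPt (t • ·) 2 x := by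
      show (t • ·)^[2] x = x
      simp only [Function.iterate_succ, Function.iterate_zero, Function.comp, id]
      rw [← mul_smul, ← sq, ht2, one_smul]
    have h2 : Function.minimalPeriod (t • ·) x ∣ 2 := h1.minimalPeriod_dvd
    exact (Nat.dvd_prime Nat.prime_two).mp h2
  have hfac : ∀ q : Quotient (orbitRel (Subgroup.zpowers t) (G ⧸ H)),
      φ ⟨q.out.out⁻¹ * t ^ Function.minimalPeriod (t • ·) q.out * q.out.out,
        QuotientGroup.out_conj_pow_minimalPeriod_mem H t q.out⟩ =
      e ^ Function.minimalPeriod (t • ·) q.out := by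
    intro q
    rcases hmin q.out with h | h
    · refine Eq.trans ?_ (show e = e ^ Function.minimalPeriod (t • ·) q.out by rw [h, pow_one])
      apply hφ
      rw [isConj_iff]
      refine ⟨q.out.out⁻¹, ?_⟩
      simp only [h, pow_one, inv_inv]
    · refine Eq.trans ?_ (show 1 = e ^ Function.minimalPeriod (t • ·) q.out by rw [h, he])
      have key : (⟨q.out.out⁻¹ * t ^ Function.minimalPeriod (t • ·) q.out * q.out.out,
          QuotientGroup.out_conj_pow_minimalPeriod_mem H t q.out⟩ : H) = 1 := by
        apply Subtype.ext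
        simp only [Subgroup.coe_one]
        rw [h, ht2]
        group
      rw [key, map_one]
  rw [Finset.prod_congr rfl (fun q _ => hfac q), Finset.prod_pow_eq_pow_sum]
  have hsum : ∑ q : Quotient (orbitRel (Subgroup.zpowers t) (G ⧸ H)),
      Function.minimalPeriod (t • ·) q.out = H.index := by
    rw [Subgroup.index_eq_sum_minimalPeriod H t]
  rw [hsum]
  obtain ⟨k, hk⟩ := hodd
  rw [hk, pow_add, pow_mul, he, one_pow, one_mul, pow_one]

/-- In a noncommutative simple group, if `t ^ 2 = 1`, `H` has odd index and the homomorphism `φ`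
from `H` to a commutative group maps every conjugate of `t` in `H` to the same element `e` with
`e ^ 2 = 1`, then `e = 1`. -/
theorem eq_one_of_odd_index {G : Type*} [Group G] [IsSimpleGroup G]
    (hG : ¬ ∀ a b : G, a * b = b * a) (H : Subgroup G) [H.FiniteIndex]
    {A : Type*} [CommGroup A] (φ : H →* A) (t : G) (ht2 : t ^ 2 = 1) (hodd : Odd H.index)
    (e : A) (he : e ^ 2 = 1) (hφ : ∀ x : H, IsConj t (x : G) → φ x = e) : e = 1 := by
  rw [← transfer_eq_of_odd_index H φ t ht2 hodd e he hφ]
  exact Parity.commHom_eq_one hG _ t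

/-- In a noncommutative finite simple group, if the normalizer of a cyclic subgroup `C` has odd
index and `(ZMod |C|)ˣ` has at most one involution, then every involution has a conjugate
centralizing `C`. -/
theorem exists_conj_centralizes {G : Type*} [Group G] [Finite G] [IsSimpleGroup G]
    (hG : ¬ ∀ a b : G, a * b = b * a) (C : Subgroup G) [hC : IsCyclic C]
    (hA : ∀ a b : (ZMod (Nat.card C))ˣ, a ≠ 1 → b ≠ 1 → a ^ 2 = 1 → b ^ 2 = 1 → a = b)
    (hodd : Odd (Subgroup.normalizer (C : Set G)).index) (t : G) (ht2 : t ^ 2 = 1) :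
    ∃ x : G, IsConj t x ∧ x ∈ Subgroup.centralizer (C : Set G) := by
  by_contra hcon
  push Not at hcon
  let φ : Subgroup.normalizer (C : Set G) →* (ZMod (Nat.card C))ˣ :=
    (IsCyclic.mulAutMulEquiv C).toMonoidHom.comp C.normalizerMonoidHom
  have hφker : ∀ x : Subgroup.normalizer (C : Set G), φ x = 1 →
      (x : G) ∈ Subgroup.centralizer (C : Set G) := by
    intro x hx
    have h1 : C.normalizerMonoidHom x = 1 := by
      have h2 : (IsCyclic.mulAutMulEquiv C) (C.normalizerMonoidHom x) = 1 := hx
      exact (MulEquiv.map_eq_one_iff _).1 h2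
    have h3 : x ∈ C.normalizerMonoidHom.ker := h1
    rw [Subgroup.normalizerMonoidHom_ker] at h3
    exact h3
  have hne : ∀ x : Subgroup.normalizer (C : Set G), IsConj t (x : G) → φ x ≠ 1 :=
    fun x hx h => hcon _ hx (hφker x h)
  have hsq : ∀ x : Subgroup.normalizer (C : Set G), IsConj t (x : G) → φ x ^ 2 = 1 := by
    intro x hx
    rw [← map_pow]
    have : x ^ 2 = 1 := by
      obtain ⟨g, hg⟩ := isConj_iff.1 hx
      apply Subtype.ext
      rw [Subgroup.coe_pow, ← hg, conj_pow, ht2]
      simp
    rw [this, map_one]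
  by_cases hex : ∃ x : Subgroup.normalizer (C : Set G), IsConj t (x : G)
  · obtain ⟨x₀, hx₀⟩ := hex
    apply hne x₀ hx₀
    apply eq_one_of_odd_index hG _ φ t ht2 hodd (φ x₀) (hsq x₀ hx₀)
    intro x hx
    exact hA _ _ (hne x hx) (hne x₀ hx₀) (hsq x hx) (hsq x₀ hx₀)
  · push Not at hex
    -- then no conjugate of `t` is in the normalizer: impossible by parity
    have h3 := eq_one_of_odd_index hG (Subgroup.normalizer (C : Set G))
      (1 : Subgroup.normalizer (C : Set G) →* Multiplicative (ZMod 2)) t ht2 hodd
      (Multiplicative.ofAdd (1 : ZMod 2)) (by decide) (fun x hx => absurd hx (hex x))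
    exact absurd h3 (by decide)

end Cfsg.Agent.SmallSimple.TransferInvol
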