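import Mathlib

/-!
# Verified enumeration of signed degree lists

* `divs L` : all divisors of `∏ q ^ a`;
* `signed p r L` : the signed integers `≡ r [ZMOD p]` with absolute value in `L`;
* `check C k T o W B P` : for every sorted list `l` of length `k` with entries in the strictly
  sorted list `C`, with sum in `T` and sum of squares at most `B`, the Boolean `P l` is true.
  Exponential search, but pruned by the exact set of achievable sums (a bit mask), so that it visits
  only branches leading to lists with the right sum. Meant for `decide +kernel`.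
* `check_spec` : correctness.
-/

set_option autoImplicit false

namespace Cfsg.Agent.SmallSimple.DegreeSearch

/-- All divisors of `∏ q ^ a` for a list of pairs `(q, a)`. -/
def divs : List (ℕ × ℕ) → List ℕ
  | [] => [1]
  | x :: L => (divs L).flatMap fun m => (List.range (x.2 + 1)).map fun i => x.1 ^ i * m

theorem mem_divs {L : List (ℕ × ℕ)} (hL : ∀ x ∈ L, x.1.Prime) {m : ℕ}
    (h : m ∣ (L.map fun x => x.1 ^ x.2).prod) : m ∈ divs L := by
  induction L generalizing m with
  | nil =>
    simp only [List.map_nil, List.prod_nil, Nat.dvd_one] at h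
    simp [divs, h]
  | cons x L ih =>
    rw [List.map_cons, List.prod_cons, Nat.dvd_mul] at h
    obtain ⟨a, b, ha, hb, rfl⟩ := h
    obtain ⟨i, hi, rfl⟩ := (Nat.dvd_prime_pow (hL x (by simp))).1 ha
    rw [divs, List.mem_flatMap]
    exact ⟨b, ih (fun y hy => hL y (List.mem_cons_of_mem _ hy)) hb,
      List.mem_map.2 ⟨i, by simpa [Nat.lt_succ_iff] using hi, rfl⟩⟩

/-- The signed integers congruent to `r` mod `p` with absolute value in `L`. -/
def signed (p r : ℕ) (L : List ℕ) : List ℤ :=
  L.flatMap fun m => (if m % p = r then [(m : ℤ)] else []) ++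
    (if (m + r) % p = 0 then [-(m : ℤ)] else [])

theorem mem_signed {p r : ℕ} (hr : r < p) {L : List ℕ} {z : ℤ} (h1 : z ≡ r [ZMOD p])
    (h2 : z.natAbs ∈ L) : z ∈ signed p r L := by
  rw [signed, List.mem_flatMap]
  refine ⟨z.natAbs, h2, ?_⟩
  rw [List.mem_append]
  rcases le_total 0 z with hz | hz
  · left
    obtain ⟨m, rfl⟩ := Int.eq_ofNat_of_zero_le hz
    have h3 : m ≡ r [MOD p] := by exact_mod_cast h1
    have h4 : m % p = r := by rw [h3, Nat.mod_eq_of_lt hr]
    simp [h4]
  · right
    obtain ⟨m, hm⟩ := Int.eq_ofNat_of_zero_le (neg_nonneg.2 hz)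
    obtain rfl : z = -(m : ℤ) := by omega
    have h3 : ((m + r : ℕ) : ℤ) ≡ 0 [ZMOD p] := by
      have := h1.add_left (m : ℤ)
      rw [add_neg_cancel] at this
      push_cast
      exact this.symm
    have h4 : (m + r) % p = 0 := by
      have : (m + r : ℕ) ≡ 0 [MOD p] := by exact_mod_cast h3
      rw [this, Nat.zero_mod]
    simp [h4]

/-- Bit `i` of `x`. -/
def bit (x i : ℕ) : Bool := Nat.beq (Nat.land (Nat.shiftRight x i) 1) 1

/-- Auxiliary recursion for `row`. -/
def rowAux (N c : ℕ) (f : ℕ → ℕ) : ℕ → ℕ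
  | 0 => f 0
  | k + 1 => Nat.mod (Nat.lor (f (k + 1)) (Nat.shiftLeft (rowAux N c f k) c)) N

/-- Bit mask of the sums of the lists of length `k` with entries in `C` (cut off modulo `N`). -/
def row (N : ℕ) : List ℕ → ℕ → ℕ
  | [] => fun k => cond (Nat.beq k 0) 1 0
  | c :: C => fun k => rowAux N c (row N C) k

/-- Inner loop of the search: how often to use the entry `z`. -/
def inner (y : ℕ → ℕ) (B : ℕ) (z : ℤ) (c c2 : ℕ) (F : ℕ → ℕ → ℕ → List ℤ → Bool) :
    ℕ → ℕ → ℕ → List ℤ → Bool
  | 0, r, q, acc => F 0 r q acc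
  | k + 1, r, q, acc =>
    cond (F (k + 1) r q acc)
      (cond (Nat.ble c r)
        (cond (Nat.ble (Nat.add q c2) B)
          (cond (bit (y k) (Nat.sub r c))
            (inner y B z c c2 F k (Nat.sub r c) (Nat.add q c2) (z :: acc)) true) true) true)
      false

/-- The search. -/
def dfs (N B : ℕ) (P : List ℤ → Bool) : List (ℤ × ℕ × ℕ) → ℕ → ℕ → ℕ → List ℤ → Bool
  | [], _, _, _, acc => P acc
  | x :: C, k, r, q, acc =>
    inner (row N (x.2.1 :: C.map fun x => x.2.1)) B x.1 x.2.1 x.2.2
      (fun k r q acc => cond (bit (row N (C.map fun x => x.2.1) k) r)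
        (dfs N B P C k r q acc) true) k r q acc

/-! ### Correctness -/

theorem bit_eq (x i : ℕ) : bit x i = x.testBit i := by
  have h1 : Nat.land (Nat.shiftRight x i) 1 = (x >>> i) &&& 1 := rfl
  rw [bit, h1, Nat.and_one_is_mod, Nat.shiftRight_eq_div_pow, Nat.testBit_eq_decide_div_mod_eq]
  rw [Bool.eq_iff_iff, decide_eq_true_eq, Nat.beq_eq]

/-- `l` is obtained from a sublist of `C` by repeating entries. -/
inductive Rep {α : Type*} : List α → List α → Prop
  | nil : Rep [] []
  | skip {x : α} {C l : List α} : Rep C l → Rep (x :: C) l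
  | take {x : α} {C l : List α} : Rep (x :: C) l → Rep (x :: C) (x :: l)

theorem Rep.map {α β : Type*} (f : α → β) {C l : List α} (h : Rep C l) :
    Rep (C.map f) (l.map f) := by
  induction h with
  | nil => exact .nil
  | skip _ ih => exact .skip ih
  | take _ ih => exact .take ih

theorem rep_nil {α : Type*} : ∀ C : List α, Rep C []
  | [] => .nil
  | _ :: C => .skip (rep_nil C)

theorem rep_of_sorted {C : List ℤ} (hC : C.Pairwise (· < ·)) {l : List ℤ}
    (hl : l.Pairwise (· ≤ ·)) (hmem : ∀ z ∈ l, z ∈ C) : Rep C l := by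
  induction C generalizing l with
  | nil =>
    cases l with
    | nil => exact .nil
    | cons y l => exact absurd (hmem y (by simp)) (by simp)
  | cons x C ih =>
    rw [List.pairwise_cons] at hC
    induction l with
    | nil => exact rep_nil _
    | cons y l ih2 =>
      rw [List.pairwise_cons] at hl
      by_cases hxy : y = x
      · subst hxy
        exact .take (ih2 hl.2 fun z hz => hmem z (List.mem_cons_of_mem _ hz))
      · have hy : y ∈ C := (List.mem_cons.1 (hmem y (by simp))).resolve_left hxy
        have hlt : x < y := hC.1 y hy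
        refine .skip (ih hC.2 (List.pairwise_cons.2 hl) fun z hz => ?_)
        rcases List.mem_cons.1 hz with rfl | hz'
        · exact hy
        · have h1 := hl.1 z hz'
          refine (List.mem_cons.1 (hmem z hz)).resolve_left ?_
          omega

theorem row_spec {w : ℕ} {C l : List ℕ} (h : Rep C l) (hw : l.sum < w) :
    (row (2 ^ w) C l.length).testBit l.sum = true := by
  induction h with
  | nil => simp [row]
  | @skip x C l h ih =>
    have ih := ih hw
    change (rowAux (2 ^ w) x (row (2 ^ w) C) l.length).testBit l.sum = true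
    cases hk : l.length with
    | zero => rw [hk] at ih; exact ih
    | succ k =>
      rw [hk] at ih
      change (Nat.lor (row (2 ^ w) C (k + 1)) _ % 2 ^ w).testBit l.sum = true
      rw [Nat.testBit_mod_two_pow, decide_eq_true hw, Bool.true_and]
      change ((row (2 ^ w) C (k + 1)) ||| _).testBit l.sum = true
      rw [Nat.testBit_or, ih, Bool.true_or]
  | @take x C l h ih =>
    rw [List.sum_cons] at hw
    have ih := ih (by omega)
    change (Nat.lor _ (Nat.shiftLeft (row (2 ^ w) (x :: C) l.length) x) % 2 ^ w).testBit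
      (x :: l).sum = true
    rw [List.sum_cons, Nat.testBit_mod_two_pow, decide_eq_true hw, Bool.true_and]
    change (_ ||| (row (2 ^ w) (x :: C) l.length) <<< x).testBit (x + l.sum) = true
    rw [Nat.testBit_or, Nat.testBit_shiftLeft]
    rw [decide_eq_true (Nat.le_add_right x l.sum), Nat.add_sub_cancel_left, ih]
    simp

theorem inner_succ (y : ℕ → ℕ) (B : ℕ) (z : ℤ) (c c2 : ℕ) (F : ℕ → ℕ → ℕ → List ℤ → Bool)
    (k r q : ℕ) (acc : List ℤ) :
    inner y B z c c2 F (k + 1) r q acc = cond (F (k + 1) r q acc)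
      (cond (Nat.ble c r)
        (cond (Nat.ble (Nat.add q c2) B)
          (cond (bit (y k) (Nat.sub r c))
            (inner y B z c c2 F k (Nat.sub r c) (Nat.add q c2) (z :: acc)) true) true) true)
      false := rfl

theorem dfs_cons (N B : ℕ) (P : List ℤ → Bool) (x : ℤ × ℕ × ℕ) (C : List (ℤ × ℕ × ℕ))
    (k r q : ℕ) (acc : List ℤ) : dfs N B P (x :: C) k r q acc =
    inner (row N (x.2.1 :: C.map fun x => x.2.1)) B x.1 x.2.1 x.2.2
      (fun k r q acc => cond (bit (row N (C.map fun x => x.2.1) k) r)
        (dfs N B P C k r q acc) true) k r q acc := rfl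

theorem dfs_spec {w B : ℕ} {P : List ℤ → Bool} {C l : List (ℤ × ℕ × ℕ)} (h : Rep C l) :
    ∀ (q : ℕ) (acc : List ℤ), (l.map fun x => x.2.1).sum < w →
      q + (l.map fun x => x.2.2).sum ≤ B →
      dfs (2 ^ w) B P C l.length (l.map fun x => x.2.1).sum q acc = true →
      P ((l.map fun x => x.1).reverse ++ acc) = true := by
  induction h with
  | nil => intro q acc _ _ hd; exact hd
  | @skip x C l h ih =>
    intro q acc hw hB hd
    have hrow := row_spec (w := w) (h.map fun x => x.2.1) hw
    rw [List.length_map] at hrow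
    have hF : cond (bit (row (2 ^ w) (C.map fun x => x.2.1) l.length)
        (l.map fun x => x.2.1).sum)
        (dfs (2 ^ w) B P C l.length (l.map fun x => x.2.1).sum q acc) true = true := by
      rw [dfs_cons] at hd
      cases hk : l.length with
      | zero => rw [hk] at hd; exact hd
      | succ k =>
        rw [hk, inner_succ] at hd
        revert hd
        generalize cond (bit (row (2 ^ w) (C.map fun x => x.2.1) (k + 1))
          (l.map fun x => x.2.1).sum)
          (dfs (2 ^ w) B P C (k + 1) (l.map fun x => x.2.1).sum q acc) true = b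
        cases b
        · intro hd; exact hd
        · intro _; rfl
    rw [bit_eq, hrow, cond_true] at hF
    exact ih q acc hw hB hF
  | @take x C l h ih =>
    intro q acc hw hB hd
    rw [List.map_cons, List.sum_cons] at hw hB
    have hrow := row_spec (w := w) (h.map fun x => x.2.1) (by omega)
    rw [List.length_map, List.map_cons] at hrow
    rw [List.map_cons, List.sum_cons, List.length_cons] at hd
    have hd2 : dfs (2 ^ w) B P (x :: C) l.length (l.map fun x => x.2.1).sum (q + x.2.2)
        (x.1 :: acc) = true := by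
      rw [dfs_cons, inner_succ] at hd
      have e1 : Nat.ble x.2.1 (x.2.1 + (l.map fun x => x.2.1).sum) = true :=
        Nat.ble_eq_true_of_le (Nat.le_add_right _ _)
      have e2 : Nat.ble (Nat.add q x.2.2) B = true := Nat.ble_eq_true_of_le (by
        change q + x.2.2 ≤ B; omega)
      have e3 : Nat.sub (x.2.1 + (l.map fun x => x.2.1).sum) x.2.1 =
          (l.map fun x => x.2.1).sum := Nat.add_sub_cancel_left _ _
      have e4 := (bit_eq _ _).trans hrow
      rw [e1, e2, e3, e4, cond_true, cond_true, cond_true] at hd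
      rw [dfs_cons]
      revert hd
      generalize cond (bit (row (2 ^ w) (C.map fun x => x.2.1) (l.length + 1))
          (x.2.1 + (l.map fun x => x.2.1).sum))
          (dfs (2 ^ w) B P C (l.length + 1) (x.2.1 + (l.map fun x => x.2.1).sum) q acc) true = b
      cases b
      · intro hd; exact absurd hd (by simp)
      · intro hd; exact hd
    have := ih (q + x.2.2) (x.1 :: acc) (by omega) (by omega) hd2
    rw [List.map_cons, List.reverse_cons, List.append_assoc]
    exact this

/-! ### User interface -/

/-- The kernel check. `enc` encodes the entries; `T` is a list of pairs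
(allowed value of `∑ enc z`, bound for `∑ z ^ 2`). `P` is evaluated on the sorted list. -/
def check (w k : ℕ) (enc : ℤ → ℕ) (P : List ℤ → Bool) (C : List ℤ) (T : List (ℕ × ℕ)) : Bool :=
  T.all fun x => Nat.blt x.1 w && dfs (2 ^ w) x.2 (fun l => P l.reverse)
    (C.map fun z => (z, enc z, z.natAbs ^ 2)) k x.1 0 []

theorem check_spec {w k : ℕ} {enc : ℤ → ℕ} {P : List ℤ → Bool} {C : List ℤ} {T : List (ℕ × ℕ)}
    (h : check w k enc P C T = true) (hC : C.Pairwise (· < ·)) {l : List ℤ} (hk : l.length = k)
    (hl : l.Pairwise (· ≤ ·)) (hmem : ∀ z ∈ l, z ∈ C)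
    (hT : ∃ x ∈ T, (l.map enc).sum = x.1 ∧ (l.map fun z => z.natAbs ^ 2).sum ≤ x.2) :
    P l = true := by
  obtain ⟨x, hx, h1, h2⟩ := hT
  rw [check, List.all_eq_true] at h
  have h3 := h x hx
  rw [Bool.and_eq_true] at h3
  have h4 : x.1 < w := by
    have := h3.1
    rwa [Nat.blt_eq] at this
  have h5 := (rep_of_sorted hC hl hmem).map fun z => (z, enc z, z.natAbs ^ 2)
  have h6 := dfs_spec (w := w) (B := x.2) (P := fun l => P l.reverse) h5 0 []
  rw [List.map_map, List.map_map, List.map_map, List.length_map] at h6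
  have e1 : ((fun x : ℤ × ℕ × ℕ => x.2.1) ∘ fun z => (z, enc z, z.natAbs ^ 2)) = enc := rfl
  have e2 : ((fun x : ℤ × ℕ × ℕ => x.2.2) ∘ fun z => (z, enc z, z.natAbs ^ 2)) =
    fun z => z.natAbs ^ 2 := rfl
  have e3 : ((fun x : ℤ × ℕ × ℕ => x.1) ∘ fun z => (z, enc z, z.natAbs ^ 2)) = id := rfl
  rw [e1, e2, e3, List.map_id, hk, h1, List.append_nil, List.reverse_reverse, zero_add] at h6
  exact h6 h4 h2 h3.2

/-- Affine encoding with an additional weight. -/
def aff (p : ℕ) (o : ℤ) (M : ℕ) (wt : ℤ → ℕ) (z : ℤ) : ℕ := ((z + o) / p).toNat + M * wt z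

theorem sum_aff {p : ℕ} (hp : 0 < p) {o : ℤ} {M : ℕ} {wt : ℤ → ℕ} {l : List ℤ}
    (h : ∀ z ∈ l, (p : ℤ) ∣ z + o ∧ 0 ≤ z + o) :
    (l.map (aff p o M wt)).sum =
      ((l.sum + l.length * o) / p).toNat + M * (l.map wt).sum := by
  have h2 : ∀ l : List ℤ, (∀ z ∈ l, (p : ℤ) ∣ z + o ∧ 0 ≤ z + o) →
      (p : ℤ) ∣ l.sum + l.length * o ∧ 0 ≤ l.sum + l.length * o ∧
      (l.map (aff p o M wt)).sum = ((l.sum + l.length * o) / p).toNat + M * (l.map wt).sum := by
    intro l
    induction l with
    | nil => intro _; simp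
    | cons x l ih =>
      intro h
      obtain ⟨h3, h4, h5⟩ := ih fun z hz => h z (List.mem_cons_of_mem _ hz)
      obtain ⟨h6, h7⟩ := h x (by simp)
      have e1 : (x :: l).sum + (x :: l).length * o = (x + o) + (l.sum + l.length * o) := by
        rw [List.sum_cons, List.length_cons]; push_cast; ring
      have hp' : (0 : ℤ) < p := by exact_mod_cast hp
      refine ⟨by rw [e1]; exact dvd_add h6 h3, by rw [e1]; exact add_nonneg h7 h4, ?_⟩
      rw [e1, Int.add_ediv_of_dvd_left h6, Int.toNat_add (Int.ediv_nonneg h7 hp'.le)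
        (Int.ediv_nonneg h4 hp'.le), List.map_cons, List.sum_cons, List.map_cons, List.sum_cons,
        h5, aff]
      ring
  exact (h2 l h).2.2

/-- Candidates: everything allowed by `F` is in `C`. -/
theorem mem_of_all {p r : ℕ} (hr : r < p) {L : List (ℕ × ℕ)} (hL : ∀ x ∈ L, x.1.Prime)
    {F : ℤ → Bool} {C : List ℤ}
    (h : (signed p r (divs L)).all (fun z => !F z || C.contains z) = true)
    {z : ℤ} (h1 : z ≡ r [ZMOD p]) (h2 : z.natAbs ∣ (L.map fun x => x.1 ^ x.2).prod)
    (h3 : F z = true) : z ∈ C := by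
  rw [List.all_eq_true] at h
  have := h z (mem_signed hr h1 (mem_divs hL h2))
  rw [h3] at this
  simpa using this

end Cfsg.Agent.SmallSimple.DegreeSearch
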