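import Cfsg.Agent.SmallSimple.TheoremBCor
import Cfsg.Agent.Blocks.Knorr
import Mathlib.Data.List.Sort

/-!
# Arithmetic data from Brauer's theorem on groups with a Sylow subgroup of prime order

The conclusions of `TheoremB.theoremB` / `TheoremBCor.theoremB_selfCent` in terms of integers.
The *signed degree* of `χ` is `ε χ * charDegree χ`.

* `nonexc_modEq`, `exc_modEq`, `relation` : congruences and the degree relation.
* `sum_sq` : sum of squares.
* `exists_list` : the nontrivial nonexceptional characters as a list sorted by signed degree.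
* `exists_data_selfCent`, `exists_data` : everything in one statement.
-/

set_option autoImplicit false
set_option linter.unusedSectionVars false

open Cfsg

namespace Cfsg.Agent.SmallSimple.DegreeData

open Subgroup
open Cfsg.Agent.Characters.Core
open Cfsg.Agent.SmallSimple.TheoremBCor

universe u

variable {G : Type u} [Group G] [Finite G]

/-- The signed degree of a nonexceptional character is `1` mod `p`. -/
theorem nonexc_modEq {p : ℕ} {P : Subgroup G} (hP : Nat.card P = p)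
    {χ : IrrCharacter G} {ε : ℤ} (hε : ε = 1 ∨ ε = -1)
    (h : ∀ x ∈ P, x ≠ 1 → (χ : G → ℂ) x = ε) :
    ε * (charDegree (χ : G → ℂ) : ℤ) ≡ 1 [ZMOD p] := by
  obtain ⟨m, hm⟩ := degree_nonexc hP (isIrr_isCharacter χ.2) h
  rw [Blocks.Knorr.charDegree_eq χ.2] at hm
  have h1 : (charDegree (χ : G → ℂ) : ℤ) = ε + p * ((m : ℤ) - ε) := by
    have : ((charDegree (χ : G → ℂ) : ℤ) : ℂ) = ((ε + p * ((m : ℤ) - ε) : ℤ) : ℂ) := by
      push_cast; exact hm
    exact_mod_cast this
  have h2 : ε * ε = 1 := by rcases hε with rfl | rfl <;> norm_num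
  rw [h1]
  have h3 : ε * (ε + p * ((m : ℤ) - ε)) = 1 + p * (ε * (m - ε)) := by
    linear_combination h2
  rw [h3]
  exact (Int.modEq_iff_dvd.2 ⟨-(ε * (m - ε)), by ring⟩)

/-- The signed degree of an exceptional character is `e` mod `p`. -/
theorem exc_modEq {p e : ℕ} {P : Subgroup G} (hP : Nat.card P = p)
    {χ : IrrCharacter G} {d : ℤ} (hd : d = 1 ∨ d = -1) {S : Finset (P →* ℂˣ)}
    (hSe : S.card = e) (hS : 1 ∉ S)
    (h : ∀ x : P, x ≠ 1 → (χ : G → ℂ) x = d * ∑ l ∈ S, ((l x : ℂˣ) : ℂ)) :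
    d * (charDegree (χ : G → ℂ) : ℤ) ≡ e [ZMOD p] := by
  obtain ⟨m, hm⟩ := degree_exc hP (isIrr_isCharacter χ.2) hS h
  rw [Blocks.Knorr.charDegree_eq χ.2, hSe] at hm
  have h1 : (charDegree (χ : G → ℂ) : ℤ) = d * e + p * m := by
    have : ((charDegree (χ : G → ℂ) : ℤ) : ℂ) = ((d * e + p * m : ℤ) : ℂ) := by
      push_cast; exact hm
    exact_mod_cast this
  have h2 : d * d = 1 := by rcases hd with rfl | rfl <;> norm_num
  rw [h1]
  have h3 : d * (d * e + p * m) = e + p * (d * m) := by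
    linear_combination (e : ℤ) * h2
  rw [h3]
  exact (Int.modEq_iff_dvd.2 ⟨-(d * m), by ring⟩)

/-- The degree relation. -/
theorem relation {p : ℕ} (hp : p ≠ 1) {NE : Finset (IrrCharacter G)} {ε : IrrCharacter G → ℤ} {d : ℤ}
    {Θ : IrrCharacter G}
    (h : ∀ g : G, ¬ p ∣ orderOf g →
      ∑ χ ∈ NE, (ε χ : ℂ) * (χ : G → ℂ) g = d * (Θ : G → ℂ) g) :
    ∑ χ ∈ NE, ε χ * (charDegree (χ : G → ℂ) : ℤ) = d * (charDegree (Θ : G → ℂ) : ℤ) := by
  have h1 := h 1 (by rw [orderOf_one]; exact fun h => hp (Nat.dvd_one.1 h))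
  rw [Blocks.Knorr.charDegree_eq Θ.2, Finset.sum_congr rfl fun χ _ => by
    rw [Blocks.Knorr.charDegree_eq χ.2]] at h1
  exact_mod_cast h1

theorem sum_sq [Fintype (IrrCharacter G)] :
    ∑ χ : IrrCharacter G, (charDegree (χ : G → ℂ)) ^ 2 = Nat.card G := by
  classical
  have := Fintype.ofFinite G
  have h := S0145.sum_irr_mul_conj (G := G) 1 1
  rw [if_pos (IsConj.refl 1)] at h
  have h2 : Nat.card (centralizer ({1} : Set G)) = Nat.card G := by
    have : centralizer ({1} : Set G) = ⊤ := by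
      rw [eq_top_iff]
      intro g _
      rw [mem_centralizer_iff]
      rintro _ rfl
      simp
    rw [this, Nat.card_congr Subgroup.topEquiv.toEquiv]
  rw [h2] at h
  have h3 : ((∑ χ : IrrCharacter G, (charDegree (χ : G → ℂ)) ^ 2 : ℕ) : ℂ) = (Nat.card G : ℂ) := by
    rw [← h]
    push_cast
    have e1 : ∀ χ : IrrCharacter G, ((charDegree (χ : G → ℂ) : ℂ)) ^ 2 =
        (χ : G → ℂ) 1 * (starRingEnd ℂ) ((χ : G → ℂ) 1) := by
      intro χ
      rw [Blocks.Knorr.charDegree_eq χ.2]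
      simp [sq]
    exact Finset.sum_congr rfl fun χ _ => e1 χ
  exact_mod_cast h3

/-- A finset as a duplicate-free list sorted along a function. -/
theorem exists_sorted {ι : Type*} [DecidableEq ι] (s : Finset ι) (f : ι → ℤ) :
    ∃ l : List ι, l.Nodup ∧ l.toFinset = s ∧ (l.map f).Pairwise (· ≤ ·) := by
  refine ⟨s.toList.mergeSort (fun a b => decide (f a ≤ f b)), ?_, ?_, ?_⟩
  · exact (List.mergeSort_perm _ _).nodup_iff.2 s.nodup_toList
  · rw [List.toFinset_eq_of_perm _ _ (List.mergeSort_perm _ _), Finset.toList_toFinset]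
  · rw [List.pairwise_map]
    have := List.pairwise_mergeSort (le := fun a b => decide (f a ≤ f b))
      (fun a b c hab hbc => by simp only [decide_eq_true_eq] at *; exact hab.trans hbc)
      (fun a b => by simp only [Bool.or_eq_true, decide_eq_true_eq]; exact le_total _ _)
      s.toList
    exact this.imp fun h => by simpa using h

/-- All the data of Brauer's theorem for the principal `p`-block of a group with a Sylow
`p`-subgroup `P` of order `p`: `e = |N(P) : C(P)|`, `e * t = p - 1`. -/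
structure BlockData (p : ℕ) (M : Ideal AlgInt) (P : Sylow p G) (e t : ℕ) where
  /-- the trivial character -/
  one : IrrCharacter G
  /-- the other nonexceptional characters, sorted by signed degree -/
  l : List (IrrCharacter G)
  /-- the exceptional characters -/
  X : Finset (IrrCharacter G)
  /-- the signs of the nonexceptional characters -/
  ε : IrrCharacter G → ℤ
  /-- the sign of the exceptional characters -/
  d : ℤ
  /-- the linear characters of `P` in the exceptional characters -/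
  S : IrrCharacter G → Finset (P →* ℂˣ)
  /-- the degree of the exceptional characters -/
  f : ℕ
  nodup : (one :: l).Nodup
  notMem_X : ∀ χ ∈ one :: l, χ ∉ X
  mem_block : ∀ χ : IrrCharacter G, χ ∈ principalBlock M G ↔ χ ∈ one :: l ∨ χ ∈ X
  length : l.length + 1 = e
  card_X : X.card = t
  coe_one : (one : G → ℂ) = 1
  ε_one : ε one = 1
  ε_mem : ∀ χ ∈ one :: l, ε χ = 1 ∨ ε χ = -1
  d_mem : d = 1 ∨ d = -1
  val : ∀ χ ∈ one :: l, ∀ x ∈ P, x ≠ 1 → ∀ y ∈ centralizer (P : Set G), ¬ p ∣ orderOf y →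
    (χ : G → ℂ) (x * y) = ε χ
  card_S : ∀ Θ ∈ X, (S Θ).card = e
  one_notMem_S : ∀ Θ ∈ X, 1 ∉ S Θ
  val_X : ∀ Θ ∈ X, ∀ x : P, x ≠ 1 → ∀ y ∈ centralizer (P : Set G), ¬ p ∣ orderOf y →
    (Θ : G → ℂ) (x * y) = d * ∑ l ∈ S Θ, ((l x : ℂˣ) : ℂ)
  disj_S : ∀ Θ ∈ X, ∀ Θ' ∈ X, Θ ≠ Θ' → Disjoint (S Θ) (S Θ')
  rel : ∀ Θ ∈ X, ∀ g : G, ¬ p ∣ orderOf g →
    1 + (l.map fun χ => (ε χ : ℂ) * (χ : G → ℂ) g).sum = d * (Θ : G → ℂ) g
  deg_X : ∀ Θ ∈ X, charDegree (Θ : G → ℂ) = f
  sorted : (l.map fun χ => ε χ * (charDegree (χ : G → ℂ) : ℤ)).Pairwise (· ≤ ·)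

theorem exists_blockData (p : ℕ) [Fact p.Prime] (hp2 : p ≠ 2) (M : Ideal AlgInt)
    (hM : IsPModular p M) (P : Sylow p G) (hP : Nat.card P = p) (e t : ℕ)
    (he : (centralizer (P : Set G)).relIndex (normalizer (P : Set G)) = e) (ht : e * t = p - 1) :
    Nonempty (BlockData p M P e t) := by
  classical
  have hp : p.Prime := Fact.out
  obtain ⟨NE, X, ε, d, S, hB, h1, h2, h3, h4, h5, ⟨χ₁, h6, h6', h6''⟩, h7, h8, h9, h10⟩ :=
    TheoremB.theoremB p hp2 M hM P hP e t he ht
  have ht0 : t ≠ 0 := by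
    rintro rfl
    rw [mul_zero] at ht
    have := hp.two_le
    omega
  obtain ⟨Θ₀, hΘ₀⟩ : X.Nonempty := by rw [← Finset.card_ne_zero, h3]; exact ht0
  obtain ⟨l, hl1, hl2, hl3⟩ := exists_sorted (NE.erase χ₁)
    (fun χ => ε χ * (charDegree (χ : G → ℂ) : ℤ))
  have hmem : ∀ χ, χ ∈ χ₁ :: l ↔ χ ∈ NE := by
    intro χ
    rw [List.mem_cons, ← List.mem_toFinset, hl2, Finset.mem_erase]
    constructor
    · rintro (rfl | ⟨-, h⟩)
      · exact h6
      · exact h
    · intro h
      by_cases hχ : χ = χ₁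
      · exact Or.inl hχ
      · exact Or.inr ⟨hχ, h⟩
  have hnd : (χ₁ :: l).Nodup := by
    rw [List.nodup_cons]
    refine ⟨fun h => ?_, hl1⟩
    rw [← List.mem_toFinset, hl2] at h
    exact Finset.notMem_erase _ _ h
  have hsum : ∀ F : IrrCharacter G → ℂ, ∑ χ ∈ NE, F χ = F χ₁ + (l.map F).sum := by
    intro F
    rw [← Finset.add_sum_erase NE F h6, ← hl2, List.sum_toFinset F hl1]
  refine ⟨{ one := χ₁, l := l, X := X, ε := ε, d := d, S := S,
            f := charDegree (Θ₀ : G → ℂ), nodup := hnd, notMem_X := ?_, mem_block := ?_,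
            length := ?_, card_X := h3, coe_one := h6', ε_one := h6'', ε_mem := ?_,
            d_mem := h5, val := ?_, card_S := fun Θ hΘ => (h8 Θ hΘ).1,
            one_notMem_S := fun Θ hΘ => (h8 Θ hΘ).2.1, val_X := fun Θ hΘ => (h8 Θ hΘ).2.2,
            disj_S := h9, rel := ?_, deg_X := ?_, sorted := hl3 }⟩
  · intro χ hχ hX
    exact Finset.disjoint_left.1 h1 ((hmem χ).1 hχ) hX
  · intro χ
    rw [hmem]
    exact hB χ
  · rw [← h2, ← Finset.card_erase_add_one h6, ← hl2, List.toFinset_card_of_nodup hl1]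
  · intro χ hχ
    exact h4 χ ((hmem χ).1 hχ)
  · intro χ hχ
    exact h7 χ ((hmem χ).1 hχ)
  · intro Θ hΘ g hg
    have := h10 Θ hΘ g hg
    rw [hsum (fun χ => (ε χ : ℂ) * (χ : G → ℂ) g), h6', h6''] at this
    rw [← this]
    simp
  · intro Θ hΘ
    have e1 := relation hp.one_lt.ne' (h10 Θ hΘ)
    have e2 := relation hp.one_lt.ne' (h10 Θ₀ hΘ₀)
    rw [e1] at e2
    rcases h5 with rfl | rfl
    · simpa using e2
    · simpa using e2

namespace BlockData

variable {p : ℕ} {M : Ideal AlgInt} {P : Sylow p G} {e t : ℕ}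

/-- signed degree -/
noncomputable def sd (D : BlockData p M P e t) (χ : IrrCharacter G) : ℤ :=
  D.ε χ * (charDegree (χ : G → ℂ) : ℤ)

/-- The sorted list of signed degrees of the nontrivial nonexceptional characters. -/
noncomputable def degs (D : BlockData p M P e t) : List ℤ := D.l.map D.sd

/-- The signed degree of the exceptional characters. -/
def dexc (D : BlockData p M P e t) : ℤ := D.d * D.f

theorem degs_sorted (D : BlockData p M P e t) : D.degs.Pairwise (· ≤ ·) := D.sorted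

theorem length_degs (D : BlockData p M P e t) : D.degs.length + 1 = e := by
  rw [degs, List.length_map, D.length]

theorem val' [Fact p.Prime] (D : BlockData p M P e t) {χ : IrrCharacter G} (hχ : χ ∈ D.one :: D.l)
    {x : G} (hx : x ∈ P) (hx1 : x ≠ 1) : (χ : G → ℂ) x = D.ε χ := by
  have := D.val χ hχ x hx hx1 1 (one_mem _)
    (by rw [orderOf_one]; exact fun h => (Fact.out : p.Prime).one_lt.ne' (Nat.dvd_one.1 h))
  rwa [mul_one] at this

theorem val_X' [Fact p.Prime] (D : BlockData p M P e t) {Θ : IrrCharacter G} (hΘ : Θ ∈ D.X)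
    (x : P) (hx : x ≠ 1) : (Θ : G → ℂ) x = D.d * ∑ l ∈ D.S Θ, ((l x : ℂˣ) : ℂ) := by
  have := D.val_X Θ hΘ x hx 1 (one_mem _)
    (by rw [orderOf_one]; exact fun h => (Fact.out : p.Prime).one_lt.ne' (Nat.dvd_one.1 h))
  rwa [mul_one] at this

theorem sd_modEq [Fact p.Prime] (D : BlockData p M P e t) (hP : Nat.card P = p)
    {χ : IrrCharacter G} (hχ : χ ∈ D.one :: D.l) : D.sd χ ≡ 1 [ZMOD p] :=
  nonexc_modEq (P := (P : Subgroup G)) hP (D.ε_mem χ hχ) (fun _ hx hx1 => D.val' hχ hx hx1)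

theorem natAbs_sd (D : BlockData p M P e t) {χ : IrrCharacter G} (hχ : χ ∈ D.one :: D.l) :
    (D.sd χ).natAbs = charDegree (χ : G → ℂ) := by
  rcases D.ε_mem χ hχ with h | h <;> simp [sd, h]

theorem sq_sd (D : BlockData p M P e t) {χ : IrrCharacter G} (hχ : χ ∈ D.one :: D.l) :
    (D.sd χ) ^ 2 = (charDegree (χ : G → ℂ) : ℤ) ^ 2 := by
  rcases D.ε_mem χ hχ with h | h <;> simp [sd, h]

theorem degs_spec [Fact p.Prime] (D : BlockData p M P e t) (hP : Nat.card P = p) :
    ∀ z ∈ D.degs, z ≡ 1 [ZMOD p] ∧ z.natAbs ∣ Nat.card G ∧ z ≠ 0 := by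
  intro z hz
  obtain ⟨χ, hχ, rfl⟩ := List.mem_map.1 hz
  have hχ' : χ ∈ D.one :: D.l := List.mem_cons_of_mem _ hχ
  refine ⟨D.sd_modEq hP hχ', ?_, ?_⟩
  · rw [D.natAbs_sd hχ']
    exact Blocks.Knorr.charDegree_dvd χ.2
  · rw [Ne, ← Int.natAbs_eq_zero, D.natAbs_sd hχ']
    exact Blocks.Knorr.charDegree_ne_zero χ.2

theorem exists_X [Fact p.Prime] (D : BlockData p M P e t) (ht : e * t = p - 1) :
    ∃ Θ, Θ ∈ D.X := by
  have ht0 : t ≠ 0 := by
    rintro rfl
    rw [mul_zero] at ht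
    have := (Fact.out : p.Prime).two_le
    omega
  have : D.X.Nonempty := by rw [← Finset.card_ne_zero, D.card_X]; exact ht0
  exact this

theorem dexc_eq [Fact p.Prime] (D : BlockData p M P e t) (ht : e * t = p - 1) :
    1 + D.degs.sum = D.dexc := by
  obtain ⟨Θ, hΘ⟩ := D.exists_X ht
  have h := D.rel Θ hΘ 1 (by
    rw [orderOf_one]; exact fun h => (Fact.out : p.Prime).one_lt.ne' (Nat.dvd_one.1 h))
  rw [Blocks.Knorr.charDegree_eq Θ.2, D.deg_X Θ hΘ] at h
  have h1 : (D.l.map fun χ => (D.ε χ : ℂ) * (χ : G → ℂ) 1) =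
      D.degs.map (fun z : ℤ => (z : ℂ)) := by
    rw [degs, List.map_map]
    refine List.map_congr_left fun χ _ => ?_
    rw [Function.comp_apply, sd, Blocks.Knorr.charDegree_eq χ.2]
    push_cast
    ring
  have h2 : ((D.degs.map (fun z : ℤ => (z : ℂ))).sum) = ((D.degs.sum : ℤ) : ℂ) := by
    have := map_list_sum (Int.castRingHom ℂ) D.degs
    simpa using this.symm
  rw [h1, h2] at h
  rw [dexc]
  exact_mod_cast h

theorem dexc_modEq [Fact p.Prime] (D : BlockData p M P e t) (hP : Nat.card P = p)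
    (ht : e * t = p - 1) : D.dexc ≡ e [ZMOD p] := by
  obtain ⟨Θ, hΘ⟩ := D.exists_X ht
  have := exc_modEq (P := (P : Subgroup G)) hP D.d_mem (D.card_S Θ hΘ) (D.one_notMem_S Θ hΘ)
    (fun x hx => D.val_X' hΘ x hx)
  rwa [D.deg_X Θ hΘ] at this

theorem f_dvd [Fact p.Prime] (D : BlockData p M P e t) (ht : e * t = p - 1) :
    D.f ∣ Nat.card G := by
  obtain ⟨Θ, hΘ⟩ := D.exists_X ht
  rw [← D.deg_X Θ hΘ]
  exact Blocks.Knorr.charDegree_dvd Θ.2

theorem natAbs_dexc (D : BlockData p M P e t) : D.dexc.natAbs = D.f := by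
  rcases D.d_mem with h | h <;> simp [dexc, h]

/-- The characters outside the principal block. -/
noncomputable def others (D : BlockData p M P e t) [Fintype (IrrCharacter G)] :
    Finset (IrrCharacter G) := by
  classical exact Finset.univ \ ((D.one :: D.l).toFinset ∪ D.X)

theorem mem_others (D : BlockData p M P e t) [Fintype (IrrCharacter G)] {χ : IrrCharacter G} :
    χ ∈ D.others ↔ χ ∉ principalBlock M G := by
  classical
  rw [others, Finset.mem_sdiff, Finset.mem_union, List.mem_toFinset, D.mem_block]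
  simp

/-- Sum of squares, with the squares of the other characters. -/
theorem sum_sq (D : BlockData p M P e t) [Fintype (IrrCharacter G)] :
    1 + (D.degs.map (· ^ 2)).sum + t * (D.f : ℤ) ^ 2 +
      ∑ χ ∈ D.others, (charDegree (χ : G → ℂ) : ℤ) ^ 2 = Nat.card G := by
  classical
  have h := DegreeData.sum_sq (G := G)
  have h' : ∑ χ : IrrCharacter G, (charDegree (χ : G → ℂ) : ℤ) ^ 2 = Nat.card G := by
    exact_mod_cast h
  rw [← h', ← Finset.sum_sdiff (Finset.subset_univ ((D.one :: D.l).toFinset ∪ D.X)), add_comm]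
  congr 1
  rw [Finset.sum_union (by
    rw [Finset.disjoint_left]
    intro χ hχ
    exact D.notMem_X χ (List.mem_toFinset.1 hχ))]
  congr 1
  · rw [List.sum_toFinset _ D.nodup, List.map_cons, List.sum_cons]
    have h1 : charDegree (D.one : G → ℂ) = 1 := by
      apply Blocks.Knorr.charDegree_of_natCast
      rw [D.coe_one]; simp
    rw [h1]
    congr 1
    rw [degs, List.map_map]
    congr 1
    refine List.map_congr_left fun χ hχ => ?_
    exact D.sq_sd (List.mem_cons_of_mem _ hχ)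
  · rw [Finset.sum_congr rfl fun Θ hΘ => by rw [D.deg_X Θ hΘ], Finset.sum_const, D.card_X]
    simp

theorem sum_sq_le (D : BlockData p M P e t) :
    1 + (D.degs.map (· ^ 2)).sum + t * (D.f : ℤ) ^ 2 ≤ Nat.card G := by
  have := finite_irr (G := G)
  have := Fintype.ofFinite (IrrCharacter G)
  rw [← D.sum_sq]
  exact le_add_of_nonneg_right (Finset.sum_nonneg fun _ _ => sq_nonneg _)

open scoped ComplexConjugate in
/-- If `P` is self-centralizing, the characters outside the principal block vanish on `P#`. -/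
theorem vanish [Fact p.Prime] (D : BlockData p M P e t) (hM : IsPModular p M)
    (hP : Nat.card P = p) (hC : centralizer (P : Set G) = (P : Subgroup G)) {χ : IrrCharacter G}
    (hχ : χ ∉ principalBlock M G) {x : G} (hx : x ∈ P) (hx1 : x ≠ 1) : (χ : G → ℂ) x = 0 := by
  classical
  have := finite_irr (G := G)
  have := Fintype.ofFinite (IrrCharacter G)
  have := Fintype.ofFinite G
  have hcol := S0145.sum_irr_mul_conj x x
  have hC' : centralizer ({x} : Set G) = (P : Subgroup G) :=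
    (Blocks.CyclicOrtho.centralizer_eq P hP hx hx1).trans hC
  rw [if_pos (IsConj.refl x), hC'] at hcol
  have hgram := Blocks.CyclicOrtho.gram P hP hM hx hx1 hx hx1
  rw [if_pos (IsConj.refl x)] at hgram
  set B : Finset (IrrCharacter G) := (D.one :: D.l).toFinset ∪ D.X with hBdef
  have hB : ∀ χ : IrrCharacter G, χ ∈ principalBlock M G ↔ χ ∈ B := by
    intro χ; rw [D.mem_block, hBdef, Finset.mem_union, List.mem_toFinset]
  have hgram' : ∑ χ ∈ B, (χ : G → ℂ) x * conj ((χ : G → ℂ) x) = p := by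
    rw [← hgram, ← finsum_mem_coe_finset]
    refine finsum_mem_congr ?_ fun _ _ => rfl
    ext χ
    exact (hB χ).symm
  have hPc : (Nat.card (P : Subgroup G) : ℂ) = p := by rw [hP]
  rw [hPc, ← Finset.sum_sdiff (Finset.subset_univ B), hgram'] at hcol
  have h0 : ∑ χ ∈ Finset.univ \ B, (χ : G → ℂ) x * conj ((χ : G → ℂ) x) = 0 :=
    add_eq_right.1 hcol
  have h0' : ∑ χ ∈ Finset.univ \ B, Complex.normSq ((χ : G → ℂ) x) = 0 := by
    have : ((∑ χ ∈ Finset.univ \ B, Complex.normSq ((χ : G → ℂ) x) : ℝ) : ℂ) = 0 := by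
      rw [← h0]
      push_cast
      refine Finset.sum_congr rfl fun χ _ => ?_
      rw [Complex.mul_conj]
    exact_mod_cast this
  have h11 := (Finset.sum_eq_zero_iff_of_nonneg (fun χ _ => Complex.normSq_nonneg _)).1 h0' χ
    (by rw [Finset.mem_sdiff]; exact ⟨Finset.mem_univ _, fun h => hχ ((hB χ).2 h)⟩)
  exact Complex.normSq_eq_zero.1 h11

theorem dvd_degree [Fact p.Prime] (D : BlockData p M P e t) (hM : IsPModular p M)
    (hP : Nat.card P = p) (hC : centralizer (P : Set G) = (P : Subgroup G)) {χ : IrrCharacter G}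
    (hχ : χ ∉ principalBlock M G) : p ∣ charDegree (χ : G → ℂ) := by
  obtain ⟨m, hm⟩ := degree_nonexc (P := (P : Subgroup G)) hP (isIrr_isCharacter χ.2) (ε := 0)
    (fun x hx hx1 => by rw [D.vanish hM hP hC hχ hx hx1]; simp)
  rw [Blocks.Knorr.charDegree_eq χ.2] at hm
  have h12 : (charDegree (χ : G → ℂ) : ℂ) = ((p * m : ℕ) : ℂ) := by
    rw [hm]; push_cast; ring
  have h13 : charDegree (χ : G → ℂ) = p * m := by exact_mod_cast h12
  rw [h13]
  exact dvd_mul_right _ _

end BlockData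

end Cfsg.Agent.SmallSimple.DegreeData
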