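import Mathlib
import Cfsg.Agent.SmallSimple.Simple168Klein
import Cfsg.Agent.SmallSimple.KleinFourAut
import Cfsg.Agent.S1012

set_option autoImplicit false
set_option linter.unusedSectionVars false

/-! Maximal subgroups of a simple group of order 168. -/

namespace Cfsg.Agent.SmallSimple.Simple168Max

open Subgroup Cfsg.Agent.SmallSimple Cfsg.Agent.SmallSimple.SylowCount
  Cfsg.Agent.SmallSimple.KleinDihedral Cfsg.Agent.SmallSimple.Simple168Klein

variable {G : Type*} [Group G] [Finite G] [IsSimpleGroup G]

/-- A subgroup of order 24 is isomorphic to the symmetric group of degree 4. -/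
theorem iso_perm_of_card (h : Nat.card G = 168) (M : Subgroup G) (hM : Nat.card M = 24) :
    Nonempty (M ≃* Equiv.Perm (Fin 4)) := by
  apply Cfsg.Agent.S1012.result hM
  intro g hg
  have h1 := Simple168Classes.orderOf_cases h (g : G)
  rw [Subgroup.orderOf_coe, hg] at h1
  revert h1
  decide

theorem normalizer_ne_top {H : Subgroup G} (h1 : H ≠ ⊥) (h2 : H ≠ ⊤) :
    normalizer (H : Set G) ≠ ⊤ := by
  intro h0
  rw [normalizer_eq_top_iff] at h0
  rcases h0.eq_bot_or_eq_top with h3 | h3
  · exact h1 h3
  · exact h2 h3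

theorem eq_normalizer_of_isCoatom {M H : Subgroup G} (hM : IsCoatom M) (h1 : H ≠ ⊥) (h2 : H ≠ ⊤)
    (hMH : M ≤ normalizer (H : Set G)) : M = normalizer (H : Set G) := by
  rcases hMH.lt_or_eq with h3 | h3
  · exact absurd (hM.2 _ h3) (normalizer_ne_top h1 h2)
  · exact h3

theorem ne_bot_of_card {H : Subgroup G} (h : Nat.card H ≠ 1) : H ≠ ⊥ := by
  rintro rfl
  simp at h

theorem ne_top_of_card (h : Nat.card G = 168) {H : Subgroup G} (hH : Nat.card H ≠ 168) :
    H ≠ ⊤ := by
  rintro rfl
  rw [Nat.card_congr Subgroup.topEquiv.toEquiv, h] at hH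
  exact hH rfl

/-- The normalizer of a Klein four-subgroup is maximal. -/
theorem isCoatom_normalizer (h : Nat.card G = 168) {U : Subgroup G} (hU : IsKleinFour U) :
    IsCoatom (normalizer (U : Set G)) := by
  constructor
  · apply ne_top_of_card h
    rw [card_normalizer h hU]
    norm_num
  · intro M hM
    have h1 : M.index ∣ 7 := by
      rw [← index_normalizer h hU]
      exact index_dvd_of_le hM.le
    rcases (Nat.dvd_prime (by norm_num)).1 h1 with h2 | h2
    · exact index_eq_one.1 h2
    · exfalso
      apply hM.ne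
      apply Subgroup.eq_of_le_of_card_ge hM.le
      have h3 := M.card_mul_index
      rw [h2, h] at h3
      rw [card_normalizer h hU]
      omega

/-- If `M` normalizes a subgroup of order 2 then `|M|` divides 8. -/
theorem card_dvd_of_le_normalizer_two (h : Nat.card G = 168) {M K : Subgroup G}
    (hK : Nat.card K = 2) (hM : M ≤ normalizer (K : Set G)) : Nat.card M ∣ 8 := by
  have hKb : K ≠ ⊥ := ne_bot_of_card (by rw [hK]; norm_num)
  obtain ⟨⟨z, hz⟩, hz'⟩ := (Subgroup.ne_bot_iff_exists_ne_one (H := K)).1 hKb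
  have hz1 : z ≠ 1 := fun h => hz' (Subtype.ext h)
  have hz2 : orderOf z = 2 := by
    have h1 := orderOf_dvd_natCard (⟨z, hz⟩ : K)
    rw [hK, Subgroup.orderOf_mk] at h1
    rcases (Nat.dvd_prime Nat.prime_two).1 h1 with h2 | h2
    · exact absurd (orderOf_eq_one_iff.1 h2) hz1
    · exact h2
  have hKz : ∀ x ∈ K, x = 1 ∨ x = z := by
    have h1 : zpowers z = K := by
      apply Subgroup.eq_of_le_of_card_ge ((zpowers_le).2 hz)
      rw [hK, Nat.card_zpowers, hz2]
    intro x hx
    rw [← h1, mem_zpowers_iff] at hx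
    obtain ⟨k, rfl⟩ := hx
    rw [← zpow_mod_orderOf, hz2]
    rcases Int.emod_two_eq_zero_or_one k with h2 | h2
    · left
      simp [h2]
    · right
      simp [h2]
  have h1 : M ≤ centralizer {z} := by
    intro m hm
    rw [mem_centralizer_singleton_iff]
    have h2 := (mem_normalizer_iff.1 (hM hm) z).1 hz
    rcases hKz _ h2 with h3 | h3
    · exact absurd (by simpa using h3) hz1
    · have h4 : m * z = z * m := by
        rw [← mul_inv_eq_iff_eq_mul]
        exact h3
      exact h4
  have := Subgroup.card_dvd_of_le h1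
  rwa [Simple168Classes.card_centralizer_two h z hz2] at this

/-- If `M` normalizes a cyclic subgroup of order 4 then `|M|` divides 8. -/
theorem card_dvd_of_le_normalizer_four (h : Nat.card G = 168) {M K : Subgroup G}
    (hK : Nat.card K = 4) (hKc : ¬ IsKleinFour K) (hM : M ≤ normalizer (K : Set G)) :
    Nat.card M ∣ 8 := by
  have hKc' : IsCyclic K := by
    by_contra hcon
    exact hKc (KleinFourAut.isKleinFour_of_not_isCyclic hK hcon)
  obtain ⟨⟨x, hx⟩, hgen⟩ := hKc'.exists_generator
  have hK2 : zpowers x = K := by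
    apply le_antisymm ((zpowers_le).2 hx)
    intro y hy
    obtain ⟨k, hk⟩ := mem_zpowers_iff.1 (hgen ⟨y, hy⟩)
    exact mem_zpowers_iff.2 ⟨k, congrArg Subtype.val hk⟩
  have hx4 : orderOf x = 4 := by
    rw [← Nat.card_zpowers, hK2, hK]
  have hx2 : orderOf (x ^ 2) = 2 := by
    rw [orderOf_pow, hx4]
    norm_num
  apply card_dvd_of_le_normalizer_two h (K := zpowers (x ^ 2))
  · rw [Nat.card_zpowers, hx2]
  · -- the only involution of `K` is `x ^ 2`
    have hinv : ∀ y ∈ K, orderOf y = 2 → y = x ^ 2 := by
      intro y hy hy2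
      rw [← hK2, mem_zpowers_iff] at hy
      obtain ⟨k, rfl⟩ := hy
      rw [← zpow_mod_orderOf, hx4] at hy2 ⊢
      have h1 : 0 ≤ k % 4 := Int.emod_nonneg _ (by norm_num)
      have h2 : k % 4 < 4 := Int.emod_lt_of_pos _ (by norm_num)
      have h3 : ((4 : ℕ) : ℤ) = 4 := rfl
      rw [h3] at hy2 ⊢
      interval_cases hk : k % 4
      · simp at hy2
      · exfalso
        rw [zpow_one, hx4] at hy2
        omega
      · exact zpow_ofNat x 2
      · exfalso
        have h5 : x ^ (3 : ℤ) = x ^ 3 := zpow_ofNat x 3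
        rw [h5, orderOf_pow, hx4] at hy2
        revert hy2
        decide
    intro m hm
    rw [mem_normalizer_iff_map_conj_eq]
    show (zpowers (x ^ 2)).map (MulAut.conj m).toMonoidHom = _
    rw [MonoidHom.map_zpowers]
    congr 1
    show m * x ^ 2 * m⁻¹ = x ^ 2
    apply hinv
    · exact (mem_normalizer_iff.1 (hM hm) _).1 (K.pow_mem hx 2)
    · have : m * x ^ 2 * m⁻¹ = MulAut.conj m (x ^ 2) := rfl
      rw [this, MulEquiv.orderOf_eq, hx2]

/-- A subgroup of order 12 or 24 normalizes a Klein four-subgroup. -/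
theorem exists_kleinFour (h : Nat.card G = 168) (M : Subgroup G)
    (hM : Nat.card M = 12 ∨ Nat.card M = 24) :
    ∃ U : Subgroup G, IsKleinFour U ∧ M ≤ normalizer (U : Set G) := by
  obtain ⟨S⟩ : Nonempty (Sylow 2 M) := inferInstance
  -- the index of a Sylow 2-subgroup of `M` is 3
  have hS3 : (S : Subgroup M).index = 3 := by
    have h1 := (S : Subgroup M).card_mul_index
    have h2 : ¬ 2 ∣ (S : Subgroup M).index := S.not_dvd_index
    obtain ⟨n, hn⟩ := S.isPGroup'.exists_card_eq
    have h2' : (S : Subgroup M).index ∣ Nat.card M := index_dvd_card _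
    have h3 : n ≤ 4 := by
      by_contra hcon
      push Not at hcon
      have h4 : 2 ^ 5 ≤ 2 ^ n := Nat.pow_le_pow_right (by norm_num) hcon
      have h5 := Subgroup.card_le_card_group (S : Subgroup M)
      have h6 : Nat.card (S : Subgroup M) = 2 ^ n := hn
      rw [h6] at h5
      rcases hM with h7 | h7 <;> omega
    have h6 : Nat.card (S : Subgroup M) = 2 ^ n := hn
    rw [h6] at h1
    interval_cases n <;> rcases hM with h7 | h7 <;> rw [h7] at h1 <;> omega
  -- the core of `S` in `M`
  have hcore : Nat.card M ∣ Nat.card (S : Subgroup M).normalCore * 6 := by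
    have h1 : (S : Subgroup M).normalCore.index ∣ ((S : Subgroup M).index).factorial := by
      rw [Subgroup.normalCore_eq_ker, Subgroup.index_ker]
      have := Subgroup.card_subgroup_dvd_card (MulAction.toPermHom M (M ⧸ (S : Subgroup M))).range
      rwa [Nat.card_perm] at this
    rw [hS3] at h1
    have h2 := (S : Subgroup M).normalCore.card_mul_index
    rw [← h2]
    exact Nat.mul_dvd_mul_left _ h1
  -- the core as a subgroup `K` of `G`
  set K : Subgroup G := (S : Subgroup M).normalCore.map M.subtype with hKdef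
  have hKcard : Nat.card K = Nat.card (S : Subgroup M).normalCore :=
    (Nat.card_congr ((S : Subgroup M).normalCore.equivMapOfInjective _
      M.subtype_injective).toEquiv).symm
  have hKM : K ≤ M := map_subtype_le _
  have hnorm : M ≤ normalizer (K : Set G) := by
    rw [← normal_subgroupOf_iff_le_normalizer hKM]
    have : K.subgroupOf M = (S : Subgroup M).normalCore :=
      Subgroup.comap_map_eq_self_of_injective M.subtype_injective _
    rw [this]
    infer_instance
  have hK2 : IsPGroup 2 K := by
    have : IsPGroup 2 (S : Subgroup M).normalCore :=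
      S.isPGroup'.to_le (normalCore_le _)
    exact this.map _
  rw [← hKcard] at hcore
  obtain ⟨n, hn⟩ := hK2.exists_card_eq
  have hKM' : Nat.card K ∣ Nat.card M := Subgroup.card_dvd_of_le hKM
  have hn4 : n ≤ 4 := by
    by_contra hcon
    push Not at hcon
    have h4 : 2 ^ 5 ≤ 2 ^ n := Nat.pow_le_pow_right (by norm_num) hcon
    have h5 := Nat.le_of_dvd Nat.card_pos hKM'
    rw [hn] at h5
    rcases hM with h7 | h7 <;> omega
  have hM8 : ¬ Nat.card M ∣ 8 := by
    rcases hM with h7 | h7 <;> rw [h7] <;> decide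
  have hcases : Nat.card K = 2 ∨ Nat.card K = 4 ∨ (Nat.card K = 8 ∧ Nat.card M = 24) := by
    rw [hn] at hcore hKM' ⊢
    rcases hM with h7 | h7 <;> rw [h7] at hcore hKM' ⊢ <;> interval_cases n <;>
      revert hcore hKM' <;> decide
  rcases hcases with h1 | h1 | ⟨h1, h1'⟩
  · exact absurd (card_dvd_of_le_normalizer_two h h1 hnorm) hM8
  · by_cases hKl : IsKleinFour K
    · exact ⟨K, hKl, hnorm⟩
    · exact absurd (card_dvd_of_le_normalizer_four h h1 hKl hnorm) hM8
  · exfalso
    obtain ⟨T, hT⟩ := hK2.exists_le_sylow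
    have hKT : K = (T : Subgroup G) :=
      Subgroup.eq_of_le_of_card_ge hT (by rw [card_sylow h T, h1])
    rw [hKT, Simple168.normalizer_sylow_two h T] at hnorm
    have := Subgroup.card_dvd_of_le hnorm
    rw [card_sylow h T] at this
    exact hM8 this

theorem card_sylow_eq_prime {G : Type*} [Group G] [Finite G] {p : ℕ} [hp : Fact p.Prime]
    (P : Sylow p G) (hdvd : p ∣ Nat.card G) (hsq : ¬ p ^ 2 ∣ Nat.card G) :
    Nat.card (P : Subgroup G) = p := by
  have h0 : Nat.card (P : Subgroup G) = p ^ (Nat.card G).factorization p := P.card_eq_multiplicity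
  rw [h0]
  have h1 : (Nat.card G).factorization p < 2 := by
    by_contra hcon
    exact hsq ((hp.out.pow_dvd_iff_le_factorization Nat.card_pos.ne').2 (not_lt.1 hcon))
  have h2 : 0 < (Nat.card G).factorization p :=
    hp.out.factorization_pos_of_dvd Nat.card_pos.ne' hdvd
  have h3 : (Nat.card G).factorization p = 1 := by omega
  rw [h3, pow_one]

/-- A Sylow `p`-subgroup of a subgroup `M` is a Sylow `p`-subgroup of `G` when `p` divides `|M|`
and `p ^ 2` does not divide `|G|`. -/
theorem exists_sylow_map {G : Type*} [Group G] [Finite G] {p : ℕ} [hp : Fact p.Prime]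
    (M : Subgroup G) (hM : p ∣ Nat.card M) (hsq : ¬ p ^ 2 ∣ Nat.card G) (S : Sylow p M) :
    ∃ P : Sylow p G, (P : Subgroup G) = (S : Subgroup M).map M.subtype := by
  have h1 : IsPGroup p ((S : Subgroup M).map M.subtype) := S.isPGroup'.map _
  obtain ⟨P, hP⟩ := h1.exists_le_sylow
  refine ⟨P, (Subgroup.eq_of_le_of_card_ge hP ?_).symm⟩
  rw [card_sylow_eq_prime P (hM.trans (Subgroup.card_subgroup_dvd_card M)) hsq]
  have h2 : p ∣ Nat.card (S : Subgroup M) := S.dvd_card_of_dvd_card hM
  have h3 : Nat.card ((S : Subgroup M).map M.subtype) = Nat.card (S : Subgroup M) :=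
    (Nat.card_congr ((S : Subgroup M).equivMapOfInjective _ M.subtype_injective).toEquiv).symm
  rw [h3]
  exact Nat.le_of_dvd Nat.card_pos h2

/-- If `M` has a unique Sylow `p`-subgroup, `M` normalizes a Sylow `p`-subgroup of `G`. -/
theorem le_normalizer_sylow {G : Type*} [Group G] [Finite G] {p : ℕ} [hp : Fact p.Prime]
    (M : Subgroup G) (hM : p ∣ Nat.card M) (hsq : ¬ p ^ 2 ∣ Nat.card G)
    (hn : Nat.card (Sylow p M) = 1) :
    ∃ P : Sylow p G, M ≤ normalizer ((P : Subgroup G) : Set G) := by
  obtain ⟨S⟩ : Nonempty (Sylow p M) := inferInstance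
  obtain ⟨P, hP⟩ := exists_sylow_map M hM hsq S
  refine ⟨P, ?_⟩
  have hs : Subsingleton (Sylow p M) := (Nat.card_eq_one_iff_unique.1 hn).1
  have hS : (S : Subgroup M).Normal := S.normal_of_subsingleton
  rw [hP, ← normal_subgroupOf_iff_le_normalizer (map_subtype_le _)]
  have : ((S : Subgroup M).map M.subtype).subgroupOf M = (S : Subgroup M) :=
    Subgroup.comap_map_eq_self_of_injective M.subtype_injective _
  rw [this]
  exact hS

/-- The normalizer of a Sylow `3`-subgroup is not maximal. -/
theorem not_isCoatom_normalizer_three (h : Nat.card G = 168) (P : Sylow 3 G) :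
    ¬ IsCoatom (normalizer ((P : Subgroup G) : Set G)) := by
  intro hcoatom
  obtain ⟨T⟩ : Nonempty (Sylow 2 G) := inferInstance
  obtain ⟨U, -, -, -, -, hU, -⟩ := exists_pair h T
  have h24 := card_normalizer h hU
  obtain ⟨S⟩ : Nonempty (Sylow 3 (normalizer (U : Set G))) := inferInstance
  have hsq : ¬ 3 ^ 2 ∣ Nat.card G := by rw [h]; decide
  obtain ⟨Q, hQ⟩ := exists_sylow_map (normalizer (U : Set G)) (by rw [h24]; decide) hsq S
  -- the number of Sylow 3-subgroups of the normalizer of `U`
  have hn : Nat.card (Sylow 3 (normalizer (U : Set G))) ∣ 8 := by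
    have h1 := S.card_dvd_index
    have h2 := (S : Subgroup (normalizer (U : Set G))).card_mul_index
    rw [card_sylow_eq_prime S (by rw [h24]; decide) (by rw [h24]; decide), h24] at h2
    have h3 : (S : Subgroup (normalizer (U : Set G))).index = 8 := by omega
    rwa [h3] at h1
  have hn' : Nat.card (Sylow 3 (normalizer (U : Set G))) ≤ 4 := by
    have h1 := card_sylow_modEq_one 3 (normalizer (U : Set G))
    have h2 := Nat.le_of_dvd (by norm_num) hn
    unfold Nat.ModEq at h1
    generalize Nat.card (Sylow 3 (normalizer (U : Set G))) = m at *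
    interval_cases m <;> omega
  have h6 : 6 ≤ Nat.card (normalizer ((S : Subgroup (normalizer (U : Set G))) : Set (normalizer (U : Set G)))) := by
    rw [S.card_eq_index_normalizer] at hn'
    have h1 := (normalizer ((S : Subgroup (normalizer (U : Set G))) : Set (normalizer (U : Set G)))).card_mul_index
    rw [h24] at h1
    by_contra hcon
    push Not at hcon
    have h2 : Nat.card (normalizer ((S : Subgroup (normalizer (U : Set G))) : Set (normalizer (U : Set G)))) *
      (normalizer ((S : Subgroup (normalizer (U : Set G))) : Set (normalizer (U : Set G)))).index ≤ 5 * 4 :=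
      Nat.mul_le_mul (by omega) hn'
    omega
  have hle : normalizer ((Q : Subgroup G) : Set G) ≤ normalizer (U : Set G) := by
    have h1 : (normalizer ((S : Subgroup (normalizer (U : Set G))) : Set (normalizer (U : Set G)))).map
        (normalizer (U : Set G)).subtype ≤ normalizer ((Q : Subgroup G) : Set G) := by
      rw [hQ]
      exact le_normalizer_map _
    have h2 : (normalizer ((S : Subgroup (normalizer (U : Set G))) : Set (normalizer (U : Set G)))).map
        (normalizer (U : Set G)).subtype = normalizer ((Q : Subgroup G) : Set G) := by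
      apply Subgroup.eq_of_le_of_card_ge h1
      rw [Simple168.card_normalizer_three h Q]
      have h3 : Nat.card ((normalizer ((S : Subgroup (normalizer (U : Set G))) : Set (normalizer (U : Set G)))).map
          (normalizer (U : Set G)).subtype) =
          Nat.card (normalizer ((S : Subgroup (normalizer (U : Set G))) : Set (normalizer (U : Set G)))) :=
        (Nat.card_congr (Subgroup.equivMapOfInjective _ _
          (normalizer (U : Set G)).subtype_injective).toEquiv).symm
      rw [h3]
      exact h6
    rw [← h2]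
    exact map_subtype_le _
  obtain ⟨g, hg⟩ := MulAction.exists_smul_eq G Q P
  have h1 : (P : Subgroup G) = (Q : Subgroup G).map (MulAut.conj g).toMonoidHom := by
    rw [← hg, Sylow.coe_subgroup_smul]
    rfl
  have h2 : normalizer ((P : Subgroup G) : Set G) ≤
      (normalizer (U : Set G)).map (MulAut.conj g).toMonoidHom := by
    rw [h1, normalizer_map_conj]
    exact Subgroup.map_mono hle
  have h3 : Nat.card ((normalizer (U : Set G)).map (MulAut.conj g).toMonoidHom) = 24 := by
    rw [card_map_conj, h24]
  rcases h2.lt_or_eq with h4 | h4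
  · have h5 := hcoatom.2 _ h4
    rw [h5, Nat.card_congr Subgroup.topEquiv.toEquiv, h] at h3
    omega
  · rw [← h4, Simple168.card_normalizer_three h P] at h3
    omega

/-- The maximal subgroups of a simple group of order 168. -/
theorem isCoatom_cases (h : Nat.card G = 168) (M : Subgroup G) (hM : IsCoatom M) :
    (∃ P : Sylow 7 G, M = normalizer ((P : Subgroup G) : Set G)) ∨
    (∃ U : Subgroup G, IsKleinFour U ∧ M = normalizer (U : Set G)) := by
  have hidx := index_ge_seven h M hM.1
  have hmul := M.card_mul_index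
  rw [h] at hmul
  have hle : Nat.card M ≤ 24 := by
    by_contra hcon
    push Not at hcon
    have : 25 * 7 ≤ Nat.card M * M.index := Nat.mul_le_mul hcon hidx
    omega
  have hdvd : Nat.card M ∣ 168 := ⟨_, hmul.symm⟩
  have hcases : Nat.card M ∣ 8 ∨ Nat.card M = 3 ∨ Nat.card M = 6 ∨ Nat.card M = 12 ∨
      Nat.card M = 24 ∨ Nat.card M = 7 ∨ Nat.card M = 14 ∨ Nat.card M = 21 := by
    revert hdvd hle
    generalize Nat.card M = m
    intro hm1 hm2
    interval_cases m <;> revert hm2 <;> decide
  have hsq3 : ¬ 3 ^ 2 ∣ Nat.card G := by rw [h]; decide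
  have hsq7 : ¬ 7 ^ 2 ∣ Nat.card G := by rw [h]; decide
  have hcard3 : ∀ P : Sylow 3 G, Nat.card (P : Subgroup G) = 3 := fun P =>
    card_sylow_eq_prime P (by rw [h]; decide) hsq3
  have hp7 : Fact (Nat.Prime 7) := ⟨by norm_num⟩
  have hcard7 : ∀ P : Sylow 7 G, Nat.card (P : Subgroup G) = 7 := fun P =>
    card_sylow_eq_prime P (by rw [h]; decide) hsq7
  -- number of Sylow subgroups in small groups
  have hsyl : ∀ (p : ℕ) [Fact p.Prime], p ∣ Nat.card M → ¬ p ^ 2 ∣ Nat.card M →
      Nat.card M < p * (p + 1) → Nat.card (Sylow p M) = 1 := by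
    intro p hp hpM hp2 hlt
    obtain ⟨S⟩ : Nonempty (Sylow p M) := inferInstance
    have h1 := S.card_dvd_index
    have h2 := (S : Subgroup M).card_mul_index
    rw [card_sylow_eq_prime S hpM hp2] at h2
    have h3 : (S : Subgroup M).index < p + 1 := by
      by_contra hcon
      push Not at hcon
      have := Nat.mul_le_mul_left p hcon
      omega
    have h4 := Nat.le_of_dvd (Nat.pos_of_ne_zero index_ne_zero_of_finite) h1
    have h5 := card_sylow_modEq_one p M
    have h6 : 0 < Nat.card (Sylow p M) := Nat.card_pos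
    have h7 : Nat.card (Sylow p M) ≠ p := by
      intro h8
      rw [h8] at h5
      have h9 : p ≡ 0 [MOD p] := by simp [Nat.ModEq]
      have h10 := (h9.symm.trans h5)
      have h11 : p ∣ 1 := (Nat.modEq_zero_iff_dvd).1 h10.symm
      exact hp.out.one_lt.ne' (Nat.dvd_one.1 h11)
    have h8 : Nat.card (Sylow p M) < p := by omega
    have h9 : Nat.card (Sylow p M) % p = 1 % p := h5
    rwa [Nat.mod_eq_of_lt h8, Nat.mod_eq_of_lt hp.out.one_lt] at h9
  have h7case : 7 ∣ Nat.card M →
      (∃ P : Sylow 7 G, M = normalizer ((P : Subgroup G) : Set G)) := by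
    intro h7
    have h1 : Nat.card (Sylow 7 M) = 1 :=
      hsyl 7 h7 (fun h0 => hsq7 (h0.trans (Subgroup.card_subgroup_dvd_card M))) (by omega)
    obtain ⟨P, hP⟩ := le_normalizer_sylow M h7 hsq7 h1
    refine ⟨P, eq_normalizer_of_isCoatom hM (ne_bot_of_card ?_) (ne_top_of_card h ?_) hP⟩
    · rw [hcard7]; norm_num
    · rw [hcard7]; norm_num
  have h3case : 3 ∣ Nat.card M → Nat.card M < 12 → False := by
    intro h3 hlt
    have h1 : Nat.card (Sylow 3 M) = 1 :=
      hsyl 3 h3 (fun h0 => hsq3 (h0.trans (Subgroup.card_subgroup_dvd_card M))) (by omega)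
    obtain ⟨P, hP⟩ := le_normalizer_sylow M h3 hsq3 h1
    have h2 := eq_normalizer_of_isCoatom hM (H := (P : Subgroup G))
      (ne_bot_of_card (by rw [hcard3]; norm_num)) (ne_top_of_card h (by rw [hcard3]; norm_num)) hP
    rw [h2] at hM
    exact not_isCoatom_normalizer_three h P hM
  have hKcase : ∀ U : Subgroup G, IsKleinFour U → M ≤ normalizer (U : Set G) →
      M = normalizer (U : Set G) := by
    intro U hU hMU
    apply eq_normalizer_of_isCoatom hM _ _ hMU
    · exact ne_bot_of_card (by rw [hU.card_four]; norm_num)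
    · exact ne_top_of_card h (by rw [hU.card_four]; norm_num)
  rcases hcases with h1 | h1 | h1 | h1 | h1 | h1 | h1 | h1
  · exfalso
    have h2 : IsPGroup 2 M := by
      obtain ⟨k, -, hk⟩ := (Nat.dvd_prime_pow Nat.prime_two).1
        (show Nat.card M ∣ 2 ^ 3 from h1)
      exact IsPGroup.of_card hk
    obtain ⟨T, hT⟩ := h2.exists_le_sylow
    obtain ⟨U, -, -, hUT, -, hU, -⟩ := exists_pair h T
    have h3 : (T : Subgroup G) ≤ normalizer (U : Set G) := by
      apply le_normalizer_of_card hUT
      rw [card_sylow h T, hU.card_four]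
    have h4 := hKcase U hU (hT.trans h3)
    have h5 := card_normalizer h hU
    rw [← h4] at h5
    rw [h5] at h1
    revert h1
    decide
  · exact (h3case (by rw [h1]) (by omega)).elim
  · exact (h3case (by rw [h1]; decide) (by omega)).elim
  · exfalso
    obtain ⟨U, hU, hMU⟩ := exists_kleinFour h M (Or.inl h1)
    have h4 := hKcase U hU hMU
    have h5 := card_normalizer h hU
    rw [← h4] at h5
    omega
  · right
    obtain ⟨U, hU, hMU⟩ := exists_kleinFour h M (Or.inr h1)
    exact ⟨U, hU, hKcase U hU hMU⟩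
  · left
    exact h7case (by rw [h1])
  · left
    exact h7case (by rw [h1]; decide)
  · left
    exact h7case (by rw [h1]; decide)

end Cfsg.Agent.SmallSimple.Simple168Max
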