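import Mathlib
import Cfsg.Agent.Characters.Core
import Cfsg.Agent.Characters.Linear

/-!
The dual `Q →* ℂˣ` of a group `Q` of prime order, and expansion of characters of `Q`.
-/

set_option autoImplicit false
open Cfsg
open scoped ComplexConjugate

namespace Cfsg.Agent.SmallSimple.PrimeDual

open Cfsg.Agent.Characters.Core Cfsg.Agent.Characters.Linear

universe u

variable {Q : Type u} [Group Q] [Finite Q] {p : ℕ}

theorem comm_of_card (hp : p.Prime) (hQ : Nat.card Q = p) (a b : Q) : a * b = b * a := by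
  have := Fact.mk hp
  have : IsCyclic Q := isCyclic_of_prime_card hQ
  have : IsMulCommutative Q := inferInstance
  exact this.is_comm.comm a b

theorem card_dual (hp : p.Prime) (hQ : Nat.card Q = p) : Nat.card (Q →* ℂˣ) = p := by
  rw [card_hom_eq_index_commutator]
  have : commutator Q = ⊥ := by
    rw [commutator_def, Subgroup.commutator_eq_bot_iff_le_centralizer]
    intro x _
    rw [Subgroup.mem_centralizer_iff]
    intro y _
    exact comm_of_card hp hQ y x
  rw [this, Subgroup.index_bot, hQ]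

theorem finite_dual (hp : p.Prime) (hQ : Nat.card Q = p) : Finite (Q →* ℂˣ) :=
  Nat.finite_of_card_ne_zero (by rw [card_dual hp hQ]; exact hp.ne_zero)

theorem conj_hom_apply (l : Q →* ℂˣ) (x : Q) : conj ((l x : ℂˣ) : ℂ) = ((l x⁻¹ : ℂˣ) : ℂ) := by
  rw [map_inv, Units.val_inv_eq_inv_val, Complex.inv_def, Complex.normSq_eq_norm_sq,
    norm_hom_apply]
  simp

/-- A nontrivial linear character of a group of prime order is injective. -/
theorem injective_of_ne_one (hp : p.Prime) (hQ : Nat.card Q = p) {l : Q →* ℂˣ} (hl : l ≠ 1) :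
    Function.Injective l := by
  have := Fact.mk hp
  rw [injective_iff_map_eq_one]
  intro a ha
  by_contra ha1
  apply hl
  ext x
  have : x ∈ Subgroup.zpowers a := mem_zpowers_of_prime_card hQ ha1
  obtain ⟨k, rfl⟩ := Subgroup.mem_zpowers_iff.1 this
  rw [map_zpow, ha, one_zpow]
  rfl

/-- First orthogonality for linear characters. -/
theorem sum_hom_mul_conj [Fintype Q] [DecidableEq (Q →* ℂˣ)] (l l' : Q →* ℂˣ) :
    ∑ x : Q, ((l x : ℂˣ) : ℂ) * conj ((l' x : ℂˣ) : ℂ) = if l = l' then (Nat.card Q : ℂ) else 0 := by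
  classical
  have h := classInner_irr (isIrrCharacter_hom l) (isIrrCharacter_hom l')
  rw [classInner_def] at h
  have hne : (Nat.card Q : ℂ) ≠ 0 := card_ne_zero_complex
  have h2 : (fun g => ((l g : ℂˣ) : ℂ)) = (fun g => ((l' g : ℂˣ) : ℂ)) ↔ l = l' := by
    constructor
    · intro h
      ext g
      exact congrFun h g
    · rintro rfl; rfl
  rw [inv_mul_eq_iff_eq_mul₀ hne] at h
  rw [h]
  by_cases hl : l = l'
  · rw [if_pos hl, if_pos (h2.2 hl), mul_one]
  · rw [if_neg hl, if_neg (fun h => hl (h2.1 h)), mul_zero]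

theorem sum_hom_eq_zero [Fintype Q] {l : Q →* ℂˣ} (hl : l ≠ 1) :
    ∑ x : Q, ((l x : ℂˣ) : ℂ) = 0 := by
  classical
  have h := sum_hom_mul_conj l 1
  rw [if_neg hl] at h
  simpa using h

/-- Second orthogonality: the sum of all linear characters at a nontrivial element is zero. -/
theorem sum_dual_eq_zero (hp : p.Prime) (hQ : Nat.card Q = p) [Fintype (Q →* ℂˣ)] {x : Q}
    (hx : x ≠ 1) : ∑ l : Q →* ℂˣ, ((l x : ℂˣ) : ℂ) = 0 := by
  have h1 : ∃ l : Q →* ℂˣ, l ≠ 1 := by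
    by_contra hcon
    push Not at hcon
    have : Nat.card (Q →* ℂˣ) ≤ 1 := by
      rw [Finite.card_le_one_iff_subsingleton]
      exact ⟨fun a b => by rw [hcon a, hcon b]⟩
    rw [card_dual hp hQ] at this
    exact absurd hp.one_lt (not_lt.2 this)
  obtain ⟨l₀, hl₀⟩ := h1
  have h2 : ((l₀ x : ℂˣ) : ℂ) ≠ 1 := by
    intro h
    apply hx
    apply injective_of_ne_one hp hQ hl₀
    rw [map_one]
    exact Units.ext h
  have h3 : ((l₀ x : ℂˣ) : ℂ) * ∑ l : Q →* ℂˣ, ((l x : ℂˣ) : ℂ) = ∑ l : Q →* ℂˣ, ((l x : ℂˣ) : ℂ) := by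
    rw [Finset.mul_sum]
    refine Fintype.sum_equiv (Equiv.mulLeft l₀) _ _ fun l => ?_
    rw [Equiv.coe_mulLeft, MonoidHom.mul_apply, Units.val_mul]
  have h4 : (((l₀ x : ℂˣ) : ℂ) - 1) * ∑ l : Q →* ℂˣ, ((l x : ℂˣ) : ℂ) = 0 := by
    rw [sub_mul, h3, one_mul, sub_self]
  rcases mul_eq_zero.1 h4 with h | h
  · exact absurd (sub_eq_zero.1 h) h2
  · exact h

/-- A function on the dual whose Fourier transform vanishes off the identity is constant. -/
theorem eq_of_sum_eq_zero [Fintype (Q →* ℂˣ)] (b : (Q →* ℂˣ) → ℂ)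
    (h : ∀ x : Q, x ≠ 1 → ∑ l : Q →* ℂˣ, b l * conj ((l x : ℂˣ) : ℂ) = 0) (l₀ l₁ : Q →* ℂˣ) :
    b l₀ = b l₁ := by
  classical
  have := Fintype.ofFinite Q
  have key : ∀ l₀ : Q →* ℂˣ, b l₀ * (Nat.card Q : ℂ) = ∑ l : Q →* ℂˣ, b l := by
    intro l₀
    have h1 : ∑ x : Q, ((l₀ x : ℂˣ) : ℂ) * ∑ l : Q →* ℂˣ, b l * conj ((l x : ℂˣ) : ℂ) =
        b l₀ * (Nat.card Q : ℂ) := by
      have h2 : ∀ x : Q, ((l₀ x : ℂˣ) : ℂ) * ∑ l : Q →* ℂˣ, b l * conj ((l x : ℂˣ) : ℂ) =
          ∑ l : Q →* ℂˣ, b l * (((l₀ x : ℂˣ) : ℂ) * conj ((l x : ℂˣ) : ℂ)) := by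
        intro x
        rw [Finset.mul_sum]
        refine Finset.sum_congr rfl fun l _ => by ring
      simp only [h2]
      rw [Finset.sum_comm]
      simp only [← Finset.mul_sum, sum_hom_mul_conj, mul_ite, mul_zero]
      rw [Finset.sum_ite_eq Finset.univ l₀, if_pos (Finset.mem_univ _)]
    rw [← h1]
    rw [Finset.sum_eq_single (1 : Q)]
    · simp
    · intro x _ hx
      rw [h x hx, mul_zero]
    · intro h; exact absurd (Finset.mem_univ _) h
  have hne : (Nat.card Q : ℂ) ≠ 0 := card_ne_zero_complex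
  have := (key l₀).trans (key l₁).symm
  exact mul_right_cancel₀ hne this

/-- Every irreducible character of `Q` is linear. -/
theorem irr_eq_hom (hp : p.Prime) (hQ : Nat.card Q = p) (χ : IrrCharacter Q) :
    ∃ l : Q →* ℂˣ, (χ : Q → ℂ) = fun x => ((l x : ℂˣ) : ℂ) := by
  classical
  have : Finite (IrrCharacter Q) := finite_irr
  have hcard : Nat.card {χ : IrrCharacter Q // (χ : Q → ℂ) 1 = 1} = Nat.card (IrrCharacter Q) := by
    rw [← Nat.card_congr (linearEquiv Q), card_dual hp hQ, card_irr]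
    have h2 : Function.Injective (ConjClasses.mk : Q → ConjClasses Q) := by
      intro a b hab
      rw [ConjClasses.mk_eq_mk_iff_isConj, isConj_iff] at hab
      obtain ⟨c, hc⟩ := hab
      rw [comm_of_card hp hQ c a, mul_inv_cancel_right] at hc
      exact hc
    rw [← Nat.card_congr (Equiv.ofBijective _ ⟨h2, ConjClasses.mk_surjective⟩), hQ]
  have h1 : (χ : Q → ℂ) 1 = 1 := by
    by_contra hne
    have hlt : Nat.card {χ : IrrCharacter Q // (χ : Q → ℂ) 1 = 1} < Nat.card (IrrCharacter Q) :=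
      Finite.card_subtype_lt (x := χ) hne
    omega
  exact exists_hom_of_isIrrCharacter χ.2 h1

/-- A character of `Q` is a combination of linear characters with natural coefficients. -/
theorem exists_mult (hp : p.Prime) (hQ : Nat.card Q = p) [Fintype (Q →* ℂˣ)] {χ : Q → ℂ}
    (hχ : IsCharacter Q χ) :
    ∃ m : (Q →* ℂˣ) → ℕ, ∀ x : Q, χ x = ∑ l : Q →* ℂˣ, (m l : ℂ) * ((l x : ℂˣ) : ℂ) := by
  classical
  have := finite_irr (G := Q)
  have := Fintype.ofFinite (IrrCharacter Q)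
  obtain ⟨m, hm⟩ := exists_nat_comb hχ
  let φ : (Q →* ℂˣ) → IrrCharacter Q := fun l => ⟨fun x => ((l x : ℂˣ) : ℂ), isIrrCharacter_hom l⟩
  have hφ : Function.Bijective φ := by
    constructor
    · intro l l' h
      have h' : (fun g => (l g : ℂ)) = fun g => (l' g : ℂ) := congrArg Subtype.val h
      ext g
      exact congrFun h' g
    · intro χ
      obtain ⟨l, hl⟩ := irr_eq_hom hp hQ χ
      exact ⟨l, Subtype.ext hl.symm⟩
  refine ⟨fun l => m (φ l), fun x => ?_⟩
  rw [hm, Finset.sum_apply, ← Fintype.sum_equiv (Equiv.ofBijective φ hφ)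
    (fun l => (m (φ l) : ℂ) * ((l x : ℂˣ) : ℂ))]
  intro l
  simp [φ]

/-- Fourier inversion: the coefficients are determined. -/
theorem sum_mul_conj_of_mult [Fintype Q] [Fintype (Q →* ℂˣ)] {χ : Q → ℂ} {m : (Q →* ℂˣ) → ℂ}
    (h : ∀ x : Q, χ x = ∑ l : Q →* ℂˣ, m l * ((l x : ℂˣ) : ℂ)) (l₀ : Q →* ℂˣ) :
    ∑ x : Q, χ x * conj ((l₀ x : ℂˣ) : ℂ) = m l₀ * (Nat.card Q : ℂ) := by
  classical
  have h2 : ∀ x : Q, χ x * conj ((l₀ x : ℂˣ) : ℂ) =
      ∑ l : Q →* ℂˣ, m l * (((l x : ℂˣ) : ℂ) * conj ((l₀ x : ℂˣ) : ℂ)) := by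
    intro x
    rw [h, Finset.sum_mul]
    refine Finset.sum_congr rfl fun l _ => by ring
  simp only [h2]
  rw [Finset.sum_comm]
  simp only [← Finset.mul_sum, sum_hom_mul_conj, mul_ite, mul_zero]
  rw [Finset.sum_ite_eq' Finset.univ l₀, if_pos (Finset.mem_univ _)]

end Cfsg.Agent.SmallSimple.PrimeDual
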