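import Cfsg.Agent.SmallSimple.AvgCount

/-!
# The principal block for `|P| = p`: class integrality and the averaged pair formula

`P` a Sylow subgroup of prime order `p`, `C(P) = P × K`, `|N(P) : C(P)| = e`.

* `mul_dvd_card`: every degree `f` in the principal `p`-block satisfies `f p |K| ∣ |G|`;
* `exists_pair`: for involutions `a`, `b` the number
  `|a^G| |b^G| |K| / |G| (∑ ε χ(a) χ(b) / χ(1) - d Θ(a) Θ(b) / Θ(1))` is `p k(a) k(b)`, with
  `k = 0` if `e` is odd;
* `pair_rat`: the same in the rationals, for integer values.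
-/

set_option autoImplicit false
set_option linter.unusedSectionVars false

namespace Cfsg.Agent.SmallSimple.BlockIndex

open Cfsg Subgroup Cfsg.Agent.Characters.Core
open Cfsg.Agent.Blocks.Basic (irr_one_eq_charDegree irr_one_ne_zero)
open Cfsg.Agent.SmallSimple Cfsg.Agent.SmallSimple.PrimeLocal Cfsg.Agent.SmallSimple.AvgFormula
open Cfsg.Agent.M23.Block
open scoped ComplexConjugate

universe u
variable {G : Type u} [Group G]

theorem compl_of_local [Finite G] {p : ℕ} [hp : Fact p.Prime] {P : Sylow p G} {e : ℕ}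
    {K : Subgroup G} (h : IsLocal p P e K) : Compl p (P : Subgroup G) K :=
  ⟨h.card_centralizer, (hp.out.coprime_iff_not_dvd).2 h.not_dvd, h.mem_iff⟩

/-- The automizer of `P`. -/
theorem relIndex_eq [Finite G] {p : ℕ} [hp : Fact p.Prime] {P : Sylow p G} {e : ℕ}
    {K : Subgroup G} (h : IsLocal p P e K) :
    (centralizer (P : Set G)).relIndex (normalizer (P : Set G)) = e := by
  have hle := SylowPrimeCount.centralizer_le_normalizer' (P : Subgroup G)
  have h1 := relIndex_mul_relIndex (⊥ : Subgroup G) _ _ bot_le hle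
  rw [relIndex_bot_left, relIndex_bot_left] at h1
  have h2 := h.card_normalizer
  have h3 := h.card_centralizer
  change Nat.card (centralizer (P : Set G)) *
    (centralizer (P : Set G)).relIndex (normalizer (P : Set G)) =
    Nat.card (normalizer (P : Set G)) at h1
  rw [h2, h3] at h1
  have h4 : 0 < p * Nat.card K := Nat.mul_pos hp.out.pos Nat.card_pos
  apply Nat.eq_of_mul_eq_mul_left h4
  rw [h1]; ring

theorem exists_ne_one [Finite G] {p : ℕ} [hp : Fact p.Prime] {P : Subgroup G}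
    (hP : Nat.card P = p) : ∃ x ∈ P, x ≠ 1 := by
  have : Nontrivial P := by
    rw [← Finite.one_lt_card_iff_nontrivial, hP]
    exact hp.out.one_lt
  obtain ⟨x, hx⟩ := exists_ne (1 : P)
  exact ⟨x, x.2, fun h => hx (Subtype.ext h)⟩

theorem centralizer_eq [Finite G] {p : ℕ} [hp : Fact p.Prime] {P : Subgroup G}
    (hP : Nat.card P = p) {x : G} (hx : x ∈ P) (hx1 : x ≠ 1) :
    centralizer ({x} : Set G) = centralizer (P : Set G) := by
  ext g
  rw [mem_centralizer_iff_comm hP hx hx1, mem_centralizer_singleton_iff]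
  constructor
  · intro h; rw [h, mul_inv_cancel_right]
  · intro h; exact mul_inv_eq_iff_eq_mul.1 h

section CI

variable [Finite G] {p : ℕ} [hp : Fact p.Prime] {P : Sylow p G} {e t : ℕ} {M : Ideal AlgInt}
  {NE X : Finset (IrrCharacter G)} {ε : IrrCharacter G → ℤ} {d : ℤ}
  {S : IrrCharacter G → Finset (P →* ℂˣ)}

/-- Nonexceptional characters take the value `ε` at the elements of `P`. -/
theorem apply_NE (B : Blk p P e t M NE X ε d S) {χ : IrrCharacter G} (hχ : χ ∈ NE) {x : G}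
    (hx : x ∈ P) (hx1 : x ≠ 1) : (χ : G → ℂ) x = ε χ := by
  have ho1 : ¬ p ∣ orderOf (1 : G) := by
    rw [orderOf_one]; exact fun h => hp.out.one_lt.ne' (Nat.dvd_one.1 h)
  have h6 := B.val_NE χ hχ x hx hx1 1 (one_mem _) ho1
  rwa [mul_one] at h6

/-- The exceptional characters agree on `p`-regular elements. -/
theorem eq_of_mem_X (B : Blk p P e t M NE X ε d S) {Θ Θ' : IrrCharacter G} (hΘ : Θ ∈ X)
    (hΘ' : Θ' ∈ X) {g : G} (hg : ¬ p ∣ orderOf g) : (Θ : G → ℂ) g = (Θ' : G → ℂ) g := by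
  have hd : (d : ℂ) ≠ 0 := by
    rcases B.kb.hd with h | h <;> rw [h] <;> norm_num
  exact mul_left_cancel₀ hd ((B.kb.rel Θ hΘ g hg).symm.trans (B.kb.rel Θ' hΘ' g hg))

theorem charDegree_eq (B : Blk p P e t M NE X ε d S) {Θ Θ' : IrrCharacter G} (hΘ : Θ ∈ X)
    (hΘ' : Θ' ∈ X) : charDegree (Θ : G → ℂ) = charDegree (Θ' : G → ℂ) := by
  have ho1 : ¬ p ∣ orderOf (1 : G) := by
    rw [orderOf_one]; exact fun h => hp.out.one_lt.ne' (Nat.dvd_one.1 h)
  have h := eq_of_mem_X B hΘ hΘ' ho1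
  rw [irr_one_eq_charDegree Θ.2, irr_one_eq_charDegree Θ'.2] at h
  exact_mod_cast h

/-- **Class integrality**: the degrees in the principal block divide `|G : C(x)|`, `x ∈ P`. -/
theorem dvd_index (B : Blk p P e t M NE X ε d S) (hP : Nat.card P = p) {x : G} (hx : x ∈ P)
    (hx1 : x ≠ 1) {χ : IrrCharacter G} (hχ : χ ∈ NE ∨ χ ∈ X) :
    charDegree (χ : G → ℂ) ∣ (centralizer ({x} : Set G)).index := by
  rcases hχ with hχ | hχ
  · have h1 := InvolColumn.dvd_index_mul χ.2 (apply_NE B hχ hx hx1)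
    rcases B.kb.eps χ hχ with h | h
    · rw [h, mul_one] at h1
      exact_mod_cast h1
    · rw [h, mul_neg, mul_one, dvd_neg] at h1
      exact_mod_cast h1
  · -- the sum of the central characters of the exceptional characters
    have h2 : ∑ Θ ∈ X, (Θ : G → ℂ) x = -d := by
      have h := congrArg conj (sum_exc B hP hx hx1 hχ)
      rw [map_sum, map_neg, map_intCast] at h
      rw [← h]
      exact Finset.sum_congr rfl fun Θ _ => (Complex.conj_conj _).symm
    have h3 : IsIntegral ℤ (∑ Θ ∈ X, centralChar (Θ : G → ℂ) x) :=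
      IsIntegral.sum _ fun Θ _ => Blocks.CentralScalar.isIntegral_centralChar Θ.2 x
    set f := charDegree (χ : G → ℂ) with hf
    set i := (centralizer ({x} : Set G)).index with hi
    have hne : (f : ℂ) ≠ 0 := by
      rw [hf, ← irr_one_eq_charDegree χ.2]; exact irr_one_ne_zero χ.2
    have h4 : ∑ Θ ∈ X, centralChar (Θ : G → ℂ) x = (((i : ℚ) * (-d : ℤ) / f : ℚ) : ℂ) := by
      have h5 : ∀ Θ ∈ X, centralChar (Θ : G → ℂ) x = (i : ℂ) / f * (Θ : G → ℂ) x := by
        intro Θ hΘ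
        rw [Blocks.Basic.centralChar_def, irr_one_eq_charDegree Θ.2, charDegree_eq B hΘ hχ]
        ring
      rw [Finset.sum_congr rfl h5, ← Finset.mul_sum, h2]
      push_cast
      ring
    rw [h4] at h3
    obtain ⟨w, hw⟩ := InvolColumn.exists_int_of_isIntegral h3
    have hne' : (f : ℚ) ≠ 0 := by exact_mod_cast hne
    rw [eq_div_iff hne'] at hw
    have h6 : (w : ℤ) * f = i * (-d) := by exact_mod_cast hw
    have h7 : (f : ℤ) ∣ i * (-d) := ⟨w, by rw [← h6]; ring⟩
    rcases B.kb.hd with h | h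
    · rw [h, mul_neg, mul_one, dvd_neg] at h7
      exact_mod_cast h7
    · rw [h, neg_neg, mul_one] at h7
      exact_mod_cast h7

/-- **Class integrality**, in terms of `K`. -/
theorem mul_dvd_card (B : Blk p P e t M NE X ε d S) (hP : Nat.card P = p) {K : Subgroup G}
    (h : Nat.card (centralizer (P : Set G)) = p * Nat.card K) {χ : IrrCharacter G}
    (hχ : χ ∈ NE ∨ χ ∈ X) : charDegree (χ : G → ℂ) * (p * Nat.card K) ∣ Nat.card G := by
  obtain ⟨x, hx, hx1⟩ := exists_ne_one (P := (P : Subgroup G)) hP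
  have h1 := dvd_index B hP hx hx1 hχ
  have h2 : centralizer ({x} : Set G) = centralizer (P : Set G) :=
    centralizer_eq (P := (P : Subgroup G)) hP hx hx1
  rw [h2] at h1
  rw [← card_mul_index (centralizer (P : Set G)), h, mul_comm]
  exact Nat.mul_dvd_mul_left _ h1

end CI

section Pair

variable [Finite G] {p : ℕ} [hp : Fact p.Prime] {P : Sylow p G} {e t : ℕ} {M : Ideal AlgInt}
  {NE X : Finset (IrrCharacter G)} {ε : IrrCharacter G → ℤ} {d : ℤ}
  {S : IrrCharacter G → Finset (P →* ℂˣ)}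

/-- **The averaged pair formula.** `k a` is the number of conjugates of `a` in the coset of
`K` inverting `P` (`0` if there is no such coset). -/
theorem exists_pair (B : Blk p P e t M NE X ε d S) (hP : Nat.card P = p) (hp2 : p ≠ 2)
    {K : Subgroup G} (h : IsLocal p P e K) :
    ∃ k : G → ℕ, (∀ Θ ∈ X, ∀ a b : G, a * a = 1 → b * b = 1 →
      (p * (k a * k b) : ℂ) * Nat.card G = (centralizer ({a} : Set G)).index *
        (centralizer ({b} : Set G)).index * Nat.card K *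
        (∑ χ ∈ NE, ε χ * ((χ : G → ℂ) a * (χ : G → ℂ) b / (χ : G → ℂ) 1) -
        d * ((Θ : G → ℂ) a * (Θ : G → ℂ) b / (Θ : G → ℂ) 1))) ∧
      (∀ a, k a ≤ Nat.card K) ∧ (∀ a b, IsConj a b → k a = k b) ∧
      (∀ a b, ¬ IsConj a b → k a + k b ≤ Nat.card K) ∧
      (∀ a, k a ≠ 0 → ∃ u, IsConj a u ∧ ∀ x ∈ P, u * x * u⁻¹ = x⁻¹) ∧
      (Odd e → ∀ a, k a = 0) := by
  have hc := compl_of_local h
  have hP' : Nat.card (P : Subgroup G) = p := hP
  obtain ⟨k, hk1, hk2, hk3, hk4, hk5⟩ := AvgCount.exists_count hc hP' hp2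
  obtain ⟨x, hx, hx1⟩ := exists_ne_one hP'
  have hreg : ∀ a : G, a * a = 1 → ¬ p ∣ orderOf a := by
    intro a ha hdvd
    have h1 : orderOf a ∣ 2 := orderOf_dvd_of_pow_eq_one (by rw [pow_two]; exact ha)
    have h2 := (Nat.prime_dvd_prime_iff_eq hp.out Nat.prime_two).1 (hdvd.trans h1)
    exact hp2 h2
  refine ⟨k, fun Θ hΘ a b ha hb => ?_, hk2, hk3, hk4, hk5, fun hodd a => ?_⟩
  · have h1 := avg B hc hP hx hx1 hΘ (hreg a ha) (hreg b hb)
    rw [hk1 x hx hx1 a b ha hb] at h1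
    push_cast at h1
    exact h1
  · by_contra hka
    obtain ⟨u, -, hu⟩ := hk5 a hka
    refine InvolColumn.conj_ne_inv_of_odd (P := (P : Subgroup G)) (relIndex_eq h) hodd
      (fun x hx hx1 => InvolColumn.zpowers_eq_of_card_prime hp.out hP' x hx hx1) ?_ hx hx1 u
      (hu x hx)
    rw [hP']
    exact hp.out.odd_of_ne_two hp2

/-- **R2** for odd `e` and arbitrary `K`. -/
theorem sum_eq_of_odd (B : Blk p P e t M NE X ε d S) (hP : Nat.card P = p) (hp2 : p ≠ 2)
    {K : Subgroup G} (h : IsLocal p P e K) (hodd : Odd e) {Θ : IrrCharacter G} (hΘ : Θ ∈ X)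
    {a b : G} (ha : a * a = 1) (hb : b * b = 1) :
    ∑ χ ∈ NE, ε χ * ((χ : G → ℂ) a * (χ : G → ℂ) b / (χ : G → ℂ) 1) =
      d * ((Θ : G → ℂ) a * (Θ : G → ℂ) b / (Θ : G → ℂ) 1) := by
  obtain ⟨k, hk, -, -, -, -, hk0⟩ := exists_pair B hP hp2 h
  have h1 := hk Θ hΘ a b ha hb
  rw [hk0 hodd a, Nat.cast_zero, zero_mul, mul_zero, zero_mul] at h1
  have h2 : ((centralizer ({a} : Set G)).index : ℂ) ≠ 0 := by
    exact_mod_cast Subgroup.index_ne_zero_of_finite
  have h3 : ((centralizer ({b} : Set G)).index : ℂ) ≠ 0 := by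
    exact_mod_cast Subgroup.index_ne_zero_of_finite
  have h4 : (Nat.card K : ℂ) ≠ 0 := by exact_mod_cast Nat.card_pos.ne'
  exact sub_eq_zero.1 ((mul_eq_zero.1 h1.symm).resolve_left (mul_ne_zero (mul_ne_zero h2 h3) h4))

/-- The averaged pair formula for integer values. -/
theorem pair_rat {K : Subgroup G} {Θ : IrrCharacter G} {a b : G} {n : ℕ}
    (h : (n : ℂ) * Nat.card G = (centralizer ({a} : Set G)).index *
        (centralizer ({b} : Set G)).index * Nat.card K *
        (∑ χ ∈ NE, ε χ * ((χ : G → ℂ) a * (χ : G → ℂ) b / (χ : G → ℂ) 1) -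
        d * ((Θ : G → ℂ) a * (Θ : G → ℂ) b / (Θ : G → ℂ) 1))) {y z : IrrCharacter G → ℤ}
    (hy : ∀ χ ∈ NE, (χ : G → ℂ) a = y χ) (hz : ∀ χ ∈ NE, (χ : G → ℂ) b = z χ)
    (hyΘ : (Θ : G → ℂ) a = y Θ) (hzΘ : (Θ : G → ℂ) b = z Θ) :
    (n : ℚ) * Nat.card G = (centralizer ({a} : Set G)).index *
        (centralizer ({b} : Set G)).index * Nat.card K *
        (∑ χ ∈ NE, ε χ * ((y χ : ℚ) * z χ / charDegree (χ : G → ℂ)) -
        d * ((y Θ : ℚ) * z Θ / charDegree (Θ : G → ℂ))) := by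
  have h1 : ∑ χ ∈ NE, ε χ * ((χ : G → ℂ) a * (χ : G → ℂ) b / (χ : G → ℂ) 1) =
      ((∑ χ ∈ NE, ε χ * ((y χ : ℚ) * z χ / charDegree (χ : G → ℂ)) : ℚ) : ℂ) := by
    push_cast
    refine Finset.sum_congr rfl fun χ hχ => ?_
    rw [hy χ hχ, hz χ hχ, irr_one_eq_charDegree χ.2]
  rw [h1, hyΘ, hzΘ, irr_one_eq_charDegree Θ.2] at h
  exact_mod_cast h

end Pair

end Cfsg.Agent.SmallSimple.BlockIndex
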