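import Cfsg.Agent.SmallSimple.PrimeSylowAut
import Cfsg.Agent.SmallSimple.Embed
set_option autoImplicit false
namespace Cfsg.Agent.SmallSimple.Order5040

open Subgroup MulAction
open Cfsg.Agent.SmallSimple.SylowPrime Cfsg.Agent.SmallSimple.SylowPrimeCount
open Cfsg.Agent.SmallSimple.FixCount Cfsg.Agent.SmallSimple.PrimeSylowAut

variable {G : Type*} [Group G] [Finite G]

theorem fact7 : Fact (Nat.Prime 7) := ⟨by norm_num⟩
theorem fact5 : Fact (Nat.Prime 5) := ⟨by norm_num⟩
theorem fact3 : Fact (Nat.Prime 3) := ⟨by norm_num⟩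
theorem fact2 : Fact (Nat.Prime 2) := ⟨by norm_num⟩

theorem card_sylow7 (hG : Nat.card G = 5040) (P : Sylow 7 G) : Nat.card P = 7 := by
  have := fact7
  exact SylowPrimeInvol.card_sylow_of_card_eq P (k := 1) (m := 720) (by rw [hG]; norm_num) (by norm_num)

theorem card_sylow5 (hG : Nat.card G = 5040) (P : Sylow 5 G) : Nat.card P = 5 := by
  have := fact5
  exact SylowPrimeInvol.card_sylow_of_card_eq P (k := 1) (m := 1008) (by rw [hG]; norm_num) (by norm_num)

theorem card_sylow3 (hG : Nat.card G = 5040) (P : Sylow 3 G) : Nat.card P = 9 := by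
  have := fact3
  exact SylowPrimeInvol.card_sylow_of_card_eq P (k := 2) (m := 560) (by rw [hG]; norm_num) (by norm_num)

theorem card_sylow2 (hG : Nat.card G = 5040) (P : Sylow 2 G) : Nat.card P = 16 := by
  have := fact2
  exact SylowPrimeInvol.card_sylow_of_card_eq P (k := 4) (m := 315) (by rw [hG]; norm_num) (by norm_num)

omit [Finite G] in
theorem parity [IsSimpleGroup G] (hG : Nat.card G = 5040) {X : Type*} [MulAction G X] [Finite X]
    {t : G} (ht : t ^ 2 = 1) : ∃ k, Nat.card X = Nat.card (fixedBy X t) + 4 * k :=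
  Parity.card_modEq_four (by rw [hG]; norm_num) t ht

omit [Finite G] in
theorem orderOf_eq_of_pow {q : ℕ} (hq : q.Prime) {u : G} (hu : u ^ q = 1) (hu1 : u ≠ 1) :
    orderOf u = q := by
  have := Fact.mk hq
  exact orderOf_eq_prime hu hu1

/-- Main numerical data for a Sylow subgroup of prime order in a simple group. -/
theorem automizer [IsSimpleGroup G] {p : ℕ} [hp : Fact p.Prime]
    (hne : Nat.card G ≠ p) (P : Sylow p G) (hP : Nat.card P = p) :
    ∃ e : ℕ, e ∣ p - 1 ∧ e ≠ 1 ∧
      Nat.card (normalizer (P : Set G)) = Nat.card (centralizer (P : Set G)) * e := by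
  obtain ⟨e, h1, h2, h3, h4, h5⟩ := BurnsideNC.exists_automizer_of_card_eq_prime hne P hP
  exact ⟨e, h1, h2, h4⟩

theorem n7_mem [IsSimpleGroup G] (hG : Nat.card G = 5040) :
    Nat.card (Sylow 7 G) = 8 ∨ Nat.card (Sylow 7 G) = 15 ∨ Nat.card (Sylow 7 G) = 36 ∨
      Nat.card (Sylow 7 G) = 120 := by
  have := fact7
  have h1 : Nat.card (Sylow 7 G) ∣ 720 :=
    SylowPrimeInvol.card_sylow_dvd_of_card_eq default (k := 1) (by rw [hG]; norm_num) (by norm_num)
  have h2 := card_sylow_modEq_one 7 G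
  have h3 := SylowPrimeInvol.card_sylow_ne_one (G := G) (p := 7) (k := 1) (m := 720) (by rw [hG]; norm_num)
    (by norm_num) (by norm_num) (by norm_num)
  have h4 : Nat.card (Sylow 7 G) ≤ 720 := Nat.le_of_dvd (by norm_num) h1
  generalize Nat.card (Sylow 7 G) = n at *
  unfold Nat.ModEq at h2
  have h5 : ∀ n < 721, (n ∣ 720 ∧ n % 7 = 1 % 7 ∧ n ≠ 1) →
      (n = 8 ∨ n = 15 ∨ n = 36 ∨ n = 120) := by
    decide +kernel
  exact h5 n (by omega) ⟨h1, h2, h3⟩

theorem n5_mem [IsSimpleGroup G] (hG : Nat.card G = 5040) :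
    Nat.card (Sylow 5 G) = 6 ∨ Nat.card (Sylow 5 G) = 16 ∨ Nat.card (Sylow 5 G) = 21 ∨
      Nat.card (Sylow 5 G) = 36 ∨ Nat.card (Sylow 5 G) = 56 ∨ Nat.card (Sylow 5 G) = 126 ∨
      Nat.card (Sylow 5 G) = 336 := by
  have := fact5
  have h1 : Nat.card (Sylow 5 G) ∣ 1008 :=
    SylowPrimeInvol.card_sylow_dvd_of_card_eq default (k := 1) (by rw [hG]; norm_num) (by norm_num)
  have h2 := card_sylow_modEq_one 5 G
  have h3 := SylowPrimeInvol.card_sylow_ne_one (G := G) (p := 5) (k := 1) (m := 1008) (by rw [hG]; norm_num)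
    (by norm_num) (by norm_num) (by norm_num)
  have h4 : Nat.card (Sylow 5 G) ≤ 1008 := Nat.le_of_dvd (by norm_num) h1
  generalize Nat.card (Sylow 5 G) = n at *
  unfold Nat.ModEq at h2
  have h5 : ∀ n < 1009, (n ∣ 1008 ∧ n % 5 = 1 % 5 ∧ n ≠ 1) →
      (n = 6 ∨ n = 16 ∨ n = 21 ∨ n = 36 ∨ n = 56 ∨ n = 126 ∨ n = 336) := by
    decide +kernel
  exact h5 n (by omega) ⟨h1, h2, h3⟩

theorem card_normalizer_mul {p : ℕ} [hp : Fact p.Prime] (P : Sylow p G) {n : ℕ}
    (hn : Nat.card (Sylow p G) = n) (hG : Nat.card G = 5040) :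
    Nat.card (normalizer (P : Set G)) * n = 5040 := by
  rw [← hn, ← hG]; exact SylowPrimeInvol.card_normalizer_mul P

/-- The stabilizer of `P` in the action on Sylow subgroups: conjugate counting. -/
theorem card_fixedBy_sylow {p : ℕ} [hp : Fact p.Prime] (P : Sylow p G) (g : G) :
    Nat.card (fixedBy (Sylow p G) g) * Nat.card (normalizer (P : Set G)) =
      Nat.card {h : G // IsConj g h ∧ h ∈ normalizer (P : Set G)} * Nat.card (centralizer {g}) := by
  have h := card_fixedBy_mul_card_stabilizer P g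
  have h1 : stabilizer G P = normalizer (P : Set G) := by
    ext x
    rw [mem_stabilizer_iff, Sylow.smul_eq_iff_mem_normalizer]
  rw [h1] at h
  rw [h]
  congr 1
  refine Nat.card_congr (Equiv.subtypeEquivRight fun x => ?_)
  rw [Sylow.smul_eq_iff_mem_normalizer]

/-- Two distinct commuting involutions of `H` generate a four-group, so `4 ∣ |H|`. -/
theorem four_dvd_card {H : Subgroup G} {u h : G} (huH : u ∈ H) (hhH : h ∈ H) (hu2 : u ^ 2 = 1)
    (hh2 : h ^ 2 = 1) (hu1 : u ≠ 1) (hh1 : h ≠ 1) (hne : u ≠ h) (hc : u * h = h * u) :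
    4 ∣ Nat.card H := by
  have hV : closure ({u, h} : Set G) ≤ H := by
    rw [closure_le]
    rintro x (rfl | rfl)
    · exact huH
    · exact hhH
  have hcomm : IsMulCommutative (closure ({u, h} : Set G)) := by
    apply isMulCommutative_closure
    rintro x (rfl | rfl) y (rfl | rfl)
    · rfl
    · exact hc
    · exact hc.symm
    · rfl
  have hsq : ∀ x ∈ closure ({u, h} : Set G), x ^ 2 = 1 := by
    intro x hx
    induction hx using closure_induction with
    | mem x hx =>
      rcases hx with rfl | rfl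
      · exact hu2
      · exact hh2
    | one => exact one_pow 2
    | mul x y hx hy hx2 hy2 =>
      have h1 : x * y = y * x :=
        congrArg Subtype.val (hcomm.is_comm.comm (⟨x, hx⟩ : closure ({u, h} : Set G)) ⟨y, hy⟩)
      rw [(show Commute x y from h1).mul_pow, hx2, hy2, one_mul]
    | inv x hx hx2 => rw [inv_pow, hx2, inv_one]
  have hp : IsPGroup 2 (closure ({u, h} : Set G)) := by
    rintro ⟨x, hx⟩
    refine ⟨1, ?_⟩
    apply Subtype.ext
    show x ^ (2 ^ 1) = 1
    rw [pow_one]; exact hsq x hx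
  have := Fact.mk Nat.prime_two
  obtain ⟨n, hn⟩ := hp.exists_card_eq
  have hn2 : 2 < Nat.card (closure ({u, h} : Set G)) := by
    have h3 : Function.Injective (fun i : Fin 3 =>
        (![⟨1, one_mem _⟩, ⟨u, subset_closure (Or.inl rfl)⟩, ⟨h, subset_closure (Or.inr rfl)⟩] i :
          closure ({u, h} : Set G))) := by
      intro i j hij
      fin_cases i <;> fin_cases j <;> simp_all [Subtype.ext_iff, eq_comm]
    have h4 := Nat.card_le_card_of_injective _ h3
    rw [Nat.card_eq_fintype_card, Fintype.card_fin] at h4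
    omega
  have hn3 : 2 ≤ n := by
    by_contra hlt
    have : n = 0 ∨ n = 1 := by omega
    rcases this with rfl | rfl <;> omega
  have h5 : 4 ∣ Nat.card (closure ({u, h} : Set G)) := by
    rw [hn]
    exact (pow_dvd_pow 2 hn3)
  exact h5.trans (card_dvd_of_le hV)

/-- If the involution `u` commutes with exactly one element of the `u`-invariant set `J`, then `J`
has odd cardinality. -/
theorem odd_card_of_unique {J : Set G} {u : G} (hu2 : u ^ 2 = 1) (huJ : u ∈ J)
    (hJ : ∀ h ∈ J, u * h * u⁻¹ ∈ J) (huniq : ∀ h ∈ J, u * h = h * u → h = u) :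
    Nat.card J % 2 = 1 := by
  classical
  have := Fact.mk Nat.prime_two
  have : Fintype J := Fintype.ofFinite _
  let f : Function.End J := fun h => ⟨u * h.1 * u⁻¹, hJ h.1 h.2⟩
  have hf : f ^ 2 ^ 1 = 1 := by
    rw [pow_one, pow_two]
    funext h
    apply Subtype.ext
    show u * (u * h.1 * u⁻¹) * u⁻¹ = h.1
    have h1 : u * (u * h.1 * u⁻¹) * u⁻¹ = u ^ 2 * h.1 * (u ^ 2)⁻¹ := by rw [pow_two]; group
    rw [h1, hu2]; group
  have h1 := Equiv.Perm.card_fixedPoints_modEq hf
  have h2 : Fintype.card f.fixedPoints = 1 := by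
    rw [Fintype.card_eq_one_iff]
    refine ⟨⟨⟨u, huJ⟩, ?_⟩, ?_⟩
    · show f ⟨u, huJ⟩ = ⟨u, huJ⟩
      apply Subtype.ext
      show u * u * u⁻¹ = u
      group
    · rintro ⟨⟨h, hh⟩, hfix⟩
      apply Subtype.ext
      apply Subtype.ext
      show h = u
      apply huniq h hh
      have h3 : u * h * u⁻¹ = h := congrArg Subtype.val hfix
      exact mul_inv_eq_iff_eq_mul.1 h3
  rw [h2, ← Nat.card_eq_fintype_card] at h1
  exact h1

/-- `n_7 ≠ 8` -/
theorem n7_ne_8 [IsSimpleGroup G] (hG : Nat.card G = 5040) : Nat.card (Sylow 7 G) ≠ 8 := by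
  have := fact7
  have := fact5
  intro hn
  let P : Sylow 7 G := default
  have hN := card_normalizer_mul P hn hG
  obtain ⟨e, he1, he2, he3⟩ := automizer (by rw [hG]; norm_num) P (card_sylow7 hG P)
  have he4 : e ≤ 6 := Nat.le_of_dvd (by norm_num) he1
  have h5 : 5 ∣ Nat.card (centralizer (P : Set G)) := by
    rw [he3] at hN
    norm_num at he1
    interval_cases e <;> omega
  obtain ⟨⟨u, huC⟩, hu⟩ := exists_prime_orderOf_dvd_card' 5 h5
  have hu' : orderOf u = 5 := by rw [← hu, Subgroup.orderOf_mk]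
  have h6 := card_fixedBy_modEq_one P huC
  have h7 : Nat.card (Sylow 7 G) ≡ Nat.card (fixedBy (Sylow 7 G) u) [MOD 5] :=
    card_fixedBy_modEq (by rw [← hu']; exact pow_orderOf_eq_one u)
  have h8 : Nat.card (fixedBy (Sylow 7 G) u) < Nat.card (Sylow 7 G) :=
    SylowPrimeCount.card_fixedBy_lt (by rw [hn]; norm_num) (by
      rintro rfl; rw [orderOf_one] at hu'; norm_num at hu')
  rw [hn] at h7 h8
  unfold Nat.ModEq at h6 h7
  omega

/-- `n_7 ≠ 15` -/
theorem n7_ne_15 [IsSimpleGroup G] (hG : Nat.card G = 5040) : Nat.card (Sylow 7 G) ≠ 15 := by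
  have := fact7
  have := fact2
  intro hn
  let P : Sylow 7 G := default
  have hN := card_normalizer_mul P hn hG
  obtain ⟨e, he1, he2, he3⟩ := automizer (by rw [hG]; norm_num) P (card_sylow7 hG P)
  have he4 : e ≤ 6 := Nat.le_of_dvd (by norm_num) he1
  have h5 : 2 ∣ Nat.card (centralizer (P : Set G)) := by
    rw [he3] at hN
    norm_num at he1
    interval_cases e <;> omega
  obtain ⟨⟨u, huC⟩, hu⟩ := exists_prime_orderOf_dvd_card' 2 h5
  have hu' : orderOf u = 2 := by rw [← hu, Subgroup.orderOf_mk]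
  have h6 := card_fixedBy_modEq_one P huC
  obtain ⟨k, h7⟩ := parity hG (X := Sylow 7 G) (t := u) (by rw [← hu']; exact pow_orderOf_eq_one u)
  have h8 : Nat.card (fixedBy (Sylow 7 G) u) < Nat.card (Sylow 7 G) :=
    SylowPrimeCount.card_fixedBy_lt (by rw [hn]; norm_num) (by
      rintro rfl; rw [orderOf_one] at hu'; norm_num at hu')
  rw [hn] at h7 h8
  unfold Nat.ModEq at h6
  omega

/-- An element of `N(P)` outside `C(P)` fixes few Sylow subgroups; here in the form of a
bound for conjugates. -/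
theorem conj_mem_centralizer {p : ℕ} [hp : Fact p.Prime] (P : Sylow p G) (hP : Nat.card P = p)
    {u h : G} (huh : IsConj u h) (hh : h ∈ normalizer (P : Set G))
    (hbig : Nat.card (Sylow p G) + (p - 1) < p * Nat.card (fixedBy (Sylow p G) u)) :
    h ∈ centralizer (P : Set G) := by
  by_contra hcon
  have h1 := mul_card_fixedBy_le P hP hh hcon
  have h2 : Nat.card (fixedBy (Sylow p G) h) = Nat.card (fixedBy (Sylow p G) u) := by
    obtain ⟨c, hc⟩ := isConj_iff.1 huh
    refine Nat.card_congr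
      { toFun := fun Q => ⟨c⁻¹ • Q.1, by
          have hQ : h • Q.1 = Q.1 := Q.2
          show u • c⁻¹ • Q.1 = c⁻¹ • Q.1
          have : u * c⁻¹ = c⁻¹ * h := by rw [← hc]; group
          rw [← mul_smul, this, mul_smul, hQ]⟩
        invFun := fun Q => ⟨c • Q.1, by
          have hQ : u • Q.1 = Q.1 := Q.2
          show h • c • Q.1 = c • Q.1
          have : h * c = c * u := by rw [← hc]; group
          rw [← mul_smul, this, mul_smul, hQ]⟩
        left_inv := fun Q => by simp
        right_inv := fun Q => by simp }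
  rw [h2] at h1
  omega

/-- `n_7 ≠ 36` -/
theorem n7_ne_36 [IsSimpleGroup G] (hG : Nat.card G = 5040) : Nat.card (Sylow 7 G) ≠ 36 := by
  have := fact7
  have := fact2
  intro hn
  let P : Sylow 7 G := default
  have hN := card_normalizer_mul P hn hG
  obtain ⟨e, he1, he2, he3⟩ := automizer (by rw [hG]; norm_num) P (card_sylow7 hG P)
  have he4 : e ≤ 6 := Nat.le_of_dvd (by norm_num) he1
  have hC : Nat.card (centralizer (P : Set G)) = 70 := by
    rw [he3] at hN
    norm_num at he1
    interval_cases e <;> omega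
  have h5 : 2 ∣ Nat.card (centralizer (P : Set G)) := by rw [hC]; norm_num
  obtain ⟨⟨u, huC⟩, hu⟩ := exists_prime_orderOf_dvd_card' 2 h5
  have hu' : orderOf u = 2 := by rw [← hu, Subgroup.orderOf_mk]
  have hu2 : u ^ 2 = 1 := by rw [← hu']; exact pow_orderOf_eq_one u
  have hu1 : u ≠ 1 := by rintro rfl; rw [orderOf_one] at hu'; norm_num at hu'
  have h6 := card_fixedBy_modEq_one P huC
  obtain ⟨k, h7⟩ := parity hG (X := Sylow 7 G) (t := u) hu2
  have h8 : Nat.card (fixedBy (Sylow 7 G) u) < Nat.card (Sylow 7 G) :=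
    SylowPrimeCount.card_fixedBy_lt (by rw [hn]; norm_num) hu1
  have hfix : Nat.card (fixedBy (Sylow 7 G) u) = 8 := by
    rw [hn] at h7 h8
    unfold Nat.ModEq at h6
    omega
  -- count conjugates
  have hcount := card_fixedBy_sylow P u
  rw [hfix, he3, hC] at hcount
  -- the number of conjugates is odd
  set J := {h : G | IsConj u h ∧ h ∈ normalizer (P : Set G)} with hJ
  have hcount : 8 * (70 * e) = Nat.card J * Nat.card (centralizer {u}) := hcount
  have hJC : ∀ h : J, (h : G) ∈ centralizer (P : Set G) := fun h =>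
    conj_mem_centralizer P (card_sylow7 hG P) h.2.1 h.2.2 (by rw [hfix, hn]; norm_num)
  have he : e = 2 := by
    rw [he3, hC] at hN
    omega
  have hodd : Nat.card J % 2 = 1 := by
    have huN : u ∈ normalizer (P : Set G) := centralizer_le_normalizer' (P : Subgroup G) huC
    apply odd_card_of_unique (J := J) hu2 ⟨IsConj.refl u, huN⟩
    · rintro h ⟨h1, h2⟩
      refine ⟨h1.trans (isConj_iff.2 ⟨u, rfl⟩), ?_⟩
      exact mul_mem (mul_mem huN h2) (inv_mem huN)
    · rintro h hh hc
      by_contra hne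
      have h9 : h ^ 2 = 1 := by
        obtain ⟨c, hc⟩ := isConj_iff.1 hh.1
        rw [← hc, conj_pow, hu2]; group
      have h10 : h ≠ 1 := by
        rintro rfl
        exact hu1 (isConj_one_left.1 hh.1)
      have h11 := four_dvd_card huC (hJC ⟨h, hh⟩) hu2 h9 hu1 h10 (fun h => hne h.symm) hc
      rw [hC] at h11
      norm_num at h11
  have hCu : 32 ∣ Nat.card (centralizer {u}) := by
    rw [he] at hcount
    have h9 : 32 ∣ Nat.card J * Nat.card (centralizer {u}) := by
      rw [← hcount]; norm_num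
    have h10 : Nat.Coprime 32 (Nat.card J) := by
      have : Nat.Coprime (2 ^ 5) (Nat.card J) := by
        apply Nat.Coprime.pow_left
        rw [Nat.coprime_two_left, Nat.odd_iff]
        exact hodd
      simpa using this
    exact h10.dvd_of_dvd_mul_left h9
  have h11 := hCu.trans (card_subgroup_dvd_card (centralizer {u}))
  rw [hG] at h11
  norm_num at h11

end Cfsg.Agent.SmallSimple.Order5040
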