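import Cfsg.Agent.SmallSimple.BlockShared
import Cfsg.Agent.S0145

/-!
# Fusion in a Sylow subgroup of order `p` with `|N(P) : C(P)| = p - 1`, and integral values

* `exists_conj` : `N(P)` is transitive on the nontrivial elements of `P`;
* `exists_int` : every character has an integral value `v ≡ χ(1) mod p` at `x ∈ P \ 1`;
* `sum_sq` : `∑ v ^ 2 = |C(x)|`.
-/

set_option autoImplicit false
set_option linter.unusedSectionVars false

namespace Cfsg.Agent.SmallSimple.PrimeFusion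

open Cfsg Subgroup
open Cfsg.Agent.Characters.Core
open Cfsg.Agent.M23Order.Base (dg dg_eq)
open scoped ComplexConjugate

universe u

variable {G : Type u} [Group G] [Finite G]

theorem exists_conj {p : ℕ} [hp : Fact p.Prime] {P : Subgroup G} (hP : Nat.card P = p)
    (he : (centralizer (P : Set G)).relIndex (normalizer (P : Set G)) = p - 1) {x x' : G}
    (hx : x ∈ P) (hx1 : x ≠ 1) (hx' : x' ∈ P) (hx'1 : x' ≠ 1) :
    ∃ n ∈ normalizer (P : Set G), n * x * n⁻¹ = x' := by
  classical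
  set N := normalizer (P : Set G) with hN
  set C := centralizer (P : Set G) with hC
  have hCx : centralizer ({x} : Set G) = C := BlockIndex.centralizer_eq hP hx hx1
  have hmem : ∀ n : N, (n : G) * x * (n : G)⁻¹ ∈ P ∧ (n : G) * x * (n : G)⁻¹ ≠ 1 := by
    intro n
    refine ⟨(mem_normalizer_iff.1 n.2 x).1 hx, fun h => hx1 ?_⟩
    have : x = (n : G)⁻¹ * ((n : G) * x * (n : G)⁻¹) * n := by group
    rw [this, h]; group
  have hkey : ∀ a b : N, (a : G) * x * (a : G)⁻¹ = (b : G) * x * (b : G)⁻¹ ↔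
      a⁻¹ * b ∈ C.subgroupOf N := by
    intro a b
    rw [mem_subgroupOf, ← hCx, mem_centralizer_singleton_iff]
    push_cast
    constructor
    · intro h
      have h1 : (b : G) * x = (a : G) * x * (a : G)⁻¹ * b := by rw [h]; group
      calc (a : G)⁻¹ * b * x = (a : G)⁻¹ * (b * x) := by group
        _ = (a : G)⁻¹ * ((a : G) * x * (a : G)⁻¹ * b) := by rw [h1]
        _ = x * ((a : G)⁻¹ * b) := by group
    · intro h
      calc (a : G) * x * (a : G)⁻¹ = (a : G) * (x * ((a : G)⁻¹ * b)) * (b : G)⁻¹ := by group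
        _ = (a : G) * ((a : G)⁻¹ * b * x) * (b : G)⁻¹ := by rw [h]
        _ = (b : G) * x * (b : G)⁻¹ := by group
  let f : N ⧸ C.subgroupOf N → {z : P // z ≠ 1} := Quotient.lift
    (fun n : N => ⟨⟨(n : G) * x * (n : G)⁻¹, (hmem n).1⟩, fun h =>
      (hmem n).2 (congrArg Subtype.val h)⟩) (by
      intro a b hab
      have h1 : a⁻¹ * b ∈ C.subgroupOf N := QuotientGroup.leftRel_apply.1 hab
      apply Subtype.ext
      apply Subtype.ext
      exact (hkey a b).2 h1)
  have hinj : Function.Injective f := by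
    intro a b
    refine Quotient.inductionOn₂ a b fun a b h => ?_
    have h1 : (a : G) * x * (a : G)⁻¹ = (b : G) * x * (b : G)⁻¹ :=
      congrArg (fun z : {z : P // z ≠ 1} => ((z : P) : G)) h
    exact Quotient.sound (QuotientGroup.leftRel_apply.2 ((hkey a b).1 h1))
  have hcard : Nat.card (N ⧸ C.subgroupOf N) = Nat.card {z : P // z ≠ 1} := by
    have h1 : Nat.card (N ⧸ C.subgroupOf N) = p - 1 := he
    have := Fintype.ofFinite {z : P // z ≠ 1}
    rw [h1, Nat.card_eq_fintype_card, M23.Adm.card_ne_one, hP]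
  have hbij : Function.Bijective f := (Nat.bijective_iff_injective_and_card f).2 ⟨hinj, hcard⟩
  obtain ⟨q, hq⟩ := hbij.2 ⟨⟨x', hx'⟩, fun h => hx'1 (congrArg Subtype.val h)⟩
  obtain ⟨n, rfl⟩ := Quotient.exists_rep q
  exact ⟨n, n.2, congrArg (fun z : {z : P // z ≠ 1} => ((z : P) : G)) hq⟩

/-- Values of irreducible characters at `x ∈ P \ 1`. -/
theorem exists_int {p : ℕ} [hp : Fact p.Prime] {P : Subgroup G} (hP : Nat.card P = p)
    (he : (centralizer (P : Set G)).relIndex (normalizer (P : Set G)) = p - 1)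
    (χ : IrrCharacter G) : ∃ v : ℤ, (∀ x ∈ P, x ≠ 1 → (χ : G → ℂ) x = v) ∧
      v ≡ dg χ [ZMOD p] := by
  obtain ⟨x, hx, hx1⟩ := BlockIndex.exists_ne_one hP
  have hconst : ∀ x' ∈ P, x' ≠ 1 → (χ : G → ℂ) x' = (χ : G → ℂ) x := by
    intro x' hx' hx'1
    obtain ⟨n, -, hn⟩ := exists_conj hP he hx hx1 hx' hx'1
    rw [← hn]
    exact Blocks.Basic.irr_conj χ.2 x n
  obtain ⟨m, hm⟩ := M23.Adm.exists_add_V (isIrr_isCharacter χ.2) P
  rw [M23.Adm.V_const P hconst, dg_eq, hP] at hm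
  have hp1 : (p - 1 : ℕ) ≠ 0 := by have := hp.out.two_le; omega
  have h1 : (χ : G → ℂ) x = (((p * m - dg χ : ℤ) / ((p - 1 : ℕ) : ℤ) : ℚ) : ℂ) := by
    push_cast
    rw [eq_div_iff (by exact_mod_cast hp1)]
    linear_combination hm
  obtain ⟨v, hv⟩ := Characters.GaloisBasic.exists_int_of_rat (isIrr_isCharacter χ.2) x ⟨_, h1⟩
  refine ⟨v, fun x' hx' hx'1 => by rw [hconst x' hx' hx'1, hv], ?_⟩
  rw [hv] at hm
  have h2 : (dg χ : ℤ) + ((p - 1 : ℕ) : ℤ) * v = p * m := by exact_mod_cast hm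
  rw [Nat.cast_sub hp.out.one_lt.le] at h2
  rw [Int.modEq_iff_dvd]
  refine ⟨m - v, ?_⟩
  push_cast at h2
  linear_combination h2

/-- The integral values, as a function. -/
theorem exists_val {p : ℕ} [hp : Fact p.Prime] {P : Subgroup G} (hP : Nat.card P = p)
    (he : (centralizer (P : Set G)).relIndex (normalizer (P : Set G)) = p - 1) :
    ∃ v : IrrCharacter G → ℤ, (∀ χ : IrrCharacter G, ∀ x ∈ P, x ≠ 1 → (χ : G → ℂ) x = v χ) ∧
      (∀ χ : IrrCharacter G, v χ ≡ dg χ [ZMOD p]) ∧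
      ∀ s : Finset (IrrCharacter G), ∑ χ ∈ s, v χ ^ 2 ≤ Nat.card (centralizer (P : Set G)) := by
  classical
  choose v hv1 hv2 using exists_int hP he
  refine ⟨v, hv1, hv2, fun s => ?_⟩
  have := finite_irr (G := G)
  have := Fintype.ofFinite (IrrCharacter G)
  have := Fintype.ofFinite G
  obtain ⟨x, hx, hx1⟩ := BlockIndex.exists_ne_one hP
  have h1 := S0145.sum_irr_mul_conj x x
  rw [if_pos (IsConj.refl x)] at h1
  have h2 : ((∑ χ : IrrCharacter G, v χ ^ 2 : ℤ) : ℂ) =
      ((Nat.card (centralizer ({x} : Set G)) : ℤ) : ℂ) := by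
    push_cast
    rw [← h1]
    refine Finset.sum_congr rfl fun χ _ => ?_
    rw [hv1 χ x hx hx1]
    simp [sq]
  have h3 : ∑ χ : IrrCharacter G, v χ ^ 2 = (Nat.card (centralizer ({x} : Set G)) : ℤ) := by
    exact_mod_cast h2
  have hCx : centralizer ({x} : Set G) = centralizer (P : Set G) :=
    BlockIndex.centralizer_eq hP hx hx1
  rw [← hCx, ← h3]
  exact Finset.sum_le_sum_of_subset_of_nonneg (Finset.subset_univ _) fun χ _ _ => sq_nonneg _

end Cfsg.Agent.SmallSimple.PrimeFusion
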