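import Mathlib

/-!
Involutions in the derived subgroup of a small 2-group.

* `mem_center_of_card_sixteen`: in a group of order 16, `t ∈ S'` with `t ^ 2 = 1` is central.
* `index_centralizer_le_four`: in a group of order 64, such a `t` has at most 4 conjugates.
-/

set_option autoImplicit false

namespace Cfsg.Agent.SmallSimple.TwoGroup64

open Subgroup
open scoped commutatorElement

/-- A subgroup of order `p` in the centre of a nontrivial finite `p`-group. -/
theorem exists_le_center_card {p : ℕ} [hp : Fact p.Prime] {S : Type*} [Group S] [Finite S]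
    (hS : IsPGroup p S) (hnt : Nontrivial S) : ∃ Z : Subgroup S, Z ≤ center S ∧ Nat.card Z = p := by
  have h1 : Nontrivial (center S) := hS.center_nontrivial
  have h2 : p ∣ Nat.card (center S) := by
    have h3 : IsPGroup p (center S) := hS.to_subgroup _
    obtain ⟨n, hn⟩ := h3.exists_card_eq
    have h4 : n ≠ 0 := by
      rintro rfl
      rw [pow_zero] at hn
      have := Finite.one_lt_card_iff_nontrivial.mpr h1
      omega
    rw [hn]
    exact dvd_pow_self p h4
  obtain ⟨z, hz⟩ := exists_prime_orderOf_dvd_card' p h2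
  refine ⟨zpowers (z : S), ?_, ?_⟩
  · rw [zpowers_le]; exact z.2
  · rw [Nat.card_zpowers, orderOf_coe, hz]

/-- The order of the preimage of a subgroup of a quotient. -/
theorem card_comap_mk {S : Type*} [Group S] [Finite S] (Z : Subgroup S) [Z.Normal]
    (W : Subgroup (S ⧸ Z)) :
    Nat.card (W.comap (QuotientGroup.mk' Z)) = Nat.card W * Nat.card Z := by
  have h1 : (W.comap (QuotientGroup.mk' Z)).index = W.index :=
    Subgroup.index_comap_of_surjective W (QuotientGroup.mk'_surjective Z)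
  have h2 := (W.comap (QuotientGroup.mk' Z)).card_mul_index
  have h3 := W.card_mul_index
  have h4 : Nat.card S = Nat.card (S ⧸ Z) * Nat.card Z := card_eq_card_quotient_mul_card_subgroup Z
  rw [h1] at h2
  have h5 : 0 < W.index := Nat.pos_of_ne_zero index_ne_zero_of_finite
  apply Nat.eq_of_mul_eq_mul_right h5
  rw [h2, h4, ← h3]
  ring

theorem card_quotient_of_card {S : Type*} [Group S] [Finite S] (Z : Subgroup S) [Z.Normal]
    {a b : ℕ} (h : Nat.card S = a * b) (hZ : Nat.card Z = b) (hb : 0 < b) :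
    Nat.card (S ⧸ Z) = a := by
  have h4 : Nat.card S = Nat.card (S ⧸ Z) * Nat.card Z := card_eq_card_quotient_mul_card_subgroup Z
  rw [h, hZ] at h4
  exact (Nat.eq_of_mul_eq_mul_right hb h4).symm

theorem normal_of_le_center' {S : Type*} [Group S] {Z : Subgroup S} (h : Z ≤ center S) :
    Z.Normal := by
  refine ⟨fun n hn g => ?_⟩
  have : g * n * g⁻¹ = n := by
    rw [(mem_center_iff.mp (h hn)) g]; group
  rwa [this]

/-- All squares central implies the derived subgroup is central. -/
theorem commutator_le_center_of_sq {S : Type*} [Group S] (h : ∀ s : S, s ^ 2 ∈ center S) :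
    _root_.commutator S ≤ center S := by
  rw [commutator_def, Subgroup.commutator_le]
  intro a _ b _
  have h1 : ⁅a, b⁆ = (a * b) ^ 2 * (b⁻¹ * (a ^ 2)⁻¹) * b⁻¹ := by
    rw [commutatorElement_def, sq, sq]
    group
  have h2 := mem_center_iff.mp (inv_mem (h a)) b⁻¹
  rw [h2, mul_assoc, mul_assoc] at h1
  rw [h1]
  have h3 : b⁻¹ * b⁻¹ = (b⁻¹) ^ 2 := (sq _).symm
  rw [h3]
  exact mul_mem (h _) (mul_mem (inv_mem (h _)) (h _))

/-- A subgroup of order 2 has at most one element `≠ 1`. -/
theorem eq_of_card_two {S : Type*} [Group S] {Z : Subgroup S} (hZ : Nat.card Z = 2) {x y : S}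
    (hx : x ∈ Z) (hy : y ∈ Z) (hx1 : x ≠ 1) (hy1 : y ≠ 1) : x = y := by
  obtain ⟨w, _, hw⟩ := (Nat.card_eq_two_iff' (1 : Z)).mp hZ
  have h1 := hw ⟨x, hx⟩ (fun h => hx1 (congrArg Subtype.val h))
  have h2 := hw ⟨y, hy⟩ (fun h => hy1 (congrArg Subtype.val h))
  exact congrArg Subtype.val (h1.trans h2.symm)

theorem mul_pow_of_comm {S : Type*} [Group S] {a b : S} (h : a * b = b * a) :
    (a * b) ^ 2 = a ^ 2 * b ^ 2 :=
  Commute.mul_pow h 2

/-- In a group of order 16, `t ∈ S'` with `t ^ 2 = 1` is central. -/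
theorem mem_center_of_card_sixteen {S : Type*} [Group S] [Finite S] (hS : Nat.card S = 16)
    (t : S) (ht : t ∈ _root_.commutator S) (ht2 : t ^ 2 = 1) : t ∈ center S := by
  classical
  have h2 : Fact (Nat.Prime 2) := ⟨Nat.prime_two⟩
  have hSp : IsPGroup 2 S := IsPGroup.of_card (n := 4) (by rw [hS]; norm_num)
  have hnt : Nontrivial S := Finite.one_lt_card_iff_nontrivial.mp (by rw [hS]; norm_num)
  obtain ⟨Z, hZc, hZ⟩ := exists_le_center_card hSp hnt
  have hZn : Z.Normal := normal_of_le_center' hZc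
  have hQ : Nat.card (S ⧸ Z) = 8 := card_quotient_of_card Z (by rw [hS]) hZ (by norm_num)
  have hQp : IsPGroup 2 (S ⧸ Z) := IsPGroup.of_card (n := 3) (by rw [hQ]; norm_num)
  have hQnt : Nontrivial (S ⧸ Z) := Finite.one_lt_card_iff_nontrivial.mp (by rw [hQ]; norm_num)
  obtain ⟨W, hWc, hW⟩ := exists_le_center_card hQp hQnt
  have hWn : W.Normal := normal_of_le_center' hWc
  set N : Subgroup S := W.comap (QuotientGroup.mk' Z) with hN
  have hNcard : Nat.card N = 4 := by rw [hN, card_comap_mk, hW, hZ]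
  have hNn : N.Normal := hWn.comap _
  -- the quotient by N is commutative
  have hSN : Nat.card (S ⧸ N) = 4 := card_quotient_of_card N (by rw [hS]) hNcard (by norm_num)
  have hcomm : ∀ a b : S, a * b * a⁻¹ * b⁻¹ ∈ N := by
    have h4 : IsMulCommutative (S ⧸ N) :=
      IsPGroup.isMulCommutative_of_card_eq_prime_sq (p := 2) (by rw [hSN]; norm_num)
    intro a b
    rw [← QuotientGroup.eq_one_iff]
    have h5 : (a : S ⧸ N) * (b : S ⧸ N) = (b : S ⧸ N) * (a : S ⧸ N) := h4.is_comm.comm _ _
    rw [QuotientGroup.mk_mul, QuotientGroup.mk_mul, QuotientGroup.mk_mul, h5,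
      QuotientGroup.mk_inv, QuotientGroup.mk_inv]
    group
  have hcommN : _root_.commutator S ≤ N := by
    rw [commutator_def, Subgroup.commutator_le]
    intro a _ b _
    exact hcomm a b
  have htN : t ∈ N := hcommN ht
  by_contra htc
  have htZ : t ∉ Z := fun h => htc (hZc h)
  have htZ1 : (t : S ⧸ Z) ≠ 1 := fun h => htZ ((QuotientGroup.eq_one_iff t).mp h)
  have htW : (t : S ⧸ Z) ∈ W := htN
  -- elements of N: in Z or in tZ
  have hNel : ∀ n ∈ N, n ∈ Z ∨ t⁻¹ * n ∈ Z := by
    intro n hn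
    by_cases h1 : n ∈ Z
    · exact Or.inl h1
    · right
      have h3 : (n : S ⧸ Z) ≠ 1 := fun h => h1 ((QuotientGroup.eq_one_iff n).mp h)
      have h4 : (t : S ⧸ Z) = (n : S ⧸ Z) := eq_of_card_two hW htW hn htZ1 h3
      exact QuotientGroup.eq.mp h4
  have hZsq : ∀ z ∈ Z, z ^ 2 = 1 := by
    intro z hz
    have h3 : (⟨z, hz⟩ : Z) ^ Nat.card Z = 1 := pow_card_eq_one'
    rw [hZ] at h3
    exact congrArg Subtype.val h3
  have hNsq : ∀ n ∈ N, n ^ 2 = 1 := by
    intro n hn
    rcases hNel n hn with h | h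
    · exact hZsq n h
    · have h3 := hZsq _ h
      have h4 := mem_center_iff.mp (hZc h) t
      have h5 : n = t * (t⁻¹ * n) := by group
      rw [h5, mul_pow_of_comm h4, ht2, h3, one_mul]
  -- the centralizer of t
  set C : Subgroup S := centralizer {t} with hC
  have hCmem : ∀ x, x ∈ C ↔ x * t = t * x := by
    intro x
    rw [hC, mem_centralizer_singleton_iff]
  have hCN : ∀ n ∈ N, ∀ c ∈ C, n * c = c * n := by
    intro n hn c hc
    rcases hNel n hn with h | h
    · exact (mem_center_iff.mp (hZc h) c).symm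
    · have h4 := mem_center_iff.mp (hZc h) c
      have h5 : n = t * (t⁻¹ * n) := by group
      have h6 := (hCmem c).mp hc
      rw [h5, mul_assoc, ← h4, ← mul_assoc, ← h6, mul_assoc]
  have hxt : ∀ x, x ∉ C → x * t * x⁻¹ * t⁻¹ ∈ Z ∧ x * t * x⁻¹ * t⁻¹ ≠ 1 := by
    intro x hx
    constructor
    · have h3 := mem_center_iff.mp (hWc htW) (x : S ⧸ Z)
      rw [← QuotientGroup.eq_one_iff, QuotientGroup.mk_mul, QuotientGroup.mk_mul,
        QuotientGroup.mk_mul, h3, QuotientGroup.mk_inv, QuotientGroup.mk_inv]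
      group
    · intro h
      apply hx
      rw [hCmem]
      have h3 : x * t * x⁻¹ = t := mul_inv_eq_one.mp h
      exact mul_inv_eq_iff_eq_mul.mp h3
  have hCidx : ∀ x y, x ∉ C → y ∉ C → x⁻¹ * y ∈ C := by
    intro x y hx hy
    obtain ⟨hx1, hx2⟩ := hxt x hx
    obtain ⟨hy1, hy2⟩ := hxt y hy
    have h3 : x * t * x⁻¹ * t⁻¹ = y * t * y⁻¹ * t⁻¹ := eq_of_card_two hZ hx1 hy1 hx2 hy2
    have h4 : x * t * x⁻¹ = y * t * y⁻¹ := mul_right_cancel h3
    rw [hCmem]
    have h5 : x⁻¹ * y * t = x⁻¹ * (y * t * y⁻¹) * y := by group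
    rw [h5, ← h4]; group
  have hCne : C ≠ ⊤ := by
    intro h
    apply htc
    rw [mem_center_iff]
    intro g
    exact (hCmem g).mp (h ▸ mem_top g)
  have hCidx2 : C.index = 2 := by
    rw [index_eq_two_iff]
    obtain ⟨a, ha⟩ : ∃ a, a ∉ C := by
      by_contra hcon
      push Not at hcon
      exact hCne (eq_top_iff.mpr fun x _ => hcon x)
    refine ⟨a⁻¹, fun b => ?_⟩
    by_cases hb : b ∈ C
    · right
      refine ⟨hb, fun h => ha ?_⟩
      have h3 : a⁻¹ ∈ C := by
        have h4 := mul_mem (inv_mem hb) h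
        rwa [inv_mul_cancel_left] at h4
      exact inv_inv a ▸ inv_mem h3
    · left
      refine ⟨?_, hb⟩
      have hb' : b⁻¹ ∉ C := fun h => hb (inv_inv b ▸ inv_mem h)
      have h3 := hCidx _ _ hb' (fun h => ha (inv_inv a ▸ inv_mem h))
      rwa [inv_inv] at h3
  have hCcard : Nat.card C = 8 := by
    have h3 := C.card_mul_index
    rw [hCidx2, hS] at h3
    omega
  have hNC : N ≤ C := by
    intro n hn
    rw [hCmem]
    have htC : t ∈ C := by rw [hCmem]
    exact hCN n hn t htC
  have hNrel : (N.subgroupOf C).index = 2 := by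
    have h3 := (N.subgroupOf C).card_mul_index
    have h4 : Nat.card (N.subgroupOf C) = 4 := by
      rw [← hNcard]
      exact Nat.card_congr (Subgroup.subgroupOfEquivOfLe hNC).toEquiv
    rw [h4, hCcard] at h3
    omega
  have hCcomm : ∀ a ∈ C, ∀ b ∈ C, a * b = b * a := by
    intro a ha b hb
    by_cases haN : a ∈ N
    · exact hCN a haN b hb
    by_cases hbN : b ∈ N
    · exact (hCN b hbN a ha).symm
    have h3 := (mul_mem_iff_of_index_two hNrel (a := ⟨a⁻¹, inv_mem ha⟩) (b := ⟨b, hb⟩)).mpr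
      (by
        constructor
        · intro h
          exact absurd (inv_inv a ▸ inv_mem (mem_subgroupOf.mp h) : a ∈ N) haN
        · intro h
          exact absurd (mem_subgroupOf.mp h : b ∈ N) hbN)
    have h4 : a⁻¹ * b ∈ N := mem_subgroupOf.mp h3
    have h5 := hCN _ h4 a ha
    have h6 : b = a * (a⁻¹ * b) := by group
    have h7 : b * a = a * ((a⁻¹ * b) * a) := by group
    rw [h7, h5]; group
  -- all squares are central
  apply htc
  refine commutator_le_center_of_sq (fun s => ?_) ht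
  rw [mem_center_iff]
  have hsqC : ∀ s, s ∉ C → s ^ 2 ∈ C := by
    intro s hs
    have hs' : s⁻¹ ∉ C := fun h => hs (inv_inv s ▸ inv_mem h)
    have h3 := hCidx _ _ hs' hs
    rwa [inv_inv, ← sq] at h3
  intro y
  by_cases hs : s ∈ C
  · -- s ∈ C
    have h3 : y * s * y⁻¹ * s⁻¹ ∈ N := hcomm y s
    have h4 := hCN _ h3 s hs
    have h5 : y * s * y⁻¹ = (y * s * y⁻¹ * s⁻¹) * s := by group
    have h6 : (y * s * y⁻¹) ^ 2 = s ^ 2 := by
      rw [h5, mul_pow_of_comm h4, hNsq _ h3, one_mul]
    have h7 : (y * s * y⁻¹) ^ 2 = y * s ^ 2 * y⁻¹ := conj_pow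
    rw [h7] at h6
    exact mul_inv_eq_iff_eq_mul.mp h6
  · have h3 := hsqC s hs
    by_cases hy : y ∈ C
    · exact hCcomm y hy _ h3
    · have h4 := hCidx s y hs hy
      have h5 := hCcomm _ h4 _ h3
      calc y * s ^ 2 = s * ((s⁻¹ * y) * s ^ 2) := by group
        _ = s * (s ^ 2 * (s⁻¹ * y)) := by rw [h5]
        _ = s ^ 2 * y := by group

/-- In a group of order 64, an element `t ∈ S'` with `t ^ 2 = 1` has a centralizer of index at
most 4. -/
theorem index_centralizer_le_four {S : Type*} [Group S] [Finite S] (hS : Nat.card S = 64)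
    (t : S) (ht : t ∈ _root_.commutator S) (ht2 : t ^ 2 = 1) :
    (centralizer ({t} : Set S)).index ≤ 4 := by
  classical
  have h2 : Fact (Nat.Prime 2) := ⟨Nat.prime_two⟩
  have hSp : IsPGroup 2 S := IsPGroup.of_card (n := 6) (by rw [hS]; norm_num)
  have hnt : Nontrivial S := Finite.one_lt_card_iff_nontrivial.mp (by rw [hS]; norm_num)
  obtain ⟨Z, hZc, hZ⟩ := exists_le_center_card hSp hnt
  have hZn : Z.Normal := normal_of_le_center' hZc
  have hQ : Nat.card (S ⧸ Z) = 32 := card_quotient_of_card Z (by rw [hS]) hZ (by norm_num)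
  have hQp : IsPGroup 2 (S ⧸ Z) := IsPGroup.of_card (n := 5) (by rw [hQ]; norm_num)
  have hQnt : Nontrivial (S ⧸ Z) := Finite.one_lt_card_iff_nontrivial.mp (by rw [hQ]; norm_num)
  obtain ⟨W, hWc, hW⟩ := exists_le_center_card hQp hQnt
  have hWn : W.Normal := normal_of_le_center' hWc
  set N : Subgroup S := W.comap (QuotientGroup.mk' Z) with hN
  have hNcard : Nat.card N = 4 := by rw [hN, card_comap_mk, hW, hZ]
  have hNn : N.Normal := hWn.comap _
  have hSN : Nat.card (S ⧸ N) = 16 := card_quotient_of_card N (by rw [hS]) hNcard (by norm_num)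
  have htN : (t : S ⧸ N) ∈ _root_.commutator (S ⧸ N) := by
    have h3 : (_root_.commutator S).map (QuotientGroup.mk' N) ≤ _root_.commutator (S ⧸ N) := by
      rw [commutator_def, commutator_def, map_commutator]
      exact commutator_mono le_top le_top
    exact h3 (mem_map_of_mem _ ht)
  have hcen := mem_center_of_card_sixteen hSN (t : S ⧸ N) htN (by
    rw [← QuotientGroup.mk_pow, ht2, QuotientGroup.mk_one])
  have hmem : ∀ x : S, x * t * x⁻¹ * t⁻¹ ∈ N := by
    intro x
    have h3 := mem_center_iff.mp hcen (x : S ⧸ N)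
    rw [← QuotientGroup.eq_one_iff, QuotientGroup.mk_mul, QuotientGroup.mk_mul,
      QuotientGroup.mk_mul, h3, QuotientGroup.mk_inv, QuotientGroup.mk_inv]
    group
  rw [← hNcard, index_eq_card]
  refine Nat.card_le_card_of_injective
    (fun q : S ⧸ centralizer ({t} : Set S) => (⟨_, hmem q.out⟩ : N)) ?_
  intro q q' hqq
  have h3 : q.out * t * q.out⁻¹ * t⁻¹ = q'.out * t * q'.out⁻¹ * t⁻¹ := congrArg Subtype.val hqq
  have h4 := mul_right_cancel h3
  rw [← QuotientGroup.out_eq' q, ← QuotientGroup.out_eq' q', QuotientGroup.eq,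
    mem_centralizer_singleton_iff]
  have h5 : q.out⁻¹ * q'.out * t = q.out⁻¹ * (q'.out * t * q'.out⁻¹) * q'.out := by group
  rw [h5, ← h4]; group

end Cfsg.Agent.SmallSimple.TwoGroup64
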