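import Mathlib

/-!
# Group theory of a self-centralizing subgroup `P` of odd prime order with `|N(P)| = 2p`

`N(P)` is dihedral: every element of `N(P) \ P` is an involution inverting `P`, and these
involutions form a single conjugacy class of `N(P)`.
-/

set_option autoImplicit false

namespace Cfsg.Agent.SmallSimple.DihedralNormGroup

open Subgroup

variable {G : Type*} [Group G] {p : ℕ} {P : Subgroup G}

/-- A subgroup of prime order has only trivial proper subgroups: membership form. -/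
theorem zpowers_eq_of_mem (hp : p.Prime) (hP : Nat.card P = p) {y : G} (hy : y ∈ P)
    (hy1 : y ≠ 1) : zpowers y = P := by
  have hle : zpowers y ≤ P := by rwa [zpowers_le]
  have hfin : Finite P := Nat.finite_of_card_ne_zero (by rw [hP]; exact hp.ne_zero)
  have h1 : Nat.card (zpowers y) ∣ p := hP ▸ Subgroup.card_dvd_of_le hle
  rcases (Nat.dvd_prime hp).1 h1 with h | h
  · exfalso
    apply hy1
    rw [Subgroup.card_eq_one] at h
    exact zpowers_eq_bot.1 h
  · exact Subgroup.eq_of_le_of_card_ge hle (by rw [h, hP])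

theorem comm_of_mem (hp : p.Prime) (hP : Nat.card P = p) {x y : G} (hx : x ∈ P) (hy : y ∈ P) :
    x * y = y * x := by
  by_cases hy1 : y = 1
  · rw [hy1, mul_one, one_mul]
  · have hx' : x ∈ zpowers y := by rwa [zpowers_eq_of_mem hp hP hy hy1]
    obtain ⟨k, rfl⟩ := mem_zpowers_iff.1 hx'
    exact ((Commute.refl y).zpow_left k).eq

/-- An element commuting with one nontrivial element of `P` centralizes `P`. -/
theorem mem_centralizer_of_comm (hp : p.Prime) (hP : Nat.card P = p) {x y : G} (hy : y ∈ P)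
    (hy1 : y ≠ 1) (hxy : x * y = y * x) : x ∈ centralizer (P : Set G) := by
  rw [← zpowers_eq_of_mem hp hP hy hy1, mem_centralizer_iff]
  rintro z hz
  obtain ⟨k, rfl⟩ := mem_zpowers_iff.1 hz
  exact (Commute.zpow_left (show y * x = x * y from hxy.symm) k).eq

/-- An element conjugating one nontrivial element of `P` into `P` normalizes `P`. -/
theorem mem_normalizer_of_conj_mem (hp : p.Prime) (hP : Nat.card P = p) {x y : G} (hy : y ∈ P)
    (hy1 : y ≠ 1) (hxy : x * y * x⁻¹ ∈ P) : x ∈ normalizer (P : Set G) := by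
  have hne : x * y * x⁻¹ ≠ 1 := by
    intro h
    apply hy1
    rw [mul_inv_eq_one] at h
    exact mul_eq_left.1 h
  have h1 : P.map (MulAut.conj x).toMonoidHom = P := by
    conv_lhs => rw [← zpowers_eq_of_mem hp hP hy hy1]
    rw [MonoidHom.map_zpowers]
    exact zpowers_eq_of_mem hp hP hxy hne
  rw [mem_normalizer_iff]
  intro z
  constructor
  · intro hz
    rw [← h1]
    exact ⟨z, hz, rfl⟩
  · intro hz
    have hz' : x * z * x⁻¹ ∈ P.map (MulAut.conj x).toMonoidHom := by rw [h1]; exact hz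
    obtain ⟨w, hw, hw2⟩ := hz'
    have : x * w * x⁻¹ = x * z * x⁻¹ := hw2
    have h2 : w = z := by
      have := mul_left_cancel (mul_right_cancel this)
      exact this
    rwa [← h2]

/-- odd order: no element of `P` has order two -/
theorem sq_ne_one_of_mem (hp : p.Prime) (hp2 : p ≠ 2) (hP : Nat.card P = p) {y : G} (hy : y ∈ P)
    (hsq : y ^ 2 = 1) : y = 1 := by
  have hfin : Finite P := Nat.finite_of_card_ne_zero (by rw [hP]; exact hp.ne_zero)
  have h1 : orderOf y ∣ p := by
    have := orderOf_dvd_natCard (⟨y, hy⟩ : P)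
    rwa [hP, Subgroup.orderOf_mk] at this
  have h2 : orderOf y ∣ 2 := orderOf_dvd_of_pow_eq_one hsq
  rw [← orderOf_eq_one_iff]
  rcases (Nat.dvd_prime hp).1 h1 with h | h
  · exact h
  · rcases (Nat.dvd_prime Nat.prime_two).1 h2 with h' | h'
    · exact h'
    · exact absurd (h.symm.trans h') hp2

/-- square roots in `P` -/
theorem exists_sq_eq (hp : p.Prime) (hp2 : p ≠ 2) (hP : Nat.card P = p) {y : G} (hy : y ∈ P) :
    ∃ w ∈ P, w ^ 2 = y := by
  have hfin : Finite P := Nat.finite_of_card_ne_zero (by rw [hP]; exact hp.ne_zero)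
  have h1 : y ^ p = 1 := by
    have := pow_card_eq_one' (x := (⟨y, hy⟩ : P))
    rw [hP] at this
    simpa [Subtype.ext_iff] using this
  obtain ⟨k, hk⟩ := hp.odd_of_ne_two hp2
  refine ⟨y ^ (k + 1), P.pow_mem hy _, ?_⟩
  rw [← pow_mul, show (k + 1) * 2 = p + 1 by omega, pow_add, h1, pow_one, one_mul]

variable (hp : p.Prime) (hp2 : p ≠ 2) (hP : Nat.card P = p)
  (hC : centralizer (P : Set G) = P) (hN : Nat.card (normalizer (P : Set G)) = 2 * p)

include hp hP hN

theorem index_eq_two : (P.subgroupOf (normalizer (P : Set G))).index = 2 := by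
  have hfin : Finite (normalizer (P : Set G)) :=
    Nat.finite_of_card_ne_zero (by rw [hN]; exact mul_ne_zero two_ne_zero hp.ne_zero)
  have h1 := (P.subgroupOf (normalizer (P : Set G))).card_mul_index
  rw [hN] at h1
  have h2 : Nat.card (P.subgroupOf (normalizer (P : Set G))) = p := by
    rw [← hP]
    exact Nat.card_congr (subgroupOfEquivOfLe le_normalizer).toEquiv
  rw [h2, mul_comm 2 p] at h1
  exact Nat.eq_of_mul_eq_mul_left hp.pos h1

theorem mul_mem_iff' {x y : G} (hx : x ∈ normalizer (P : Set G)) (hy : y ∈ normalizer (P : Set G)) :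
    x * y ∈ P ↔ (x ∈ P ↔ y ∈ P) := by
  have h := Subgroup.mul_mem_iff_of_index_two (index_eq_two hp hP hN)
    (a := (⟨x, hx⟩ : normalizer (P : Set G))) (b := ⟨y, hy⟩)
  simpa [mem_subgroupOf] using h

theorem sq_mem {x : G} (hx : x ∈ normalizer (P : Set G)) : x * x ∈ P := by
  rw [mul_mem_iff' hp hP hN hx hx]

include hC

/-- Every element of `N(P) \ P` inverts `P`. -/
theorem conj_eq_inv {x y : G} (hx : x ∈ normalizer (P : Set G)) (hxP : x ∉ P) (hy : y ∈ P) :
    x * y * x⁻¹ = y⁻¹ := by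
  have h1 : x * y * x⁻¹ ∈ P := (mem_normalizer_iff.1 hx y).1 hy
  have hxx : x * x ∈ P := sq_mem hp hP hN hx
  by_contra hne
  have hw1 : y * (x * y * x⁻¹) ≠ 1 := by
    intro h
    apply hne
    exact (inv_eq_of_mul_eq_one_right h).symm
  apply hxP
  rw [← hC]
  refine mem_centralizer_of_comm hp hP (P.mul_mem hy h1) hw1 ?_
  have h2 : x * x * y = y * (x * x) := comm_of_mem hp hP hxx hy
  have h3 : x * (y * (x * y * x⁻¹)) * x⁻¹ = y * (x * y * x⁻¹) := by
    calc x * (y * (x * y * x⁻¹)) * x⁻¹ = (x * y * x⁻¹) * ((x * x * y) * (x * x)⁻¹) := by group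
      _ = (x * y * x⁻¹) * y := by rw [h2]; group
      _ = y * (x * y * x⁻¹) := comm_of_mem hp hP h1 hy
  calc x * (y * (x * y * x⁻¹)) = x * (y * (x * y * x⁻¹)) * x⁻¹ * x := by group
    _ = y * (x * y * x⁻¹) * x := by rw [h3]

include hp2

/-- Every element of `N(P) \ P` is an involution. -/
theorem sq_eq_one {x : G} (hx : x ∈ normalizer (P : Set G)) (hxP : x ∉ P) : x ^ 2 = 1 := by
  have hxx : x * x ∈ P := sq_mem hp hP hN hx
  have h1 := conj_eq_inv hp hP hC hN hx hxP hxx
  have h2 : x * (x * x) * x⁻¹ = x * x := by group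
  rw [h2] at h1
  have h3 : (x * x) ^ 2 = 1 := by
    rw [pow_two]
    nth_rewrite 1 [h1]
    exact inv_mul_cancel _
  have := sq_ne_one_of_mem hp hp2 hP hxx h3
  rw [pow_two]; exact this

theorem orderOf_eq_two {x : G} (hx : x ∈ normalizer (P : Set G)) (hxP : x ∉ P) :
    orderOf x = 2 :=
  orderOf_eq_prime (sq_eq_one hp hp2 hP hC hN hx hxP) (fun h => hxP (h ▸ P.one_mem))

/-- Elements of order two of `N(P)` are exactly the elements outside `P`. -/
theorem orderOf_eq_two_iff {x : G} (hx : x ∈ normalizer (P : Set G)) :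
    orderOf x = 2 ↔ x ∉ P := by
  refine ⟨fun h hxP => ?_, fun h => orderOf_eq_two hp hp2 hP hC hN hx h⟩
  have h1 : x ^ 2 = 1 := h ▸ pow_orderOf_eq_one x
  have := sq_ne_one_of_mem hp hp2 hP hxP h1
  rw [this, orderOf_one] at h
  exact absurd h (by norm_num)

/-- Any two elements of `N(P) \ P` are conjugate. -/
theorem isConj_of_mem {x x' : G} (hx : x ∈ normalizer (P : Set G)) (hxP : x ∉ P)
    (hx' : x' ∈ normalizer (P : Set G)) (hxP' : x' ∉ P) : IsConj x x' := by
  have h1 : x⁻¹ * x' ∈ P := by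
    rw [mul_mem_iff' hp hP hN (inv_mem hx) hx']
    constructor
    · intro h; exact absurd ((inv_mem_iff).1 h) hxP
    · intro h; exact absurd h hxP'
  obtain ⟨w, hw, hw2⟩ := exists_sq_eq hp hp2 hP h1
  rw [isConj_iff]
  refine ⟨w⁻¹, ?_⟩
  have h2 : x * w * x⁻¹ = w⁻¹ := conj_eq_inv hp hP hC hN hx hxP hw
  calc w⁻¹ * x * w⁻¹⁻¹ = (x * w * x⁻¹) * x * w := by rw [h2, inv_inv]
    _ = x * w ^ 2 := by rw [pow_two]; group
    _ = x' := by rw [hw2]; group

omit hp2 hC in
/-- The set `N(P) \ P` has `p` elements. -/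
theorem card_diff : Nat.card {x : G // x ∈ normalizer (P : Set G) ∧ x ∉ P} = p := by
  have hfin : Finite (normalizer (P : Set G)) :=
    Nat.finite_of_card_ne_zero (by rw [hN]; exact mul_ne_zero two_ne_zero hp.ne_zero)
  have hf2 : Finite P := Nat.finite_of_card_ne_zero (by rw [hP]; exact hp.ne_zero)
  classical
  have e : (normalizer (P : Set G)) ≃ P ⊕ {x : G // x ∈ normalizer (P : Set G) ∧ x ∉ P} :=
    { toFun := fun x => if h : (x : G) ∈ P then Sum.inl ⟨x, h⟩ else Sum.inr ⟨x, x.2, h⟩
      invFun := fun s => Sum.elim (fun y => ⟨y.1, le_normalizer y.2⟩) (fun y => ⟨y.1, y.2.1⟩) s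
      left_inv := by
        intro x
        by_cases h : (x : G) ∈ P
        · simp [h]
        · simp [h]
      right_inv := by
        rintro (⟨y, hy⟩ | ⟨y, hy⟩)
        · simp [hy]
        · simp [hy.2] }
  have hf3 : Finite {x : G // x ∈ normalizer (P : Set G) ∧ x ∉ P} :=
    Finite.of_injective (β := normalizer (P : Set G)) (fun x => ⟨x.1, x.2.1⟩)
      (fun x y h => Subtype.ext (congrArg (fun z : normalizer (P : Set G) => (z : G)) h))
  have h1 := Nat.card_congr e
  rw [Nat.card_sum, hN, hP] at h1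
  omega

end Cfsg.Agent.SmallSimple.DihedralNormGroup
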