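import Mathlib
import Cfsg.Prelude.Def_Characters
import Cfsg.Agent.Characters.Core

/-!
# Generalized characters of small norm containing the principal character once
-/

set_option autoImplicit false

namespace Cfsg.Agent.SmallSimple.NormThree

open Cfsg Cfsg.Agent.Characters.Core

variable {G : Type*} [Group G]

/-- A generalized character `Θ` with `(Θ,1) = 1`, `(Θ,Θ) = 3` and `Θ(1) = 0` has the form
`1 + α - β` with `α`, `β` distinct nonprincipal irreducible characters. -/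
theorem exists_of_norm_three [Fintype G] {Θ : G → ℂ} (hΘ : IsGeneralizedCharacter G Θ)
    (h1 : classInner Θ 1 = 1) (h3 : classInner Θ Θ = 3) (h0 : Θ 1 = 0) :
    ∃ α β : G → ℂ, IsIrrCharacter G α ∧ IsIrrCharacter G β ∧ α ≠ 1 ∧ β ≠ 1 ∧ α ≠ β ∧
      Θ = 1 + α - β := by
  classical
  have := finite_irr (G := G)
  have := Fintype.ofFinite (IrrCharacter G)
  obtain ⟨m, hm⟩ := isGeneralizedCharacter_iff.1 hΘ
  let ψ₀ : IrrCharacter G := ⟨1, isIrr_one⟩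
  have hm1 : m ψ₀ = 1 := by
    have h := classInner_sum_zsmul_irr m ψ₀
    rw [← hm] at h
    have h' : classInner Θ 1 = (m ψ₀ : ℂ) := h
    rw [h1] at h'
    exact_mod_cast h'.symm
  have hsum : ∑ ψ : IrrCharacter G, m ψ ^ 2 = 3 := by
    have h := classInner_sum_smul_sum_smul (fun ψ : IrrCharacter G => (m ψ : ℂ))
      (fun ψ => (m ψ : ℂ))
    simp only [Int.cast_smul_eq_zsmul] at h
    rw [← hm, h3] at h
    simp only [map_intCast, ← pow_two] at h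
    exact_mod_cast h.symm
  rw [← Finset.add_sum_erase Finset.univ _ (Finset.mem_univ ψ₀), hm1] at hsum
  have hs2 : ∑ ψ ∈ Finset.univ.erase ψ₀, m ψ ^ 2 = 2 := by linarith
  obtain ⟨ψ₁, hψ₁, hmψ₁⟩ : ∃ ψ ∈ Finset.univ.erase ψ₀, m ψ ^ 2 ≠ 0 := by
    by_contra hc
    push Not at hc
    rw [Finset.sum_eq_zero hc] at hs2
    norm_num at hs2
  rw [← Finset.add_sum_erase _ _ hψ₁] at hs2
  have hnn : 0 ≤ ∑ ψ ∈ (Finset.univ.erase ψ₀).erase ψ₁, m ψ ^ 2 :=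
    Finset.sum_nonneg fun _ _ => sq_nonneg _
  have hsq1 : m ψ₁ ^ 2 = 1 := by
    have hle : m ψ₁ ^ 2 ≤ 2 := by linarith
    have h4 : m ψ₁ < 2 := by nlinarith
    have h5 : -2 < m ψ₁ := by nlinarith
    have h6 : m ψ₁ ≠ 0 := fun h => hmψ₁ (by rw [h]; norm_num)
    have h7 : m ψ₁ = 1 ∨ m ψ₁ = -1 := by omega
    rcases h7 with h7 | h7 <;> rw [h7] <;> norm_num
  have hs3 : ∑ ψ ∈ (Finset.univ.erase ψ₀).erase ψ₁, m ψ ^ 2 = 1 := by linarith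
  obtain ⟨ψ₂, hψ₂, hmψ₂⟩ : ∃ ψ ∈ (Finset.univ.erase ψ₀).erase ψ₁, m ψ ^ 2 ≠ 0 := by
    by_contra hc
    push Not at hc
    rw [Finset.sum_eq_zero hc] at hs3
    norm_num at hs3
  rw [← Finset.add_sum_erase _ _ hψ₂] at hs3
  have hnn2 : 0 ≤ ∑ ψ ∈ ((Finset.univ.erase ψ₀).erase ψ₁).erase ψ₂, m ψ ^ 2 :=
    Finset.sum_nonneg fun _ _ => sq_nonneg _
  have hpos2 : 0 < m ψ₂ ^ 2 := lt_of_le_of_ne (sq_nonneg _) (Ne.symm hmψ₂)
  have hsq2 : m ψ₂ ^ 2 = 1 := by omega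
  have hs4 : ∑ ψ ∈ ((Finset.univ.erase ψ₀).erase ψ₁).erase ψ₂, m ψ ^ 2 = 0 := by linarith
  have hzero : ∑ ψ ∈ ((Finset.univ.erase ψ₀).erase ψ₁).erase ψ₂, m ψ • (ψ : G → ℂ) = 0 := by
    apply Finset.sum_eq_zero
    intro ψ hψ
    rw [Finset.sum_eq_zero_iff_of_nonneg (fun _ _ => sq_nonneg _)] at hs4
    have := hs4 ψ hψ
    rw [pow_eq_zero_iff (by norm_num)] at this
    rw [this, zero_smul]
  have hform : Θ = (1 : G → ℂ) + m ψ₁ • (ψ₁ : G → ℂ) + m ψ₂ • (ψ₂ : G → ℂ) := by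
    rw [hm, ← Finset.add_sum_erase Finset.univ _ (Finset.mem_univ ψ₀), hm1, one_smul,
      ← Finset.add_sum_erase _ _ hψ₁, ← Finset.add_sum_erase _ _ hψ₂, hzero, add_zero, add_assoc]
  obtain ⟨d₁, hd₁, he₁⟩ := isIrr_apply_one ψ₁.2
  obtain ⟨d₂, hd₂, he₂⟩ := isIrr_apply_one ψ₂.2
  have hval : (0 : ℤ) = 1 + m ψ₁ * d₁ + m ψ₂ * d₂ := by
    have h := congrFun hform 1
    rw [h0] at h
    simp only [Pi.add_apply, Pi.one_apply, Pi.smul_apply] at h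
    rw [he₁, he₂, zsmul_eq_mul, zsmul_eq_mul] at h
    exact_mod_cast h
  have hne1 : (ψ₁ : G → ℂ) ≠ 1 := fun h => (Finset.mem_erase.1 hψ₁).1 (Subtype.ext h)
  have hψ₂' := Finset.mem_erase.1 hψ₂
  have hne2 : (ψ₂ : G → ℂ) ≠ 1 := fun h => (Finset.mem_erase.1 hψ₂'.2).1 (Subtype.ext h)
  have hne12 : (ψ₁ : G → ℂ) ≠ ψ₂ := fun h => hψ₂'.1 (Subtype.ext h.symm)
  have hc1 : m ψ₁ = 1 ∨ m ψ₁ = -1 := mul_self_eq_one_iff.mp ((pow_two _).symm.trans hsq1)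
  have hc2 : m ψ₂ = 1 ∨ m ψ₂ = -1 := mul_self_eq_one_iff.mp ((pow_two _).symm.trans hsq2)
  rcases hc1 with hc1 | hc1 <;> rcases hc2 with hc2 | hc2
  · exfalso; rw [hc1, hc2] at hval; omega
  · refine ⟨ψ₁, ψ₂, ψ₁.2, ψ₂.2, hne1, hne2, hne12, ?_⟩
    rw [hform, hc1, hc2, one_smul, neg_smul, one_smul, sub_eq_add_neg]
  · refine ⟨ψ₂, ψ₁, ψ₂.2, ψ₁.2, hne2, hne1, hne12.symm, ?_⟩
    rw [hform, hc1, hc2, one_smul, neg_smul, one_smul, sub_eq_add_neg, add_right_comm]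
  · exfalso; rw [hc1, hc2] at hval; omega

end Cfsg.Agent.SmallSimple.NormThree
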