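import Mathlib
import Cfsg.Prelude.Def_Characters
import Cfsg.Agent.Characters.Core
import Cfsg.Agent.Characters.Linear
import Cfsg.Agent.S0146
import Cfsg.Agent.S0148
import Cfsg.Agent.SmallSimple.DihedralNormGroup
import Cfsg.Agent.SmallSimple.NormThree

/-!
# The exceptional character relation for a self-centralizing subgroup `P` of odd prime order
with `|N(P)| = 2p`

`Θ = Ind_P^G (1 - μ)` (`μ` a faithful linear character of `P`) has norm 3, so that
`Θ = 1 + α - β` with irreducible `α`, `β`.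
-/

set_option autoImplicit false

namespace Cfsg.Agent.SmallSimple.DihedralNormChar

open Subgroup Cfsg Cfsg.Agent.Characters.Core Cfsg.Agent.SmallSimple.DihedralNormGroup
open scoped ComplexConjugate

universe u

variable {G : Type u} [Group G] {p : ℕ} {P : Subgroup G}

/-- A group of prime order has a faithful linear character. -/
theorem exists_faithful_linear {P : Type*} [Group P] (hp : p.Prime) (hP : Nat.card P = p) :
    ∃ μ : P →* ℂˣ, ∀ x : P, μ x = 1 → x = 1 := by
  have := Fact.mk hp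
  have : Finite P := Nat.finite_of_card_ne_zero (by rw [hP]; exact hp.ne_zero)
  have : IsCyclic P := isCyclic_of_prime_card hP
  obtain ⟨g, hg⟩ := IsCyclic.exists_generator (α := P)
  have hprim : IsPrimitiveRoot (Complex.exp (2 * Real.pi * Complex.I / p)) p :=
    Complex.isPrimitiveRoot_exp p hp.ne_zero
  obtain ⟨ζ, hζ⟩ := hprim.isUnit hp.ne_zero
  have hζp : IsPrimitiveRoot ζ p := by
    rw [← hζ] at hprim
    exact IsPrimitiveRoot.coe_units_iff.1 hprim
  have hord : orderOf ζ = p := hζp.eq_orderOf.symm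
  have hgord : orderOf g = p := by
    rw [← hP]; exact orderOf_eq_card_of_forall_mem_zpowers hg
  refine ⟨monoidHomOfForallMemZpowers hg (g' := ζ) (by rw [hord, hgord]), fun x hx => ?_⟩
  obtain ⟨k, rfl⟩ := mem_zpowers_iff.1 (hg x)
  rw [map_zpow, monoidHomOfForallMemZpowers_apply_gen] at hx
  rw [← orderOf_dvd_iff_zpow_eq_one, hgord]
  rwa [← orderOf_dvd_iff_zpow_eq_one, hord] at hx

variable (hp : p.Prime) (hp2 : p ≠ 2) (hP : Nat.card P = p)
  (hC : centralizer (P : Set G) = P) (hN : Nat.card (normalizer (P : Set G)) = 2 * p)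

/-- The function `1 - μ` on `P`. -/
noncomputable def baseFun {P : Type*} [Group P] (μ : P →* ℂˣ) : P → ℂ := fun x => 1 - (μ x : ℂ)

theorem baseFun_apply {P : Type*} [Group P] (μ : P →* ℂˣ) (x : P) :
    baseFun μ x = 1 - (μ x : ℂ) := rfl

theorem baseFun_one {P : Type*} [Group P] (μ : P →* ℂˣ) : baseFun μ 1 = 0 := by
  rw [baseFun_apply, map_one, Units.val_one, sub_self]

section ind

variable [Fintype G] (μ : P →* ℂˣ)

theorem indFun_sub (θ η : P → ℂ) : indFun P (θ - η) = indFun P θ - indFun P η := by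
  funext g
  simp only [indFun_apply, Pi.sub_apply, ← mul_sub, ← Finset.sum_sub_distrib]
  congr 1
  refine Finset.sum_congr rfl fun x _ => ?_
  by_cases h : x⁻¹ * g * x ∈ P
  · rw [extendByZero_of_mem _ _ h, extendByZero_of_mem _ _ h, extendByZero_of_mem _ _ h]; rfl
  · rw [extendByZero_of_notMem _ _ h, extendByZero_of_notMem _ _ h, extendByZero_of_notMem _ _ h,
      sub_zero]

theorem isGeneralizedCharacter_ind : IsGeneralizedCharacter G (indFun P (baseFun μ)) := by
  refine ⟨indFun P 1, indFun P (fun x => (μ x : ℂ)), ?_, ?_, ?_⟩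
  · exact Cfsg.Agent.S0148.result P 1 isCharacter_one
  · exact Cfsg.Agent.S0148.result P _ (Cfsg.Agent.Characters.Linear.isCharacter_hom μ)
  · rw [← indFun_sub]; rfl

/-- The induced function vanishes off the conjugates of the nontrivial elements of `P`. -/
theorem ind_eq_zero {g : G} (hg : ∀ x : G, x⁻¹ * g * x ∈ P → x⁻¹ * g * x = 1) :
    indFun P (baseFun μ) g = 0 := by
  rw [indFun_apply]
  rw [Finset.sum_eq_zero, mul_zero]
  intro x _
  by_cases h : x⁻¹ * g * x ∈ P
  · have h1 := hg x h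
    rw [extendByZero_of_mem _ _ h]
    have : (⟨x⁻¹ * g * x, h⟩ : P) = 1 := Subtype.ext h1
    rw [this, baseFun_one]
  · rw [extendByZero_of_notMem _ _ h]

theorem ind_one : indFun P (baseFun μ) 1 = 0 :=
  ind_eq_zero μ (fun x _ => by group)

omit [Fintype G] in
theorem conj_hom [Finite P] (x : P) : conj (μ x : ℂ) = ((μ x : ℂ))⁻¹ := by
  have h := Cfsg.Agent.Characters.Linear.norm_hom_apply μ x
  rw [Complex.inv_def, Complex.normSq_eq_norm_sq, h]
  simp

omit [Fintype G] in
theorem sum_hom_eq_zero [Fintype P] (f : P →* ℂˣ) (hf : ∃ x, f x ≠ 1) :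
    ∑ x : P, (f x : ℂ) = 0 := by
  obtain ⟨x, hx⟩ := hf
  have h : (Units.coeHom ℂ).comp f ≠ 1 := by
    intro h
    apply hx
    have := DFunLike.congr_fun h x
    exact Units.ext this
  exact sum_hom_units_eq_zero _ h

include hp hP hC hN in
theorem ind_of_mem {g : G} (hg : g ∈ P) (hg1 : g ≠ 1) :
    indFun P (baseFun μ) g = 2 - (μ ⟨g, hg⟩ : ℂ) - ((μ ⟨g, hg⟩ : ℂ))⁻¹ := by
  classical
  rw [indFun_apply]
  set A : ℂ := 1 - (μ ⟨g, hg⟩ : ℂ) with hA
  set B : ℂ := 1 - ((μ ⟨g, hg⟩ : ℂ))⁻¹ with hB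
  have key : ∀ x : G, extendByZero P (baseFun μ) (x⁻¹ * g * x) =
      (if x ∈ P then A else 0) + (if x ∈ normalizer (P : Set G) ∧ x ∉ P then B else 0) := by
    intro x
    by_cases hxP : x ∈ P
    · have h1 : x⁻¹ * g * x = g := by
        rw [mul_assoc, comm_of_mem hp hP hg hxP, inv_mul_cancel_left]
      rw [h1, if_pos hxP, if_neg (fun h => h.2 hxP), add_zero, extendByZero_of_mem _ _ hg,
        baseFun_apply]
    · by_cases hxN : x ∈ normalizer (P : Set G)
      · have h1 : x⁻¹ * g * x = g⁻¹ := by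
          have := conj_eq_inv hp hP hC hN (inv_mem hxN) (fun h => hxP (inv_mem_iff.1 h)) hg
          rwa [inv_inv] at this
        rw [h1, if_neg hxP, if_pos ⟨hxN, hxP⟩, zero_add, extendByZero_of_mem _ _ (P.inv_mem hg),
          baseFun_apply]
        have : (⟨g⁻¹, P.inv_mem hg⟩ : P) = (⟨g, hg⟩ : P)⁻¹ := rfl
        rw [this, map_inv, Units.val_inv_eq_inv_val]
      · rw [if_neg hxP, if_neg (fun h => hxN h.1), add_zero]
        apply extendByZero_of_notMem
        intro h
        apply hxN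
        have h2 : x⁻¹ ∈ normalizer (P : Set G) :=
          mem_normalizer_of_conj_mem hp hP hg hg1 (by rwa [inv_inv])
        exact inv_mem_iff.1 h2
  rw [Finset.sum_congr rfl fun x _ => key x, Finset.sum_add_distrib, ← Finset.sum_filter,
    ← Finset.sum_filter, Finset.sum_const, Finset.sum_const]
  have e1 : (Finset.univ.filter (fun x : G => x ∈ P)).card = p := by
    rw [← hP, Nat.card_eq_fintype_card, Fintype.card_subtype]
  have e2 : (Finset.univ.filter
      (fun x : G => x ∈ normalizer (P : Set G) ∧ x ∉ P)).card = p := by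
    have := card_diff hp hP hN
    rwa [Nat.card_eq_fintype_card, Fintype.card_subtype] at this
  rw [e1, e2, hP, nsmul_eq_mul, nsmul_eq_mul]
  have hp0 : (p : ℂ) ≠ 0 := by exact_mod_cast hp.ne_zero
  rw [← mul_add, ← mul_assoc, inv_mul_cancel₀ hp0, one_mul, hA, hB]
  ring

include hp hP hC hN in
theorem ind_of_mem' (x : P) :
    indFun P (baseFun μ) (x : G) = 2 - (μ x : ℂ) - ((μ x : ℂ))⁻¹ := by
  by_cases h : (x : G) = 1
  · have hx : x = 1 := Subtype.ext h
    rw [hx, Subgroup.coe_one, ind_one, map_one, Units.val_one, inv_one]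
    norm_num
  · exact ind_of_mem hp hP hC hN μ x.2 h

include hp hP in
theorem classInner_ind_one (hμ : ∀ x : P, μ x = 1 → x = 1) :
    classInner (indFun P (baseFun μ)) 1 = 1 := by
  classical
  rw [Cfsg.Agent.S0146.result P (baseFun μ) 1 (isIrr_isClassFunction isIrr_one), classInner_def]
  have : Nontrivial P := by
    rw [← Finite.one_lt_card_iff_nontrivial, hP]; exact hp.one_lt
  obtain ⟨y, hy⟩ := exists_ne (1 : P)
  simp only [Pi.one_apply, map_one, mul_one, baseFun_apply, Finset.sum_sub_distrib]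
  rw [sum_hom_eq_zero μ ⟨y, fun h => hy (hμ y h)⟩, Finset.sum_const, Finset.card_univ,
    ← Nat.card_eq_fintype_card, nsmul_eq_mul, mul_one, sub_zero]
  apply inv_mul_cancel₀
  rw [hP]; exact_mod_cast hp.ne_zero

include hp hp2 hP hC hN in
theorem classInner_ind_self (hμ : ∀ x : P, μ x = 1 → x = 1) :
    classInner (indFun P (baseFun μ)) (indFun P (baseFun μ)) = 3 := by
  classical
  have hcf : IsClassFunction G (indFun P (baseFun μ)) := by
    obtain ⟨χ, ψ, h1, h2, h3⟩ := isGeneralizedCharacter_ind μ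
    rw [h3]
    intro g h
    rw [Pi.sub_apply, Pi.sub_apply, isCharacter_isClassFunction h1, isCharacter_isClassFunction h2]
  rw [Cfsg.Agent.S0146.result P (baseFun μ) _ hcf, classInner_def]
  have : Nontrivial P := by
    rw [← Finite.one_lt_card_iff_nontrivial, hP]; exact hp.one_lt
  obtain ⟨y, hy⟩ := exists_ne (1 : P)
  have key : ∀ x : P, baseFun μ x * conj (indFun P (baseFun μ) (x : G)) =
      3 - 3 * (μ x : ℂ) - ((μ⁻¹ x : ℂˣ) : ℂ) + (((μ ^ 2) x : ℂˣ) : ℂ) := by
    intro x
    have hne : (μ x : ℂ) ≠ 0 := Units.ne_zero _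
    rw [ind_of_mem' hp hP hC hN μ x, baseFun_apply, map_sub, map_sub, map_inv₀, conj_hom,
      inv_inv, map_ofNat, MonoidHom.inv_apply, MonoidHom.pow_apply, Units.val_inv_eq_inv_val,
      Units.val_pow_eq_pow_val]
    field_simp
    ring
  rw [Finset.sum_congr rfl fun x _ => key x]
  rw [Finset.sum_add_distrib, Finset.sum_sub_distrib, Finset.sum_sub_distrib, ← Finset.mul_sum,
    sum_hom_eq_zero μ ⟨y, fun h => hy (hμ y h)⟩, sum_hom_eq_zero μ⁻¹ ⟨y, fun h => ?_⟩,
    sum_hom_eq_zero (μ ^ 2) ⟨y, fun h => ?_⟩, Finset.sum_const, Finset.card_univ,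
    ← Nat.card_eq_fintype_card, nsmul_eq_mul, mul_zero, sub_zero, sub_zero, add_zero,
    ← mul_assoc, inv_mul_cancel₀, one_mul]
  · rw [hP]; exact_mod_cast hp.ne_zero
  · rw [MonoidHom.pow_apply, ← map_pow] at h
    have h1 := hμ _ h
    have h2 : (y : G) ^ 2 = 1 := by
      have := congrArg (fun z : P => (z : G)) h1
      simpa using this
    exact hy (Subtype.ext (sq_ne_one_of_mem hp hp2 hP y.2 h2))
  · rw [MonoidHom.inv_apply, inv_eq_one] at h
    exact hy (hμ y h)

end ind

/-- **Main relation**: there are distinct nonprincipal irreducible characters `α`, `β` such that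
`1 + α - β` vanishes off the conjugates of `P \ {1}`, and its sum over `G` is `|G|`. -/
theorem exists_characters [Fintype G] (hp : p.Prime) (hp2 : p ≠ 2) (hP : Nat.card P = p)
    (hC : centralizer (P : Set G) = P) (hN : Nat.card (normalizer (P : Set G)) = 2 * p) :
    ∃ α β : G → ℂ, IsIrrCharacter G α ∧ IsIrrCharacter G β ∧ α ≠ 1 ∧ β ≠ 1 ∧ α ≠ β ∧
      (∀ g : G, (∀ x : G, x⁻¹ * g * x ∈ P → x⁻¹ * g * x = 1) → 1 + α g = β g) ∧
      β 1 = α 1 + 1 ∧ ∑ g : G, (1 + α g - β g) = Nat.card G := by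
  obtain ⟨μ, hμ⟩ := exists_faithful_linear hp hP
  have h1 := classInner_ind_one hp hP μ hμ
  obtain ⟨α, β, hα, hβ, hα1, hβ1, hαβ, hΘ⟩ := NormThree.exists_of_norm_three
    (isGeneralizedCharacter_ind μ) h1
    (classInner_ind_self hp hp2 hP hC hN μ hμ) (ind_one μ)
  have hv : ∀ g : G, (∀ x : G, x⁻¹ * g * x ∈ P → x⁻¹ * g * x = 1) → 1 + α g = β g := by
    intro g hg
    have h := ind_eq_zero μ hg
    rw [hΘ] at h
    simp only [Pi.add_apply, Pi.sub_apply, Pi.one_apply] at h
    exact sub_eq_zero.1 h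
  refine ⟨α, β, hα, hβ, hα1, hβ1, hαβ, hv, ?_, ?_⟩
  · rw [← hv 1 (fun x _ => by group), add_comm]
  · rw [hΘ, classInner_def] at h1
    simp only [Pi.add_apply, Pi.sub_apply, Pi.one_apply, map_one, mul_one] at h1
    have h2 := congrArg (fun z => (Nat.card G : ℂ) * z) h1
    simp only [mul_one] at h2
    rw [← mul_assoc, mul_inv_cancel₀ card_ne_zero_complex, one_mul] at h2
    exact h2

end Cfsg.Agent.SmallSimple.DihedralNormChar
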