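import Mathlib

/-!
# Faithful actions on `p + 1` points: a subgroup of prime order `p` contains its centralizer
-/

set_option autoImplicit false

namespace Cfsg.Agent.SmallSimple.DegreeSucc

open Subgroup MulAction

/-- A simple group acts faithfully on the cosets of a proper subgroup. -/
theorem faithful_quotient {G : Type*} [Group G] [IsSimpleGroup G] (H : Subgroup G) (hH : H ≠ ⊤) :
    ∀ g : G, (∀ x : G ⧸ H, g • x = x) → g = 1 := by
  intro g hg
  have hker : H.normalCore = ⊥ := by
    rcases (inferInstance : H.normalCore.Normal).eq_bot_or_eq_top with h | h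
    · exact h
    · exfalso
      apply hH
      rw [eq_top_iff, ← h]
      exact H.normalCore_le
  have h1 : g ∈ H.normalCore := by
    rw [Subgroup.normalCore_eq_ker, MonoidHom.mem_ker]
    ext x
    exact hg x
  rw [hker] at h1
  exact Subgroup.mem_bot.1 h1

/-- A group acting faithfully on `p + 1` points: a subgroup of prime order `p` contains its
centralizer. -/
theorem centralizer_le {G X : Type*} [Group G] [MulAction G X] [Finite X]
    (hf : ∀ g : G, (∀ x : X, g • x = x) → g = 1) {p : ℕ} (hp : p.Prime) (P : Subgroup G)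
    (hP : Nat.card P = p) (hX : Nat.card X = p + 1) : centralizer (P : Set G) ≤ P := by
  classical
  have := Fact.mk hp
  have hPg : IsPGroup p P := IsPGroup.of_card (n := 1) (by rw [hP, pow_one])
  have h1 := hPg.card_modEq_card_fixedPoints X
  rw [hX] at h1
  have hle : Nat.card (fixedPoints P X) ≤ p + 1 := by
    rw [← hX]
    exact Nat.card_le_card_of_injective (fun x : fixedPoints P X => x.1) Subtype.val_injective
  have hmod : Nat.card (fixedPoints P X) % p = 1 := by
    have h2 : (p + 1) % p = Nat.card (fixedPoints P X) % p := h1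
    rw [← h2, Nat.add_mod_left, Nat.mod_eq_of_lt hp.one_lt]
  have hne : Nat.card (fixedPoints P X) ≠ p + 1 := by
    intro h
    have hall : ∀ x : X, x ∈ fixedPoints P X := by
      intro x
      have h3 : Function.Surjective (fun x : fixedPoints P X => x.1) := by
        have h4 : Function.Bijective (fun x : fixedPoints P X => x.1) := by
          rw [Nat.bijective_iff_injective_and_card]
          exact ⟨Subtype.val_injective, by rw [h, hX]⟩
        exact h4.2
      obtain ⟨y, rfl⟩ := h3 x
      exact y.2
    have hbot : P = ⊥ := by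
      rw [eq_bot_iff]
      intro g hg
      rw [Subgroup.mem_bot]
      apply hf
      intro x
      exact hall x ⟨g, hg⟩
    rw [hbot, Subgroup.card_bot] at hP
    exact hp.one_lt.ne hP
  have hone : Nat.card (fixedPoints P X) = 1 := by
    have h3 := Nat.div_add_mod (Nat.card (fixedPoints P X)) p
    rw [hmod] at h3
    generalize Nat.card (fixedPoints P X) / p = k at h3
    have hp2 := hp.two_le
    have hk2 : k < 2 := by
      by_contra hk2
      push Not at hk2
      have : p * 2 ≤ p * k := Nat.mul_le_mul_left p hk2
      linarith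
    have hk01 : k = 0 ∨ k = 1 := by omega
    rcases hk01 with h | h
    · rw [h, mul_zero, zero_add] at h3; exact h3.symm
    · rw [h, mul_one] at h3; exact absurd h3.symm hne
  obtain ⟨x₀, hx₀⟩ : ∃ x₀ : X, ∀ x : X, x ∈ fixedPoints P X ↔ x = x₀ := by
    rw [Nat.card_eq_one_iff_exists] at hone
    obtain ⟨⟨x₀, h0⟩, h1⟩ := hone
    refine ⟨x₀, fun x => ⟨fun h => ?_, fun h => h ▸ h0⟩⟩
    exact congrArg Subtype.val (h1 ⟨x, h⟩)
  -- P is transitive on the other points
  have htrans : ∀ x y : X, x ≠ x₀ → y ≠ x₀ → ∃ g : P, g • x = y := by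
    intro x y hx hy
    have h2 : Nat.card (orbit P x) ∣ p := by
      have h3 := (stabilizer P x).index_dvd_card
      rw [MulAction.index_stabilizer, hP] at h3
      exact h3
    have h3 : Nat.card (orbit P x) = p := by
      rcases (Nat.dvd_prime hp).1 h2 with h | h
      · exfalso
        apply hx
        rw [← hx₀]
        rw [Nat.card_eq_one_iff_unique] at h
        intro g
        have h4 := h.1.elim ⟨g • x, mem_orbit x g⟩ ⟨x, mem_orbit_self x⟩
        exact congrArg Subtype.val h4
      · exact h
    have h4 : orbit P x ⊆ {x₀}ᶜ := by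
      rintro _ ⟨g, rfl⟩
      intro h
      apply hx
      have h5 : g • x = x₀ := h
      have h6 : x₀ ∈ fixedPoints P X := (hx₀ x₀).2 rfl
      have h7 := h6 g⁻¹
      rw [← h5, inv_smul_smul] at h7
      rw [h7, h5]
    have h5 : orbit P x = {x₀}ᶜ := by
      apply Set.eq_of_subset_of_ncard_le h4 _ (Set.toFinite _)
      have h6 := Set.ncard_add_ncard_compl ({x₀} : Set X)
      rw [Set.ncard_singleton, hX] at h6
      have h7 : (orbit P x).ncard = p := by rw [← h3]; rfl
      omega
    have h6 : y ∈ orbit P x := by rw [h5]; exact hy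
    exact h6
  intro c hc
  rw [mem_centralizer_iff] at hc
  have hcx₀ : c • x₀ = x₀ := by
    rw [← hx₀]
    rintro ⟨g, hg⟩
    change g • c • x₀ = c • x₀
    rw [← mul_smul, hc g hg, mul_smul]
    have h6 : x₀ ∈ fixedPoints P X := (hx₀ x₀).2 rfl
    have h7 : g • x₀ = x₀ := h6 ⟨g, hg⟩
    rw [h7]
  -- pick a point different from x₀
  have hnt : ∃ x : X, x ≠ x₀ := by
    by_contra hcon
    push Not at hcon
    have : Subsingleton X := ⟨fun a b => (hcon a).trans (hcon b).symm⟩
    have h := Finite.card_le_one_iff_subsingleton.2 this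
    rw [hX] at h
    have := hp.pos
    omega
  obtain ⟨x, hx⟩ := hnt
  have hcx : c • x ≠ x₀ := by
    intro h
    apply hx
    rw [← hcx₀] at h
    exact MulAction.injective c h
  obtain ⟨g, hg⟩ := htrans x (c • x) hx hcx
  have hg' : (g : G) • x = c • x := hg
  have key : (g : G)⁻¹ * c = 1 := by
    apply hf
    intro y
    by_cases hy : y = x₀
    · rw [hy, mul_smul, hcx₀, inv_smul_eq_iff]
      have h6 : x₀ ∈ fixedPoints P X := (hx₀ x₀).2 rfl
      exact (h6 g).symm
    · obtain ⟨k, hk⟩ := htrans x y hx hy
      have hk' : (k : G) • x = y := hk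
      rw [← hk', ← mul_smul]
      have hcomm1 : c * (k : G) = (k : G) * c := (hc k k.2).symm
      have hPp : ∀ a b : P, a * b = b * a := by
        have hcyc : IsCyclic P := isCyclic_of_prime_card hP
        intro a b
        obtain ⟨z, hz⟩ := hcyc.exists_generator
        obtain ⟨i, rfl⟩ := mem_zpowers_iff.1 (hz a)
        obtain ⟨j, rfl⟩ := mem_zpowers_iff.1 (hz b)
        rw [← zpow_add, ← zpow_add, add_comm]
      have hcomm2 : (g : G) * (k : G) = (k : G) * g :=
        congrArg Subtype.val (hPp g k)
      have e : (g : G)⁻¹ * c * (k : G) = (k : G) * ((g : G)⁻¹ * c) := by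
        rw [mul_assoc, hcomm1, ← mul_assoc, ← mul_assoc]
        congr 1
        rw [inv_mul_eq_iff_eq_mul, ← mul_assoc, hcomm2, mul_inv_cancel_right]
      rw [e, mul_smul, mul_smul, ← hg', inv_smul_smul]
  have : c = g := (inv_mul_eq_one.1 key).symm
  rw [this]
  exact g.2

/-- A simple group with a proper subgroup of index `p + 1` : subgroups of order `p` contain their
centralizer. -/
theorem centralizer_le_of_index {G : Type*} [Group G] [Finite G] [IsSimpleGroup G]
    (H : Subgroup G) {p : ℕ} (hp : p.Prime) (hH : H.index = p + 1) (P : Subgroup G)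
    (hP : Nat.card P = p) : centralizer (P : Set G) ≤ P := by
  have hne : H ≠ ⊤ := by
    rintro rfl
    rw [Subgroup.index_top] at hH
    have := hp.pos
    omega
  exact centralizer_le (X := G ⧸ H) (faithful_quotient H hne) hp P hP hH

end Cfsg.Agent.SmallSimple.DegreeSucc
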