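import Mathlib
import Cfsg.Agent.SmallSimple.DihedralNormSylow
import Cfsg.Agent.SmallSimple.CentralizerFix
import Cfsg.Agent.SmallSimple.DegreeSucc
import Cfsg.Agent.SmallSimple.Parity

/-!
# No simple group has order `4032 = 2^6 * 3^2 * 7`

`n_7 ∈ {8, 36, 64, 288}`; each value is excluded.
-/

set_option autoImplicit false

namespace Cfsg.Agent.SmallSimple.Order4032

open Subgroup MulAction

variable {G : Type*} [Group G] [Finite G] [IsSimpleGroup G]

instance fact7 : Fact (Nat.Prime 7) := ⟨by norm_num⟩

omit [IsSimpleGroup G] in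
theorem card_P (hG : Nat.card G = 4032) (P : Sylow 7 G) : Nat.card P = 7 :=
  DihedralNormSylow.card_sylow_eq (m := 576) (by rw [hG]) (by norm_num) P

theorem card_sylow_seven (hG : Nat.card G = 4032) :
    Nat.card (Sylow 7 G) = 8 ∨ Nat.card (Sylow 7 G) = 36 ∨ Nat.card (Sylow 7 G) = 64 ∨
      Nat.card (Sylow 7 G) = 288 := by
  obtain ⟨P⟩ : Nonempty (Sylow 7 G) := inferInstance
  have hP := card_P hG P
  have h1 : Nat.card (Sylow 7 G) ∣ 576 := by
    have h := P.card_dvd_index
    have h2 := (P : Subgroup G).card_mul_index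
    rw [hG, hP] at h2
    have h3 : (P : Subgroup G).index = 576 := by omega
    rwa [h3] at h
  have h2 : Nat.card (Sylow 7 G) ≡ 1 [MOD 7] := card_sylow_modEq_one 7 G
  have h3 : Nat.card (Sylow 7 G) ≠ 1 :=
    SylowCount.card_sylow_ne_one (by rw [hG]; norm_num) (by rw [hG]; norm_num)
  have hle : Nat.card (Sylow 7 G) ≤ 576 := Nat.le_of_dvd (by norm_num) h1
  generalize Nat.card (Sylow 7 G) = n at *
  clear hG hP P
  unfold Nat.ModEq at h2
  obtain ⟨c, hc⟩ : ∃ c, n = 7 * c + 1 := ⟨n / 7, by omega⟩
  have hc22 : c ≤ 82 := by omega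
  subst hc
  interval_cases c <;> simp_all

/-- The automizer data. -/
theorem exists_automizer (hG : Nat.card G = 4032) (P : Sylow 7 G) :
    ∃ e : ℕ, e ∣ 6 ∧ e ≠ 1 ∧
      Nat.card (normalizer (P : Set G)) = Nat.card (centralizer (P : Set G)) * e ∧
      Nat.card (Sylow 7 G) * Nat.card (normalizer (P : Set G)) = 4032 ∧
      7 ∣ Nat.card (centralizer (P : Set G)) := by
  obtain ⟨e, he1, he2, he3, he4, he5, he6⟩ :=
    BurnsideNC.exists_automizer_of_card_eq_prime (p := 7) (by rw [hG]; norm_num) P (card_P hG P)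
  exact ⟨e, he1, he2, he4, by rw [he5, hG], he6⟩

/-- `n_7 ≠ 288`. -/
theorem ne_288 (hG : Nat.card G = 4032) : Nat.card (Sylow 7 G) ≠ 288 := by
  intro hn
  obtain ⟨P⟩ : Nonempty (Sylow 7 G) := inferInstance
  apply DihedralNormSylow.not_isSquare (p := 7) (by norm_num) P (card_P hG P) (by rw [hn, hG])
  exact ⟨168, by rw [hG]⟩

/-- No proper subgroup of index 8, unless the Sylow 7-subgroups are self-centralizing. -/
theorem card_centralizer_of_index (hG : Nat.card G = 4032) (H : Subgroup G) (hH : H.index = 8)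
    (P : Sylow 7 G) : Nat.card (centralizer (P : Set G)) ≤ 7 := by
  have h := DegreeSucc.centralizer_le_of_index H (p := 7) (by norm_num) hH (P : Subgroup G)
    (card_P hG P)
  calc Nat.card (centralizer (P : Set G)) ≤ Nat.card P := Subgroup.card_le_of_le h
    _ = 7 := card_P hG P

theorem ne_8 (hG : Nat.card G = 4032) : Nat.card (Sylow 7 G) ≠ 8 := by
  intro hn
  obtain ⟨P⟩ : Nonempty (Sylow 7 G) := inferInstance
  have h1 := card_centralizer_of_index hG (normalizer (P : Set G))
    (by rw [← P.card_eq_index_normalizer, hn]) P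
  obtain ⟨e, he1, he2, he4, he5, he6⟩ := exists_automizer hG P
  rw [hn] at he5
  have he : e ≤ 6 := Nat.le_of_dvd (by norm_num) he1
  have h2 : Nat.card (centralizer (P : Set G)) * e ≤ 7 * 6 := Nat.mul_le_mul h1 he
  omega

theorem ne_36 (hG : Nat.card G = 4032) : Nat.card (Sylow 7 G) ≠ 36 := by
  classical
  intro hn
  obtain ⟨P⟩ : Nonempty (Sylow 7 G) := inferInstance
  obtain ⟨e, he1, he2, he4, he5, he6⟩ := exists_automizer hG P
  rw [hn] at he5
  have hcard : Nat.card (centralizer (P : Set G)) = 56 := by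
    obtain ⟨c, hc⟩ := he6
    rw [hc] at he4
    have h1 : Nat.card (normalizer (P : Set G)) = 112 := by omega
    rw [h1] at he4
    have he : e ≤ 6 := Nat.le_of_dvd (by norm_num) he1
    have hc2 : c * e = 16 := by
      have : 7 * (c * e) = 7 * 16 := by rw [← mul_assoc, ← he4]
      exact Nat.eq_of_mul_eq_mul_left (by norm_num) this
    interval_cases e
    · omega
    · omega
    · omega
    · omega
    · exfalso; revert he1; decide
    · exfalso; revert he1; decide
    · omega
  obtain ⟨A₀, hA₀⟩ := Sylow.exists_subgroup_card_pow_prime (G := centralizer (P : Set G)) 2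
    (n := 3) (by rw [hcard]; norm_num)
  set A : Subgroup G := A₀.map (centralizer (P : Set G)).subtype with hA
  have hAcard : Nat.card A = 8 := by
    rw [hA, Subgroup.card_map_of_injective (Subgroup.subtype_injective _), hA₀]
    norm_num
  have hAC : A ≤ centralizer (P : Set G) := by
    rintro _ ⟨a, -, rfl⟩
    exact a.2
  have hfix : ∀ a : A, a ≠ 1 → Nat.card (fixedBy (Sylow 7 G) (a : G)) = 8 := by
    intro a ha
    have ha1 : (a : G) ≠ 1 := fun h => ha (Subtype.ext h)
    have hord : orderOf (a : G) ∣ 2 ^ 3 := by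
      have := orderOf_dvd_natCard a
      rw [hAcard] at this
      rw [Subgroup.orderOf_coe]
      exact this
    obtain ⟨k, -, hk⟩ := (Nat.dvd_prime_pow Nat.prime_two).1 hord
    obtain ⟨j, hj⟩ := CentralizerFix.exists_pow_involution hk ha1
    -- the involution
    have h2lt : 2 < Nat.card G := by rw [hG]; norm_num
    obtain ⟨m, hm⟩ := Parity.card_modEq_four (X := Sylow 7 G) h2lt ((a : G) ^ j)
      (orderOf_dvd_iff_pow_eq_one.1 hj.dvd)
    have hz1 : (a : G) ^ j ≠ 1 := by
      intro h
      rw [h, orderOf_one] at hj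
      exact absurd hj (by norm_num)
    have hzfix := CentralizerFix.card_fixedBy_modEq_one P
      (hAC (A.pow_mem a.2 j))
    have hzlt := CentralizerFix.card_fixedBy_lt (p := 7) (G := G) (by rw [hn]; norm_num) hz1
    have hzcard : Nat.card (fixedBy (Sylow 7 G) ((a : G) ^ j)) = 8 := by
      have e1 : Nat.card {x : Sylow 7 G // (a : G) ^ j • x = x} =
        Nat.card (fixedBy (Sylow 7 G) ((a : G) ^ j)) := rfl
      rw [e1, hn] at hm
      rw [hn] at hzlt
      generalize Nat.card (fixedBy (Sylow 7 G) ((a : G) ^ j)) = f at *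
      unfold Nat.ModEq at hzfix
      omega
    have hsub : Nat.card (fixedBy (Sylow 7 G) (a : G)) ≤
        Nat.card (fixedBy (Sylow 7 G) ((a : G) ^ j)) := by
      refine Nat.card_le_card_of_injective (fun x => ⟨x.1, ?_⟩) ?_
      · have hx : (a : G) • x.1 = x.1 := x.2
        have : ∀ i : ℕ, (a : G) ^ i • x.1 = x.1 := by
          intro i
          induction i with
          | zero => rw [pow_zero, one_smul]
          | succ i ih => rw [pow_succ, mul_smul, hx, ih]
        exact this j
      · intro x y hxy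
        exact Subtype.ext (Subtype.mk.inj hxy)
    have hafix := CentralizerFix.card_fixedBy_modEq_one P (hAC a.2)
    -- parity: the fixed points of `⟨a⟩`
    have hpar : Nat.card (Sylow 7 G) ≡ Nat.card (fixedBy (Sylow 7 G) (a : G)) [MOD 2] := by
      have h2 : Fact (Nat.Prime 2) := ⟨Nat.prime_two⟩
      have hpg : IsPGroup 2 (zpowers (a : G)) :=
        IsPGroup.of_card (n := k) (by rw [Nat.card_zpowers, hk])
      have := hpg.card_modEq_card_fixedPoints (Sylow 7 G)
      have e2 : Nat.card (fixedPoints (zpowers (a : G)) (Sylow 7 G)) =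
          Nat.card (fixedBy (Sylow 7 G) (a : G)) := by
        refine Nat.card_congr (Equiv.subtypeEquivRight fun x => ⟨fun h => ?_, fun h => ?_⟩)
        · exact h ⟨a, mem_zpowers _⟩
        · rintro ⟨g, hg⟩
          obtain ⟨i, rfl⟩ := mem_zpowers_iff.1 hg
          have hmem : (a : G) ∈ stabilizer G x := h
          exact zpow_mem hmem i
      rwa [e2] at this
    rw [hn] at hpar
    rw [hzcard] at hsub
    generalize Nat.card (fixedBy (Sylow 7 G) (a : G)) = f at *
    unfold Nat.ModEq at hafix hpar
    omega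
  have := Fintype.ofFinite A
  have := Fintype.ofFinite (Sylow 7 G)
  have := Fintype.ofFinite (orbitRel.Quotient A (Sylow 7 G))
  have : ∀ a : A, Fintype (fixedBy (Sylow 7 G) a) := fun a => Fintype.ofFinite _
  have h := sum_card_fixedBy_eq_card_orbits_mul_card_group A (Sylow 7 G)
  rw [← Finset.add_sum_erase Finset.univ _ (Finset.mem_univ (1 : A))] at h
  have h1 : Fintype.card (fixedBy (Sylow 7 G) (1 : A)) = 36 := by
    rw [← Nat.card_eq_fintype_card, ← hn]
    refine Nat.card_congr ((Equiv.setCongr ?_).trans (Equiv.Set.univ _))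
    ext x
    simp
  have h2 : ∀ a ∈ Finset.univ.erase (1 : A), Fintype.card (fixedBy (Sylow 7 G) a) = 8 := by
    intro a ha
    rw [← Nat.card_eq_fintype_card]
    exact hfix a (Finset.mem_erase.1 ha).1
  rw [h1, Finset.sum_congr rfl h2, Finset.sum_const, Finset.card_erase_of_mem (Finset.mem_univ _),
    Finset.card_univ, smul_eq_mul, ← Nat.card_eq_fintype_card (α := A), hAcard] at h
  omega

omit [IsSimpleGroup G] in
/-- The number of Sylow `p`-subgroups of a subgroup `K ≥ P` is `|K : K ∩ N(P)|`. -/
theorem relIndex_modEq_one {p : ℕ} [Fact p.Prime] (P : Sylow p G) (K : Subgroup G)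
    (hPK : (P : Subgroup G) ≤ K) : (normalizer (P : Set G)).relIndex K ≡ 1 [MOD p] := by
  have h4 : Nat.card (Sylow p K) ≡ 1 [MOD p] := card_sylow_modEq_one p K
  have h5 : Nat.card (Sylow p K) = (normalizer (P : Set G)).relIndex K := by
    rw [(P.subtype hPK).card_eq_index_normalizer, Subgroup.relIndex]
    have h6 := subgroupOf_normalizer_eq hPK
    change _ = ((normalizer ((P : Subgroup G) : Set G)).subgroupOf K).index
    rw [h6]
    rfl
  rwa [h5] at h4

theorem ne_64 (hG : Nat.card G = 4032) : Nat.card (Sylow 7 G) ≠ 64 := by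
  classical
  intro hn
  have h3 : Fact (Nat.Prime 3) := ⟨Nat.prime_three⟩
  have h2 : Fact (Nat.Prime 2) := ⟨Nat.prime_two⟩
  obtain ⟨P⟩ : Nonempty (Sylow 7 G) := inferInstance
  have hP := card_P hG P
  obtain ⟨e, he1, he2, he4, he5, he6⟩ := exists_automizer hG P
  rw [hn] at he5
  have hNcard : Nat.card (normalizer (P : Set G)) = 63 := by omega
  have hCcard : Nat.card (centralizer (P : Set G)) = 21 := by
    obtain ⟨c, hc⟩ := he6
    rw [hc] at he4
    rw [hNcard] at he4
    have he : e ≤ 6 := Nat.le_of_dvd (by norm_num) he1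
    have hc2 : c * e = 9 := by
      have : 7 * (c * e) = 7 * 9 := by rw [← mul_assoc, ← he4]
      exact Nat.eq_of_mul_eq_mul_left (by norm_num) this
    interval_cases e
    · omega
    · omega
    · omega
    · omega
    · exfalso; revert he1; decide
    · exfalso; revert he1; decide
    · omega
  -- an element of order 3 centralizing P
  obtain ⟨q₀, hq₀⟩ := exists_prime_orderOf_dvd_card' (G := centralizer (P : Set G)) 3
    (by rw [hCcard]; norm_num)
  set q : G := (q₀ : G) with hq
  have hqord : orderOf q = 3 := by rw [hq, Subgroup.orderOf_coe, hq₀]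
  have hqC : q ∈ centralizer (P : Set G) := q₀.2
  have hq1 : q ≠ 1 := by
    intro h
    rw [h, orderOf_one] at hqord
    exact absurd hqord (by norm_num)
  have hqN : q ∈ normalizer (P : Set G) :=
    BurnsideNC.centralizer_le_normalizer (P : Subgroup G) hqC
  -- a Sylow 3-subgroup R of N(P) containing q
  set N : Subgroup G := normalizer (P : Set G) with hNdef
  have hqpg : IsPGroup 3 (zpowers (⟨q, hqN⟩ : N)) :=
    IsPGroup.of_card (n := 1) (by rw [Nat.card_zpowers, Subgroup.orderOf_mk, hqord, pow_one])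
  obtain ⟨R₀, hR₀⟩ := hqpg.exists_le_sylow
  have hR₀card : Nat.card R₀ = 9 := by
    rw [R₀.card_eq_multiplicity, hNcard]
    have : (63 : ℕ).factorization 3 = 2 := by
      rw [show (63 : ℕ) = 3 ^ 2 * 7 by norm_num, Nat.factorization_mul (by norm_num) (by norm_num),
        Finsupp.add_apply, Nat.prime_three.factorization_pow, Finsupp.single_eq_same,
        Nat.factorization_eq_zero_of_not_dvd (by norm_num)]
    rw [this]; norm_num
  set R : Subgroup G := (R₀ : Subgroup N).map N.subtype with hR
  have hRcard : Nat.card R = 9 := by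
    rw [hR, Subgroup.card_map_of_injective (Subgroup.subtype_injective _)]
    exact hR₀card
  have hqR : q ∈ R := ⟨⟨q, hqN⟩, hR₀ (mem_zpowers _), rfl⟩
  have hRN : R ≤ N := by
    rintro _ ⟨a, -, rfl⟩
    exact a.2
  have hRcomm : ∀ x ∈ R, ∀ y ∈ R, x * y = y * x := by
    have : IsMulCommutative R :=
      IsPGroup.isMulCommutative_of_card_eq_prime_sq (p := 3) (by rw [hRcard]; norm_num)
    intro x hx y hy
    exact congrArg Subtype.val (this.is_comm.comm (⟨x, hx⟩ : R) ⟨y, hy⟩)
  -- the centralizer of q
  set Cq : Subgroup G := centralizer ({q} : Set G) with hCq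
  have hRCq : R ≤ Cq := by
    intro x hx
    rw [hCq, mem_centralizer_singleton_iff]
    exact hRcomm x hx q hqR
  have hPCq : (P : Subgroup G) ≤ Cq := by
    intro x hx
    rw [hCq, mem_centralizer_singleton_iff]
    exact (mem_centralizer_iff.1 hqC) x hx
  have h63 : ∀ K : Subgroup G, R ≤ K → (P : Subgroup G) ≤ K → 63 ∣ Nat.card K := by
    intro K hRK hPK
    have ha : 9 ∣ Nat.card K := hRcard ▸ Subgroup.card_dvd_of_le hRK
    have hb : 7 ∣ Nat.card K := hP ▸ Subgroup.card_dvd_of_le hPK
    exact (Nat.Coprime.mul_dvd_of_dvd_of_dvd (by norm_num : Nat.Coprime 9 7) ha hb)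
  have hNCq : N ≤ Cq := by
    have h1 : Nat.card (N ⊓ Cq : Subgroup G) = 63 := by
      apply Nat.dvd_antisymm
      · rw [← hNcard]; exact Subgroup.card_dvd_of_le inf_le_left
      · exact h63 _ (le_inf hRN hRCq) (le_inf le_normalizer hPCq)
    have h2 : N ⊓ Cq = N := Subgroup.eq_of_le_of_card_ge inf_le_left (by rw [h1, hNcard])
    rw [← h2]; exact inf_le_right
  -- the order of C(q)
  have hCqcard : Nat.card Cq = 63 := by
    -- index computation
    have h1 : Nat.card N * N.relIndex Cq = Nat.card Cq := by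
      rw [← Subgroup.relIndex_bot_left, ← Subgroup.relIndex_bot_left]
      exact Subgroup.relIndex_mul_relIndex _ _ _ bot_le hNCq
    have h2 : N.relIndex Cq ≡ 1 [MOD 7] := relIndex_modEq_one P Cq hPCq
    set w := N.relIndex Cq with hw
    have h3 : Nat.card Cq ∣ 4032 := hG ▸ Subgroup.card_subgroup_dvd_card Cq
    rw [hNcard] at h1
    rw [← h1] at h3
    have h4 : w ∣ 64 := by
      apply Nat.dvd_of_mul_dvd_mul_left (k := 63) (by norm_num)
      exact h3
    have h5 : w = 1 ∨ w = 8 ∨ w = 64 := by
      have hle : w ≤ 64 := Nat.le_of_dvd (by norm_num) h4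
      clear_value w
      unfold Nat.ModEq at h2
      clear * - h2 h4 hle
      interval_cases w <;> simp_all
    rcases h5 with h5 | h5 | h5
    · rw [← h1, h5]
    · exfalso
      have h6 : Cq.index = 8 := by
        have := Cq.card_mul_index
        rw [← h1, h5, hG] at this
        omega
      have := card_centralizer_of_index hG Cq h6 P
      omega
    · exfalso
      have h6 : Cq = ⊤ := by
        apply Subgroup.eq_top_of_card_eq
        rw [← h1, h5, hG]
      have h7 : q ∈ center G := by
        rw [mem_center_iff]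
        intro g
        have hg : g ∈ Cq := h6 ▸ mem_top g
        rw [hCq, mem_centralizer_singleton_iff] at hg
        exact hg
      rcases (inferInstance : (center G).Normal).eq_bot_or_eq_top with h8 | h8
      · rw [h8] at h7; exact hq1 (Subgroup.mem_bot.1 h7)
      · have h9 : (P : Subgroup G).Normal := by
          refine ⟨fun n hn g => ?_⟩
          have : n ∈ center G := h8 ▸ mem_top n
          rw [mem_center_iff] at this
          rw [this g, mul_inv_cancel_right]
          exact hn
        have h10 : N = ⊤ := by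
          rw [hNdef]
          exact Subgroup.normalizer_eq_top_iff.2 h9
        rw [h10, Subgroup.card_top, hG] at hNcard
        omega
  have hCqN : Cq = N := (Subgroup.eq_of_le_of_card_ge hNCq (by rw [hCqcard, hNcard])).symm
  -- `q` is not conjugate to its inverse
  have hqinv : ∀ g : G, g * q * g⁻¹ ≠ q⁻¹ := by
    intro g hg
    -- `g` normalizes `C(q) = N(P)`
    have hgN : g ∈ N := by
      have h1 : (P : Subgroup G) ≤ normalizer ((g • P : Sylow 7 G) : Set G) := by
        intro x hx
        -- `g⁻¹ x g` centralizes `q`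
        have hx1 : g⁻¹ * x * g ∈ Cq := by
          have hx2 : x * q = q * x := by
            have := hPCq hx
            rwa [hCq, mem_centralizer_singleton_iff] at this
          have hginv : g * q⁻¹ * g⁻¹ = q := by
            have := congrArg (·⁻¹) hg
            simpa [mul_assoc] using this
          rw [hCq, mem_centralizer_singleton_iff]
          have e1 : g⁻¹ * x * g * q = g⁻¹ * (x * (g * q * g⁻¹)) * g := by group
          have e2 : q * (g⁻¹ * x * g) = g⁻¹ * ((g * q * g⁻¹) * x) * g := by group
          rw [e1, e2, hg]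
          congr 2
          rw [mul_inv_eq_iff_eq_mul, mul_assoc, hx2, inv_mul_cancel_left]
        rw [hCqN, hNdef] at hx1
        rw [← Sylow.smul_eq_iff_mem_normalizer] at hx1 ⊢
        rw [mul_smul, mul_smul, inv_smul_eq_iff] at hx1
        exact hx1
      have h2 : P ∈ fixedPoints P (Sylow 7 G) → True := fun _ => trivial
      have h3 : g • P ∈ fixedPoints P (Sylow 7 G) := by
        intro x
        have := h1 x.2
        rwa [← Sylow.smul_eq_iff_mem_normalizer] at this
      have h4 := (P.isPGroup'.sylow_mem_fixedPoints_iff).1 h3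
      have h5 : g • P = P := Sylow.ext (P.is_maximal' (g • P).isPGroup' h4)
      rwa [Sylow.smul_eq_iff_mem_normalizer] at h5
    rw [← hCqN, hCq, mem_centralizer_singleton_iff] at hgN
    have h1 : q = q⁻¹ := by rw [← hg, hgN, mul_inv_cancel_right]
    have h2 : q ^ 2 = 1 := by rw [pow_two]; nth_rewrite 1 [h1]; exact inv_mul_cancel q
    have h3 := orderOf_dvd_of_pow_eq_one h2
    rw [hqord] at h3
    omega
  -- the normalizer of R
  have hRfact : (Nat.card G).factorization 3 = 2 := by
    rw [hG, show (4032 : ℕ) = 3 ^ 2 * 448 by norm_num,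
      Nat.factorization_mul (by norm_num) (by norm_num),
      Finsupp.add_apply, Nat.prime_three.factorization_pow, Finsupp.single_eq_same,
      Nat.factorization_eq_zero_of_not_dvd (by norm_num)]
  let Rs : Sylow 3 G := Sylow.ofCard R (by rw [hRfact, hRcard]; norm_num)
  have hRs : (Rs : Subgroup G) = R := rfl
  have hRsc : Nat.card Rs = 3 ^ 2 := by
    have : Nat.card Rs = Nat.card R := rfl
    rw [this, hRcard]; norm_num
  have hrel := BurnsideNC.relIndex_dvd_of_card_eq_sq Rs hRsc
  have hrel1 := BurnsideNC.relIndex_ne_one (p := 3) (by rw [hG]; norm_num) (by rw [hG]; norm_num) Rs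
  have hNR := BurnsideNC.card_normalizer_eq R
  have hn3 := BurnsideNC.card_sylow_mul_card_normalizer Rs
  have hn3m : Nat.card (Sylow 3 G) ≡ 1 [MOD 3] := card_sylow_modEq_one 3 G
  change (centralizer (R : Set G)).relIndex (normalizer (R : Set G)) ∣ _ at hrel
  change (centralizer (R : Set G)).relIndex (normalizer (R : Set G)) ≠ 1 at hrel1
  change Nat.card (Sylow 3 G) * Nat.card (normalizer (R : Set G)) = _ at hn3
  have hCR : Nat.card (centralizer (R : Set G)) = 9 := by
    have h1 : centralizer (R : Set G) ≤ Cq := by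
      intro x hx
      rw [hCq, mem_centralizer_singleton_iff]
      exact ((mem_centralizer_iff.1 hx) q hqR).symm
    have h2 : R ≤ centralizer (R : Set G) := by
      intro x hx
      rw [mem_centralizer_iff]
      intro y hy
      exact hRcomm y hy x hx
    have h3 := Subgroup.card_dvd_of_le h1
    have h4 := Subgroup.card_dvd_of_le h2
    rw [hCqcard] at h3
    rw [hRcard] at h4
    have h5 : Nat.card (centralizer (R : Set G)) ≠ 63 := by
      intro h6
      have h7 : centralizer (R : Set G) = Cq :=
        Subgroup.eq_of_le_of_card_ge h1 (by rw [h6, hCqcard])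
      have h8 : R ≤ centralizer (P : Set G) := by
        intro x hx
        rw [mem_centralizer_iff]
        intro y hy
        have hy' : y ∈ centralizer (R : Set G) := h7 ▸ hPCq hy
        exact ((mem_centralizer_iff.1 hy') x hx).symm
      have h9 := Subgroup.card_dvd_of_le h8
      rw [hRcard, hCcard] at h9
      omega
    obtain ⟨c, hc⟩ := h4
    rw [hc] at h3 h5 ⊢
    have h10 : c ∣ 7 := Nat.dvd_of_mul_dvd_mul_left (k := 9) (by norm_num) h3
    rcases (Nat.dvd_prime (by norm_num : Nat.Prime 7)).1 h10 with h | h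
    · rw [h]
    · exfalso; apply h5; rw [h]
  have h4N : 4 ∣ Nat.card (normalizer (R : Set G)) := by
    rw [hCR] at hNR
    rw [hNR, hG] at hn3
    set r := (centralizer (R : Set G)).relIndex (normalizer (R : Set G)) with hr
    have h1 : Nat.card (Sylow 3 G) * r = 448 := by
      have : 9 * (Nat.card (Sylow 3 G) * r) = 9 * 448 := by rw [← Nat.mul_left_comm, hn3]
      exact Nat.eq_of_mul_eq_mul_left (by norm_num) this
    have h2 : r ∣ 16 := by
      have : (3 ^ 2 - 1) * (3 - 1) = 16 := by norm_num
      rwa [this] at hrel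
    rw [hNR]
    have h3 : r ≤ 16 := Nat.le_of_dvd (by norm_num) h2
    generalize Nat.card (Sylow 3 G) = n at h1 hn3m
    clear_value r
    unfold Nat.ModEq at hn3m
    clear * - h1 h2 h3 hrel1 hn3m
    have h4 : r = 1 ∨ r = 2 ∨ r = 4 ∨ r = 8 ∨ r = 16 := by
      interval_cases r <;> simp_all
    rcases h4 with rfl | rfl | rfl | rfl | rfl
    · exact absurd rfl hrel1
    · omega
    · norm_num
    · omega
    · norm_num
  -- a subgroup of order 4 of N(R)
  obtain ⟨T₀, hT₀⟩ := Sylow.exists_subgroup_card_pow_prime (G := normalizer (R : Set G)) 2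
    (n := 2) (by simpa using h4N)
  have hTconj : ∀ t : T₀, ∀ r ∈ R, ((t : normalizer (R : Set G)) : G) * r *
      ((t : normalizer (R : Set G)) : G)⁻¹ ∈ R := by
    intro t r hr
    exact (mem_normalizer_iff.1 (t : normalizer (R : Set G)).2 r).1 hr
  have hTord : ∀ t : T₀, ∀ g : G, g⁻¹ * ((t : normalizer (R : Set G)) : G) * g ∈ Cq → t = 1 := by
    intro t g ht
    have h1 : orderOf (g⁻¹ * ((t : normalizer (R : Set G)) : G) * g) ∣ 63 := by
      have := orderOf_dvd_natCard (⟨_, ht⟩ : Cq)
      rwa [hCqcard, Subgroup.orderOf_mk] at this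
    rw [DihedralNormalizer.orderOf_conj, Subgroup.orderOf_coe, Subgroup.orderOf_coe] at h1
    have h2 : orderOf t ∣ 4 := by
      have := orderOf_dvd_natCard t
      rw [hT₀] at this
      exact this
    have h3 : orderOf t ∣ Nat.gcd 63 4 := Nat.dvd_gcd h1 h2
    rw [show Nat.gcd 63 4 = 1 by norm_num] at h3
    exact orderOf_eq_one_iff.1 (Nat.dvd_one.1 h3)
  let S : Set G := {r | r ∈ R ∧ IsConj q r}
  let S' : Set G := {r | r ∈ R ∧ IsConj q⁻¹ r}
  have hScard : 4 ≤ S.ncard := by
    have h1 : Nat.card T₀ = 4 := by rw [hT₀]; norm_num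
    rw [← h1, ← Nat.card_coe_set_eq]
    refine Nat.card_le_card_of_injective (fun t : T₀ =>
      (⟨((t : normalizer (R : Set G)) : G) * q * ((t : normalizer (R : Set G)) : G)⁻¹,
        hTconj t q hqR, isConj_iff.2 ⟨_, rfl⟩⟩ : S)) ?_
    intro t t' htt'
    have h2 : ((t : normalizer (R : Set G)) : G) * q * ((t : normalizer (R : Set G)) : G)⁻¹ =
        ((t' : normalizer (R : Set G)) : G) * q * ((t' : normalizer (R : Set G)) : G)⁻¹ :=
      congrArg Subtype.val htt'
    have h3 : t'⁻¹ * t = 1 := by
      apply hTord _ 1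
      rw [inv_one, one_mul, mul_one, hCq, mem_centralizer_singleton_iff]
      push_cast
      have h4 : ((t : normalizer (R : Set G)) : G) * q = ((t' : normalizer (R : Set G)) : G) * q *
          ((t' : normalizer (R : Set G)) : G)⁻¹ * ((t : normalizer (R : Set G)) : G) := by
        rw [← h2, inv_mul_cancel_right]
      rw [mul_assoc, h4]
      group
    exact (inv_mul_eq_one.1 h3).symm
  have hS'card : S'.ncard = S.ncard := by
    have h1 : S' = (fun x => x⁻¹) '' S := by
      ext x
      constructor
      · rintro ⟨hx, hx2⟩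
        refine ⟨x⁻¹, ⟨R.inv_mem hx, ?_⟩, inv_inv x⟩
        obtain ⟨c, hc⟩ := isConj_iff.1 hx2
        exact isConj_iff.2 ⟨c, by rw [← hc]; group⟩
      · rintro ⟨y, ⟨hy, hy2⟩, rfl⟩
        refine ⟨R.inv_mem hy, ?_⟩
        obtain ⟨c, hc⟩ := isConj_iff.1 hy2
        exact isConj_iff.2 ⟨c, by rw [← hc]; group⟩
    rw [h1, Set.ncard_image_of_injective _ inv_injective]
  have hdisj : Disjoint S S' := by
    rw [Set.disjoint_left]
    rintro x ⟨-, hx⟩ ⟨-, hx'⟩
    obtain ⟨c, hc⟩ := isConj_iff.1 (hx.trans hx'.symm)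
    exact hqinv c hc
  have hcover : ∀ r ∈ R, r ≠ 1 → r ∈ S ∨ r ∈ S' := by
    have h1 : insert 1 (S ∪ S') = (R : Set G) := by
      apply Set.eq_of_subset_of_ncard_le _ _ (Set.toFinite _)
      · intro x hx
        rcases hx with rfl | hx | hx
        · exact R.one_mem
        · exact hx.1
        · exact hx.1
      · have h2 : (1 : G) ∉ S ∪ S' := by
          rintro (⟨-, hx⟩ | ⟨-, hx⟩)
          · obtain ⟨c, hc⟩ := isConj_iff.1 hx
            exact hq1 (by rwa [conj_eq_one_iff] at hc)
          · obtain ⟨c, hc⟩ := isConj_iff.1 hx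
            exact hq1 (by rwa [conj_eq_one_iff, inv_eq_one] at hc)
        rw [Set.ncard_insert_of_notMem h2 (Set.toFinite _),
          Set.ncard_union_eq hdisj (Set.toFinite _) (Set.toFinite _), hS'card]
        have h3 : (R : Set G).ncard = 9 := by
          rw [← Nat.card_coe_set_eq]; exact hRcard
        omega
    intro r hr hr1
    have h2 : r ∈ insert 1 (S ∪ S') := by rw [h1]; exact hr
    rcases h2 with h2 | h2
    · exact absurd h2 hr1
    · exact h2
  -- an involution of T
  obtain ⟨τ, hτ⟩ := exists_prime_orderOf_dvd_card' (G := T₀) 2 (by rw [hT₀]; norm_num)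
  have hτ1 : τ ≠ 1 := by
    intro h
    rw [h, orderOf_one] at hτ
    exact absurd hτ (by norm_num)
  set u : G := ((τ : normalizer (R : Set G)) : G) with hu
  have hu2 : u * u = 1 := by
    have h1 : τ ^ 2 = 1 := orderOf_dvd_iff_pow_eq_one.1 hτ.dvd
    have h2 := congrArg (fun t : T₀ => ((t : normalizer (R : Set G)) : G)) h1
    simpa [pow_two] using h2
  have huinv : u⁻¹ = u := inv_eq_of_mul_eq_one_right hu2
  have hc : q * (u * q * u⁻¹) ∈ R := R.mul_mem hqR (hTconj τ q hqR)
  have hc1 : q * (u * q * u⁻¹) ≠ 1 := by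
    intro h
    exact hqinv u (inv_eq_of_mul_eq_one_right h).symm
  have hcu : u * (q * (u * q * u⁻¹)) * u⁻¹ = q * (u * q * u⁻¹) := by
    have e1 : u * (q * (u * q * u⁻¹)) * u⁻¹ = (u * q * u⁻¹) * ((u * u) * q * (u * u)⁻¹) := by
      group
    rw [e1, hu2, one_mul, inv_one, mul_one]
    exact hRcomm _ (hTconj τ q hqR) _ hqR
  have hcomm : ∀ g : G, ∀ y : G, (y = q ∨ y = q⁻¹) → g * y * g⁻¹ = q * (u * q * u⁻¹) → False := by
    intro g y hy hgy
    apply hτ1
    apply hTord τ g
    rw [hCq, mem_centralizer_singleton_iff]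
    have h1 : g⁻¹ * u * g * y = y * (g⁻¹ * u * g) := by
      have h2 : u * (g * y * g⁻¹) * u⁻¹ = g * y * g⁻¹ := by rw [hgy]; exact hcu
      have h3 : u * (g * y * g⁻¹) = g * y * g⁻¹ * u := mul_inv_eq_iff_eq_mul.1 h2
      calc g⁻¹ * u * g * y = g⁻¹ * (u * (g * y * g⁻¹)) * g := by group
        _ = g⁻¹ * (g * y * g⁻¹ * u) * g := by rw [h3]
        _ = y * (g⁻¹ * u * g) := by group
    rcases hy with rfl | rfl
    · exact h1
    · have h4 : Commute (g⁻¹ * u * g) q⁻¹ := h1
      exact (Commute.inv_right_iff.1 h4).eq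
  rcases hcover _ hc hc1 with h | h
  · obtain ⟨g, hg⟩ := isConj_iff.1 h.2
    exact hcomm g q (Or.inl rfl) hg
  · obtain ⟨g, hg⟩ := isConj_iff.1 h.2
    exact hcomm g q⁻¹ (Or.inr rfl) hg

/-- No simple group has order 4032. -/
theorem card_ne : Nat.card G ≠ 4032 := by
  intro hG
  rcases card_sylow_seven hG with h | h | h | h
  · exact ne_8 hG h
  · exact ne_36 hG h
  · exact ne_64 hG h
  · exact ne_288 hG h

end Cfsg.Agent.SmallSimple.Order4032
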