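import Mathlib
import Cfsg.Agent.SmallSimple.Parity
import Cfsg.Agent.SmallSimple.SylowCount

set_option autoImplicit false

namespace Cfsg.Agent.SmallSimple.Order4320A

open MulAction Subgroup
open scoped Pointwise

variable {G X : Type*} [Group G] [MulAction G X]

/-- A `p`-group (`p = 2, 3`) permuting three points: the pointwise stabilizer has index at most `p`. -/
theorem card_le_mul_card_fixing [Finite G] {p : ℕ} [Fact p.Prime] (hp : p = 2 ∨ p = 3)
    (T : Subgroup G) (hT : IsPGroup p T) 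
    (B : Set X) (hBf : B.Finite) (hB : B.ncard ≤ 3) (hinv : ∀ t ∈ T, ∀ b ∈ B, t • b ∈ B) :
    Nat.card T ≤ p * Nat.card (T ⊓ fixingSubgroup G B : Subgroup G) := by
  let act : MulAction T B :=
    { smul := fun t b => ⟨(t : G) • (b : X), hinv t t.2 b b.2⟩
      one_smul := fun b => Subtype.ext (one_smul G (b : X))
      mul_smul := fun s t b => Subtype.ext (mul_smul (s : G) (t : G) (b : X)) }
  have hBfin : Finite B := hBf
  let φ : T →* Equiv.Perm B := MulAction.toPermHom T B
  have h1 : Nat.card T = Nat.card φ.range * Nat.card φ.ker := by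
    rw [Subgroup.card_eq_card_quotient_mul_card_subgroup φ.ker]
    rw [Nat.card_congr (QuotientGroup.quotientKerEquivRange φ).toEquiv]
  have h2 : Nat.card φ.range ∣ 6 := by
    have h3 : Nat.card (Equiv.Perm B) ∣ 6 := by
      rw [Nat.card_perm]
      have : Nat.card B ≤ 3 := hB
      exact Nat.factorial_dvd_factorial this
    exact (Subgroup.card_subgroup_dvd_card _).trans h3
  have h3 : IsPGroup p φ.range := hT.of_surjective φ.rangeRestrict φ.rangeRestrict_surjective
  obtain ⟨n, hn⟩ := h3.exists_card_eq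
  have h4 : Nat.card φ.range ≤ p := by
    rw [hn] at h2 ⊢
    rcases Nat.lt_or_ge n 2 with hn2 | hn2
    · calc p ^ n ≤ p ^ 1 := Nat.pow_le_pow_right (by rcases hp with rfl | rfl <;> norm_num) (by omega)
        _ = p := pow_one p
    · exfalso
      have h5 : p ^ 2 ∣ 6 := (pow_dvd_pow p hn2).trans h2
      rcases hp with rfl | rfl <;> revert h5 <;> decide
  have h5 : Nat.card φ.ker = Nat.card (T ⊓ fixingSubgroup G B : Subgroup G) := by
    have h6 : φ.ker.map T.subtype = (T ⊓ fixingSubgroup G B : Subgroup G) := by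
      ext g
      constructor
      · rintro ⟨t, ht, rfl⟩
        refine Subgroup.mem_inf.2 ⟨t.2, ?_⟩
        rw [mem_fixingSubgroup_iff]
        intro y hy
        have h7 : φ t = 1 := ht
        have h8 := congrArg (fun σ : Equiv.Perm B => ((σ ⟨y, hy⟩ : B) : X)) h7
        exact h8
      · intro hg'
        obtain ⟨hgT, hg⟩ := Subgroup.mem_inf.1 hg'
        refine ⟨⟨g, hgT⟩, ?_, rfl⟩
        rw [mem_fixingSubgroup_iff] at hg
        show φ ⟨g, hgT⟩ = 1
        ext b
        exact hg b b.2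
    rw [← h6]
    exact Nat.card_congr (Subgroup.equivMapOfInjective _ _ T.subtype_injective).toEquiv
  rw [h1, h5]
  exact Nat.mul_le_mul_right _ h4

/-- Number of conjugates under `K`. -/
theorem card_le_ncard_mul [Finite G] (K : Subgroup G) (w : G) (S : Set G)
    (hS : ∀ k ∈ K, k * w * k⁻¹ ∈ S) :
    Nat.card K ≤ S.ncard * Nat.card (K ⊓ centralizer {w} : Subgroup G) := by
  let act : MulAction K G :=
    { smul := fun k g => (k : G) * g * (k : G)⁻¹
      one_smul := fun g => by
        show ((1 : K) : G) * g * ((1 : K) : G)⁻¹ = g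
        simp
      mul_smul := fun a b g => by
        show ((a * b : K) : G) * g * ((a * b : K) : G)⁻¹ = (a : G) * ((b : G) * g * (b : G)⁻¹) * (a : G)⁻¹
        rw [Subgroup.coe_mul, mul_inv_rev]
        group }
  have h1 := Nat.card_congr (MulAction.orbitProdStabilizerEquivGroup K w)
  rw [Nat.card_prod] at h1
  have h2 : Nat.card (orbit K w) ≤ S.ncard := by
    rw [← Nat.card_coe_set_eq]
    apply Nat.card_le_card_of_injective (Set.inclusion (s := orbit K w) (t := S) ?_)
    · exact Set.inclusion_injective _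
    · rintro _ ⟨k, rfl⟩
      exact hS k k.2
  have h3 : Nat.card (stabilizer K w) = Nat.card (K ⊓ centralizer {w} : Subgroup G) := by
    have h6 : (stabilizer K w).map K.subtype = (K ⊓ centralizer {w} : Subgroup G) := by
      ext g
      constructor
      · rintro ⟨t, ht, rfl⟩
        refine Subgroup.mem_inf.2 ⟨t.2, ?_⟩
        have h7 : (t : G) * w * (t : G)⁻¹ = w := ht
        rw [mem_centralizer_singleton_iff]
        show (t : G) * w = w * t
        exact mul_inv_eq_iff_eq_mul.mp h7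
      · intro hg'
        obtain ⟨hgT, hg⟩ := Subgroup.mem_inf.1 hg'
        refine ⟨⟨g, hgT⟩, ?_, rfl⟩
        rw [mem_centralizer_singleton_iff] at hg
        show g * w * g⁻¹ = w
        rw [hg]; group
    rw [← h6]
    exact Nat.card_congr (Subgroup.equivMapOfInjective _ _ K.subtype_injective).toEquiv
  rw [← h1, h3]
  exact Nat.mul_le_mul_right _ h2


/-- An involution of a simple group cannot fix 7 of 10 points. -/
theorem eq_one_of_seven_fixed [Finite G] [IsSimpleGroup G] (hG2 : 2 < Nat.card G) [Finite X]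
    [FaithfulSMul G X] (hX : Nat.card X = 10) (t : G) (ht : t ^ 2 = 1) (F : Set X)
    (hF : 7 ≤ F.ncard) (hfix : ∀ x ∈ F, t • x = x) : t = 1 := by
  obtain ⟨k, hk⟩ := Parity.card_modEq_four hG2 (X := X) t ht
  have h1 : F.ncard ≤ Nat.card {x : X // t • x = x} := by
    rw [← Nat.card_coe_set_eq]
    apply Nat.card_le_card_of_injective (fun x : F => (⟨x.1, hfix x.1 x.2⟩ : {x : X // t • x = x}))
    intro a b hab
    have hab' := congrArg Subtype.val hab
    exact Subtype.ext hab'
  have h2 : Nat.card {x : X // t • x = x} = Nat.card X := by omega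
  have h3 : ∀ x : X, t • x = x := by
    intro x
    by_contra hx
    have h4 : Nat.card {x : X // t • x = x} < Nat.card X := by
      exact Finite.card_subtype_lt (x := x) hx
    omega
  apply FaithfulSMul.eq_of_smul_eq_smul (α := X)
  intro x
  rw [h3, one_smul]

/-- No normal subgroup `W` of a group `T` of order 16 in a point stabilizer with all orbits of
length 3 on the other 9 points. -/
theorem no_orbits_three [Finite G] [IsSimpleGroup G] [Finite X] [FaithfulSMul G X]
    (hX : Nat.card X = 10) (hG2 : 2 < Nat.card G)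
    (T W : Subgroup G) (hT : Nat.card T = 16) (x₀ : X)
    (hTx : ∀ t ∈ T, t • x₀ = x₀) (hWx : ∀ w ∈ W, w • x₀ = x₀)
    (hTW : ∀ t ∈ T, ∀ w ∈ W, t * w * t⁻¹ ∈ W)
    (horb : ∀ x : X, x ≠ x₀ → (orbit W x).ncard = 3) : False := by
  have : Fact (Nat.Prime 2) := ⟨Nat.prime_two⟩
  have hTorb : ∀ t ∈ T, ∀ x : X, t • orbit W x = orbit W (t • x) := by
    intro t ht x
    ext y
    constructor
    · rintro ⟨_, ⟨w, rfl⟩, rfl⟩
      refine ⟨⟨t * w * t⁻¹, hTW t ht w w.2⟩, ?_⟩
      show (t * w * t⁻¹) • t • x = t • (w : G) • x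
      rw [smul_smul, smul_smul]; group
    · rintro ⟨w, rfl⟩
      refine ⟨(t⁻¹ * w * t) • x, ⟨⟨t⁻¹ * w * t, ?_⟩, rfl⟩, ?_⟩
      · have := hTW t⁻¹ (T.inv_mem ht) w w.2
        rwa [inv_inv] at this
      · show t • (t⁻¹ * w * t) • x = (w : G) • t • x
        rw [smul_smul, smul_smul]; group
  -- `x₀` is not in other orbits
  have hx₀ : ∀ x : X, x ≠ x₀ → x₀ ∉ orbit W x := by
    rintro x hx ⟨w, hw⟩
    apply hx
    have h1 : x = (w⁻¹ : W) • x₀ := by rw [← hw]; simp
    rw [h1]
    exact hWx _ (w⁻¹).2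
  have hdisj : ∀ x y : X, y ∉ orbit W x → Disjoint (orbit W x) (orbit W y) := by
    intro x y hy
    rw [Set.disjoint_left]
    intro z hz1 hz2
    apply hy
    rw [← orbit_eq_iff.2 hz1, orbit_eq_iff.2 hz2]
    exact mem_orbit_self y
  obtain ⟨x₁, hx₁⟩ : ∃ x₁ : X, x₁ ∉ ({x₀} : Set X) := by
    by_contra hcon
    push Not at hcon
    have h1 : (Set.univ : Set X) ⊆ {x₀} := fun x _ => hcon x
    have h2 := Set.ncard_le_ncard h1
    rw [Set.ncard_univ, hX, Set.ncard_singleton] at h2
    omega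
  have hx₁' : x₁ ≠ x₀ := hx₁
  have c1 := horb x₁ hx₁'
  have hd1 : Disjoint ({x₀} : Set X) (orbit W x₁) := by
    rw [Set.disjoint_singleton_left]; exact hx₀ x₁ hx₁'
  have hc1 : ({x₀} ∪ orbit W x₁ : Set X).ncard = 4 := by
    rw [Set.ncard_union_eq hd1, c1, Set.ncard_singleton]
  obtain ⟨x₂, hx₂⟩ : ∃ x₂ : X, x₂ ∉ ({x₀} ∪ orbit W x₁ : Set X) := by
    by_contra hcon
    push Not at hcon
    have h1 : (Set.univ : Set X) ⊆ ({x₀} ∪ orbit W x₁ : Set X) := fun x _ => hcon x
    have h2 := Set.ncard_le_ncard h1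
    rw [Set.ncard_univ, hX, hc1] at h2
    omega
  have hx₂' : x₂ ≠ x₀ := fun h => hx₂ (Or.inl h)
  have c2 := horb x₂ hx₂'
  have hd2 : Disjoint ({x₀} ∪ orbit W x₁ : Set X) (orbit W x₂) := by
    rw [Set.disjoint_union_left, Set.disjoint_singleton_left]
    exact ⟨hx₀ x₂ hx₂', hdisj x₁ x₂ (fun h => hx₂ (Or.inr h))⟩
  have hc2 : ({x₀} ∪ orbit W x₁ ∪ orbit W x₂ : Set X).ncard = 7 := by
    rw [Set.ncard_union_eq hd2, c2, hc1]
  obtain ⟨x₃, hx₃⟩ : ∃ x₃ : X, x₃ ∉ ({x₀} ∪ orbit W x₁ ∪ orbit W x₂ : Set X) := by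
    by_contra hcon
    push Not at hcon
    have h1 : (Set.univ : Set X) ⊆ ({x₀} ∪ orbit W x₁ ∪ orbit W x₂ : Set X) := fun x _ => hcon x
    have h2 := Set.ncard_le_ncard h1
    rw [Set.ncard_univ, hX, hc2] at h2
    omega
  have hx₃' : x₃ ≠ x₀ := fun h => hx₃ (Or.inl (Or.inl h))
  have c3 := horb x₃ hx₃'
  have hd3 : Disjoint ({x₀} ∪ orbit W x₁ ∪ orbit W x₂ : Set X) (orbit W x₃) := by
    rw [Set.disjoint_union_left, Set.disjoint_union_left, Set.disjoint_singleton_left]
    exact ⟨⟨hx₀ x₃ hx₃', hdisj x₁ x₃ (fun h => hx₃ (Or.inl (Or.inr h)))⟩,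
      hdisj x₂ x₃ (fun h => hx₃ (Or.inr h))⟩
  have hc3 : ({x₀} ∪ orbit W x₁ ∪ orbit W x₂ ∪ orbit W x₃ : Set X).ncard = 10 := by
    rw [Set.ncard_union_eq hd3, c3, hc2]
  have huniv : ({x₀} ∪ orbit W x₁ ∪ orbit W x₂ ∪ orbit W x₃ : Set X) = Set.univ := by
    apply Set.eq_of_subset_of_ncard_le (Set.subset_univ _)
    rw [Set.ncard_univ, hX, hc3]
  have hcases : ∀ x : X, x ≠ x₀ → orbit W x ∈ ({orbit W x₁, orbit W x₂, orbit W x₃} : Set (Set X)) := by
    intro x hx
    have h1 : x ∈ ({x₀} ∪ orbit W x₁ ∪ orbit W x₂ ∪ orbit W x₃ : Set X) := by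
      rw [huniv]; exact Set.mem_univ x
    rcases h1 with ((h1 | h1) | h1) | h1
    · exact absurd h1 hx
    · left; exact orbit_eq_iff.2 h1
    · right; left; exact orbit_eq_iff.2 h1
    · right; right; exact orbit_eq_iff.2 h1
  have hTgrp : IsPGroup 2 T := IsPGroup.of_card (n := 4) (by rw [hT]; norm_num)
  have hfixne : ∀ t ∈ T, ∀ x : X, x ≠ x₀ → t • x ≠ x₀ := by
    intro t ht x hx h
    apply hx
    have h1 : t • x = t • x₀ := by rw [h, hTx t ht]
    exact smul_left_cancel t h1
  set 𝓑 : Set (Set X) := {orbit W x₁, orbit W x₂, orbit W x₃} with h𝓑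
  have h𝓑c : 𝓑.ncard ≤ 3 := by
    have h1 := Set.ncard_insert_le (orbit W x₁) {orbit W x₂, orbit W x₃}
    have h2 := Set.ncard_insert_le (orbit W x₂) {orbit W x₃}
    rw [Set.ncard_singleton] at h2
    rw [h𝓑]
    exact h1.trans (Nat.succ_le_succ h2)
  have h𝓑inv : ∀ t ∈ T, ∀ B ∈ 𝓑, t • B ∈ 𝓑 := by
    intro t ht B hB
    rcases hB with rfl | rfl | rfl
    · rw [hTorb t ht]; exact hcases _ (hfixne t ht _ hx₁')
    · rw [hTorb t ht]; exact hcases _ (hfixne t ht _ hx₂')
    · rw [hTorb t ht]; exact hcases _ (hfixne t ht _ hx₃')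
  have k1 := card_le_mul_card_fixing (p := 2) (Or.inl rfl) T hTgrp 𝓑 (Set.toFinite _) h𝓑c h𝓑inv
  set T1 : Subgroup G := T ⊓ fixingSubgroup G 𝓑 with hT1
  have hinv1 : ∀ t ∈ T1, ∀ B ∈ 𝓑, ∀ b ∈ B, t • b ∈ B := by
    intro t ht B hB b hb
    have h1 : t • B = B := (mem_fixingSubgroup_iff G).1 (Subgroup.mem_inf.1 ht).2 B hB
    rw [← h1]
    exact Set.smul_mem_smul_set hb
  have k2 := card_le_mul_card_fixing (p := 2) (Or.inl rfl) T1 (hTgrp.to_le inf_le_left)
    (orbit W x₁) (Set.toFinite _) (le_of_eq c1) (fun t ht b hb => hinv1 t ht _ (Or.inl rfl) b hb)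
  set T2 : Subgroup G := T1 ⊓ fixingSubgroup G (orbit W x₁) with hT2
  have k3 := card_le_mul_card_fixing (p := 2) (Or.inl rfl) T2
    (hTgrp.to_le (inf_le_left.trans inf_le_left))
    (orbit W x₂) (Set.toFinite _) (le_of_eq c2)
    (fun t ht b hb => hinv1 t (Subgroup.mem_inf.1 ht).1 _ (Or.inr (Or.inl rfl)) b hb)
  set T3 : Subgroup G := T2 ⊓ fixingSubgroup G (orbit W x₂) with hT3
  have hT3grp : IsPGroup 2 T3 := hTgrp.to_le (inf_le_left.trans (inf_le_left.trans inf_le_left))
  have hT3card : 2 ≤ Nat.card T3 := by omega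
  have hdvd : 2 ∣ Nat.card T3 := by
    rcases hT3grp.card_eq_or_dvd with h | h
    · omega
    · exact h
  obtain ⟨t, ht⟩ := exists_prime_orderOf_dvd_card' 2 hdvd
  have ht2 : (t : G) ^ 2 = 1 := by
    rw [← Subgroup.coe_pow, ← ht, pow_orderOf_eq_one]; rfl
  obtain ⟨m3', m4⟩ := Subgroup.mem_inf.1 t.2
  obtain ⟨m2', m3⟩ := Subgroup.mem_inf.1 m3'
  obtain ⟨m1, m2⟩ := Subgroup.mem_inf.1 m2'
  have hone := eq_one_of_seven_fixed hG2 hX (t : G) ht2 ({x₀} ∪ orbit W x₁ ∪ orbit W x₂ : Set X)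
    (by rw [hc2]) (by
      rintro x ((hx | hx) | hx)
      · rw [Set.mem_singleton_iff] at hx
        rw [hx]; exact hTx _ m1
      · exact (mem_fixingSubgroup_iff G).1 m3 x hx
      · exact (mem_fixingSubgroup_iff G).1 m4 x hx)
  have : t = 1 := Subtype.ext hone
  rw [this, orderOf_one] at ht
  omega

/-- No abelian normal subgroup regular on the other nine points, if a two-point stabilizer has
order 48. -/
theorem no_regular_nine [Finite G] [IsSimpleGroup G] [Finite X] [FaithfulSMul G X]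
    (hX : Nat.card X = 10) (hG2 : 2 < Nat.card G)
    (K W : Subgroup G) (hK : Nat.card K = 48) (x₀ x₁ : X) (hne : x₁ ≠ x₀)
    (hK0 : ∀ t ∈ K, t • x₀ = x₀) (hK1 : ∀ t ∈ K, t • x₁ = x₁) (hWx : ∀ w ∈ W, w • x₀ = x₀)
    (hKW : ∀ t ∈ K, ∀ w ∈ W, t * w * t⁻¹ ∈ W) (hWcomm : ∀ a ∈ W, ∀ b ∈ W, a * b = b * a)
    (htrans : ∀ x : X, x ≠ x₀ → ∃ w ∈ W, w • x₁ = x) : False := by
  have : Fact (Nat.Prime 2) := ⟨Nat.prime_two⟩
  have hfix : ∀ w ∈ W, w • x₁ = x₁ → w = 1 := by
    intro w hw h
    apply FaithfulSMul.eq_of_smul_eq_smul (α := X)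
    intro x
    rw [one_smul]
    by_cases hx : x = x₀
    · rw [hx, hWx w hw]
    · obtain ⟨v, hv, rfl⟩ := htrans x hx
      rw [smul_smul, hWcomm w hw v hv, mul_smul, h]
  have hinj : ∀ a ∈ W, ∀ b ∈ W, a • x₁ = b • x₁ → a = b := by
    intro a ha b hb hab
    have h1 : (b⁻¹ * a) • x₁ = x₁ := by rw [mul_smul, hab, inv_smul_smul]
    have h2 := hfix _ (W.mul_mem (W.inv_mem hb) ha) h1
    rw [inv_mul_eq_one] at h2
    exact h2.symm
  have hne' : ∀ w ∈ W, w • x₁ ≠ x₀ := by
    intro w hw h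
    apply hne
    have h1 : w • x₁ = w • x₀ := by rw [h, hWx w hw]
    exact smul_left_cancel w h1
  have himg : (fun w : G => w • x₁) '' (W : Set G) = ({x₀} : Set X)ᶜ := by
    ext x
    constructor
    · rintro ⟨w, hw, rfl⟩
      exact hne' w hw
    · intro hx
      obtain ⟨w, hw, h⟩ := htrans x hx
      exact ⟨w, hw, h⟩
  have hW9 : Nat.card W = 9 := by
    have h1 : ((fun w : G => w • x₁) '' (W : Set G)).ncard = (W : Set G).ncard :=
      Set.InjOn.ncard_image (fun a ha b hb hab => hinj a ha b hb hab)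
    have h2 := Set.ncard_add_ncard_compl ({x₀} : Set X)
    rw [himg] at h1
    rw [Set.ncard_singleton, hX, h1] at h2
    have h3 : (W : Set G).ncard = Nat.card W := rfl
    omega
  obtain ⟨w₁, hw₁, hw₁ne⟩ : ∃ w₁ ∈ W, w₁ ≠ 1 := by
    by_contra hcon
    push Not at hcon
    have : W = ⊥ := by
      rw [Subgroup.eq_bot_iff_forall]; exact hcon
    rw [this, Subgroup.card_bot] at hW9
    omega
  have hcard := card_le_ncard_mul K w₁ ((W : Set G) \ {1}) (by
    intro k hk
    refine ⟨hKW k hk w₁ hw₁, ?_⟩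
    rw [Set.mem_singleton_iff]
    intro h
    apply hw₁ne
    have h1 : w₁ = k⁻¹ * (k * w₁ * k⁻¹) * k := by group
    rw [h1, h]; group)
  have hS : ((W : Set G) \ {1}).ncard = 8 := by
    rw [Set.ncard_sdiff_singleton_of_mem W.one_mem]
    have h3 : (W : Set G).ncard = Nat.card W := rfl
    omega
  rw [hS, hK] at hcard
  set C : Subgroup G := K ⊓ centralizer {w₁} with hC
  have hCd : Nat.card C ∣ 48 := by
    rw [← hK]; exact Subgroup.card_dvd_of_le inf_le_left
  have hC2 : 2 ∣ Nat.card C := by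
    by_contra hodd
    have hcop : Nat.Coprime (Nat.card C) 16 := by
      rw [show (16 : ℕ) = 2 ^ 4 by norm_num]
      apply Nat.Coprime.pow_right
      rw [Nat.coprime_comm, Nat.Prime.coprime_iff_not_dvd Nat.prime_two]
      exact hodd
    have h3 : Nat.card C ∣ 3 := by
      apply hcop.dvd_of_dvd_mul_left
      exact hCd
    have := Nat.le_of_dvd (by norm_num) h3
    omega
  obtain ⟨t, ht⟩ := exists_prime_orderOf_dvd_card' 2 hC2
  have ht2 : (t : G) ^ 2 = 1 := by
    rw [← Subgroup.coe_pow, ← ht, pow_orderOf_eq_one]; rfl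
  obtain ⟨htK, htc⟩ := Subgroup.mem_inf.1 t.2
  rw [mem_centralizer_singleton_iff] at htc
  have htne : (t : G) ≠ 1 := by
    intro h
    have : t = 1 := Subtype.ext h
    rw [this, orderOf_one] at ht
    omega
  have hsm : ∀ w ∈ W, (t : G) • w • x₁ = w • x₁ ↔ t * w = w * (t : G) := by
    intro w hw
    have h1 : (t : G) • w • x₁ = (t * w * (t : G)⁻¹) • x₁ := by
      rw [mul_smul, mul_smul]
      congr 2
      rw [eq_inv_smul_iff]
      exact hK1 _ htK
    rw [h1]
    constructor
    · intro h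
      have := hinj _ (hKW _ htK w hw) w hw h
      exact mul_inv_eq_iff_eq_mul.mp this
    · intro h
      rw [h]; simp
  set D : Subgroup G := W ⊓ centralizer {(t : G)} with hD
  have hDW : Nat.card D ∣ 9 := by
    rw [← hW9]; exact Subgroup.card_dvd_of_le inf_le_left
  have hw₁D : w₁ ∈ D := by
    refine Subgroup.mem_inf.2 ⟨hw₁, ?_⟩
    rw [mem_centralizer_singleton_iff]
    exact htc.symm
  have hD1 : Nat.card D ≠ 1 := by
    intro h
    rw [Subgroup.card_eq_one] at h
    rw [h, Subgroup.mem_bot] at hw₁D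
    exact hw₁ne hw₁D
  have hD9 : Nat.card D ≠ 9 := by
    intro h
    have h1 : D = W := by
      apply Subgroup.eq_of_le_of_card_ge inf_le_left
      rw [h, hW9]
    apply htne
    apply FaithfulSMul.eq_of_smul_eq_smul (α := X)
    intro x
    rw [one_smul]
    by_cases hx : x = x₀
    · rw [hx, hK0 _ htK]
    · obtain ⟨v, hv, rfl⟩ := htrans x hx
      rw [hsm v hv]
      rw [← h1] at hv
      exact ((mem_centralizer_singleton_iff).1 (Subgroup.mem_inf.1 hv).2).symm
  have hD3 : Nat.card D = 3 := by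
    have h1 : Nat.card D ≤ 9 := Nat.le_of_dvd (by norm_num) hDW
    have h0 : 0 < Nat.card D := Nat.card_pos
    interval_cases h : Nat.card D <;> first | rfl | (exfalso; revert hDW; decide) | omega
  have hFix : {x : X | (t : G) • x = x} = {x₀} ∪ (fun w : G => w • x₁) '' (D : Set G) := by
    ext x
    constructor
    · intro hx
      by_cases hx0 : x = x₀
      · left; exact hx0
      · right
        obtain ⟨v, hv, rfl⟩ := htrans x hx0
        refine ⟨v, Subgroup.mem_inf.2 ⟨hv, ?_⟩, rfl⟩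
        rw [mem_centralizer_singleton_iff]
        exact ((hsm v hv).1 hx).symm
    · rintro (hx | ⟨v, hv, rfl⟩)
      · rw [Set.mem_singleton_iff] at hx
        rw [hx]; exact hK0 _ htK
      · have hv' := Subgroup.mem_inf.1 hv
        exact (hsm v hv'.1).2 ((mem_centralizer_singleton_iff).1 hv'.2).symm
  have hFc : Nat.card {x : X // (t : G) • x = x} = 4 := by
    have h1 : Nat.card {x : X // (t : G) • x = x} = ({x : X | (t : G) • x = x}).ncard := rfl
    rw [h1, hFix, Set.ncard_union_eq, Set.ncard_singleton, Set.InjOn.ncard_image]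
    · have h3 : (D : Set G).ncard = Nat.card D := rfl
      omega
    · exact fun a ha b hb hab => hinj a (Subgroup.mem_inf.1 ha).1 b (Subgroup.mem_inf.1 hb).1 hab
    · rw [Set.disjoint_singleton_left]
      rintro ⟨v, hv, h⟩
      exact hne' v (Subgroup.mem_inf.1 hv).1 h
  obtain ⟨k, hk⟩ := Parity.card_modEq_four hG2 (X := X) (t : G) ht2
  omega

/-- Orbits of a 3-group: size different from 1 is at least 3. -/
theorem orbit_ncard_of_move [Finite G] [Finite X] (P : Subgroup G) (hP : IsPGroup 3 P) (x : X) (a : G)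
    (ha : a ∈ P) (hax : a • x ≠ x) : 3 ≤ (orbit P x).ncard := by
  have : Fact (Nat.Prime 3) := ⟨Nat.prime_three⟩
  obtain ⟨n, hn⟩ := hP.card_orbit x
  rw [← Nat.card_coe_set_eq, hn]
  rcases Nat.eq_zero_or_pos n with h0 | h0
  · exfalso
    rw [h0, pow_zero, Nat.card_eq_one_iff_unique] at hn
    obtain ⟨hs, -⟩ := hn
    apply hax
    have h1 : (⟨(⟨a, ha⟩ : P) • x, mem_orbit x _⟩ : orbit P x) = ⟨x, mem_orbit_self x⟩ :=
      Subsingleton.elim _ _
    exact congrArg Subtype.val h1
  · calc 3 = 3 ^ 1 := by norm_num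
      _ ≤ 3 ^ n := Nat.pow_le_pow_right (by norm_num) h0

/-- Use of Jordan's theorem on 3-cycles. -/
theorem no_small_orbits [Finite G] [Finite X] [FaithfulSMul G X]
    [hprim : IsPreprimitive G X] (hX : Nat.card X = 10) (hG : Nat.card G = 4320)
    (P : Subgroup G) (hP : Nat.card P = 27) (x₀ : X) (hx₀ : ∀ a ∈ P, a • x₀ = x₀)
    (hsmall : ∀ x : X, (orbit P x).ncard ≤ 3) : False := by
  classical
  have := Fintype.ofFinite X
  have : Fact (Nat.Prime 3) := ⟨Nat.prime_three⟩
  have hPgrp : IsPGroup 3 P := IsPGroup.of_card (n := 3) (by rw [hP]; norm_num)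
  have hmove : ∀ Q : Subgroup G, 1 < Nat.card Q → ∃ a ∈ Q, ∃ x : X, a • x ≠ x := by
    intro Q hQ
    by_contra hcon
    push Not at hcon
    have h1 : Q = ⊥ := by
      rw [Subgroup.eq_bot_iff_forall]
      intro a ha
      apply FaithfulSMul.eq_of_smul_eq_smul (α := X)
      intro x
      rw [hcon a ha, one_smul]
    rw [h1, Subgroup.card_bot] at hQ
    omega
  have hinv : ∀ x : X, ∀ t ∈ P, ∀ b ∈ orbit P x, t • b ∈ orbit P x := by
    rintro x t ht _ ⟨a, rfl⟩
    exact ⟨⟨t, ht⟩ * a, mul_smul _ _ _⟩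
  obtain ⟨a₁, ha₁, x₁, hx₁⟩ := hmove P (by omega)
  have c1 : (orbit P x₁).ncard = 3 :=
    le_antisymm (hsmall x₁) (orbit_ncard_of_move P hPgrp x₁ a₁ ha₁ hx₁)
  have k1 := card_le_mul_card_fixing (p := 3) (Or.inr rfl) P hPgrp (orbit P x₁) (Set.toFinite _)
    (le_of_eq c1) (hinv x₁)
  set P1 : Subgroup G := P ⊓ fixingSubgroup G (orbit P x₁) with hP1
  obtain ⟨a₂, ha₂, x₂, hx₂⟩ := hmove P1 (by omega)
  have c2 : (orbit P x₂).ncard = 3 :=
    le_antisymm (hsmall x₂) (orbit_ncard_of_move P hPgrp x₂ a₂ (Subgroup.mem_inf.1 ha₂).1 hx₂)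
  have k2 := card_le_mul_card_fixing (p := 3) (Or.inr rfl) P1 (hPgrp.to_le inf_le_left)
    (orbit P x₂) (Set.toFinite _) (le_of_eq c2)
    (fun t ht b hb => hinv x₂ t (Subgroup.mem_inf.1 ht).1 b hb)
  set P2 : Subgroup G := P1 ⊓ fixingSubgroup G (orbit P x₂) with hP2
  obtain ⟨a₃, ha₃, x₃, hx₃⟩ := hmove P2 (by omega)
  obtain ⟨m3', m3⟩ := Subgroup.mem_inf.1 ha₃
  obtain ⟨m1, m2⟩ := Subgroup.mem_inf.1 m3'
  rw [mem_fixingSubgroup_iff] at m2 m3
  have hx2n : x₂ ∉ orbit P x₁ := by
    intro h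
    exact hx₂ ((mem_fixingSubgroup_iff G).1 (Subgroup.mem_inf.1 ha₂).2 x₂ h)
  have hdisj : Disjoint (orbit P x₁) (orbit P x₂) := by
    rw [Set.disjoint_left]
    intro z hz1 hz2
    apply hx2n
    rw [← orbit_eq_iff.2 hz1, orbit_eq_iff.2 hz2]
    exact mem_orbit_self x₂
  have hx₀' : ∀ x : X, (orbit P x).ncard = 3 → x₀ ∉ orbit P x := by
    intro x hx h
    rw [← orbit_eq_iff.2 h] at hx
    have h1 : orbit P x₀ = {x₀} := by
      ext y
      constructor
      · rintro ⟨a, rfl⟩
        exact hx₀ a a.2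
      · rintro rfl
        exact mem_orbit_self _
    rw [h1, Set.ncard_singleton] at hx
    omega
  have hF : ({x₀} ∪ orbit P x₁ ∪ orbit P x₂ : Set X).ncard = 7 := by
    rw [Set.ncard_union_eq, Set.ncard_union_eq, Set.ncard_singleton, c1, c2]
    · rw [Set.disjoint_singleton_left]; exact hx₀' x₁ c1
    · rw [Set.disjoint_union_left, Set.disjoint_singleton_left]
      exact ⟨hx₀' x₂ c2, hdisj⟩
  set σ : Equiv.Perm X := MulAction.toPermHom G X a₃ with hσ
  have hσne : σ ≠ 1 := by
    intro h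
    apply hx₃
    have := congrArg (fun τ : Equiv.Perm X => τ x₃) h
    exact this
  have hσs : σ.support.card ≤ 3 := by
    have h1 : (σ.support : Set X) ⊆ ({x₀} ∪ orbit P x₁ ∪ orbit P x₂ : Set X)ᶜ := by
      intro x hx
      rw [Finset.mem_coe, Equiv.Perm.mem_support] at hx
      intro hx'
      apply hx
      show a₃ • x = x
      rcases hx' with (h | h) | h
      · rw [Set.mem_singleton_iff] at h; rw [h]; exact hx₀ _ m1
      · exact m2 x h
      · exact m3 x h
    have h2 := Set.ncard_le_ncard h1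
    have h3 := Set.ncard_add_ncard_compl ({x₀} ∪ orbit P x₁ ∪ orbit P x₂ : Set X)
    rw [Set.ncard_coe_finset] at h2
    omega
  have hσ27 : σ ^ 27 = 1 := by
    rw [hσ, ← map_pow]
    have : a₃ ^ 27 = 1 := by
      have h1 : (⟨a₃, m1⟩ : P) ^ Nat.card P = 1 := pow_card_eq_one'
      rw [hP] at h1
      exact congrArg Subtype.val h1
    rw [this, map_one]
  have h3 : σ.IsThreeCycle := by
    rw [← card_support_eq_three_iff]
    have h0 : σ.support.card ≠ 0 := by
      rw [Ne, Finset.card_eq_zero, Equiv.Perm.support_eq_empty_iff]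
      exact hσne
    have h1 := Equiv.Perm.card_support_ne_one σ
    have h2 : σ.support.card ≠ 2 := by
      rw [Ne, Equiv.Perm.card_support_eq_two]
      intro hsw
      have h4 := hsw.orderOf
      have h5 := orderOf_dvd_of_pow_eq_one hσ27
      rw [h4] at h5
      omega
    omega
  have hprim' : IsPreprimitive (MulAction.toPermHom G X).range X := by
    let f : X →ₑ[(MulAction.toPermHom G X).rangeRestrict] X := ⟨id, fun g x => rfl⟩
    exact IsPreprimitive.of_surjective (f := f) Function.surjective_id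
  have hA := Equiv.Perm.alternatingGroup_le_of_isPreprimitive_of_isThreeCycle_mem hprim' h3
    ⟨a₃, rfl⟩
  have hA' := Subgroup.card_le_of_le hA
  have hnt : Nontrivial X := by
    rw [← Fintype.one_lt_card_iff_nontrivial, ← Nat.card_eq_fintype_card, hX]; omega
  have h4 := two_mul_nat_card_alternatingGroup (α := X)
  rw [Nat.card_perm, hX] at h4
  have h5 : Nat.card (MulAction.toPermHom G X).range ≤ 4320 := by
    rw [← hG]
    exact Nat.card_le_card_of_surjective _ (MulAction.toPermHom G X).rangeRestrict_surjective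
  have h6 : (10 : ℕ).factorial = 3628800 := by decide
  omega

/-- Orbits of a nontrivial normal 3-subgroup of a group transitive on the other 9 points. -/
theorem orbits_three_or_nine [Finite G] [Finite X] [FaithfulSMul G X]
    (hX : Nat.card X = 10) (H W : Subgroup G) (x₀ : X)
    (htrans : ∀ x y : X, x ≠ x₀ → y ≠ x₀ → ∃ h ∈ H, h • x = y)
    (hWx : ∀ w ∈ W, w • x₀ = x₀) (hWp : IsPGroup 3 W) (hW : W ≠ ⊥)
    (hHW : ∀ h ∈ H, ∀ w ∈ W, h * w * h⁻¹ ∈ W) :
    (∀ x : X, x ≠ x₀ → (orbit W x).ncard = 3) ∨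
      (∀ x y : X, x ≠ x₀ → y ≠ x₀ → ∃ w ∈ W, w • x = y) := by
  have : Fact (Nat.Prime 3) := ⟨Nat.prime_three⟩
  have hHorb : ∀ t ∈ H, ∀ x : X, t • orbit W x = orbit W (t • x) := by
    intro t ht x
    ext y
    constructor
    · rintro ⟨_, ⟨w, rfl⟩, rfl⟩
      refine ⟨⟨t * w * t⁻¹, hHW t ht w w.2⟩, ?_⟩
      show (t * w * t⁻¹) • t • x = t • (w : G) • x
      rw [smul_smul, smul_smul]; group
    · rintro ⟨w, rfl⟩
      refine ⟨(t⁻¹ * w * t) • x, ⟨⟨t⁻¹ * w * t, ?_⟩, rfl⟩, ?_⟩
      · have := hHW t⁻¹ (H.inv_mem ht) w w.2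
        rwa [inv_inv] at this
      · show t • (t⁻¹ * w * t) • x = (w : G) • t • x
        rw [smul_smul, smul_smul]; group
  have hsize : ∀ x y : X, x ≠ x₀ → y ≠ x₀ → (orbit W x).ncard = (orbit W y).ncard := by
    intro x y hx hy
    obtain ⟨h, hh, rfl⟩ := htrans x y hx hy
    rw [← hHorb h hh, Set.ncard_smul_set]
  have hcompl : ({x₀} : Set X)ᶜ.ncard = 9 := by
    have h2 := Set.ncard_add_ncard_compl ({x₀} : Set X)
    rw [Set.ncard_singleton, hX] at h2
    omega
  have hsub : ∀ x : X, x ≠ x₀ → orbit W x ⊆ ({x₀} : Set X)ᶜ := by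
    rintro x hx _ ⟨w, rfl⟩ h
    apply hx
    have h1 : (w : G) • x = (w : G) • x₀ := by
      rw [hWx w w.2]; exact h
    exact smul_left_cancel _ h1
  by_cases h3 : ∀ x : X, x ≠ x₀ → (orbit W x).ncard = 3
  · exact Or.inl h3
  · right
    push Not at h3
    obtain ⟨x₁, hx₁, h3⟩ := h3
    obtain ⟨n, hn⟩ := hWp.card_orbit x₁
    rw [Nat.card_coe_set_eq] at hn
    have hle : (orbit W x₁).ncard ≤ 9 := by
      rw [← hcompl]; exact Set.ncard_le_ncard (hsub x₁ hx₁)
    have hn0 : n ≠ 0 := by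
      rintro rfl
      apply hW
      rw [Subgroup.eq_bot_iff_forall]
      intro w hw
      apply FaithfulSMul.eq_of_smul_eq_smul (α := X)
      intro x
      rw [one_smul]
      by_cases hx : x = x₀
      · rw [hx, hWx w hw]
      · by_contra hmove
        have h4 := orbit_ncard_of_move W hWp x w hw hmove
        rw [hsize x x₁ hx hx₁, hn] at h4
        norm_num at h4
    have hn1 : n ≠ 1 := by
      rintro rfl
      apply h3
      rw [hn]; norm_num
    have hn2 : n = 2 := by
      rw [hn] at hle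
      by_contra hne
      have h5 : 3 ^ 3 ≤ 3 ^ n := Nat.pow_le_pow_right (by norm_num) (by omega)
      omega
    have horb9 : (orbit W x₁).ncard = 9 := by rw [hn, hn2]; norm_num
    intro x y hx hy
    have h6 : orbit W x = ({x₀} : Set X)ᶜ := by
      apply Set.eq_of_subset_of_ncard_le (hsub x hx)
      rw [hcompl, hsize x x₁ hx hx₁, horb9]
    have h7 : y ∈ orbit W x := by rw [h6]; exact hy
    obtain ⟨w, hw⟩ := h7
    exact ⟨w, w.2, hw⟩

/-- Existence of subgroups of prime power order inside a subgroup. -/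
theorem exists_le_card_eq [Finite G] (H : Subgroup G) (p n : ℕ) [Fact p.Prime]
    (h : p ^ n ∣ Nat.card H) : ∃ P : Subgroup G, P ≤ H ∧ Nat.card P = p ^ n := by
  obtain ⟨K, hK⟩ := Sylow.exists_subgroup_card_pow_prime p h
  refine ⟨K.map H.subtype, Subgroup.map_subtype_le K, ?_⟩
  rw [← hK]
  exact (Nat.card_congr (Subgroup.equivMapOfInjective _ _ H.subtype_injective).toEquiv).symm

/-- A simple group of order 4320 acting faithfully and primitively on 10 points: no subgroup of
order 432 fixing a point normalizes a nontrivial 3-subgroup contained in it. -/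
theorem no_ten_points [Finite G] [IsSimpleGroup G] [Finite X] [FaithfulSMul G X]
    [hprim : IsPreprimitive G X] (hG : Nat.card G = 4320) (hX : Nat.card X = 10) (x₀ : X)
    (H W : Subgroup G) (hH : Nat.card H = 432) (hHx : ∀ h ∈ H, h • x₀ = x₀)
    (hW : W ≠ ⊥) (hWp : IsPGroup 3 W) (hWH : W ≤ H)
    (hHW : ∀ h ∈ H, ∀ w ∈ W, h * w * h⁻¹ ∈ W) : False := by
  have : Fact (Nat.Prime 3) := ⟨Nat.prime_three⟩
  have : Fact (Nat.Prime 2) := ⟨Nat.prime_two⟩
  have hG2 : 2 < Nat.card G := by omega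
  have hnt : Nontrivial X := by
    rw [← Finite.one_lt_card_iff_nontrivial, hX]; omega
  obtain ⟨P, hPH, hP⟩ := exists_le_card_eq H 3 3 (by rw [hH]; norm_num)
  obtain ⟨T, hTH, hT⟩ := exists_le_card_eq H 2 4 (by rw [hH]; norm_num)
  have hPgrp : IsPGroup 3 P := IsPGroup.of_card hP
  have hPx : ∀ h ∈ P, h • x₀ = x₀ := fun h hh => hHx h (hPH hh)
  -- transitivity of `P`
  have hPtrans : ∀ x y : X, x ≠ x₀ → y ≠ x₀ → ∃ h ∈ P, h • x = y := by
    by_contra hcon
    apply no_small_orbits hX hG P (by rw [hP]; norm_num) x₀ hPx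
    intro x
    by_contra hlt
    push Not at hlt
    apply hcon
    have hxx₀ : x ≠ x₀ := by
      intro hxx
      rw [hxx] at hlt
      have h1 : orbit P x₀ = {x₀} := by
        ext y
        constructor
        · rintro ⟨a, rfl⟩
          exact hPx a a.2
        · rintro rfl
          exact mem_orbit_self _
      rw [h1, Set.ncard_singleton] at hlt
      omega
    have hcompl : ({x₀} : Set (X))ᶜ.ncard = 9 := by
      have h2 := Set.ncard_add_ncard_compl ({x₀} : Set (X))
      rw [Set.ncard_singleton, hX] at h2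
      omega
    have hsub : orbit P x ⊆ ({x₀} : Set (X))ᶜ := by
      rintro _ ⟨w, rfl⟩ h
      apply hxx₀
      have h1 : (w : G) • x = (w : G) • x₀ := by
        rw [hPx w w.2]; exact h
      exact smul_left_cancel _ h1
    obtain ⟨n, hn⟩ := hPgrp.card_orbit x
    rw [Nat.card_coe_set_eq] at hn
    have hn2 : 2 ≤ n := by
      by_contra hn2
      have : 3 ^ n ≤ 3 ^ 1 := Nat.pow_le_pow_right (by norm_num) (by omega)
      omega
    have h9 : 3 ^ 2 ≤ 3 ^ n := Nat.pow_le_pow_right (by norm_num) hn2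
    have horb : orbit P x = ({x₀} : Set (X))ᶜ := by
      apply Set.eq_of_subset_of_ncard_le hsub
      omega
    have hmem : ∀ y : X, y ≠ x₀ → ∃ h ∈ P, h • x = y := by
      intro y hy
      have : y ∈ orbit P x := by rw [horb]; exact hy
      obtain ⟨w, hw⟩ := this
      exact ⟨w, w.2, hw⟩
    intro y z hy hz
    obtain ⟨a, ha, rfl⟩ := hmem y hy
    obtain ⟨b, hb, rfl⟩ := hmem z hz
    refine ⟨b * a⁻¹, P.mul_mem hb (P.inv_mem ha), ?_⟩
    rw [mul_smul, inv_smul_smul]
  have hHtrans : ∀ x y : X, x ≠ x₀ → y ≠ x₀ → ∃ h ∈ H, h • x = y := by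
    intro x y hx hy
    obtain ⟨h, hh, e⟩ := hPtrans x y hx hy
    exact ⟨h, hPH hh, e⟩
  rcases orbits_three_or_nine hX H W x₀ hHtrans (fun w hw => hHx w (hWH hw)) hWp hW hHW with h3 | h9
  · exact no_orbits_three hX hG2 T W (by rw [hT]; norm_num) x₀ (fun t ht => hHx t (hTH ht))
      (fun w hw => hHx w (hWH hw)) (fun t ht => hHW t (hTH ht)) h3
  · -- replace `W` by its centre
    set Z : Subgroup G := (center W).map W.subtype with hZ
    have hZW : Z ≤ W := Subgroup.map_subtype_le _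
    have hWnt : Nontrivial W := by
      rwa [Subgroup.nontrivial_iff_ne_bot]
    have hcnt : Nontrivial (center W) := hWp.center_nontrivial
    have hZne : Z ≠ ⊥ := by
      intro h
      rw [hZ, Subgroup.map_eq_bot_iff_of_injective _ W.subtype_injective] at h
      exact (Subgroup.nontrivial_iff_ne_bot _).1 hcnt h
    have hZmem : ∀ z, z ∈ Z ↔ z ∈ W ∧ ∀ w ∈ W, w * z = z * w := by
      intro z
      constructor
      · rintro ⟨y, hy, rfl⟩
        refine ⟨y.2, fun w hw => ?_⟩
        have := Subgroup.mem_center_iff.1 hy ⟨w, hw⟩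
        exact congrArg Subtype.val this
      · rintro ⟨hzW, hz⟩
        refine ⟨⟨z, hzW⟩, ?_, rfl⟩
        rw [SetLike.mem_coe, Subgroup.mem_center_iff]
        rintro ⟨w, hw⟩
        exact Subtype.ext (hz w hw)
    have hHZ : ∀ h ∈ H, ∀ z ∈ Z, h * z * h⁻¹ ∈ Z := by
      intro h hh z hz
      rw [hZmem] at hz ⊢
      refine ⟨hHW h hh z hz.1, fun w hw => ?_⟩
      have h1 := hz.2 (h⁻¹ * w * h) (by
        have := hHW h⁻¹ (H.inv_mem hh) w hw
        rwa [inv_inv] at this)
      calc w * (h * z * h⁻¹) = h * ((h⁻¹ * w * h) * z) * h⁻¹ := by group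
        _ = h * (z * (h⁻¹ * w * h)) * h⁻¹ := by rw [h1]
        _ = h * z * h⁻¹ * w := by group
    have hZp : IsPGroup 3 Z := hWp.to_le hZW
    have hZx : ∀ w ∈ Z, w • x₀ = x₀ := fun w hw => hHx w (hWH (hZW hw))
    rcases orbits_three_or_nine hX H Z x₀ hHtrans hZx hZp hZne hHZ with h3 | h9'
    · exact no_orbits_three hX hG2 T Z (by rw [hT]; norm_num) x₀ (fun t ht => hHx t (hTH ht))
        hZx (fun t ht => hHZ t (hTH ht)) h3
    · obtain ⟨x₁, hx₁⟩ := exists_ne x₀
      have horbH : orbit H x₁ = ({x₀} : Set (X))ᶜ := by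
        ext y
        constructor
        · rintro ⟨h, rfl⟩ h1
          apply hx₁
          have h2 : (h : G) • x₁ = (h : G) • x₀ := by
            rw [hHx h h.2]; exact h1
          exact smul_left_cancel _ h2
        · intro hy
          obtain ⟨h, hh, e⟩ := hHtrans x₁ y hx₁ hy
          exact ⟨⟨h, hh⟩, e⟩
      have hcompl : ({x₀} : Set (X))ᶜ.ncard = 9 := by
        have h2 := Set.ncard_add_ncard_compl ({x₀} : Set (X))
        rw [Set.ncard_singleton, hX] at h2
        omega
      set K : Subgroup G := H ⊓ stabilizer G x₁ with hK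
      have hKc : Nat.card K = 48 := by
        have h1 := Nat.card_congr (MulAction.orbitProdStabilizerEquivGroup H x₁)
        rw [Nat.card_prod, horbH, Nat.card_coe_set_eq, hcompl, hH] at h1
        have h2 : Nat.card (stabilizer H x₁) = Nat.card K := by
          have h6 : (stabilizer H x₁).map H.subtype = K := by
            ext g
            constructor
            · rintro ⟨t, ht, rfl⟩
              exact Subgroup.mem_inf.2 ⟨t.2, ht⟩
            · intro hg'
              obtain ⟨hgT, hg⟩ := Subgroup.mem_inf.1 hg'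
              exact ⟨⟨g, hgT⟩, hg, rfl⟩
          rw [← h6]
          exact Nat.card_congr (Subgroup.equivMapOfInjective _ _ H.subtype_injective).toEquiv
        omega
      exact no_regular_nine hX hG2 K Z hKc x₀ x₁ hx₁
        (fun t ht => hHx t (Subgroup.mem_inf.1 ht).1) (fun t ht => (Subgroup.mem_inf.1 ht).2)
        hZx (fun t ht => hHZ t (Subgroup.mem_inf.1 ht).1)
        (fun a ha b hb => ((hZmem b).1 hb).2 a (hZW ha))
        (fun x hx => h9' x₁ x hx₁ hx)

/-- In a simple group of order 4320, no subgroup of order 432 normalizes a nontrivial 3-subgroup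
contained in it. -/
theorem no_index_ten {G : Type*} [Group G] [Finite G] [IsSimpleGroup G] (hG : Nat.card G = 4320)
    (H W : Subgroup G) (hH : Nat.card H = 432) (hW : W ≠ ⊥) (hWp : IsPGroup 3 W) (hWH : W ≤ H)
    (hHW : ∀ h ∈ H, ∀ w ∈ W, h * w * h⁻¹ ∈ W) : False := by
  have : Fact (Nat.Prime 3) := ⟨Nat.prime_three⟩
  have : Fact (Nat.Prime 2) := ⟨Nat.prime_two⟩
  have hG2 : 2 < Nat.card G := by omega
  have hindex : H.index = 10 := by
    have := H.card_mul_index
    rw [hG, hH] at this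
    omega
  have hX : Nat.card (G ⧸ H) = 10 := hindex
  have hHtop : H ≠ ⊤ := by
    rintro rfl
    rw [Subgroup.index_top] at hindex
    omega
  have hker : (MulAction.toPermHom G (G ⧸ H)).ker = ⊥ := by
    rw [← Subgroup.normalCore_eq_ker]
    rcases (inferInstance : H.normalCore.Normal).eq_bot_or_eq_top with h | h
    · exact h
    · exfalso
      apply hHtop
      rw [eq_top_iff, ← h]
      exact Subgroup.normalCore_le H
  have hfaith : FaithfulSMul G (G ⧸ H) := by
    refine ⟨fun {a b} hab => ?_⟩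
    apply (MonoidHom.ker_eq_bot_iff _).1 hker
    ext x
    exact hab x
  set x₀ : G ⧸ H := ((1 : G) : G ⧸ H) with hx₀
  have hstab : stabilizer G x₀ = H := stabilizer_quotient H
  have hnt : Nontrivial (G ⧸ H) := by
    rw [← Finite.one_lt_card_iff_nontrivial, hX]; omega
  have hcoatom : IsCoatom H := by
    refine ⟨hHtop, fun K hK => ?_⟩
    by_contra hKtop
    have h1 := SylowCount.card_dvd_factorial_index K hKtop
    have h2 : K.index ∣ 10 := by rw [← hindex]; exact Subgroup.index_dvd_of_le hK.le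
    have h3 : K.index ≠ 10 := by
      intro h3
      have h4 : Nat.card K = 432 := by
        have := K.card_mul_index
        rw [hG, h3] at this
        omega
      exact hK.ne (Subgroup.eq_of_le_of_card_ge hK.le (by omega))
    have h5 : K.index ≤ 5 := by
      obtain ⟨c, hc⟩ := h2
      have hc1 : c ≠ 1 := by rintro rfl; omega
      have hc0 : c ≠ 0 := by rintro rfl; omega
      have : 2 ≤ c := by omega
      nlinarith
    have h6 : K.index.factorial ∣ (5 : ℕ).factorial := Nat.factorial_dvd_factorial h5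
    have h7 := h1.trans h6
    rw [hG] at h7
    revert h7
    decide
  have hprim : IsPreprimitive G (G ⧸ H) := by
    rw [← isCoatom_stabilizer_iff_preprimitive G x₀, hstab]
    exact hcoatom
  have hHx : ∀ h ∈ H, h • x₀ = x₀ := by
    intro h hh
    rw [← hstab] at hh
    exact hh
  exact no_ten_points hG hX x₀ H W hH hHx hW hWp hWH hHW

end Cfsg.Agent.SmallSimple.Order4320A
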