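import Mathlib
import Cfsg.Agent.SmallSimple.Order4320A
import Cfsg.Agent.SmallSimple.SylowInter

set_option autoImplicit false

namespace Cfsg.Agent.SmallSimple.Order4320B

open MulAction Subgroup
open scoped Pointwise

variable {G : Type*} [Group G]

/-- The subgroups of order 27 contained in `X`. -/
def syl (X : Subgroup G) : Set (Subgroup G) := {Q | Nat.card Q = 27 ∧ Q ≤ X}

theorem mem_syl {X Q : Subgroup G} : Q ∈ syl X ↔ Nat.card Q = 27 ∧ Q ≤ X := Iff.rfl

theorem syl_mono {X Y : Subgroup G} (h : X ≤ Y) : syl X ⊆ syl Y :=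
  fun _ hQ => ⟨hQ.1, hQ.2.trans h⟩

/-- `|X|` is 27 times a number prime to 3. -/
theorem card_sylow_of [Finite G] (X : Subgroup G) (h27 : 27 ∣ Nat.card X) (h81 : ¬ 81 ∣ Nat.card X)
    (Q : Sylow 3 X) : Nat.card Q = 27 := by
  have : Fact (Nat.Prime 3) := ⟨Nat.prime_three⟩
  have h1 : 3 ^ 3 ∣ Nat.card Q := Q.pow_dvd_card_of_pow_dvd_card (by norm_num; exact h27)
  obtain ⟨n, hn⟩ := Q.isPGroup'.exists_card_eq
  have h2 : Nat.card Q ∣ Nat.card X := Subgroup.card_subgroup_dvd_card _
  rw [hn] at h1 h2 ⊢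
  have h3 : 3 ≤ n := (Nat.pow_dvd_pow_iff_le_right (by norm_num)).1 h1
  have h4 : n < 4 := by
    by_contra h4
    apply h81
    have h5 : 3 ^ 4 ∣ 3 ^ n := pow_dvd_pow 3 (by omega)
    have := h5.trans h2
    norm_num at this
    exact this
  have : n = 3 := by omega
  rw [this]; norm_num

/-- Sylow 3-subgroups of `X` as subgroups of `G`. -/
theorem exists_sylow_eq [Finite G] (X : Subgroup G) (h81 : ¬ 81 ∣ Nat.card X) (Q : Subgroup G)
    (hQ : Q ∈ syl X) : ∃ Q' : Sylow 3 X, (Q' : Subgroup X) = Q.subgroupOf X := by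
  have : Fact (Nat.Prime 3) := ⟨Nat.prime_three⟩
  have hc : Nat.card (Q.subgroupOf X) = 27 := by
    rw [Nat.card_congr (Subgroup.subgroupOfEquivOfLe hQ.2).toEquiv, hQ.1]
  have h27 : 27 ∣ Nat.card X := by
    rw [← hQ.1]; exact Subgroup.card_dvd_of_le hQ.2
  obtain ⟨Q', hQ'⟩ := (IsPGroup.of_card (p := 3) (n := 3) (by rw [hc]; norm_num) :
    IsPGroup 3 (Q.subgroupOf X)).exists_le_sylow
  refine ⟨Q', ?_⟩
  symm
  apply Subgroup.eq_of_le_of_card_ge hQ'
  rw [hc]
  exact (card_sylow_of X h27 h81 Q').le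

theorem ncard_syl [Finite G] (X : Subgroup G) (h27 : 27 ∣ Nat.card X) (h81 : ¬ 81 ∣ Nat.card X) :
    (syl X).ncard = Nat.card (Sylow 3 X) := by
  have : Fact (Nat.Prime 3) := ⟨Nat.prime_three⟩
  symm
  rw [← Nat.card_coe_set_eq]
  refine Nat.card_congr (Equiv.ofBijective (fun Q : Sylow 3 X =>
    (⟨(Q : Subgroup X).map X.subtype, ?_, Subgroup.map_subtype_le _⟩ : syl X)) ⟨?_, ?_⟩)
  · rw [← Nat.card_congr (Subgroup.equivMapOfInjective _ _ X.subtype_injective).toEquiv]
    exact card_sylow_of X h27 h81 Q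
  · intro P Q hPQ
    have h1 : (P : Subgroup X).map X.subtype = (Q : Subgroup X).map X.subtype :=
      congrArg Subtype.val hPQ
    exact Sylow.ext (Subgroup.map_injective X.subtype_injective h1)
  · rintro ⟨Q, hQ⟩
    obtain ⟨Q', hQ'⟩ := exists_sylow_eq X h81 Q hQ
    refine ⟨Q', Subtype.ext ?_⟩
    show (Q' : Subgroup X).map X.subtype = Q
    rw [hQ', Subgroup.subgroupOf_map_subtype, inf_eq_left.2 hQ.2]

theorem syl_modEq [Finite G] (X : Subgroup G) (h27 : 27 ∣ Nat.card X) (h81 : ¬ 81 ∣ Nat.card X) :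
    (syl X).ncard % 3 = 1 := by
  have : Fact (Nat.Prime 3) := ⟨Nat.prime_three⟩
  rw [ncard_syl X h27 h81]
  exact card_sylow_modEq_one 3 X

theorem syl_mul [Finite G] (X : Subgroup G) (h81 : ¬ 81 ∣ Nat.card X) (Q : Subgroup G)
    (hQ : Q ∈ syl X) :
    (syl X).ncard * Nat.card (X ⊓ normalizer (Q : Set G) : Subgroup G) = Nat.card X := by
  have : Fact (Nat.Prime 3) := ⟨Nat.prime_three⟩
  have h27 : 27 ∣ Nat.card X := by
    rw [← hQ.1]; exact Subgroup.card_dvd_of_le hQ.2
  obtain ⟨Q', hQ'⟩ := exists_sylow_eq X h81 Q hQ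
  rw [ncard_syl X h27 h81, Q'.card_eq_index_normalizer]
  have h1 : normalizer (Q' : Set X) = (normalizer (Q : Set G)).subgroupOf X := by
    rw [Subgroup.subgroupOf_normalizer_eq hQ.2, ← hQ']
    rfl
  rw [h1]
  have h2 : Nat.card (X ⊓ normalizer (Q : Set G) : Subgroup G) =
      Nat.card ((normalizer (Q : Set G)).subgroupOf X) := by
    rw [← Subgroup.inf_subgroupOf_left, Nat.card_congr (Subgroup.subgroupOfEquivOfLe inf_le_left).toEquiv]
  rw [h2, mul_comm]
  exact Subgroup.card_mul_index _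

theorem syl_conj [Finite G] (X : Subgroup G) (h81 : ¬ 81 ∣ Nat.card X) (P Q : Subgroup G)
    (hP : P ∈ syl X) (hQ : Q ∈ syl X) :
    ∃ x ∈ X, Q = P.map (MulAut.conj x).toMonoidHom := by
  have : Fact (Nat.Prime 3) := ⟨Nat.prime_three⟩
  obtain ⟨P', hP'⟩ := exists_sylow_eq X h81 P hP
  obtain ⟨Q', hQ'⟩ := exists_sylow_eq X h81 Q hQ
  obtain ⟨x, hx⟩ := exists_smul_eq X P' Q'
  refine ⟨x, x.2, ?_⟩
  have h1 : (Q' : Subgroup X) = (P' : Subgroup X).map (MulAut.conj x).toMonoidHom := by
    rw [← hx]; rfl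
  rw [hQ', hP'] at h1
  have h2 := congrArg (Subgroup.map X.subtype) h1
  rw [Subgroup.subgroupOf_map_subtype, inf_eq_left.2 hQ.2, Subgroup.map_map] at h2
  rw [h2]
  have h3 : X.subtype.comp (MulAut.conj x).toMonoidHom =
      (MulAut.conj (x : G)).toMonoidHom.comp X.subtype := by
    ext y; simp
  rw [h3, ← Subgroup.map_map, Subgroup.subgroupOf_map_subtype, inf_eq_left.2 hP.2]

theorem le_normalizer_of_card [Finite G] (D P : Subgroup G) (hD : Nat.card D = 9)
    (hP : Nat.card P = 27) (hDP : D ≤ P) : P ≤ normalizer (D : Set G) := by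
  rw [← Subgroup.normal_subgroupOf_iff_le_normalizer hDP]
  apply Subgroup.normal_of_index_eq_minFac_card
  have h1 : Nat.card (D.subgroupOf P) = 9 := by
    rw [Nat.card_congr (Subgroup.subgroupOfEquivOfLe hDP).toEquiv, hD]
  have h2 := (D.subgroupOf P).card_mul_index
  rw [h1, hP] at h2
  rw [hP]
  have h3 : Nat.minFac 27 = 3 := by norm_num
  rw [h3]
  omega

theorem le_of_mem_syl_normalizer [Finite G] (h81 : ¬ 81 ∣ Nat.card G) (W Q : Subgroup G)
    (hW : IsPGroup 3 W) (hQ : Q ∈ syl (normalizer (W : Set G))) : W ≤ Q := by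
  have : Fact (Nat.Prime 3) := ⟨Nat.prime_three⟩
  have hQp : IsPGroup 3 Q := IsPGroup.of_card (n := 3) (by rw [hQ.1]; norm_num)
  have h1 : IsPGroup 3 (W ⊔ Q : Subgroup G) := hW.to_sup_of_normal_left' hQp hQ.2
  obtain ⟨n, hn⟩ := h1.exists_card_eq
  have h2 : Nat.card (W ⊔ Q : Subgroup G) ∣ Nat.card G := Subgroup.card_subgroup_dvd_card _
  have h3 : Nat.card (W ⊔ Q : Subgroup G) ≤ 27 := by
    rw [hn] at h2 ⊢
    have h4 : n < 4 := by
      by_contra h4
      apply h81
      have h5 : 3 ^ 4 ∣ 3 ^ n := pow_dvd_pow 3 (by omega)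
      have := h5.trans h2
      norm_num at this
      exact this
    calc 3 ^ n ≤ 3 ^ 3 := Nat.pow_le_pow_right (by norm_num) (by omega)
      _ = 27 := by norm_num
  have h4 : Q = W ⊔ Q := by
    apply Subgroup.eq_of_le_of_card_ge le_sup_right
    rw [hQ.1]; exact h3
  rw [h4]; exact le_sup_left

/-- A subgroup of order 270 has only one subgroup of order 27. -/
theorem ncard_syl_of_card_270 [Finite G] (X : Subgroup G) (hX : Nat.card X = 270) :
    (syl X).ncard = 1 := by
  have h3 : Fact (Nat.Prime 3) := ⟨Nat.prime_three⟩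
  have h2 : Fact (Nat.Prime 2) := ⟨Nat.prime_two⟩
  let S : Sylow 2 X := default
  have hS : Nat.card S = 2 := by
    have h1 : 2 ^ 1 ∣ Nat.card S := S.pow_dvd_card_of_pow_dvd_card (by rw [hX]; norm_num)
    obtain ⟨n, hn⟩ := S.isPGroup'.exists_card_eq
    have h2 : Nat.card S ∣ Nat.card X := Subgroup.card_subgroup_dvd_card _
    rw [hX] at h2
    rw [hn] at h1 h2 ⊢
    have h3 : 1 ≤ n := (Nat.pow_dvd_pow_iff_le_right (by norm_num)).1 h1
    have h4 : n < 2 := by
      by_contra h4
      have h5 : 2 ^ 2 ∣ 2 ^ n := pow_dvd_pow 2 (by omega)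
      have := h5.trans h2
      norm_num at this
    have : n = 1 := by omega
    rw [this]; norm_num
  have hcyc : IsCyclic S := isCyclic_of_prime_card (p := 2) hS
  have hcompl := IsCyclic.isComplement' (G := X) (p := 2) (by rw [hX]; norm_num) hcyc
  set K := (MonoidHom.transferSylow S (hcyc.normalizer_le_centralizer (by rw [hX]; norm_num))).ker
    with hK
  have hKi : K.index = 2 := by
    rw [hcompl.symm.index_eq_card, hS]
  have hKc : Nat.card K = 135 := by
    have := K.card_mul_index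
    rw [hKi, hX] at this
    omega
  set K' : Subgroup G := K.map X.subtype with hK'
  have hK'c : Nat.card K' = 135 := by
    rw [← hKc]
    exact (Nat.card_congr (Subgroup.equivMapOfInjective _ _ X.subtype_injective).toEquiv).symm
  have hsyl : syl X = syl K' := by
    apply Set.Subset.antisymm
    · rintro Q ⟨hQ1, hQ2⟩
      refine ⟨hQ1, fun q hq => ?_⟩
      have hq27 : q ^ 27 = 1 := by
        have h1 : (⟨q, hq⟩ : Q) ^ Nat.card Q = 1 := pow_card_eq_one'
        rw [hQ1] at h1
        exact congrArg Subtype.val h1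
      have hqX : q ∈ X := hQ2 hq
      refine ⟨⟨q, hqX⟩, ?_, rfl⟩
      have h1 : ((⟨q, hqX⟩ : X) ^ 14) ^ 2 = ⟨q, hqX⟩ := by
        apply Subtype.ext
        simp only [Subgroup.coe_pow]
        rw [← pow_mul]
        calc q ^ (14 * 2) = q ^ 27 * q := by rw [← pow_succ]
          _ = q := by rw [hq27, one_mul]
      rw [← h1]
      exact Subgroup.sq_mem_of_index_two hKi _
    · exact syl_mono (Subgroup.map_subtype_le K)
  obtain ⟨Q, hQ⟩ : (syl K').Nonempty := by
    rw [← Set.ncard_pos, ncard_syl K' (by rw [hK'c]; norm_num) (by rw [hK'c]; norm_num)]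
    exact Nat.card_pos
  have h1 := syl_mul K' (by rw [hK'c]; norm_num) Q hQ
  have h5 := syl_modEq K' (by rw [hK'c]; norm_num) (by rw [hK'c]; norm_num)
  have h6 : 27 ∣ Nat.card (K' ⊓ normalizer (Q : Set G) : Subgroup G) := by
    rw [← hQ.1]
    exact Subgroup.card_dvd_of_le (le_inf hQ.2 Subgroup.le_normalizer)
  obtain ⟨c, hc⟩ := h6
  rw [hsyl]
  rw [hc, hK'c] at h1
  have h7 : (syl K').ncard * c = 5 := by
    have : 27 * ((syl K').ncard * c) = 27 * 5 := by rw [← mul_assoc, mul_comm 27, mul_assoc, h1]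
    omega
  have h8 : (syl K').ncard ∣ 5 := ⟨c, h7.symm⟩
  rcases (Nat.dvd_prime Nat.prime_five).1 h8 with h | h
  · exact h
  · omega

/-- Key local fact in a simple group of order 4320. -/
theorem four [Finite G] [IsSimpleGroup G] (hG : Nat.card G = 4320) (W : Subgroup G) (hW : W ≠ ⊥)
    (hWp : IsPGroup 3 W) (P Q : Subgroup G) (hP : P ∈ syl (normalizer (W : Set G)))
    (hQ : Q ∈ syl (normalizer (W : Set G))) (hPQ : P ≠ Q) :
    (syl (normalizer (W : Set G))).ncard = 4 ∧
      (Nat.card (normalizer (W : Set G)) = 108 ∨ Nat.card (normalizer (W : Set G)) = 216) := by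
  have h3 : Fact (Nat.Prime 3) := ⟨Nat.prime_three⟩
  set N := normalizer (W : Set G) with hN
  have hNG : Nat.card N ∣ 4320 := by rw [← hG]; exact Subgroup.card_subgroup_dvd_card _
  have h81 : ¬ 81 ∣ Nat.card N := by
    intro h
    have := h.trans hNG
    norm_num at this
  have h27 : 27 ∣ Nat.card N := by
    rw [← hP.1]; exact Subgroup.card_dvd_of_le hP.2
  have hNtop : N ≠ ⊤ := by
    intro h
    rw [hN, Subgroup.normalizer_eq_top_iff] at h
    rcases h.eq_bot_or_eq_top with h | h
    · exact hW h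
    · obtain ⟨n, hn⟩ := hWp.exists_card_eq
      rw [h, Subgroup.card_top, hG] at hn
      have h5 : 5 ∣ 3 ^ n := ⟨864, by rw [← hn]⟩
      have := (Nat.Prime.dvd_of_dvd_pow Nat.prime_five h5)
      omega
  obtain ⟨m, hm⟩ := h27
  have hmdvd : m ∣ 160 := by
    obtain ⟨c, hc⟩ := hNG
    refine ⟨c, ?_⟩
    rw [hm] at hc
    have : 27 * 160 = 27 * (m * c) := by rw [← mul_assoc, ← hc]
    omega
  have hindex : N.index * m = 160 := by
    have h := N.card_mul_index
    rw [hG, hm] at h
    have : 27 * (N.index * m) = 27 * 160 := by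
      rw [mul_comm N.index m, ← mul_assoc, h]
    omega
  have hi : 9 ≤ N.index := by
    by_contra hlt
    push Not at hlt
    have h1 := SylowCount.card_dvd_factorial_index N hNtop
    have h2 : N.index.factorial ∣ (8 : ℕ).factorial := Nat.factorial_dvd_factorial (by omega)
    have h4 := h1.trans h2
    rw [hG] at h4
    revert h4
    decide
  have hm17 : m ≤ 17 := by nlinarith
  have hmod := syl_modEq N ⟨m, hm⟩ h81
  have hmul := syl_mul N h81 P hP
  obtain ⟨c, hc⟩ : 27 ∣ Nat.card (N ⊓ normalizer (P : Set G) : Subgroup G) := by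
    rw [← hP.1]
    exact Subgroup.card_dvd_of_le (le_inf hP.2 Subgroup.le_normalizer)
  have hsc : (syl N).ncard * c = m := by
    rw [hc, hm] at hmul
    have : 27 * ((syl N).ncard * c) = 27 * m := by rw [← mul_assoc, mul_comm 27, mul_assoc, hmul]
    omega
  have h2 : 2 ≤ (syl N).ncard := by
    have h5 : 1 < (syl N).ncard := by
      rw [Set.one_lt_ncard (Set.toFinite _)]
      exact ⟨P, hP, Q, hQ, hPQ⟩
    exact h5
  have h16 : m ≠ 16 := by
    rintro rfl
    refine Order4320A.no_index_ten hG N W (by rw [hm]) hW hWp Subgroup.le_normalizer ?_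
    intro h hh w hw
    exact (Subgroup.mem_normalizer_iff.1 hh w).1 hw
  have h10 : m ≠ 10 := by
    rintro rfl
    have := ncard_syl_of_card_270 N (by rw [hm])
    omega
  have hs : (syl N).ncard ∣ m := ⟨c, hsc.symm⟩
  have hm0 : 0 < m := by
    rcases Nat.eq_zero_or_pos m with h | h
    · rw [h] at hindex; omega
    · exact h
  have hsle := Nat.le_of_dvd hm0 hs
  rw [hm]
  set s := (syl N).ncard with hsdef
  clear_value s
  clear hNG hsdef hmul hc hNtop hi hindex hm
  interval_cases m <;> first | (exfalso; revert hmdvd; decide) | skip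
  all_goals (interval_cases s <;> first | (exfalso; revert hs; decide) | omega)

/-- A group of order 5 normalizing a group of order 27 centralizes it. -/
theorem centralize_of_card_five [Finite G] (R P : Subgroup G) (hR : Nat.card R = 5)
    (hP : Nat.card P = 27) (hRP : R ≤ normalizer (P : Set G)) :
    ∀ r ∈ R, ∀ a ∈ P, r * a = a * r := by
  have h5 : Fact (Nat.Prime 5) := ⟨Nat.prime_five⟩
  let act : MulAction R P :=
    { smul := fun r a => ⟨(r : G) * a * (r : G)⁻¹, (Subgroup.mem_normalizer_iff.1 (hRP r.2) a).1 a.2⟩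
      one_smul := fun a => by
        apply Subtype.ext
        show ((1 : R) : G) * a * ((1 : R) : G)⁻¹ = a
        simp
      mul_smul := fun r s a => by
        apply Subtype.ext
        show ((r * s : R) : G) * a * ((r * s : R) : G)⁻¹ =
          (r : G) * ((s : G) * a * (s : G)⁻¹) * (r : G)⁻¹
        rw [Subgroup.coe_mul, mul_inv_rev]
        group }
  have hRp : IsPGroup 5 R := IsPGroup.of_card (n := 1) (by rw [hR]; norm_num)
  have h1 := hRp.card_modEq_card_fixedPoints P
  set F : Subgroup G := P ⊓ centralizer (R : Set G) with hF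
  have h2 : Nat.card (fixedPoints R P) = Nat.card F := by
    refine Nat.card_congr (Equiv.ofBijective (fun a : fixedPoints R P =>
      (⟨(a : P), ?_⟩ : F)) ⟨?_, ?_⟩)
    · refine Subgroup.mem_inf.2 ⟨(a : P).2, ?_⟩
      rw [Subgroup.mem_centralizer_iff]
      intro r hr
      have h3 : (⟨r, hr⟩ : R) • (a : P) = (a : P) := a.2 ⟨r, hr⟩
      have h4 : r * ((a : P) : G) * r⁻¹ = ((a : P) : G) := congrArg Subtype.val h3
      exact mul_inv_eq_iff_eq_mul.mp h4
    · intro a b hab
      have h3 := congrArg Subtype.val hab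
      exact Subtype.ext (Subtype.ext h3)
    · rintro ⟨a, ha⟩
      obtain ⟨haP, hac⟩ := Subgroup.mem_inf.1 ha
      refine ⟨⟨⟨a, haP⟩, fun r => ?_⟩, rfl⟩
      apply Subtype.ext
      show (r : G) * a * (r : G)⁻¹ = a
      rw [Subgroup.mem_centralizer_iff] at hac
      rw [hac r r.2]; group
  rw [h2, hP] at h1
  have h3 : Nat.card F ∣ 27 := by
    rw [← hP]; exact Subgroup.card_dvd_of_le inf_le_left
  have h4 : Nat.card F ≤ 27 := Nat.le_of_dvd (by norm_num) h3
  have h6 : Nat.card F = 27 := by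
    have h7 : Nat.card F % 5 = 2 := by
      have : 27 % 5 = Nat.card F % 5 := h1
      omega
    set c := Nat.card F with hc
    clear_value c
    interval_cases c <;> first | rfl | (exfalso; revert h3; decide) | omega
  have h8 : F = P := by
    apply Subgroup.eq_of_le_of_card_ge inf_le_left
    rw [hP, h6]
  intro r hr a ha
  rw [← h8] at ha
  exact (Subgroup.mem_centralizer_iff.1 (Subgroup.mem_inf.1 ha).2) r hr

/-- Numbers: the number `n` of Sylow 3-subgroups is 16, 40 or 160. -/
theorem ncard_syl_top [Finite G] [IsSimpleGroup G] (hG : Nat.card G = 4320) :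
    (syl (⊤ : Subgroup G)).ncard = 16 ∨ (syl (⊤ : Subgroup G)).ncard = 40 ∨
      (syl (⊤ : Subgroup G)).ncard = 160 := by
  have h3 : Fact (Nat.Prime 3) := ⟨Nat.prime_three⟩
  have hT : Nat.card (⊤ : Subgroup G) = 4320 := by rw [Subgroup.card_top, hG]
  have h81 : ¬ 81 ∣ Nat.card (⊤ : Subgroup G) := by rw [hT]; norm_num
  have h27 : 27 ∣ Nat.card (⊤ : Subgroup G) := by rw [hT]; norm_num
  obtain ⟨P, hP⟩ : (syl (⊤ : Subgroup G)).Nonempty := by
    rw [← Set.ncard_pos, ncard_syl _ h27 h81]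
    exact Nat.card_pos
  have hmod := syl_modEq _ h27 h81
  have hmul := syl_mul _ h81 P hP
  rw [hT, top_inf_eq] at hmul
  set s := (syl (⊤ : Subgroup G)).ncard with hs
  obtain ⟨c, hc⟩ : 27 ∣ Nat.card (normalizer (P : Set G)) := by
    rw [← hP.1]
    exact Subgroup.card_dvd_of_le Subgroup.le_normalizer
  have hsc : s * c = 160 := by
    rw [hc] at hmul
    have : 27 * (s * c) = 27 * 160 := by rw [← mul_assoc, mul_comm 27, mul_assoc, hmul]
    omega
  have hPp : IsPGroup 3 P := IsPGroup.of_card (n := 3) (by rw [hP.1]; norm_num)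
  have hPbot : P ≠ ⊥ := by
    rintro rfl
    have := hP.1
    rw [Subgroup.card_bot] at this
    omega
  have hNtop : normalizer (P : Set G) ≠ ⊤ := by
    intro h
    rw [Subgroup.normalizer_eq_top_iff] at h
    rcases h.eq_bot_or_eq_top with h | h
    · exact hPbot h
    · have := hP.1
      rw [h, Subgroup.card_top, hG] at this
      omega
  have hidx : (normalizer (P : Set G)).index = s := by
    have h := (normalizer (P : Set G)).card_mul_index
    rw [hG] at h
    have hpos : 0 < Nat.card (normalizer (P : Set G)) := Nat.card_pos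
    apply Nat.eq_of_mul_eq_mul_left hpos
    rw [h, mul_comm, hmul]
  have hi : 9 ≤ s := by
    by_contra hlt
    push Not at hlt
    have h1 := SylowCount.card_dvd_factorial_index _ hNtop
    have h2 : (normalizer (P : Set G)).index.factorial ∣ (8 : ℕ).factorial :=
      Nat.factorial_dvd_factorial (by omega)
    have h4 := h1.trans h2
    rw [hG] at h4
    revert h4
    decide
  have h10 : s ≠ 10 := by
    intro h
    rw [h] at hmul
    refine Order4320A.no_index_ten hG (normalizer (P : Set G)) P (by omega) hPbot hPp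
      Subgroup.le_normalizer ?_
    intro h hh w hw
    exact (Subgroup.mem_normalizer_iff.1 hh w).1 hw
  have hsd : s ∣ 160 := ⟨c, hsc.symm⟩
  have hsle : s ≤ 160 := Nat.le_of_dvd (by norm_num) hsd
  clear_value s
  clear hs hmul hidx hsc
  interval_cases s <;> first | (exfalso; revert hsd; decide) | omega

theorem ncard_syl_top_eq [Finite G] (hG : Nat.card G = 4320) :
    (syl (⊤ : Subgroup G)).ncard = Nat.card (Sylow 3 G) := by
  have h3 : Fact (Nat.Prime 3) := ⟨Nat.prime_three⟩
  have hT : Nat.card (⊤ : Subgroup G) = 4320 := by rw [Subgroup.card_top, hG]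
  symm
  rw [← Nat.card_coe_set_eq]
  refine Nat.card_congr (Equiv.ofBijective (fun Q : Sylow 3 G =>
    (⟨(Q : Subgroup G), ?_, le_top⟩ : syl ⊤)) ⟨?_, ?_⟩)
  · rw [Sylow.card_eq_multiplicity, hG]
    have : (4320 : ℕ).factorization 3 = 3 := by
      rw [Nat.factorization_def _ Nat.prime_three]
      have h1 : (4320 : ℕ) = 3 ^ 3 * 160 := by norm_num
      rw [h1, padicValNat.mul (by norm_num) (by norm_num), padicValNat.prime_pow,
        padicValNat.eq_zero_of_not_dvd (by norm_num)]
    rw [this]; norm_num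
  · intro P Q hPQ
    exact Sylow.ext (congrArg Subtype.val hPQ)
  · rintro ⟨Q, hQ⟩
    obtain ⟨Q', hQ'⟩ := (IsPGroup.of_card (p := 3) (n := 3) (by rw [hQ.1]; norm_num) :
      IsPGroup 3 Q).exists_le_sylow
    refine ⟨Q', Subtype.ext ?_⟩
    show (Q' : Subgroup G) = Q
    symm
    apply Subgroup.eq_of_le_of_card_ge hQ'
    rw [hQ.1, Sylow.card_eq_multiplicity, hG]
    have : (4320 : ℕ).factorization 3 = 3 := by
      rw [Nat.factorization_def _ Nat.prime_three]
      have h1 : (4320 : ℕ) = 3 ^ 3 * 160 := by norm_num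
      rw [h1, padicValNat.mul (by norm_num) (by norm_num), padicValNat.prime_pow,
        padicValNat.eq_zero_of_not_dvd (by norm_num)]
    rw [this]; norm_num

end Cfsg.Agent.SmallSimple.Order4320B
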