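import Mathlib
import Cfsg.Agent.SmallSimple.Order4320B

set_option autoImplicit false

namespace Cfsg.Agent.SmallSimple.Order4320C

open MulAction Subgroup
open scoped Pointwise
open Order4320B

variable {G : Type*} [Group G]

theorem indep {z e : G} (hz3 : z ^ 3 = 1) (he3 : e ^ 3 = 1) (hz : z ≠ 1) (he : e ∉ zpowers z)
    (i j : ℕ) (h : z ^ i * e ^ j = 1) : 3 ∣ i ∧ 3 ∣ j := by
  have h1 : e ^ j = (z ^ i)⁻¹ := by
    rw [eq_inv_iff_mul_eq_one]
    rw [mul_eq_one_iff_eq_inv] at h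
    rw [h]; simp
  have h2 : e ^ j ∈ zpowers z := by
    rw [h1]; exact inv_mem (pow_mem (mem_zpowers z) i)
  have hj : 3 ∣ j := by
    by_contra hj
    apply he
    have h3 : j % 3 = 1 ∨ j % 3 = 2 := by omega
    rcases h3 with h3 | h3
    · have h4 : e ^ j = e := by
        conv_lhs => rw [← Nat.div_add_mod j 3, h3, pow_add, pow_mul, he3, one_pow, one_mul, pow_one]
      rwa [h4] at h2
    · have h4 : (e ^ j) ^ 2 = e := by
        rw [← pow_mul]
        have h5 : j * 2 = 3 * (j / 3 * 2 + 1) + 1 := by omega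
        rw [h5, pow_add, pow_mul, he3, one_pow, one_mul, pow_one]
      rw [← h4]; exact pow_mem h2 2
  refine ⟨?_, hj⟩
  obtain ⟨k, rfl⟩ := hj
  rw [pow_mul, he3, one_pow, mul_one] at h
  have h3 : orderOf z = 3 := orderOf_eq_prime hz3 hz
  rw [← h3]
  exact orderOf_dvd_of_pow_eq_one h

theorem span_nine [Finite G] (D : Subgroup G) (hD : Nat.card D = 9) {z e : G} (hzD : z ∈ D)
    (heD : e ∈ D) (hz3 : z ^ 3 = 1) (he3 : e ^ 3 = 1) (hz : z ≠ 1) (he : e ∉ zpowers z)
    (hcomm : z * e = e * z) : ∀ d ∈ D, ∃ i < 3, ∃ j < 3, d = z ^ i * e ^ j := by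
  let f : Fin 3 × Fin 3 → D := fun x => ⟨z ^ (x.1 : ℕ) * e ^ (x.2 : ℕ),
    D.mul_mem (D.pow_mem hzD _) (D.pow_mem heD _)⟩
  have hc : Commute z e := hcomm
  have hf : Function.Injective f := by
    rintro ⟨a, b⟩ ⟨c, d⟩ h
    have h1 : z ^ (a : ℕ) * e ^ (b : ℕ) = z ^ (c : ℕ) * e ^ (d : ℕ) := congrArg Subtype.val h
    have ha := a.2
    have hb := b.2
    have hc' := c.2
    have hd := d.2
    have h2 : z ^ ((a : ℕ) + (3 - (c : ℕ))) * e ^ ((b : ℕ) + (3 - (d : ℕ))) = 1 := by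
      have h3 : z ^ ((a : ℕ) + (3 - (c : ℕ))) * e ^ ((b : ℕ) + (3 - (d : ℕ))) =
          (z ^ (a : ℕ) * e ^ (b : ℕ)) * (z ^ (3 - (c : ℕ)) * e ^ (3 - (d : ℕ))) := by
        rw [pow_add, pow_add]
        rw [mul_assoc, ← mul_assoc (z ^ (3 - (c : ℕ)))]
        rw [(hc.pow_pow (3 - (c : ℕ)) (b : ℕ)).eq]
        simp only [mul_assoc]
      rw [h3, h1]
      have h4 : (z ^ (c : ℕ) * e ^ (d : ℕ)) * (z ^ (3 - (c : ℕ)) * e ^ (3 - (d : ℕ))) =
          (z ^ (c : ℕ) * z ^ (3 - (c : ℕ))) * (e ^ (d : ℕ) * e ^ (3 - (d : ℕ))) := by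
        rw [mul_assoc, ← mul_assoc (e ^ (d : ℕ)), ← (hc.pow_pow (3 - (c : ℕ)) (d : ℕ)).eq]
        simp only [mul_assoc]
      rw [h4, ← pow_add, ← pow_add, Nat.add_sub_cancel' hc'.le, Nat.add_sub_cancel' hd.le, hz3, he3,
        one_mul]
    obtain ⟨h5, h6⟩ := indep hz3 he3 hz he _ _ h2
    apply Prod.ext
    · apply Fin.ext; show (a : ℕ) = c; omega
    · apply Fin.ext; show (b : ℕ) = d; omega
  have hf' : Function.Surjective f := by
    have : Fintype D := Fintype.ofFinite _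
    have h9 : Fintype.card (Fin 3 × Fin 3) = Fintype.card D := by
      rw [← Nat.card_eq_fintype_card (α := D), hD]; rfl
    exact ((Fintype.bijective_iff_injective_and_card f).2 ⟨hf, h9⟩).2
  intro d hd
  obtain ⟨⟨i, j⟩, hij⟩ := hf' ⟨d, hd⟩
  exact ⟨i, i.2, j, j.2, (congrArg Subtype.val hij).symm⟩

theorem alg_q {z e q : G} (hz3 : z ^ 3 = 1) (he3 : e ^ 3 = 1) (hz : z ≠ 1) (he : e ∉ zpowers z)
    (hcomm : z * e = e * z) (a b : ℕ) (ha : a < 3) (hb : b < 3) (hqz : q * z * q⁻¹ = e)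
    (hqe : q * e * q⁻¹ = z ^ a * e ^ b) (hq3 : q ^ 3 * z * (q ^ 3)⁻¹ = z) : a = 2 ∧ b = 2 := by
  have hc : Commute z e := hcomm
  have h1 : MulAut.conj q z = e := hqz
  have h2 : MulAut.conj q e = z ^ a * e ^ b := hqe
  have h3 : MulAut.conj q (MulAut.conj q (MulAut.conj q z)) = z := by
    rw [← MulAut.mul_apply, ← MulAut.mul_apply, ← map_mul, ← map_mul]
    rw [show q * q * q = q ^ 3 by rw [pow_succ, pow_two]]
    exact hq3
  rw [h1, h2, map_mul, map_pow, map_pow, h1, h2, (hc.pow_pow a b).mul_pow, ← pow_mul, ← pow_mul,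
    ← mul_assoc, ← (hc.pow_pow (a * b) a).eq, mul_assoc, ← pow_add] at h3
  have h4 : z ^ (a * b + 2) * e ^ (a + b * b) = 1 := by
    have : z ^ (a * b + 2) * e ^ (a + b * b) = z ^ 2 * (z ^ (a * b) * e ^ (a + b * b)) := by
      rw [← mul_assoc, ← pow_add, add_comm 2]
    rw [this, h3, ← pow_succ, hz3]
  obtain ⟨h5, h6⟩ := indep hz3 he3 hz he _ _ h4
  interval_cases a <;> interval_cases b <;> omega

theorem alg_p {z e p : G} (hz3 : z ^ 3 = 1) (he3 : e ^ 3 = 1) (hz : z ≠ 1) (he : e ∉ zpowers z)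
    (hcomm : z * e = e * z) (c d : ℕ) (hd : d < 3) (hpz : p * z * p⁻¹ = z)
    (hpe : p * e * p⁻¹ = z ^ c * e ^ d) (hp3 : p ^ 3 * e * (p ^ 3)⁻¹ = e) : d = 1 := by
  have hc : Commute z e := hcomm
  have h1 : MulAut.conj p z = z := hpz
  have h2 : MulAut.conj p e = z ^ c * e ^ d := hpe
  have h3 : MulAut.conj p (MulAut.conj p (MulAut.conj p e)) = e := by
    rw [← MulAut.mul_apply, ← MulAut.mul_apply, ← map_mul, ← map_mul]
    rw [show p * p * p = p ^ 3 by rw [pow_succ, pow_two]]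
    exact hp3
  have h4 : MulAut.conj p (MulAut.conj p e) = z ^ (c + c * d) * e ^ (d * d) := by
    rw [h2, map_mul, map_pow, map_pow, h1, h2, (hc.pow_pow c d).mul_pow, ← pow_mul, ← pow_mul,
      ← mul_assoc, ← pow_add]
  have h5 : MulAut.conj p (MulAut.conj p (MulAut.conj p e)) =
      z ^ (c + c * d + c * (d * d)) * e ^ (d * (d * d)) := by
    rw [h4, map_mul, map_pow, map_pow, h1, h2, (hc.pow_pow c d).mul_pow, ← pow_mul, ← pow_mul,
      ← mul_assoc, ← pow_add]
  rw [h3] at h5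
  have h6 : z ^ (c + c * d + c * (d * d)) * e ^ (d * (d * d) + 2) = 1 := by
    rw [pow_add e, ← mul_assoc, ← h5, ← pow_succ', he3]
  obtain ⟨h7, h8⟩ := indep hz3 he3 hz he _ _ h6
  interval_cases d <;> omega

theorem alg_j {z e p q : G} (hz3 : z ^ 3 = 1) (he3 : e ^ 3 = 1) (hcomm : z * e = e * z)
    (hqz : q * z * q⁻¹ = e) (hqe : q * e * q⁻¹ = z ^ 2 * e ^ 2)
    (hpz : p * z * p⁻¹ = z) (hpe : p * e * p⁻¹ = z * e) :
    (p * q * (p * q)) * z * (p * q * (p * q))⁻¹ = z⁻¹ ∧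
      (p * q * (p * q)) * e * (p * q * (p * q))⁻¹ = e⁻¹ := by
  have hc : Commute z e := hcomm
  have h1 : MulAut.conj q z = e := hqz
  have h2 : MulAut.conj q e = z ^ 2 * e ^ 2 := hqe
  have h3 : MulAut.conj p z = z := hpz
  have h4 : MulAut.conj p e = z * e := hpe
  have hpow : ∀ n, (z * e) ^ n = z ^ n * e ^ n := fun n => hc.mul_pow n
  have k1 : MulAut.conj (p * q) z = z * e := by
    rw [map_mul, MulAut.mul_apply, h1, h4]
  have k2 : MulAut.conj (p * q) e = z * e ^ 2 := by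
    rw [map_mul, MulAut.mul_apply, h2, map_mul, map_pow, map_pow, h3, h4, hpow, ← mul_assoc,
      ← pow_add]
    rw [show 2 + 2 = 3 + 1 by norm_num, pow_succ, hz3, one_mul]
  have k3 : MulAut.conj (p * q * (p * q)) z = z⁻¹ := by
    rw [map_mul, MulAut.mul_apply, k1, map_mul, k1, k2]
    have : z * e * (z * e ^ 2) = z ^ 2 * e ^ 3 := by
      calc z * e * (z * e ^ 2) = z * (e * z) * e ^ 2 := by simp only [mul_assoc]
        _ = z * (z * e) * e ^ 2 := by rw [hcomm]
        _ = z ^ 2 * e ^ 3 := by simp only [pow_succ, pow_zero, one_mul, mul_assoc]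
    rw [this, he3, mul_one, eq_inv_iff_mul_eq_one, ← pow_succ, hz3]
  have k4 : MulAut.conj (p * q * (p * q)) e = e⁻¹ := by
    rw [map_mul, MulAut.mul_apply, k2, map_mul, map_pow, k1, k2]
    have hc2 : Commute z (e ^ 2) := hc.pow_right 2
    rw [hc2.mul_pow, ← pow_mul]
    have : z * e * (z ^ 2 * e ^ (2 * 2)) = z ^ 3 * e ^ 5 := by
      calc z * e * (z ^ 2 * e ^ (2 * 2)) = z * (e * z ^ 2) * e ^ 4 := by simp only [mul_assoc]
        _ = z * (z ^ 2 * e) * e ^ 4 := by rw [(hc.pow_left 2).eq]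
        _ = z ^ 3 * e ^ 5 := by simp only [pow_succ, pow_zero, one_mul, mul_assoc]
    rw [this, hz3, one_mul, eq_inv_iff_mul_eq_one, ← pow_succ, show 5 + 1 = 3 * 2 by norm_num,
      pow_mul, he3, one_pow]
  exact ⟨k3, k4⟩

theorem pow_three_mem [Finite G] (D P : Subgroup G) (hD : Nat.card D = 9)
    (hP : Nat.card P = 27) (hDP : D ≤ P) (a : G) (ha : a ∈ P) : a ^ 3 ∈ D := by
  have hn : (D.subgroupOf P).Normal :=
    (Subgroup.normal_subgroupOf_iff_le_normalizer hDP).2 (le_normalizer_of_card D P hD hP hDP)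
  have h1 : Nat.card (D.subgroupOf P) = 9 := by
    rw [Nat.card_congr (Subgroup.subgroupOfEquivOfLe hDP).toEquiv, hD]
  have h2 := (D.subgroupOf P).card_mul_index
  rw [h1, hP] at h2
  have h3 : (D.subgroupOf P).index = 3 := by omega
  have h4 := (D.subgroupOf P).pow_index_mem ⟨a, ha⟩
  rw [h3] at h4
  exact h4

/-- Existence of an element inverting `D`. -/
theorem exists_inverting [Finite G] (D P P' Z : Subgroup G) (hD : Nat.card D = 9)
    (hP : Nat.card P = 27) (hP' : Nat.card P' = 27) (hDP : D ≤ P) (hDP' : D ≤ P')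
    (hZ : Nat.card Z = 3) (hZD : Z ≤ D) (hZP : ∀ a ∈ P, ∀ z ∈ Z, a * z = z * a)
    (hP'Z : ¬ P' ≤ normalizer (Z : Set G)) (hPD : ∃ a ∈ P, ∃ d ∈ D, a * d ≠ d * a) :
    ∃ j ∈ (P ⊔ P' : Subgroup G), ∀ d ∈ D, j * d * j⁻¹ = d⁻¹ := by
  have h3 : Fact (Nat.Prime 3) := ⟨Nat.prime_three⟩
  have hDcomm : ∀ a ∈ D, ∀ b ∈ D, a * b = b * a := by
    intro a ha b hb
    have h4 : IsMulCommutative D :=
      IsPGroup.isMulCommutative_of_card_eq_prime_sq (p := 3) (by rw [hD]; norm_num)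
    exact congrArg Subtype.val (h4.is_comm.comm ⟨a, ha⟩ ⟨b, hb⟩)
  obtain ⟨q, hqP', hqZ⟩ : ∃ q ∈ P', q ∉ normalizer (Z : Set G) := by
    by_contra hcon
    push Not at hcon
    exact hP'Z hcon
  -- a generator of `Z`
  obtain ⟨z, hzZ, hz1⟩ : ∃ z ∈ Z, z ≠ 1 := by
    by_contra hcon
    push Not at hcon
    have : Z = ⊥ := by
      rw [Subgroup.eq_bot_iff_forall]; exact hcon
    rw [this, Subgroup.card_bot] at hZ
    omega
  have hz3 : z ^ 3 = 1 := by
    have h1 : (⟨z, hzZ⟩ : Z) ^ Nat.card Z = 1 := pow_card_eq_one'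
    rw [hZ] at h1
    exact congrArg Subtype.val h1
  have hzo : orderOf z = 3 := orderOf_eq_prime hz3 hz1
  have hZz : zpowers z = Z := by
    apply Subgroup.eq_of_le_of_card_ge
    · rw [zpowers_le]; exact hzZ
    · rw [hZ, Nat.card_zpowers, hzo]
  have hP'N := le_normalizer_of_card D P' hD hP' hDP'
  have hPN := le_normalizer_of_card D P hD hP hDP
  set e := q * z * q⁻¹ with he
  have heD : e ∈ D := (Subgroup.mem_normalizer_iff.1 (hP'N hqP') z).1 (hZD hzZ)
  have he3 : e ^ 3 = 1 := by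
    rw [he, conj_pow, hz3]; simp
  have heZ : e ∉ zpowers z := by
    intro h
    apply hqZ
    rw [hZz] at h
    have hle : Z.map (MulAut.conj q).toMonoidHom ≤ Z := by
      rw [← hZz, MonoidHom.map_zpowers, zpowers_le, hZz]
      exact h
    rw [Subgroup.mem_normalizer_iff_map_conj_eq]
    apply Subgroup.eq_of_le_of_card_ge hle
    exact (Nat.card_congr (Subgroup.equivMapOfInjective _ _
      (MulAut.conj q).injective).toEquiv).le
  have hcomm : z * e = e * z := hDcomm z (hZD hzZ) e heD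
  have hspan := span_nine D hD (hZD hzZ) heD hz3 he3 hz1 heZ hcomm
  -- `q` acts as a 3-cycle
  have hq3 : q ^ 3 * z * (q ^ 3)⁻¹ = z := by
    rw [hDcomm _ (pow_three_mem D P' hD hP' hDP' q hqP') z (hZD hzZ)]; group
  obtain ⟨a, ha, b, hb, hqe⟩ := hspan (q * e * q⁻¹)
    ((Subgroup.mem_normalizer_iff.1 (hP'N hqP') e).1 heD)
  obtain ⟨rfl, rfl⟩ := alg_q hz3 he3 hz1 heZ hcomm a b ha hb rfl hqe hq3
  -- `p`
  obtain ⟨p, hpP, d, hdD, hpd⟩ := hPD
  have hpz : p * z * p⁻¹ = z := by rw [hZP p hpP z hzZ]; group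
  have hp3 : p ^ 3 * e * (p ^ 3)⁻¹ = e := by
    rw [hDcomm _ (pow_three_mem D P hD hP hDP p hpP) e heD]; group
  obtain ⟨c, hc, d', hd', hpe⟩ := hspan (p * e * p⁻¹)
    ((Subgroup.mem_normalizer_iff.1 (hPN hpP) e).1 heD)
  have hd1 := alg_p hz3 he3 hz1 heZ hcomm c d' hd' hpz hpe hp3
  subst hd1
  rw [pow_one] at hpe
  have hc0 : c ≠ 0 := by
    rintro rfl
    rw [pow_zero, one_mul] at hpe
    apply hpd
    obtain ⟨i, -, j, -, rfl⟩ := hspan d hdD
    have c1 : Commute p z := hZP p hpP z hzZ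
    have c2 : Commute p e := mul_inv_eq_iff_eq_mul.mp hpe
    exact ((c1.pow_right i).mul_right (c2.pow_right j)).eq
  obtain ⟨p', hp'P, hp'z, hp'e⟩ : ∃ p' ∈ P, p' * z * p'⁻¹ = z ∧ p' * e * p'⁻¹ = z * e := by
    have hc12 : c = 1 ∨ c = 2 := by omega
    rcases hc12 with rfl | rfl
    · exact ⟨p, hpP, hpz, by rw [hpe, pow_one]⟩
    · refine ⟨p⁻¹, P.inv_mem hpP, ?_, ?_⟩
      · have c1 : Commute p z := hZP p hpP z hzZ
        rw [c1.inv_left.eq]; group
      · have c1 : Commute p z := hZP p hpP z hzZ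
        have h5 : e = z ^ 2 * (p⁻¹ * e * p) := by
          calc e = p⁻¹ * (p * e * p⁻¹) * p := by group
            _ = p⁻¹ * (z ^ 2 * e) * p := by rw [hpe]
            _ = (p⁻¹ * z ^ 2) * e * p := by simp only [mul_assoc]
            _ = (z ^ 2 * p⁻¹) * e * p := by rw [((c1.inv_left).pow_right 2).eq]
            _ = z ^ 2 * (p⁻¹ * e * p) := by simp only [mul_assoc]
        rw [inv_inv]
        calc p⁻¹ * e * p = z ^ 3 * (p⁻¹ * e * p) := by rw [hz3, one_mul]
          _ = z * (z ^ 2 * (p⁻¹ * e * p)) := by rw [pow_succ' z 2, mul_assoc]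
          _ = z * e := by rw [← h5]
  obtain ⟨k1, k2⟩ := alg_j hz3 he3 hcomm rfl hqe hp'z hp'e
  refine ⟨p' * q * (p' * q), ?_, ?_⟩
  · have hp'' : p' ∈ (P ⊔ P' : Subgroup G) := (le_sup_left : P ≤ P ⊔ P') hp'P
    have hq'' : q ∈ (P ⊔ P' : Subgroup G) := (le_sup_right : P' ≤ P ⊔ P') hqP'
    exact mul_mem (mul_mem hp'' hq'') (mul_mem hp'' hq'')
  · intro d hd
    obtain ⟨i, -, j, -, rfl⟩ := hspan d hd
    set g := p' * q * (p' * q) with hg
    have h1 : MulAut.conj g z = z⁻¹ := k1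
    have h2 : MulAut.conj g e = e⁻¹ := k2
    show MulAut.conj g (z ^ i * e ^ j) = _
    have hcc : Commute z e := hcomm
    rw [map_mul, map_pow, map_pow, h1, h2, inv_pow, inv_pow, ← mul_inv_rev, (hcc.pow_pow i j).eq]

theorem comm_of_card_nine [Finite G] (D : Subgroup G) (hD : Nat.card D = 9) :
    ∀ a ∈ D, ∀ b ∈ D, a * b = b * a := by
  have h3 : Fact (Nat.Prime 3) := ⟨Nat.prime_three⟩
  intro a ha b hb
  have h4 : IsMulCommutative D :=
    IsPGroup.isMulCommutative_of_card_eq_prime_sq (p := 3) (by rw [hD]; norm_num)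
  exact congrArg Subtype.val (h4.is_comm.comm ⟨a, ha⟩ ⟨b, hb⟩)

theorem sup_eq_of_ne [Finite G] (D₁ D₂ P : Subgroup G) (hD₁ : Nat.card D₁ = 9)
    (hD₂ : Nat.card D₂ = 9) (hP : Nat.card P = 27) (h₁ : D₁ ≤ P) (h₂ : D₂ ≤ P) (hne : D₁ ≠ D₂) :
    D₁ ⊔ D₂ = P := by
  apply Subgroup.eq_of_le_of_card_ge (sup_le h₁ h₂)
  rw [hP]
  have h3 : 9 ∣ Nat.card (D₁ ⊔ D₂ : Subgroup G) := by
    rw [← hD₁]; exact Subgroup.card_dvd_of_le le_sup_left
  have h4 : Nat.card (D₁ ⊔ D₂ : Subgroup G) ∣ 27 := by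
    rw [← hP]; exact Subgroup.card_dvd_of_le (sup_le h₁ h₂)
  have h5 : Nat.card (D₁ ⊔ D₂ : Subgroup G) ≠ 9 := by
    intro h5
    apply hne
    have h6 : D₁ = D₁ ⊔ D₂ := Subgroup.eq_of_le_of_card_ge le_sup_left (by rw [h5, hD₁])
    have h7 : D₂ = D₁ ⊔ D₂ := Subgroup.eq_of_le_of_card_ge le_sup_right (by rw [h5, hD₂])
    exact h6.trans h7.symm
  have h6 := Nat.le_of_dvd (by norm_num) h4
  set c := Nat.card (D₁ ⊔ D₂ : Subgroup G) with hc
  clear_value c
  have h0 : 0 < c := by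
    rcases Nat.eq_zero_or_pos c with h | h
    · rw [h] at h4; norm_num at h4
    · exact h
  interval_cases c <;> omega

theorem card_inf_eq [Finite G] (D₁ D₂ P : Subgroup G) (hD₁ : Nat.card D₁ = 9)
    (hD₂ : Nat.card D₂ = 9) (hP : Nat.card P = 27) (h₁ : D₁ ≤ P) (h₂ : D₂ ≤ P) (hne : D₁ ≠ D₂) :
    Nat.card (D₁ ⊓ D₂ : Subgroup G) = 3 := by
  have h4 : Nat.card (D₁ ⊓ D₂ : Subgroup G) ∣ 9 := by
    rw [← hD₁]; exact Subgroup.card_dvd_of_le inf_le_left
  have h5 : Nat.card (D₁ ⊓ D₂ : Subgroup G) ≠ 9 := by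
    intro h5
    apply hne
    have h6 : D₁ ⊓ D₂ = D₁ := Subgroup.eq_of_le_of_card_ge inf_le_left (by rw [h5, hD₁])
    have h7 : D₁ ⊓ D₂ = D₂ := Subgroup.eq_of_le_of_card_ge inf_le_right (by rw [h5, hD₂])
    exact h6.symm.trans h7
  have h6 : Nat.card (D₁ ⊓ D₂ : Subgroup G) ≠ 1 := by
    intro h6
    have hdisj : Disjoint D₁ D₂ := by
      rw [disjoint_iff, ← Subgroup.card_eq_one]; exact h6
    have hinj := Subgroup.mul_injective_of_disjoint hdisj
    have h7 : Nat.card (D₁ × D₂) ≤ Nat.card P := by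
      apply Nat.card_le_card_of_injective
        (fun x : D₁ × D₂ => (⟨(x.1 : G) * x.2, P.mul_mem (h₁ x.1.2) (h₂ x.2.2)⟩ : P))
      intro x y hxy
      exact hinj (congrArg Subtype.val hxy)
    rw [Nat.card_prod, hD₁, hD₂, hP] at h7
    omega
  have h7 := Nat.le_of_dvd (by norm_num) h4
  set c := Nat.card (D₁ ⊓ D₂ : Subgroup G) with hc
  clear_value c
  interval_cases c <;> omega

theorem not81 (hG : Nat.card G = 4320) (X : Subgroup G) : ¬ 81 ∣ Nat.card X := by
  intro h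
  have h1 : Nat.card X ∣ 4320 := by rw [← hG]; exact Subgroup.card_subgroup_dvd_card _
  have := h.trans h1
  norm_num at this

theorem odd_pow {x : G} (h : x ^ 27 = 1) : (x ^ 2) ^ 14 = x := by
  rw [← pow_mul, show 2 * 14 = 27 + 1 by norm_num, pow_succ, h, one_mul]

theorem odd_pow9 {x : G} (h : x ^ 9 = 1) : (x ^ 2) ^ 5 = x := by
  rw [← pow_mul, show 2 * 5 = 9 + 1 by norm_num, pow_succ, h, one_mul]

section main

variable [Finite G] [IsSimpleGroup G]

theorem not_270 (hG : Nat.card G = 4320) (P D R : Subgroup G) (hP : Nat.card P = 27)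
    (hD : Nat.card D = 9) (hDP : D ≤ P) (hR : R ∈ syl (normalizer (D : Set G))) (hRP : R ≠ P) :
    Nat.card (normalizer (P : Set G)) ≠ 270 := by
  intro h270
  have h5 : Fact (Nat.Prime 5) := ⟨Nat.prime_five⟩
  obtain ⟨S, hSN, hS⟩ := Order4320A.exists_le_card_eq (normalizer (P : Set G)) 5 1
    (by rw [h270]; norm_num)
  rw [pow_one] at hS
  have hcomm := centralize_of_card_five S P hS hP hSN
  have hDp : IsPGroup 3 D := IsPGroup.of_card (n := 2) (by rw [hD]; norm_num)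
  have hDbot : D ≠ ⊥ := by
    rintro rfl
    rw [Subgroup.card_bot] at hD
    omega
  have hPN : P ≤ normalizer (D : Set G) := le_normalizer_of_card D P hD hP hDP
  have hPs : P ∈ syl (normalizer (D : Set G)) := ⟨hP, hPN⟩
  obtain ⟨-, hN⟩ := four hG D hDbot hDp R P hR hPs hRP
  have hSC : S ≤ centralizer (D : Set G) := by
    intro s hs
    rw [Subgroup.mem_centralizer_iff]
    intro d hd
    exact (hcomm s hs d (hDP hd)).symm
  have h1 : 5 ∣ Nat.card (normalizer (D : Set G)) := by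
    rw [← hS]
    exact Subgroup.card_dvd_of_le (hSC.trans (Subgroup.centralizer_le_normalizer _))
  omega

/-- Two different intersections: one of them is of the second type. -/
theorem two_inter (hG : Nat.card G = 4320) (P D₁ D₂ R₁ R₂ : Subgroup G) (hP : Nat.card P = 27)
    (hD₁ : Nat.card D₁ = 9) (hD₂ : Nat.card D₂ = 9) (h₁ : D₁ ≤ P) (h₂ : D₂ ≤ P) (hne : D₁ ≠ D₂)
    (hR₁ : R₁ ∈ syl (normalizer (D₁ : Set G))) (hR₂ : R₂ ∈ syl (normalizer (D₂ : Set G)))
    (hPR₁ : R₁ ≠ P) (hPR₂ : R₂ ≠ P) :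
    (∃ P' ∈ syl (normalizer (D₁ : Set G)), ¬ P' ≤ normalizer ((D₁ ⊓ D₂ : Subgroup G) : Set G)) ∨
      (∃ P' ∈ syl (normalizer (D₂ : Set G)),
        ¬ P' ≤ normalizer ((D₁ ⊓ D₂ : Subgroup G) : Set G)) := by
  have h3 : Fact (Nat.Prime 3) := ⟨Nat.prime_three⟩
  by_contra hcon
  push Not at hcon
  obtain ⟨hc1, hc2⟩ := hcon
  have hbot : ∀ D : Subgroup G, Nat.card D = 9 → D ≠ ⊥ := by
    rintro D hD rfl
    rw [Subgroup.card_bot] at hD
    omega
  have hpg : ∀ D : Subgroup G, Nat.card D = 9 → IsPGroup 3 D := fun D hD =>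
    IsPGroup.of_card (n := 2) (by rw [hD]; norm_num)
  have hPD₁ : P ∈ syl (normalizer (D₁ : Set G)) := ⟨hP, le_normalizer_of_card D₁ P hD₁ hP h₁⟩
  have hPD₂ : P ∈ syl (normalizer (D₂ : Set G)) := ⟨hP, le_normalizer_of_card D₂ P hD₂ hP h₂⟩
  set Z : Subgroup G := D₁ ⊓ D₂ with hZ
  have hZc : Nat.card Z = 3 := card_inf_eq D₁ D₂ P hD₁ hD₂ hP h₁ h₂ hne
  have hZbot : Z ≠ ⊥ := by
    intro h
    rw [h, Subgroup.card_bot] at hZc
    omega
  have hZp : IsPGroup 3 Z := IsPGroup.of_card (n := 1) (by rw [hZc]; norm_num)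
  have hs1 : syl (normalizer (D₁ : Set G)) ⊆ syl (normalizer (Z : Set G)) :=
    fun Q hQ => ⟨hQ.1, hc1 Q hQ⟩
  have hs2 : syl (normalizer (D₂ : Set G)) ⊆ syl (normalizer (Z : Set G)) :=
    fun Q hQ => ⟨hQ.1, hc2 Q hQ⟩
  have n1 := (four hG D₁ (hbot D₁ hD₁) (hpg D₁ hD₁) R₁ P hR₁ hPD₁ hPR₁).1
  have n2 := (four hG D₂ (hbot D₂ hD₂) (hpg D₂ hD₂) R₂ P hR₂ hPD₂ hPR₂).1
  have nZ := (four hG Z hZbot hZp R₁ P (hs1 hR₁) (hs1 hPD₁) hPR₁).1
  have e1 : syl (normalizer (D₁ : Set G)) = syl (normalizer (Z : Set G)) :=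
    Set.eq_of_subset_of_ncard_le hs1 (by rw [n1, nZ])
  have e2 : syl (normalizer (D₂ : Set G)) = syl (normalizer (Z : Set G)) :=
    Set.eq_of_subset_of_ncard_le hs2 (by rw [n2, nZ])
  have hR₁2 : R₁ ∈ syl (normalizer (D₂ : Set G)) := by rw [e2, ← e1]; exact hR₁
  have h81 : ¬ 81 ∣ Nat.card G := by rw [hG]; norm_num
  have l1 := le_of_mem_syl_normalizer h81 D₁ R₁ (hpg D₁ hD₁) hR₁
  have l2 := le_of_mem_syl_normalizer h81 D₂ R₁ (hpg D₂ hD₂) hR₁2
  apply hPR₁
  symm
  rw [← sup_eq_of_ne D₁ D₂ P hD₁ hD₂ hP h₁ h₂ hne]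
  exact sup_eq_of_ne D₁ D₂ R₁ hD₁ hD₂ hR₁.1 l1 l2 hne

theorem typeB_false (hG : Nat.card G = 4320) (P D Z P' : Subgroup G) (hP : Nat.card P = 27)
    (hD : Nat.card D = 9) (hDP : D ≤ P) (hZ : Nat.card Z = 3) (hZD : Z ≤ D)
    (hZP : ∀ a ∈ P, ∀ z ∈ Z, a * z = z * a) (hP' : P' ∈ syl (normalizer (D : Set G)))
    (hP'Z : ¬ P' ≤ normalizer (Z : Set G)) : False := by
  have h3 : Fact (Nat.Prime 3) := ⟨Nat.prime_three⟩
  have h2 : Fact (Nat.Prime 2) := ⟨Nat.prime_two⟩
  have h81 : ¬ 81 ∣ Nat.card G := by rw [hG]; norm_num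
  have hDp : IsPGroup 3 D := IsPGroup.of_card (n := 2) (by rw [hD]; norm_num)
  have hDbot : D ≠ ⊥ := by
    rintro rfl
    rw [Subgroup.card_bot] at hD
    omega
  have hPN : P ≤ normalizer (D : Set G) := le_normalizer_of_card D P hD hP hDP
  have hPs : P ∈ syl (normalizer (D : Set G)) := ⟨hP, hPN⟩
  have hPZ : P ≤ normalizer (Z : Set G) := by
    intro a ha
    rw [Subgroup.mem_normalizer_iff]
    intro x
    constructor
    · intro hx
      rw [hZP a ha x hx]; simpa using hx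
    · intro hx
      have h4 := hZP a ha _ hx
      have h5 : x = a * x * a⁻¹ := by
        have h6 : a * (a * x * a⁻¹) * a⁻¹ = a * x * a⁻¹ := by rw [h4]; group
        have h7 : a⁻¹ * (a * (a * x * a⁻¹) * a⁻¹) * a = a⁻¹ * (a * x * a⁻¹) * a := by rw [h6]
        have h8 : a⁻¹ * (a * (a * x * a⁻¹) * a⁻¹) * a = a * x * a⁻¹ := by group
        have h9 : a⁻¹ * (a * x * a⁻¹) * a = x := by group
        rw [h8, h9] at h7
        exact h7.symm
      rw [h5]; exact hx
  have hPP' : P' ≠ P := by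
    rintro rfl
    exact hP'Z hPZ
  obtain ⟨n4, hN⟩ := four hG D hDbot hDp P' P hP' hPs hPP'
  set N := normalizer (D : Set G) with hNdef
  have hDP' : D ≤ P' := le_of_mem_syl_normalizer h81 D P' hDp hP'
  -- `P` does not centralize `D`
  have hPD : ∃ a ∈ P, ∃ d ∈ D, a * d ≠ d * a := by
    by_contra hcon
    push Not at hcon
    obtain ⟨x, hxN, hx⟩ := syl_conj N (not81 hG N) P P' hPs hP'
    apply hP'Z
    rw [hx]
    rintro _ ⟨a, ha, rfl⟩
    show x * a * x⁻¹ ∈ _
    rw [Subgroup.mem_normalizer_iff]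
    have hcent : ∀ d ∈ D, (x * a * x⁻¹) * d * (x * a * x⁻¹)⁻¹ = d := by
      intro d hd
      have hd' : x⁻¹ * d * x ∈ D := by
        have := (Subgroup.mem_normalizer_iff.1 (N.inv_mem hxN) d).1 hd
        rwa [inv_inv] at this
      have := hcon a ha _ hd'
      calc (x * a * x⁻¹) * d * (x * a * x⁻¹)⁻¹ = x * (a * (x⁻¹ * d * x)) * a⁻¹ * x⁻¹ := by group
        _ = x * ((x⁻¹ * d * x) * a) * a⁻¹ * x⁻¹ := by rw [this]
        _ = d := by group
    have hinvmem : ∀ d ∈ D, (x * a * x⁻¹)⁻¹ * d * (x * a * x⁻¹) = d := by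
      intro d hd
      have h4 := hcent d hd
      calc (x * a * x⁻¹)⁻¹ * d * (x * a * x⁻¹)
          = (x * a * x⁻¹)⁻¹ * ((x * a * x⁻¹) * d * (x * a * x⁻¹)⁻¹) * (x * a * x⁻¹) := by rw [h4]
        _ = d := by group
    intro y
    constructor
    · intro hy
      rw [hcent y (hZD hy)]; exact hy
    · intro hy
      have h4 := hinvmem _ (hZD hy)
      have h5 : (x * a * x⁻¹)⁻¹ * ((x * a * x⁻¹) * y * (x * a * x⁻¹)⁻¹) * (x * a * x⁻¹) = y := by
        group
      rw [h5] at h4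
      rw [h4]; exact hy
  obtain ⟨j, hj, hjD⟩ := exists_inverting D P P' Z hD hP hP'.1 hDP hDP' hZ hZD hZP hP'Z hPD
  have hjN : j ∈ N := (sup_le hPN hP'.2) hj
  set C := centralizer (D : Set G) with hC
  have hCN : C ≤ N := Subgroup.centralizer_le_normalizer _
  have hCZ : C ≤ normalizer (Z : Set G) := by
    intro c hc
    have h4 : c ∈ centralizer (Z : Set G) := by
      rw [Subgroup.mem_centralizer_iff] at hc ⊢
      intro z hz
      exact hc z (hZD hz)
    exact Subgroup.centralizer_le_normalizer _ h4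
  set X : Subgroup G := P ⊔ C with hX
  have hXN : X ≤ N := sup_le hPN hCN
  have hXZ : X ≤ normalizer (Z : Set G) := sup_le hPZ hCZ
  have hP'X : P' ∉ syl X := fun h => hP'Z (h.2.trans hXZ)
  have hPX : P ∈ syl X := ⟨hP, le_sup_left⟩
  have hXlt : (syl X).ncard < 4 := by
    rw [← n4]
    exact Set.ncard_lt_ncard ⟨syl_mono hXN, fun h => hP'X (h hP')⟩ (Set.toFinite _)
  have hX1 : (syl X).ncard = 1 := by
    have h4 := syl_modEq X (by rw [← hP]; exact Subgroup.card_dvd_of_le le_sup_left) (not81 hG X)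
    omega
  have hXu : ∀ Q ∈ syl X, Q = P := by
    intro Q hQ
    obtain ⟨R, hR⟩ := Set.ncard_eq_one.1 hX1
    rw [hR] at hQ hPX
    rw [Set.mem_singleton_iff] at hQ hPX
    rw [hQ, hPX]
  -- commutators with `j`
  have hjinv : ∀ d ∈ D, j⁻¹ * d * j = d⁻¹ := by
    intro d hd
    have h4 := hjD d⁻¹ (D.inv_mem hd)
    rw [inv_inv] at h4
    calc j⁻¹ * d * j = j⁻¹ * (j * d⁻¹ * j⁻¹) * j := by rw [h4]
      _ = d⁻¹ := by group
  have hcommC : ∀ a ∈ P, j * a * j⁻¹ * a⁻¹ ∈ C := by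
    intro a ha
    rw [hC, Subgroup.mem_centralizer_iff]
    intro d hd
    have had : a⁻¹ * d * a ∈ D := by
      have := (Subgroup.mem_normalizer_iff.1 (hPN (P.inv_mem ha)) d).1 hd
      rwa [inv_inv] at this
    have h4 := hjinv _ had
    have h5 := hjD d⁻¹ (D.inv_mem hd)
    rw [inv_inv] at h5
    -- `(j a j⁻¹ a⁻¹) d (j a j⁻¹ a⁻¹)⁻¹ = d`
    have h6 : (j * a * j⁻¹ * a⁻¹) * d * (j * a * j⁻¹ * a⁻¹)⁻¹ = d := by
      calc (j * a * j⁻¹ * a⁻¹) * d * (j * a * j⁻¹ * a⁻¹)⁻¹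
          = j * a * (j⁻¹ * (a⁻¹ * d * a) * j) * a⁻¹ * j⁻¹ := by group
        _ = j * a * (a⁻¹ * d * a)⁻¹ * a⁻¹ * j⁻¹ := by rw [hjinv _ had]
        _ = j * d⁻¹ * j⁻¹ := by group
        _ = d := h5
    exact (mul_inv_eq_iff_eq_mul.mp h6).symm
  have hjP : j ∈ normalizer (P : Set G) := by
    rw [Subgroup.mem_normalizer_iff_map_conj_eq]
    apply hXu
    refine ⟨?_, ?_⟩
    · rw [← hP]
      exact (Nat.card_congr (Subgroup.equivMapOfInjective _ _
        (MulAut.conj j).injective).toEquiv).symm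
    · rintro _ ⟨a, ha, rfl⟩
      show j * a * j⁻¹ ∈ X
      have h4 : j * a * j⁻¹ = (j * a * j⁻¹ * a⁻¹) * a := by group
      rw [h4]
      exact X.mul_mem ((le_sup_right : C ≤ X) (hcommC a ha)) ((le_sup_left : P ≤ X) ha)
  have hjPn : j ∉ P := by
    intro hjP
    have hj27 : j ^ 27 = 1 := by
      have h1 : (⟨j, hjP⟩ : P) ^ Nat.card P = 1 := pow_card_eq_one'
      rw [hP] at h1
      exact congrArg Subtype.val h1
    apply hDbot
    rw [Subgroup.eq_bot_iff_forall]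
    intro d hd
    have hj2 : Commute (j ^ 2) d := by
      have h4 : j * (j * d * j⁻¹) * j⁻¹ = d := by
        rw [hjD d hd, hjD _ (D.inv_mem hd), inv_inv]
      show j ^ 2 * d = d * j ^ 2
      calc j ^ 2 * d = (j * (j * d * j⁻¹) * j⁻¹) * (j * j) := by rw [pow_two]; group
        _ = d * j ^ 2 := by rw [h4, pow_two]
    have hj1 : Commute j d := by
      have := hj2.pow_left 14
      rwa [odd_pow hj27] at this
    have h5 := hjD d hd
    rw [hj1.eq] at h5
    have h6 : d = d⁻¹ := by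
      calc d = d * j * j⁻¹ := by group
        _ = d⁻¹ := h5
    have h7 : d ^ 2 = 1 := by
      rw [pow_two]; nth_rewrite 2 [h6]; group
    have hd9 : d ^ 9 = 1 := by
      have h1 : (⟨d, hd⟩ : D) ^ Nat.card D = 1 := pow_card_eq_one'
      rw [hD] at h1
      exact congrArg Subtype.val h1
    rw [← odd_pow9 hd9, h7, one_pow]
  -- the number of Sylow 3-subgroups is 40
  have hT : Nat.card (⊤ : Subgroup G) = 4320 := by rw [Subgroup.card_top, hG]
  have hmul := syl_mul (⊤ : Subgroup G) (not81 hG ⊤) P ⟨hP, le_top⟩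
  rw [hT, top_inf_eq] at hmul
  have hNPgt : 27 < Nat.card (normalizer (P : Set G)) := by
    rw [← hP]
    by_contra hle
    push Not at hle
    have h4 := Subgroup.eq_of_le_of_card_ge Subgroup.le_normalizer hle
    exact hjPn (by rw [h4]; exact hjP)
  have hmulN := syl_mul N (not81 hG N) P hPs
  rw [n4] at hmulN
  have h54 : Nat.card (N ⊓ normalizer (P : Set G) : Subgroup G) ≤ 54 := by omega
  have hNP108 : Nat.card (normalizer (P : Set G)) = 108 := by
    have h270 := not_270 hG P D P' hP hD hDP hP' hPP'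
    rcases ncard_syl_top hG with h | h | h
    · rw [h] at hmul; omega
    · rw [h] at hmul; omega
    · rw [h] at hmul; omega
  obtain ⟨g, hgP, hgN⟩ : ∃ g ∈ normalizer (P : Set G), g ∉ N := by
    by_contra hcon
    push Not at hcon
    have h4 : normalizer (P : Set G) ≤ N ⊓ normalizer (P : Set G) := le_inf hcon le_rfl
    have h5 := Subgroup.card_le_of_le h4
    omega
  set D' : Subgroup G := D.map (MulAut.conj g).toMonoidHom with hD'
  have hD'c : Nat.card D' = 9 := by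
    rw [← hD]
    exact (Nat.card_congr (Subgroup.equivMapOfInjective _ _
        (MulAut.conj g).injective).toEquiv).symm
  have hD'P : D' ≤ P := by
    rintro _ ⟨d, hd, rfl⟩
    exact (Subgroup.mem_normalizer_iff.1 hgP d).1 (hDP hd)
  have hD'ne : D' ≠ D := by
    intro h
    apply hgN
    rw [hNdef, Subgroup.mem_normalizer_iff_map_conj_eq]
    exact h
  have hPN' : P ≤ normalizer (D' : Set G) := le_normalizer_of_card D' P hD'c hP hD'P
  -- commutators modulo `D`
  have hCPD : ∀ a ∈ P, a ∈ C → a ∈ D := by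
    have h4 : P ⊓ C = D := by
      have h5 : D ≤ P ⊓ C := by
        apply le_inf hDP
        intro d hd
        rw [hC, Subgroup.mem_centralizer_iff]
        intro d' hd'
        exact comm_of_card_nine D hD d' hd' d hd
      by_contra hne
      have hne' : P ⊓ C ≠ P := by
        intro h6
        obtain ⟨a, ha, d, hd, had⟩ := hPD
        apply had
        rw [← h6] at ha
        exact ((Subgroup.mem_centralizer_iff.1 (Subgroup.mem_inf.1 ha).2) d hd).symm
      have h6 : Nat.card (P ⊓ C : Subgroup G) ∣ 27 := by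
        rw [← hP]; exact Subgroup.card_dvd_of_le inf_le_left
      have h7 : 9 ∣ Nat.card (P ⊓ C : Subgroup G) := by
        rw [← hD]; exact Subgroup.card_dvd_of_le h5
      have h8 : Nat.card (P ⊓ C : Subgroup G) ≠ 9 := by
        intro h8
        exact hne (Subgroup.eq_of_le_of_card_ge h5 (by rw [h8, hD])).symm
      have h9 : Nat.card (P ⊓ C : Subgroup G) ≠ 27 := by
        intro h9
        exact hne' (Subgroup.eq_of_le_of_card_ge inf_le_left (by rw [h9, hP]))
      have h10 := Nat.le_of_dvd (by norm_num) h6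
      obtain ⟨k, hk⟩ := h7
      obtain ⟨l, hl⟩ := h6
      have hk3 : k ≤ 3 := by omega
      interval_cases k
      · rw [hk] at hl; omega
      · omega
      · rw [hk] at hl; omega
      · omega
    intro a ha hac
    rw [← h4]
    exact Subgroup.mem_inf.2 ⟨ha, hac⟩
  have hjD1 : ∀ b ∈ P, j * b * j⁻¹ * b⁻¹ ∈ D := by
    intro b hb
    apply hCPD _ _ (hcommC b hb)
    exact P.mul_mem ((Subgroup.mem_normalizer_iff.1 hjP b).1 hb) (P.inv_mem hb)
  -- `N(P)/P` is abelian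
  have hp₀ : g * j * g⁻¹ * j⁻¹ ∈ P := by
    set M := normalizer (P : Set G) with hM
    have hn : (P.subgroupOf M).Normal := Subgroup.normal_in_normalizer
    have h4 : Nat.card (P.subgroupOf M) = 27 := by
      rw [Nat.card_congr (Subgroup.subgroupOfEquivOfLe Subgroup.le_normalizer).toEquiv, hP]
    have h5 := (P.subgroupOf M).card_mul_index
    rw [h4, hNP108] at h5
    have h6 : Nat.card (M ⧸ P.subgroupOf M) = 2 ^ 2 := by
      show (P.subgroupOf M).index = 4
      omega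
    have h7 : IsMulCommutative (M ⧸ P.subgroupOf M) :=
      IsPGroup.isMulCommutative_of_card_eq_prime_sq h6
    have h8 := h7.is_comm.comm (QuotientGroup.mk' (P.subgroupOf M) ⟨g, hgP⟩)
      (QuotientGroup.mk' (P.subgroupOf M) ⟨j, hjP⟩)
    have h9 : QuotientGroup.mk' (P.subgroupOf M)
        ((⟨g, hgP⟩ : M) * ⟨j, hjP⟩ * (⟨g, hgP⟩ : M)⁻¹ * (⟨j, hjP⟩ : M)⁻¹) = 1 := by
      rw [map_mul, map_mul, map_mul, map_inv, map_inv, h8]
      group
    have h10 := (QuotientGroup.eq_one_iff _).1 h9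
    exact h10
  set p₀ := g * j * g⁻¹ * j⁻¹ with hp₀def
  have hj' : g * j * g⁻¹ = p₀ * j := by rw [hp₀def]; group
  have hclaim1 : ∀ a ∈ P, (p₀ * j) * a * (p₀ * j)⁻¹ * a⁻¹ ∈ D' := by
    intro a ha
    have hb : g⁻¹ * a * g ∈ P := by
      have := (Subgroup.mem_normalizer_iff.1 ((normalizer (P : Set G)).inv_mem hgP) a).1 ha
      rwa [inv_inv] at this
    refine ⟨_, hjD1 _ hb, ?_⟩
    show g * (j * (g⁻¹ * a * g) * j⁻¹ * (g⁻¹ * a * g)⁻¹) * g⁻¹ = _
    rw [← hj']
    group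
  have hclaim2 : ∀ a ∈ P, ∀ b ∈ P, a * b * a⁻¹ * b⁻¹ ∈ D' := by
    intro a ha b hb
    have hn : (D'.subgroupOf P).Normal :=
      (Subgroup.normal_subgroupOf_iff_le_normalizer hD'P).2 hPN'
    have h4 : Nat.card (D'.subgroupOf P) = 9 := by
      rw [Nat.card_congr (Subgroup.subgroupOfEquivOfLe hD'P).toEquiv, hD'c]
    have h5 := (D'.subgroupOf P).card_mul_index
    rw [h4, hP] at h5
    have h6 : Nat.card (P ⧸ D'.subgroupOf P) = 3 := by
      show (D'.subgroupOf P).index = 3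
      omega
    have hcyc : IsCyclic (P ⧸ D'.subgroupOf P) := isCyclic_of_prime_card h6
    have h8 : ∀ x y : P ⧸ D'.subgroupOf P, x * y = y * x := by
      intro x y
      obtain ⟨c, hc⟩ := hcyc.exists_generator
      obtain ⟨i, hi⟩ := Subgroup.mem_zpowers_iff.1 (hc x)
      obtain ⟨k, hk⟩ := Subgroup.mem_zpowers_iff.1 (hc y)
      rw [← hi, ← hk, ← zpow_add, ← zpow_add, add_comm]
    have h9 : QuotientGroup.mk' (D'.subgroupOf P)
        ((⟨a, ha⟩ : P) * ⟨b, hb⟩ * (⟨a, ha⟩ : P)⁻¹ * (⟨b, hb⟩ : P)⁻¹) = 1 := by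
      rw [map_mul, map_mul, map_mul, map_inv, map_inv, h8 (QuotientGroup.mk' _ ⟨a, ha⟩)]
      group
    have h10 := (QuotientGroup.eq_one_iff _).1 h9
    exact h10
  apply hD'ne
  symm
  apply Subgroup.eq_of_le_of_card_ge
  · intro d hd
    have hdP := hDP hd
    have h4 := hclaim1 d hdP
    have h5 : (p₀ * j) * d * (p₀ * j)⁻¹ * d⁻¹ = p₀ * d⁻¹ * p₀⁻¹ * d⁻¹ := by
      calc (p₀ * j) * d * (p₀ * j)⁻¹ * d⁻¹ = p₀ * (j * d * j⁻¹) * p₀⁻¹ * d⁻¹ := by group
        _ = p₀ * d⁻¹ * p₀⁻¹ * d⁻¹ := by rw [hjD d hd]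
    rw [h5] at h4
    have h6 := hclaim2 p₀ hp₀ d⁻¹ (P.inv_mem hdP)
    rw [inv_inv] at h6
    have h7 : d ^ 2 ∈ D' := by
      have h8 : d ^ 2 = (p₀ * d⁻¹ * p₀⁻¹ * d⁻¹)⁻¹ * (p₀ * d⁻¹ * p₀⁻¹ * d) := by
        rw [pow_two]; group
      rw [h8]
      exact D'.mul_mem (D'.inv_mem h4) h6
    have hd9 : d ^ 9 = 1 := by
      have h1 : (⟨d, hd⟩ : D) ^ Nat.card D = 1 := pow_card_eq_one'
      rw [hD] at h1
      exact congrArg Subtype.val h1
    rw [← odd_pow9 hd9]
    exact D'.pow_mem h7 5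
  · rw [hD, hD'c]

end main

/-- An invariant subset all of whose orbits have length divisible by `m`. -/
theorem dvd_ncard_of_invariant {H α : Type*} [Group H] [MulAction H α] [Finite α] (m : ℕ) :
    ∀ (n : ℕ) (S : Set α), S.ncard = n → (∀ h : H, ∀ b ∈ S, h • b ∈ S) →
      (∀ b ∈ S, m ∣ Nat.card (orbit H b)) → m ∣ S.ncard := by
  intro n
  induction n using Nat.strong_induction_on with
  | _ n ih =>
    intro S hn hinv horb
    rcases S.eq_empty_or_nonempty with h | ⟨b, hb⟩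
    · rw [h, Set.ncard_empty]; exact dvd_zero m
    · have hsub : orbit H b ⊆ S := by
        rintro _ ⟨h, rfl⟩
        exact hinv h b hb
      have h1 : (S \ orbit H b).ncard + (orbit H b).ncard = S.ncard :=
        Set.ncard_sdiff_add_ncard_of_subset hsub
      have h2 : 0 < (orbit H b).ncard := by
        rw [Set.ncard_pos]
        exact ⟨b, mem_orbit_self b⟩
      rw [← h1]
      apply dvd_add
      · apply ih (S \ orbit H b).ncard (by omega) _ rfl
        · intro h c hc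
          refine ⟨hinv h c hc.1, fun h3 => hc.2 ?_⟩
          rw [← orbit_eq_iff] at h3 ⊢
          rw [← h3]; exact (orbit_smul h c).symm
        · intro c hc
          exact horb c hc.1
      · rw [← Nat.card_coe_set_eq]
        exact horb b hb

section final

variable [Finite G] [IsSimpleGroup G]

/-- Two distinct intersections lead to a contradiction. -/
theorem two_false (hG : Nat.card G = 4320) (P D₁ D₂ R₁ R₂ : Subgroup G) (hP : Nat.card P = 27)
    (hD₁ : Nat.card D₁ = 9) (hD₂ : Nat.card D₂ = 9) (h₁ : D₁ ≤ P) (h₂ : D₂ ≤ P) (hne : D₁ ≠ D₂)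
    (hR₁ : R₁ ∈ syl (normalizer (D₁ : Set G))) (hR₂ : R₂ ∈ syl (normalizer (D₂ : Set G)))
    (hPR₁ : R₁ ≠ P) (hPR₂ : R₂ ≠ P) : False := by
  have hZc := card_inf_eq D₁ D₂ P hD₁ hD₂ hP h₁ h₂ hne
  have hZP : ∀ a ∈ P, ∀ z ∈ D₁ ⊓ D₂, a * z = z * a := by
    have h4 : P ≤ centralizer ((D₁ ⊓ D₂ : Subgroup G) : Set G) := by
      rw [← sup_eq_of_ne D₁ D₂ P hD₁ hD₂ hP h₁ h₂ hne]
      apply sup_le
      · intro a ha
        rw [Subgroup.mem_centralizer_iff]
        intro z hz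
        exact comm_of_card_nine D₁ hD₁ z (Subgroup.mem_inf.1 hz).1 a ha
      · intro a ha
        rw [Subgroup.mem_centralizer_iff]
        intro z hz
        exact comm_of_card_nine D₂ hD₂ z (Subgroup.mem_inf.1 hz).2 a ha
    intro a ha z hz
    exact ((Subgroup.mem_centralizer_iff.1 (h4 ha)) z hz).symm
  rcases two_inter hG P D₁ D₂ R₁ R₂ hP hD₁ hD₂ h₁ h₂ hne hR₁ hR₂ hPR₁ hPR₂ with
    ⟨P', hP', hn⟩ | ⟨P', hP', hn⟩
  · exact typeB_false hG P D₁ (D₁ ⊓ D₂) P' hP hD₁ h₁ hZc inf_le_left hZP hP' hn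
  · exact typeB_false hG P D₂ (D₁ ⊓ D₂) P' hP hD₂ h₂ hZc inf_le_right hZP hP' hn

theorem main (hG : Nat.card G = 4320) : False := by
  have h3 : Fact (Nat.Prime 3) := ⟨Nat.prime_three⟩
  have hT : Nat.card (⊤ : Subgroup G) = 4320 := by rw [Subgroup.card_top, hG]
  have h81 : ¬ 81 ∣ Nat.card G := by rw [hG]; norm_num
  -- Sylow subgroups
  have hfac : (4320 : ℕ).factorization 3 = 3 := by
    rw [Nat.factorization_def _ Nat.prime_three]
    have h1 : (4320 : ℕ) = 3 ^ 3 * 160 := by norm_num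
    rw [h1, padicValNat.mul (by norm_num) (by norm_num), padicValNat.prime_pow,
      padicValNat.eq_zero_of_not_dvd (by norm_num)]
  have hScard : ∀ S : Sylow 3 G, Nat.card (S : Subgroup G) = 27 := by
    intro S
    rw [Sylow.card_eq_multiplicity, hG, hfac]; norm_num
  let S : Sylow 3 G := default
  set P : Subgroup G := (S : Subgroup G) with hPS
  have hP : Nat.card P = 27 := hScard S
  have hn := ncard_syl_top hG
  rw [ncard_syl_top_eq hG] at hn
  have hmul := syl_mul (⊤ : Subgroup G) (not81 hG ⊤) P ⟨hP, le_top⟩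
  rw [hT, top_inf_eq, ncard_syl_top_eq hG] at hmul
  obtain ⟨R, hRne, hR9⟩ := SylowInter.exists_ne_pow_dvd_card_inf 3 2 3 (by
    intro h
    have h4 : Nat.card (Sylow 3 G) % 9 = 1 := h
    rcases hn with h | h | h <;> rw [h] at h4 <;> omega) S (by rw [← hPS, hP]; norm_num)
  have hinf : ∀ Q : Sylow 3 G, Q ≠ S → 9 ∣ Nat.card (P ⊓ (Q : Subgroup G) : Subgroup G) →
      Nat.card (P ⊓ (Q : Subgroup G) : Subgroup G) = 9 := by
    intro Q hQ h9
    have h27 : Nat.card (P ⊓ (Q : Subgroup G) : Subgroup G) ∣ 27 := by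
      rw [← hP]; exact Subgroup.card_dvd_of_le inf_le_left
    have hne : Nat.card (P ⊓ (Q : Subgroup G) : Subgroup G) ≠ 27 := by
      intro h
      apply hQ
      apply Sylow.ext
      have h1 : P ⊓ (Q : Subgroup G) = P := Subgroup.eq_of_le_of_card_ge inf_le_left (by rw [h, hP])
      have h2 : P ⊓ (Q : Subgroup G) = Q :=
        Subgroup.eq_of_le_of_card_ge inf_le_right (by rw [h, hScard Q])
      exact h2.symm.trans h1
    have hle := Nat.le_of_dvd (by norm_num) h27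
    obtain ⟨k, hk⟩ := h9
    obtain ⟨l, hl⟩ := h27
    have hk3 : k ≤ 3 := by omega
    interval_cases k
    · rw [hk] at hl; omega
    · omega
    · rw [hk] at hl; omega
    · omega
  have hR9' : Nat.card (P ⊓ (R : Subgroup G) : Subgroup G) = 9 :=
    hinf R (Ne.symm hRne) (by simpa using hR9)
  set D : Subgroup G := P ⊓ (R : Subgroup G) with hD
  have hDP : D ≤ P := inf_le_left
  have hRN : (R : Subgroup G) ∈ syl (normalizer (D : Set G)) :=
    ⟨hScard R, le_normalizer_of_card D R hR9' (hScard R) inf_le_right⟩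
  have hPN : P ∈ syl (normalizer (D : Set G)) :=
    ⟨hP, le_normalizer_of_card D P hR9' hP inf_le_left⟩
  have hRP : (R : Subgroup G) ≠ P := by
    intro h
    exact hRne (Sylow.ext h.symm)
  have hDp : IsPGroup 3 D := IsPGroup.of_card (n := 2) (by rw [hR9']; norm_num)
  have hDbot : D ≠ ⊥ := by
    intro h
    rw [h, Subgroup.card_bot] at hR9'
    omega
  obtain ⟨n4, hN⟩ := four hG D hDbot hDp R P hRN hPN hRP
  have h270 := not_270 hG P D R hP hR9' hDP hRN hRP
  rcases hn with h | h | h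
  · rw [h] at hmul; omega
  · -- 40
    rw [h] at hmul
    have hmulN := syl_mul (normalizer (D : Set G)) (not81 hG _) P hPN
    rw [n4] at hmulN
    obtain ⟨g, hgP, hgN⟩ : ∃ g ∈ normalizer (P : Set G), g ∉ normalizer (D : Set G) := by
      by_contra hcon
      push Not at hcon
      have h4 : normalizer (P : Set G) ≤ normalizer (D : Set G) ⊓ normalizer (P : Set G) :=
        le_inf hcon le_rfl
      have h5 := Subgroup.card_le_of_le h4
      omega
    have hconj : ∀ K : Subgroup G, Nat.card (K.map (MulAut.conj g).toMonoidHom) = Nat.card K := by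
      intro K
      exact (Nat.card_congr (Subgroup.equivMapOfInjective _ _
          (MulAut.conj g).injective).toEquiv).symm
    have hPg : P.map (MulAut.conj g).toMonoidHom = P :=
      Subgroup.mem_normalizer_iff_map_conj_eq.1 hgP
    have hD2P : D.map (MulAut.conj g).toMonoidHom ≤ P := by
      rw [← hPg]; exact Subgroup.map_mono hDP
    have hD2R : D.map (MulAut.conj g).toMonoidHom ≤ (R : Subgroup G).map (MulAut.conj g).toMonoidHom :=
      Subgroup.map_mono inf_le_right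
    refine two_false hG P D (D.map (MulAut.conj g).toMonoidHom) R
      ((R : Subgroup G).map (MulAut.conj g).toMonoidHom) hP hR9' (by rw [hconj, hR9']) hDP hD2P ?_ hRN
      ⟨by rw [hconj, hScard R], le_normalizer_of_card _ _ (by rw [hconj, hR9'])
        (by rw [hconj, hScard R]) hD2R⟩ hRP ?_
    · intro h5
      apply hgN
      rw [Subgroup.mem_normalizer_iff_map_conj_eq]
      exact h5.symm
    · intro h5
      apply hRP
      rw [← hPg] at h5
      exact Subgroup.map_injective (MulAut.conj g).injective h5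
  · -- 160
    set U : Set (Sylow 3 G) := {Q | 9 ∣ Nat.card (orbit (S : Subgroup G) Q)} with hU
    have hUdvd : 9 ∣ U.ncard := by
      apply dvd_ncard_of_invariant (H := (S : Subgroup G)) 9 _ U rfl
      · intro x Q hQ
        show 9 ∣ Nat.card (orbit (S : Subgroup G) (x • Q))
        rw [orbit_smul]; exact hQ
      · intro Q hQ; exact hQ
    have hsum := Set.ncard_add_ncard_compl U
    rw [h] at hsum
    have hgt : (syl (normalizer (D : Set G))).ncard < Uᶜ.ncard := by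
      rw [n4]; omega
    obtain ⟨Q, hQU, hQ⟩ : ∃ Q ∈ Uᶜ, (Q : Subgroup G) ∉ syl (normalizer (D : Set G)) := by
      by_contra hcon
      push Not at hcon
      have h5 : Uᶜ.ncard ≤ (syl (normalizer (D : Set G))).ncard := by
        apply Set.ncard_le_ncard_of_injOn (fun Q : Sylow 3 G => (Q : Subgroup G)) hcon
        intro a _ b _ hab
        exact Sylow.ext hab
      omega
    have hQS : Q ≠ S := by
      rintro rfl
      exact hQ hPN
    have hQ9 : 9 ∣ Nat.card (P ⊓ (Q : Subgroup G) : Subgroup G) := by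
      have h5 : ¬ 9 ∣ Nat.card (orbit (S : Subgroup G) Q) := hQU
      rw [SylowInter.card_orbit_sylow] at h5
      have h6 := ((Q : Subgroup G).subgroupOf (S : Subgroup G)).card_mul_index
      have h7 : Nat.card ((Q : Subgroup G).subgroupOf (S : Subgroup G)) =
          Nat.card (P ⊓ (Q : Subgroup G) : Subgroup G) := by
        rw [← Subgroup.inf_subgroupOf_left]
        exact Nat.card_congr (Subgroup.subgroupOfEquivOfLe inf_le_left).toEquiv
      rw [h7] at h6
      have h8 : Nat.card (P ⊓ (Q : Subgroup G) : Subgroup G) ∣ 3 ^ 3 := by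
        rw [show (3 : ℕ) ^ 3 = 27 by norm_num, ← hP]; exact Subgroup.card_dvd_of_le inf_le_left
      obtain ⟨k, hk, hk'⟩ := (Nat.dvd_prime_pow Nat.prime_three).1 h8
      have hS27 : Nat.card (S : Subgroup G) = 27 := hP
      rw [hk', hS27] at h6
      rw [hk']
      interval_cases k
      · exfalso; apply h5
        rw [show ((Q : Subgroup G).subgroupOf (S : Subgroup G)).index = 27 by omega]
        norm_num
      · exfalso; apply h5
        rw [show ((Q : Subgroup G).subgroupOf (S : Subgroup G)).index = 9 by omega]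
      · norm_num
      · norm_num
    have hQ9' := hinf Q hQS hQ9
    have hQP : (Q : Subgroup G) ≠ P := fun h => hQS (Sylow.ext h)
    refine two_false hG P D (P ⊓ (Q : Subgroup G)) R Q hP hR9' hQ9' hDP inf_le_left ?_ hRN
      ⟨hScard Q, le_normalizer_of_card _ _ hQ9' (hScard Q) inf_le_right⟩ hRP hQP
    intro h5
    apply hQ
    rw [h5]
    exact ⟨hScard Q, le_normalizer_of_card _ _ hQ9' (hScard Q) inf_le_right⟩

end final

end Cfsg.Agent.SmallSimple.Order4320C
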