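import Cfsg.Agent.SmallSimple.Order5040B
set_option autoImplicit false
namespace Cfsg.Agent.SmallSimple.Order5040C

open Subgroup MulAction
open Cfsg.Agent.SmallSimple.SylowPrime Cfsg.Agent.SmallSimple.SylowPrimeCount
open Cfsg.Agent.SmallSimple.FixCount Cfsg.Agent.SmallSimple.PrimeSylowAut
open Cfsg.Agent.SmallSimple.Order5040 Cfsg.Agent.SmallSimple.Order5040B

variable {G : Type*} [Group G] [Finite G] [IsSimpleGroup G]

/-- If `u` (with `u ≠ 1`, `u ^ 2 = 1`) centralizes `P` and has no other conjugate in `N(P)`, and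
`|C(u)| = 336`, contradiction. -/
theorem aux_336 (hG : Nat.card G = 5040) (P : Sylow 7 G) {u : G} (huC : u ∈ centralizer (P : Set G))
    (hu2 : u ^ 2 = 1) (hu1 : u ≠ 1) (hu : ∀ h, IsConj u h → h ∈ normalizer (P : Set G) → h = u)
    (hC : Nat.card (centralizer {u}) = 336) : False := by
  have := fact7
  have hidx : Nat.card (G ⧸ (centralizer {u})) = 15 := by
    have h1 := (centralizer {u}).card_mul_index
    rw [hC, hG] at h1
    have h2 : (centralizer {u}).index = Nat.card (G ⧸ (centralizer {u})) := rfl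
    omega
  have h7 : 7 ∣ Nat.card P := by rw [card_sylow7 hG P]
  obtain ⟨⟨v, hvP⟩, hv⟩ := exists_prime_orderOf_dvd_card' 7 h7
  rw [Subgroup.orderOf_mk] at hv
  have hv1 : v ≠ 1 := by rintro rfl; rw [orderOf_one] at hv; norm_num at hv
  have huv : v * u = u * v := mem_centralizer_iff.1 huC v hvP
  have h1 := card_fixedBy_modEq_inter (X := G ⧸ (centralizer {u})) (q := 7)
    (by rw [← hv]; exact pow_orderOf_eq_one v) huv
  have h2 : Nat.card {x : G ⧸ (centralizer {u}) // u • x = x ∧ v • x = x} = 1 := by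
    rw [Nat.card_eq_one_iff_unique]
    have key : ∀ x : G ⧸ (centralizer {u}), v • x = x → x = QuotientGroup.mk 1 := by
      intro x
      obtain ⟨g, rfl⟩ := QuotientGroup.mk_surjective x
      intro hx
      have h3 := (mk_mem_fixedBy_iff (centralizer {u}) v g).1 hx
      rw [mem_centralizer_singleton_iff] at h3
      have h4 : g * u * g⁻¹ * v = v * (g * u * g⁻¹) := by
        calc g * u * g⁻¹ * v = g * (u * (g⁻¹ * v * g)) * g⁻¹ := by group
          _ = g * ((g⁻¹ * v * g) * u) * g⁻¹ := by rw [h3]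
          _ = v * (g * u * g⁻¹) := by group
      have h5 : g * u * g⁻¹ ∈ centralizer ((P : Subgroup G) : Set G) :=
        mem_centralizer_of_commute (by norm_num) (card_sylow7 hG P) hvP hv1 h4
      have h6 : g * u * g⁻¹ = u :=
        hu _ (isConj_iff.2 ⟨g, rfl⟩) (centralizer_le_normalizer' (P : Subgroup G) h5)
      rw [QuotientGroup.eq, mul_one, mem_centralizer_singleton_iff]
      have h7 : g * u = u * g := mul_inv_eq_iff_eq_mul.1 h6
      calc g⁻¹ * u = g⁻¹ * (u * g) * g⁻¹ := by group
        _ = g⁻¹ * (g * u) * g⁻¹ := by rw [h7]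
        _ = u * g⁻¹ := by group
    have hone : u • (QuotientGroup.mk 1 : G ⧸ (centralizer {u})) = QuotientGroup.mk 1 := by
      apply (mk_mem_fixedBy_iff (centralizer {u}) u 1).2
      rw [mem_centralizer_singleton_iff]; group
    have hone' : v • (QuotientGroup.mk 1 : G ⧸ (centralizer {u})) = QuotientGroup.mk 1 := by
      apply (mk_mem_fixedBy_iff (centralizer {u}) v 1).2
      rw [mem_centralizer_singleton_iff]; simpa using huv
    refine ⟨⟨?_⟩, ⟨⟨QuotientGroup.mk 1, hone, hone'⟩⟩⟩
    rintro ⟨a, ha⟩ ⟨b, hb⟩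
    apply Subtype.ext
    show a = b
    rw [key a ha.2, key b hb.2]
  rw [h2] at h1
  obtain ⟨k, h3⟩ := parity hG (X := G ⧸ (centralizer {u})) (t := u) hu2
  have h4 := FixCount.card_fixedBy_lt (X := G ⧸ (centralizer {u})) (by rw [hidx]; norm_num) hu1
  rw [hidx] at h3 h4
  unfold Nat.ModEq at h1
  omega

theorem card_centralizer7_ne_14 (hG : Nat.card G = 5040) (P : Sylow 7 G) :
    Nat.card (centralizer (P : Set G)) ≠ 14 := by
  have := fact7
  have := fact2
  intro hC
  have hN := card_normalizer7 hG P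
  have hn := n7_eq hG
  have hPle : (P : Subgroup G) ≤ centralizer (P : Set G) := by
    intro x hx
    rw [mem_centralizer_iff]
    intro y hy
    have hcyc : IsCyclic P := isCyclic_of_prime_card (card_sylow7 hG P)
    exact congrArg Subtype.val (hcyc.isMulCommutative.is_comm.comm (⟨y, hy⟩ : P) ⟨x, hx⟩)
  have h2 : 2 ∣ Nat.card (centralizer (P : Set G)) := by rw [hC]; norm_num
  obtain ⟨⟨u, huC⟩, hu⟩ := exists_prime_orderOf_dvd_card' 2 h2
  have hu' : orderOf u = 2 := by rw [← hu, Subgroup.orderOf_mk]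
  have hu2 : u ^ 2 = 1 := by rw [← hu']; exact pow_orderOf_eq_one u
  have hu1 : u ≠ 1 := by rintro rfl; rw [orderOf_one] at hu'; norm_num at hu'
  -- involutions of `N(P)` lie in `C(P)`
  have hNC : ∀ h ∈ normalizer (P : Set G), h ^ 2 = 1 → h ∈ centralizer (P : Set G) := by
    intro h hh h2
    have hnorm : ((centralizer (P : Set G)).subgroupOf (normalizer (P : Set G))).Normal :=
      inferInstance
    have hidx : ((centralizer (P : Set G)).subgroupOf (normalizer (P : Set G))).index = 3 := by
      have h3 := card_mul_index ((centralizer (P : Set G)).subgroupOf (normalizer (P : Set G)))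
      have h4 : Nat.card ((centralizer (P : Set G)).subgroupOf (normalizer (P : Set G))) = 14 := by
        rw [← hC]
        exact Nat.card_congr
          (subgroupOfEquivOfLe (centralizer_le_normalizer' (P : Subgroup G))).toEquiv
      have h5 : Nat.card (normalizer (P : Set G)) = 42 := hN
      rw [h4, h5] at h3
      omega
    have h3 := Subgroup.pow_index_mem
      ((centralizer (P : Set G)).subgroupOf (normalizer (P : Set G))) ⟨h, hh⟩
    rw [hidx, mem_subgroupOf] at h3
    have h4 : h ^ 3 ∈ centralizer (P : Set G) := h3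
    have h5 : h ^ 3 = h := by rw [pow_succ, h2, one_mul]
    rwa [h5] at h4
  -- uniqueness of the involution in `C(P)`
  have huniq : ∀ h ∈ centralizer (P : Set G), h ^ 2 = 1 → h ≠ 1 → h = u := by
    intro h hh hh2 hh1
    have hidx : ((P : Subgroup G).subgroupOf (centralizer (P : Set G))).index = 2 := by
      have h3 := card_mul_index ((P : Subgroup G).subgroupOf (centralizer (P : Set G)))
      have h4 : Nat.card ((P : Subgroup G).subgroupOf (centralizer (P : Set G))) = 7 :=
        (Nat.card_congr (subgroupOfEquivOfLe hPle).toEquiv).trans (card_sylow7 hG P)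
      rw [h4, hC] at h3
      omega
    have hnotP : ∀ x : G, x ^ 2 = 1 → x ∈ (P : Subgroup G) → x = 1 := by
      intro x hx hxP
      have h3 : orderOf x ∣ 7 := by
        have h8 := card_sylow7 hG P
        have h9 := orderOf_dvd_natCard (⟨x, hxP⟩ : (P : Subgroup G))
        rw [Subgroup.orderOf_mk] at h9
        exact h9.trans (dvd_of_eq h8)
      have h4 : orderOf x ∣ 2 := orderOf_dvd_of_pow_eq_one hx
      have h5 : orderOf x ∣ 1 := by
        have := Nat.dvd_gcd h3 h4
        norm_num at this ⊢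
        exact this
      exact orderOf_eq_one_iff.1 (Nat.dvd_one.1 h5)
    have h3 : (⟨h, hh⟩ * ⟨u, huC⟩ : centralizer (P : Set G)) ∈
        (P : Subgroup G).subgroupOf (centralizer (P : Set G)) := by
      rw [Subgroup.mul_mem_iff_of_index_two hidx, mem_subgroupOf, mem_subgroupOf]
      constructor
      · intro h4
        exact absurd (hnotP h hh2 h4) hh1
      · intro h4
        exact absurd (hnotP u hu2 h4) hu1
    rw [mem_subgroupOf] at h3
    have h4 : h * u ∈ (P : Subgroup G) := h3
    have h5 : (h * u) ^ 2 = 1 := by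
      have h6 : (h * u) * u = u * (h * u) := mem_centralizer_iff.1 huC _ h4
      have h7 : h * u = u * h := by
        have : (h * u) * u = (u * h) * u := by rw [h6, mul_assoc]
        exact mul_right_cancel this
      rw [(show Commute h u from h7).mul_pow, hh2, hu2, one_mul]
    have h6 := hnotP _ h5 h4
    have h7 : h = u⁻¹ := eq_inv_of_mul_eq_one_left h6
    rw [h7, inv_eq_iff_mul_eq_one, ← pow_two, hu2]
  have hJ : ∀ h, IsConj u h → h ∈ normalizer (P : Set G) → h = u := by
    intro h hc hh
    have h9 : h ^ 2 = 1 := by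
      obtain ⟨c, hc⟩ := isConj_iff.1 hc
      rw [← hc, conj_pow, hu2]; group
    have h10 : h ≠ 1 := by
      rintro rfl
      exact hu1 (isConj_one_left.1 hc)
    exact huniq h (hNC h hh h9) h9 h10
  have hJ1 : Nat.card {h : G // IsConj u h ∧ h ∈ normalizer (P : Set G)} = 1 := by
    rw [Nat.card_eq_one_iff_unique]
    refine ⟨⟨?_⟩, ⟨⟨u, IsConj.refl u, centralizer_le_normalizer' (P : Subgroup G) huC⟩⟩⟩
    rintro ⟨a, ha⟩ ⟨b, hb⟩
    apply Subtype.ext
    show a = b
    rw [hJ a ha.1 ha.2, hJ b hb.1 hb.2]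
  have hcount := card_fixedBy_sylow P u
  rw [hJ1, hN, one_mul] at hcount
  have h6 := card_fixedBy_modEq_one P huC
  obtain ⟨k, h7⟩ := parity hG (X := Sylow 7 G) (t := u) hu2
  have h8 : Nat.card (fixedBy (Sylow 7 G) u) < Nat.card (Sylow 7 G) :=
    SylowPrimeCount.card_fixedBy_lt (by rw [hn]; norm_num) hu1
  rw [hn] at h7 h8
  have h9 := card_subgroup_dvd_card (centralizer {u})
  rw [← hcount, hG] at h9
  have h10 : Nat.card (fixedBy (Sylow 7 G) u) = 8 := by
    generalize Nat.card (fixedBy (Sylow 7 G) u) = f at *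
    unfold Nat.ModEq at h6
    have h11 : ∀ f < 120, (f % 7 = 1 % 7 ∧ f % 4 = 0 ∧ f * 42 ∣ 5040) → f = 8 := by
      decide +kernel
    exact h11 f h8 ⟨h6, by omega, h9⟩
  rw [h10] at hcount
  exact aux_336 hG P huC hu2 hu1 hJ (by omega)

end Cfsg.Agent.SmallSimple.Order5040C
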