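import Mathlib

/-!
A lemma on groups of order 16 used for the simple groups of order 5040.
-/

set_option autoImplicit false

namespace Cfsg.Agent.SmallSimple.TwoGroup16

open Subgroup

/-- The quaternion subgroup. -/
theorem quaternion_case {T : Type*} [Group T] (hT : Nat.card T = 16) (z s g : T)
    (hz2 : z * z = 1) (hsz : s * z = z * s) (hgs : g * s = s * g)
    (hs4 : s * s * (s * s) = 1) (hc1 : s * s ≠ 1) (hg2 : g * g = s * s)
    (hgz : g * z = s * s * z * g) :
    ∃ M : Subgroup T, M.index = 2 ∧ z ∉ M ∧ ∀ m ∈ M, m ^ 2 = 1 → m = 1 ∨ m = s * s := by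
  have hfin : Finite T := Nat.finite_of_card_ne_zero (by omega)
  obtain ⟨a, ha⟩ : ∃ a, a = z * s := ⟨_, rfl⟩
  have ha2 : a * a = s * s := by
    calc a * a = z * (s * z) * s := by rw [ha]; group
      _ = z * z * s * s := by rw [hsz]; group
      _ = s * s := by rw [hz2]; group
  have ha4 : a ^ 4 = 1 := by
    calc a ^ 4 = (a * a) * (a * a) := by simp only [pow_succ, pow_zero, one_mul, mul_assoc]
      _ = 1 := by rw [ha2, hs4]
  have hga : g * a = a ^ 3 * g := by
    calc g * a = (g * z) * s := by rw [ha]; group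
      _ = s * s * z * (g * s) := by rw [hgz]; group
      _ = s * s * (z * s) * g := by rw [hgs]; group
      _ = (a * a) * a * g := by rw [ha2, ha]
      _ = a ^ 3 * g := by simp only [pow_succ, pow_zero, one_mul, mul_assoc]
  have hgak : ∀ k : ℕ, g * a ^ k = a ^ (3 * k) * g := by
    intro k
    induction k with
    | zero => simp
    | succ k ih =>
      rw [pow_succ, ← mul_assoc, ih, mul_assoc, hga, ← mul_assoc, ← pow_add]
      rfl
  have hg2' : g * g = a ^ 2 := by rw [hg2, ← ha2, sq]
  let M : Subgroup T :=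
    { carrier := {x | ∃ i : ℕ, x = a ^ i ∨ x = a ^ i * g}
      one_mem' := ⟨0, Or.inl (by simp)⟩
      mul_mem' := by
        rintro x y ⟨i, hi⟩ ⟨k, hk⟩
        rcases hi with rfl | rfl <;> rcases hk with rfl | rfl
        · exact ⟨i + k, Or.inl (by rw [pow_add])⟩
        · exact ⟨i + k, Or.inr (by rw [pow_add, mul_assoc])⟩
        · refine ⟨i + 3 * k, Or.inr ?_⟩
          rw [mul_assoc, hgak, ← mul_assoc, pow_add]
        · refine ⟨i + 3 * k + 2, Or.inl ?_⟩
          calc a ^ i * g * (a ^ k * g) = a ^ i * (g * a ^ k) * g := by group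
            _ = a ^ i * a ^ (3 * k) * (g * g) := by rw [hgak]; group
            _ = a ^ (i + 3 * k + 2) := by rw [hg2', ← pow_add, ← pow_add]
      inv_mem' := by
        rintro x ⟨i, hi⟩
        rcases hi with rfl | rfl
        · refine ⟨3 * i, Or.inl ?_⟩
          rw [inv_eq_iff_mul_eq_one, ← pow_add]
          have : i + 3 * i = 4 * i := by ring
          rw [this, pow_mul, ha4, one_pow]
        · refine ⟨i + 2, Or.inr ?_⟩
          rw [inv_eq_iff_mul_eq_one]
          calc a ^ i * g * (a ^ (i + 2) * g) = a ^ i * (g * a ^ (i + 2)) * g := by group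
            _ = a ^ i * a ^ (3 * (i + 2)) * (g * g) := by rw [hgak]; group
            _ = (a ^ 4) ^ (i + 2) := by
              rw [hg2', ← pow_add, ← pow_add, ← pow_mul]; congr 1; ring
            _ = 1 := by rw [ha4, one_pow] }
  have hzg : g * z ≠ z * g := by
    intro h
    rw [h] at hgz
    have h1 : z = s * s * z := mul_right_cancel hgz
    exact hc1 (mul_eq_right.1 h1.symm)
  have hord : orderOf a = 4 := by
    have h4 : ¬ orderOf a ∣ 2 ^ 1 := by
      intro h
      have := orderOf_dvd_iff_pow_eq_one.1 h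
      rw [pow_one, sq, ha2] at this
      exact hc1 this
    exact orderOf_eq_prime_pow (p := 2) (n := 1) (by
      intro h; exact h4 (orderOf_dvd_of_pow_eq_one h)) (by norm_num [ha4])
  have hza : ∀ i : ℕ, z ≠ a ^ i := by
    intro i hi
    -- `z` would be a power of `a`
    have h1 : z * a = a * z := by rw [hi, ← pow_succ, ← pow_succ']
    have h2 : a ^ (2 * i) = 1 := by rw [two_mul, pow_add, ← hi, hz2]
    have h5 : 4 ∣ 2 * i := by rw [← hord]; exact orderOf_dvd_of_pow_eq_one h2
    obtain ⟨j, hj⟩ : 2 ∣ i := by omega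
    apply hzg
    rw [hi, hj, pow_mul, sq, ha2]
    have hcomm : Commute g (s * s) := by
      have : Commute g s := hgs
      exact this.mul_right this
    exact (hcomm.pow_right j).eq
  have hag : ∀ i : ℕ, a ^ i * g * (a ^ i * g) = s * s := by
    intro i
    calc a ^ i * g * (a ^ i * g) = a ^ i * (g * a ^ i) * g := by group
      _ = a ^ i * a ^ (3 * i) * (g * g) := by rw [hgak]; group
      _ = (a ^ 4) ^ i * (g * g) := by
        rw [← pow_add, ← pow_mul]; congr 2; ring
      _ = s * s := by rw [ha4, one_pow, one_mul, hg2]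
  have hzM : z ∉ M := by
    rintro ⟨i, hi | hi⟩
    · exact hza i hi
    · have h1 := hag i
      rw [← hi, hz2] at h1
      exact hc1 h1.symm
  have hcent : ∀ i : ℕ, a ^ i ≠ g := by
    intro i hi
    apply hzg
    rw [← hi]
    have h1 : Commute a z := by
      rw [ha]
      exact Commute.mul_left (Commute.refl z) hsz
    exact (h1.pow_left i).eq
  refine ⟨M, ?_, hzM, ?_⟩
  · -- the index
    have hle : zpowers a ≤ M := by
      rw [zpowers_le]
      exact ⟨1, Or.inl (by simp)⟩
    have hgM : g ∈ M := ⟨0, Or.inr (by simp)⟩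
    have hga' : g ∉ zpowers a := by
      intro h
      obtain ⟨i, hi⟩ := (mem_powers_iff_mem_zpowers.2 h)
      exact hcent i hi
    have hlt : zpowers a < M := lt_of_le_of_ne hle (fun h => hga' (h ▸ hgM))
    have h1 : 4 ∣ Nat.card M := by
      have := card_dvd_of_le hle
      rwa [Nat.card_zpowers, hord] at this
    have h2 : Nat.card M ≠ 4 := by
      intro h
      apply hlt.ne
      apply Subgroup.eq_of_le_of_card_ge hle
      rw [h, Nat.card_zpowers, hord]
    have h3 : Nat.card M ∣ 16 := hT ▸ card_subgroup_dvd_card M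
    have h4 : Nat.card M ≠ 16 := by
      intro h
      apply hzM
      have : M = ⊤ := eq_top_of_card_eq M (by rw [h, hT])
      rw [this]
      exact mem_top z
    have h5 := M.card_mul_index
    rw [hT] at h5
    have h6 : Nat.card M ≤ 16 := Nat.le_of_dvd (by norm_num) h3
    have h7 : Nat.card M = 8 := by
      generalize Nat.card M = m at *
      interval_cases m <;> omega
    rw [h7] at h5
    omega
  · rintro m ⟨i, rfl | rfl⟩ hm
    · -- a power of a
      rw [← pow_mul] at hm
      have h5 : 4 ∣ i * 2 := by rw [← hord]; exact orderOf_dvd_of_pow_eq_one hm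
      obtain ⟨j, hj⟩ : 2 ∣ i := by omega
      rw [hj, pow_mul, sq, ha2]
      have h6 : (s * s) ^ 2 = 1 := by rw [sq, hs4]
      rcases Nat.even_or_odd' j with ⟨k, hk | hk⟩
      · left
        rw [hk, pow_mul, h6, one_pow]
      · right
        rw [hk, pow_add, pow_mul, h6, one_pow, one_mul, pow_one]
    · exfalso
      rw [sq, hag] at hm
      exact hc1 hm

theorem exists_index_two {T : Type*} [Group T] (hT : Nat.card T = 16) (K : Subgroup T) (z : T)
    (hz1 : z ≠ 1) (hz2 : z ^ 2 = 1) (hzK : z ∈ K) (hKS : K ≤ Subgroup.centralizer {z})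
    (hS : Nat.card (Subgroup.centralizer {z}) = 8) (hKZ : K ⊓ Subgroup.center T = ⊥)
    (hcyc : ∃ s ∈ Subgroup.centralizer {z}, ∀ x ∈ Subgroup.centralizer {z},
      ∃ n : ℕ, x * s ^ n ∈ K) :
    ∃ M : Subgroup T, M.index = 2 ∧ z ∉ M ∧ ∃ c ∈ Subgroup.center T,
      ∀ m ∈ M, m ^ 2 = 1 → m = 1 ∨ m = c := by
  have hfin : Finite T := Nat.finite_of_card_ne_zero (by omega)
  have hp : Fact (Nat.Prime 2) := ⟨Nat.prime_two⟩
  set S := Subgroup.centralizer {z} with hSdef
  have hzz : z * z = 1 := by rw [← sq, hz2]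
  have hmemS : ∀ x, x ∈ S ↔ x * z = z * x := fun x => mem_centralizer_singleton_iff
  have hTp : IsPGroup 2 T := IsPGroup.of_card (n := 4) (by rw [hT]; norm_num)
  have hzS : z ∈ S := (hmemS z).2 rfl
  have hzZ : z ∉ center T := by
    intro h
    have : z ∈ K ⊓ center T := ⟨hzK, h⟩
    rw [hKZ] at this
    exact hz1 (mem_bot.1 this)
  -- a central involution
  have hTnt : Nontrivial T := Finite.one_lt_card_iff_nontrivial.1 (by rw [hT]; norm_num)
  have hcnt : Nontrivial (center T) := hTp.center_nontrivial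
  obtain ⟨c0, hc0⟩ : ∃ c0 : center T, orderOf c0 = 2 := by
    have : 2 ∣ Nat.card (center T) := by
      rcases (hTp.to_subgroup (center T)).card_eq_or_dvd with h | h
      · exact absurd h (Finite.one_lt_card_iff_nontrivial.2 hcnt).ne'
      · exact h
    exact exists_prime_orderOf_dvd_card' 2 this
  have hc0S : (c0 : T) ∈ S := (hmemS _).2 ((mem_center_iff.1 c0.2 z).symm)
  have hc0z : (c0 : T) ≠ z := fun h => hzZ (h ▸ c0.2)
  have hc01 : (c0 : T) ≠ 1 := by
    intro h
    have h1 : c0 = 1 := Subtype.ext h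
    rw [h1, orderOf_one] at hc0
    omega
  -- S is abelian
  have hScomm : ∀ x ∈ S, ∀ y ∈ S, x * y = y * x := by
    have h1 : 4 ∣ Nat.card (center S) := by
      have h2 : Nat.card (center S) ∣ 8 := hS ▸ card_subgroup_dvd_card _
      have h3 : 2 < Nat.card (center S) := by
        have hzc : (⟨z, hzS⟩ : S) ∈ center S := by
          rw [mem_center_iff]
          intro g
          exact Subtype.ext ((hmemS g).1 g.2)
        have hcc : (⟨c0, hc0S⟩ : S) ∈ center S := by
          rw [mem_center_iff]
          intro g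
          exact Subtype.ext (mem_center_iff.1 c0.2 g)
        have := Fintype.ofFinite (center S)
        rw [Nat.card_eq_fintype_card, Fintype.two_lt_card_iff]
        refine ⟨1, ⟨_, hzc⟩, ⟨_, hcc⟩, ?_, ?_, ?_⟩
        · intro h
          exact hz1 (congrArg (fun x : center S => ((x : S) : T)) h).symm
        · intro h
          exact hc01 (congrArg (fun x : center S => ((x : S) : T)) h).symm
        · intro h
          exact hc0z (congrArg (fun x : center S => ((x : S) : T)) h).symm
      have h4 : Nat.card (center S) ≤ 8 := Nat.le_of_dvd (by norm_num) h2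
      generalize Nat.card (center S) = m at *
      interval_cases m <;> omega
    have h5 : Nat.card (S ⧸ center S) ∣ 2 := by
      have h6 := (center S).card_eq_card_quotient_mul_card_subgroup
      rw [hS] at h6
      obtain ⟨k, hk⟩ := h1
      rw [hk] at h6
      have : 2 = Nat.card (S ⧸ center S) * k := by nlinarith
      exact ⟨k, this⟩
    have hcyc' : IsCyclic (S ⧸ center S) := by
      rcases (Nat.dvd_prime Nat.prime_two).1 h5 with h | h
      · have : Subsingleton (S ⧸ center S) := (Nat.card_eq_one_iff_unique.1 h).1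
        infer_instance
      · exact isCyclic_of_prime_card h
    intro x hx y hy
    have := (MonoidHom.isMulCommutative_of_isCyclic_of_ker_le_center (QuotientGroup.mk' (center S))
      (by rw [QuotientGroup.ker_mk'])).is_comm.comm (⟨x, hx⟩ : S) ⟨y, hy⟩
    exact congrArg Subtype.val this
  -- index two
  have hSidx : S.index = 2 := by
    have := S.card_mul_index
    rw [hS, hT] at this
    omega
  obtain ⟨g, hgS⟩ : ∃ g, g ∉ S := by
    by_contra hcon
    push Not at hcon
    have : S = ⊤ := eq_top_iff.2 (fun x _ => hcon x)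
    rw [this, index_top] at hSidx
    omega
  have hmulS : ∀ x y, x * y ∈ S ↔ (x ∈ S ↔ y ∈ S) := fun x y =>
    mul_mem_iff_of_index_two hSidx
  have hggS : g * g ∈ S := (hmulS g g).2 Iff.rfl
  have hconjS : ∀ x, x ∈ S → g * x * g⁻¹ ∈ S := by
    intro x hx
    rw [hmulS, hmulS, inv_mem_iff]
    tauto
  -- criterion for centrality
  have hcentral : ∀ x, x ∈ S → g * x = x * g → x ∈ center T := by
    intro x hx hgx
    rw [mem_center_iff]
    intro y
    by_cases hy : y ∈ S
    · exact hScomm y hy x hx
    · have h1 : g⁻¹ * y ∈ S := by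
        rw [hmulS, inv_mem_iff]
        tauto
      have h2 := hScomm _ h1 x hx
      calc y * x = g * (g⁻¹ * y * x) := by group
        _ = g * x * g⁻¹ * y := by rw [h2]; group
        _ = x * y := by rw [hgx]; group
  have hZK : ∀ x ∈ K, x ∈ center T → x = 1 := by
    intro x h1 h2
    have : x ∈ K ⊓ center T := ⟨h1, h2⟩
    rw [hKZ] at this
    exact mem_bot.1 this
  -- g-conjugation twice is trivial on S
  have hgg : ∀ x ∈ S, g * (g * x * g⁻¹) * g⁻¹ = x := by
    intro x hx
    calc g * (g * x * g⁻¹) * g⁻¹ = (g * g * x) * (g * g)⁻¹ := by group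
      _ = x := by rw [hScomm _ hggS x hx]; group
  have hA : ∀ l ∈ K, g * l * g⁻¹ ∈ K → l = 1 := by
    intro l hl hgl
    by_contra hne
    obtain ⟨k, hk⟩ := (IsPGroup.iff_orderOf.1 hTp) l
    have hk0 : k ≠ 0 := by
      rintro rfl
      rw [pow_zero, orderOf_eq_one_iff] at hk
      exact hne hk
    obtain ⟨j, rfl⟩ : ∃ j, k = j + 1 := ⟨k - 1, by omega⟩
    set l' := l ^ (2 ^ j) with hl'
    have h1 : l' ≠ 1 := by
      intro h
      have h2 := orderOf_dvd_of_pow_eq_one h
      rw [hk, pow_succ] at h2
      have := Nat.le_of_dvd (by positivity) h2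
      have h3 : 0 < 2 ^ j := by positivity
      omega
    have h2 : l' * l' = 1 := by
      rw [hl', ← pow_add, ← two_mul, mul_comm, ← pow_succ, ← hk, pow_orderOf_eq_one]
    have h3 : l' ∈ K := K.pow_mem hl _
    have h4 : g * l' * g⁻¹ ∈ K := by
      have : g * l' * g⁻¹ = (g * l * g⁻¹) ^ (2 ^ j) := by rw [conj_pow]
      rw [this]
      exact K.pow_mem hgl _
    have h5 : l' * (g * l' * g⁻¹) = 1 := by
      apply hZK _ (K.mul_mem h3 h4)
      apply hcentral _ (S.mul_mem (hKS h3) (hKS h4))
      have h6 := hgg l' (hKS h3)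
      have h7 := hScomm _ (hKS h3) _ (hKS h4)
      calc g * (l' * (g * l' * g⁻¹)) = (g * l' * g⁻¹) * (g * (g * l' * g⁻¹) * g⁻¹) * g := by group
        _ = l' * (g * l' * g⁻¹) * g := by rw [h6, h7]
    apply h1
    apply hZK _ h3
    apply hcentral _ (hKS h3)
    have h6 : g * l' * g⁻¹ = l' := by
      have h7 : l'⁻¹ = g * l' * g⁻¹ := inv_eq_of_mul_eq_one_right h5
      have h8 : l'⁻¹ = l' := inv_eq_of_mul_eq_one_right h2
      rw [← h7, h8]
    exact mul_inv_eq_iff_eq_mul.1 h6
  have hKcard : Nat.card K = 2 := by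
    have h1 : Nat.card (K × K) ≤ Nat.card S := by
      refine Nat.card_le_card_of_injective
        (fun x : K × K => (⟨x.1 * (g * x.2 * g⁻¹),
          S.mul_mem (hKS x.1.2) (hconjS _ (hKS x.2.2))⟩ : S)) ?_
      rintro ⟨⟨k, hk⟩, ⟨l, hl⟩⟩ ⟨⟨k', hk'⟩, ⟨l', hl'⟩⟩ h
      have h2 : k * (g * l * g⁻¹) = k' * (g * l' * g⁻¹) := congrArg Subtype.val h
      have h3 : g * (l' * l⁻¹) * g⁻¹ = k'⁻¹ * k := by
        calc g * (l' * l⁻¹) * g⁻¹ = k'⁻¹ * (k' * (g * l' * g⁻¹)) * (g * l * g⁻¹)⁻¹ := by group
          _ = k'⁻¹ * k := by rw [← h2]; group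
      have h4 := hA (l' * l⁻¹) (K.mul_mem hl' (K.inv_mem hl))
        (by rw [h3]; exact K.mul_mem (K.inv_mem hk') hk)
      have h5 : l' = l := mul_inv_eq_one.1 h4
      subst h5
      have h6 : k = k' := mul_right_cancel h2
      subst h6
      rfl
    rw [Nat.card_prod, hS] at h1
    have h2 : Nat.card K ≤ 2 := by nlinarith
    have h3 : Nat.card K ≠ 1 := by
      intro h
      have h4 := eq_bot_of_card_eq K h
      rw [h4] at hzK
      exact hz1 (mem_bot.1 hzK)
    have h4 : 0 < Nat.card K := Nat.card_pos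
    omega
  have hKz : ∀ k ∈ K, k = 1 ∨ k = z := by
    intro k hk
    by_contra hcon
    push Not at hcon
    have := Fintype.ofFinite K
    have h1 : 2 < Fintype.card K := by
      rw [Fintype.two_lt_card_iff]
      refine ⟨1, ⟨z, hzK⟩, ⟨k, hk⟩, ?_, ?_, ?_⟩
      · intro h; exact hz1 (congrArg Subtype.val h).symm
      · intro h; exact hcon.1 (congrArg Subtype.val h).symm
      · intro h; exact hcon.2 (congrArg Subtype.val h).symm
    rw [← Nat.card_eq_fintype_card, hKcard] at h1
    omega
  obtain ⟨s, hsS, hs⟩ := hcyc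
  have hsz : s * z = z * s := (hmemS s).1 hsS
  -- every element of S is s^n or z s^n
  have hform : ∀ x ∈ S, ∃ n : ℕ, x = s ^ n ∨ x = z * s ^ n := by
    intro x hx
    obtain ⟨n, hn⟩ := hs x hx
    have hord : 0 < orderOf s := orderOf_pos s
    -- inverse of s ^ n as a power
    have h1 : (s ^ n)⁻¹ = s ^ (n * (orderOf s - 1)) := by
      rw [inv_eq_iff_mul_eq_one, ← pow_add]
      have : n + n * (orderOf s - 1) = orderOf s * n := by
        obtain ⟨m, hm⟩ : ∃ m, orderOf s = m + 1 := ⟨orderOf s - 1, by omega⟩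
        rw [hm]; simp; ring
      rw [this, pow_mul, pow_orderOf_eq_one, one_pow]
    refine ⟨n * (orderOf s - 1), ?_⟩
    rw [← h1]
    rcases hKz _ hn with h | h
    · left; exact eq_inv_of_mul_eq_one_left h
    · right; exact eq_mul_inv_of_mul_eq h
  have hs4 : s ^ 4 = 1 := by
    by_contra h4
    have h1 : orderOf s ∣ 8 := by
      have := S.orderOf_dvd_natCard hsS
      rwa [hS] at this
    have hord : orderOf s = 8 := by
      have h3 : orderOf s ∣ 2 ^ 3 := h1
      obtain ⟨k, hk, hk2⟩ := (Nat.dvd_prime_pow Nat.prime_two).1 h3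
      have : ¬ orderOf s ∣ 4 := fun h => h4 (orderOf_dvd_iff_pow_eq_one.1 h)
      interval_cases k
      · rw [hk2] at this; exact absurd (by norm_num) this
      · rw [hk2] at this; exact absurd (by norm_num) this
      · rw [hk2] at this; exact absurd (by norm_num) this
      · rw [hk2]; norm_num
    have h2 : zpowers s = S := by
      apply Subgroup.eq_of_le_of_card_ge (zpowers_le.2 hsS)
      rw [hS, Nat.card_zpowers, hord]
    have h3 : ∀ x ∈ S, x ≠ 1 → x * x = 1 → x = s ^ 4 := by
      intro x hx hx1 hxx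
      rw [← h2] at hx
      obtain ⟨i, rfl⟩ := mem_powers_iff_mem_zpowers.2 hx
      have h5 : s ^ (2 * i) = 1 := by rw [two_mul, pow_add]; exact hxx
      have h6 : 8 ∣ 2 * i := by rw [← hord]; exact orderOf_dvd_of_pow_eq_one h5
      obtain ⟨j, hj⟩ : 4 ∣ i := by omega
      have h8 : (s ^ 4) ^ 2 = 1 := by
        rw [← pow_mul]
        exact orderOf_dvd_iff_pow_eq_one.1 (by rw [hord])
      rcases Nat.even_or_odd' j with ⟨k, hk | hk⟩
      · exfalso
        apply hx1
        show s ^ i = 1
        rw [hj, pow_mul, hk, pow_mul, h8, one_pow]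
      · show s ^ i = s ^ 4
        rw [hj, pow_mul, hk, pow_add, pow_mul, h8, one_pow, one_mul, pow_one]
    apply hc0z
    have h5 : (c0 : T) * c0 = 1 := by
      have : c0 * c0 = 1 := by rw [← sq, ← hc0, pow_orderOf_eq_one]
      exact congrArg Subtype.val this
    rw [h3 z hzS hz1 hzz, h3 _ hc0S hc01 h5]
  have hs2 : s * s ≠ 1 := by
    intro h2
    have h3 : Nat.card S ≤ Nat.card (Bool × Bool) := by
      refine Nat.card_le_card_of_surjective
        (fun b : Bool × Bool => (⟨(if b.1 then z else 1) * (if b.2 then s else 1), by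
          refine S.mul_mem ?_ ?_
          · split_ifs
            · exact hzS
            · exact S.one_mem
          · split_ifs
            · exact hsS
            · exact S.one_mem⟩ : S)) ?_
      rintro ⟨x, hx⟩
      obtain ⟨n, hn⟩ := hform x hx
      have h4 : s ^ n = 1 ∨ s ^ n = s := by
        rcases Nat.even_or_odd' n with ⟨k, hk | hk⟩
        · left; rw [hk, pow_mul, sq, h2, one_pow]
        · right; rw [hk, pow_add, pow_mul, sq, h2, one_pow, one_mul, pow_one]
      rcases hn with rfl | rfl <;> rcases h4 with h4 | h4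
      · exact ⟨(false, false), Subtype.ext (by simp [h4])⟩
      · exact ⟨(false, true), Subtype.ext (by simp [h4])⟩
      · exact ⟨(true, false), Subtype.ext (by simp [h4])⟩
      · exact ⟨(true, true), Subtype.ext (by simp [h4])⟩
    rw [hS, Nat.card_prod, Nat.card_eq_fintype_card, Fintype.card_bool] at h3
    omega
  obtain ⟨c, hc⟩ : ∃ c, c = s * s := ⟨_, rfl⟩
  have hc1 : c ≠ 1 := by rw [hc]; exact hs2
  have hcc : c * c = 1 := by
    rw [hc, ← hs4]; simp only [pow_succ, pow_zero, one_mul, mul_assoc]
  have hcS : c ∈ S := by rw [hc]; exact S.mul_mem hsS hsS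
  have hcpow : ∀ n : ℕ, c ^ n = 1 ∨ c ^ n = c := by
    intro n
    rcases Nat.even_or_odd' n with ⟨k, hk | hk⟩
    · left; rw [hk, pow_mul, sq, hcc, one_pow]
    · right; rw [hk, pow_add, pow_mul, sq, hcc, one_pow, one_mul, pow_one]
  have hspow2 : ∀ n : ℕ, s ^ n * s ^ n = c ^ n := by
    intro n
    rw [hc, ← sq s, ← pow_mul, ← pow_add]; congr 1; ring
  have hzpow : ∀ n : ℕ, z * s ^ n * (z * s ^ n) = c ^ n := by
    intro n
    have h1 : s ^ n * z = z * s ^ n := (show Commute s z from hsz).pow_left n
    calc z * s ^ n * (z * s ^ n) = z * (s ^ n * z) * s ^ n := by group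
      _ = (z * z) * (s ^ n * s ^ n) := by rw [h1]; group
      _ = c ^ n := by rw [hzz, one_mul, hspow2]
  have hsq : ∀ x ∈ S, x * x = 1 ∨ x * x = c := by
    intro x hx
    obtain ⟨n, rfl | rfl⟩ := hform x hx
    · rw [hspow2]; exact hcpow n
    · rw [hzpow]; exact hcpow n
  have hgc : g * c = c * g := by
    have h1 := hsq _ (hconjS s hsS)
    have h2 : g * s * g⁻¹ * (g * s * g⁻¹) = g * c * g⁻¹ := by rw [hc]; group
    rw [h2] at h1
    rcases h1 with h1 | h1
    · exfalso
      apply hc1
      have : c = g⁻¹ * (g * c * g⁻¹) * g := by group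
      rw [this, h1]; group
    · exact mul_inv_eq_iff_eq_mul.1 h1
  have hcZ : c ∈ center T := hcentral c hcS hgc
  have heven : ∀ n : ℕ, c ^ n = 1 → ∃ k, n = 2 * k := by
    intro n hn
    rcases Nat.even_or_odd' n with ⟨k, hk | hk⟩
    · exact ⟨k, hk⟩
    · exfalso
      rw [hk, pow_add, pow_mul, sq, hcc, one_pow, one_mul, pow_one] at hn
      exact hc1 hn
  have hinv : ∀ x ∈ S, x * x = 1 → x = 1 ∨ x = c ∨ x = z ∨ x = z * c := by
    intro x hx hxx
    obtain ⟨n, rfl | rfl⟩ := hform x hx
    · rw [hspow2] at hxx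
      obtain ⟨k, rfl⟩ := heven n hxx
      have : s ^ (2 * k) = c ^ k := by rw [pow_mul, sq, ← hc]
      rw [this]
      rcases hcpow k with h | h
      · left; exact h
      · right; left; exact h
    · rw [hzpow] at hxx
      obtain ⟨k, rfl⟩ := heven n hxx
      have : s ^ (2 * k) = c ^ k := by rw [pow_mul, sq, ← hc]
      rw [this]
      rcases hcpow k with h | h
      · right; right; left; rw [h, mul_one]
      · right; right; right; rw [h]
  have hgzS := hconjS z hzS
  have hgzne : g * z * g⁻¹ ≠ z := by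
    intro h
    exact hgS ((hmemS g).2 (mul_inv_eq_iff_eq_mul.1 h))
  have hgz' : g * z * g⁻¹ = z * c := by
    have h1 : g * z * g⁻¹ * (g * z * g⁻¹) = 1 := by
      calc g * z * g⁻¹ * (g * z * g⁻¹) = g * (z * z) * g⁻¹ := by group
        _ = 1 := by rw [hzz]; group
    rcases hinv _ hgzS h1 with h | h | h | h
    · exfalso
      apply hz1
      have : z = g⁻¹ * (g * z * g⁻¹) * g := by group
      rw [this, h]; group
    · exfalso
      have h2 : z = c := by
        have h3 : z = g⁻¹ * (g * z * g⁻¹) * g := by group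
        rw [h3, h]
        calc g⁻¹ * c * g = g⁻¹ * (c * g) := by group
          _ = c := by rw [← hgc]; group
      exact hzZ (h2 ▸ hcZ)
    · exact absurd h hgzne
    · exact h
  have hgz : g * z = c * z * g := by
    rw [mul_inv_eq_iff_eq_mul.1 hgz']
    rw [hScomm z hzS c hcS]
  have hgnz : g * z ≠ z * g := fun h => hgzne (mul_inv_eq_iff_eq_mul.2 h)
  -- the adjusted s
  obtain ⟨s', hs'S, hs'c, hgs', hform'⟩ : ∃ s' ∈ S, s' * s' = c ∧ g * s' = s' * g ∧
      ∀ x ∈ S, ∃ n : ℕ, x = s' ^ n ∨ x = z * s' ^ n := by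
    have hyS := hconjS s hsS
    have hyy : g * s * g⁻¹ * (g * s * g⁻¹) = c := by
      calc g * s * g⁻¹ * (g * s * g⁻¹) = g * c * g⁻¹ := by rw [hc]; group
        _ = c := by rw [hgc]; group
    obtain ⟨n, hn⟩ := hform _ hyS
    have hnodd : ∃ k, n = 2 * k + 1 := by
      have h1 : c ^ n = c := by
        rcases hn with hn | hn
        · rw [hn, hspow2] at hyy; exact hyy
        · rw [hn, hzpow] at hyy; exact hyy
      rcases Nat.even_or_odd' n with ⟨k, hk | hk⟩
      · exfalso
        rw [hk, pow_mul, sq, hcc, one_pow] at h1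
        exact hc1 h1.symm
      · exact ⟨k, hk⟩
    obtain ⟨k, rfl⟩ := hnodd
    have hsk : s ^ (2 * k + 1) = s ∨ s ^ (2 * k + 1) = c * s := by
      rw [pow_add, pow_mul, sq, ← hc, pow_one]
      rcases hcpow k with h | h
      · left; rw [h, one_mul]
      · right; rw [h]
    rcases hn with hn | hn
    · rcases hsk with h | h
      · refine ⟨s, hsS, hc.symm, ?_, hform⟩
        rw [h] at hn
        exact mul_inv_eq_iff_eq_mul.1 hn
      · rw [h] at hn
        refine ⟨z * s, S.mul_mem hzS hsS, ?_, ?_, ?_⟩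
        · have := hzpow 1
          rwa [pow_one, pow_one] at this
        · have h1 : g * (z * s) * g⁻¹ = z * s := by
            calc g * (z * s) * g⁻¹ = (g * z * g⁻¹) * (g * s * g⁻¹) := by group
              _ = z * (c * c) * s := by rw [hgz', hn]; group
              _ = z * s := by rw [hcc]; group
          exact mul_inv_eq_iff_eq_mul.1 h1
        · intro x hx
          have hzs : ∀ n : ℕ, (z * s) ^ n = s ^ n ∨ (z * s) ^ n = z * s ^ n := by
            intro n
            have h2 : Commute z s := hsz.symm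
            rw [h2.mul_pow]
            rcases Nat.even_or_odd' n with ⟨j, hj | hj⟩
            · left
              have : z ^ n = 1 := by rw [hj, pow_mul, hz2, one_pow]
              rw [this, one_mul]
            · right
              have : z ^ n = z := by rw [hj, pow_add, pow_mul, hz2, one_pow, one_mul, pow_one]
              rw [this]
          obtain ⟨n, hn' | hn'⟩ := hform x hx
          · refine ⟨n, ?_⟩
            rcases hzs n with h3 | h3
            · left; rw [h3, hn']
            · right; rw [h3, hn', ← mul_assoc, hzz, one_mul]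
          · refine ⟨n, ?_⟩
            rcases hzs n with h3 | h3
            · right; rw [h3, hn']
            · left; rw [h3, hn']
    · exfalso
      -- g * s * g⁻¹ = z * s or z * c * s
      have h1 := hgg s hsS
      have h2 : ∀ w, (w = s ∨ w = c * s) → g * s * g⁻¹ = z * w → False := by
        intro w hw hgw
        rw [hgw] at h1
        have h3 : g * (z * w) * g⁻¹ = (g * z * g⁻¹) * (g * w * g⁻¹) := by group
        rw [h3, hgz'] at h1
        have h4 : g * w * g⁻¹ = z * w * (w * s⁻¹) := by
          rcases hw with rfl | rfl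
          · rw [hgw]; group
          · have h5 : g * (c * s) * g⁻¹ = c * (g * s * g⁻¹) := by
              calc g * (c * s) * g⁻¹ = (g * c) * s * g⁻¹ := by group
                _ = c * (g * s * g⁻¹) := by rw [hgc]; group
            rw [h5, hgw, hScomm c hcS _ (S.mul_mem hzS (S.mul_mem hcS hsS))]
            group
        rw [h4] at h1
        -- z c z w w s⁻¹ = s
        have h6 : w * w = c := by
          rcases hw with rfl | rfl
          · exact hc.symm
          · calc c * s * (c * s) = c * (s * c) * s := by group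
              _ = c * c * (s * s) := by rw [hScomm s hsS c hcS]; group
              _ = c := by rw [hcc, one_mul, ← hc]
        have h7 : z * c * (z * w * (w * s⁻¹)) = s⁻¹ := by
          calc z * c * (z * w * (w * s⁻¹)) = z * (c * z) * (w * w) * s⁻¹ := by group
            _ = (z * z) * (c * c) * s⁻¹ := by
              rw [h6, hScomm c hcS z hzS]; group
            _ = s⁻¹ := by rw [hzz, hcc]; group
        rw [h7] at h1
        exact hs2 (inv_eq_iff_mul_eq_one.1 h1)
      rcases hsk with h | h
      · exact h2 s (Or.inl rfl) (by rw [hn, h])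
      · exact h2 (c * s) (Or.inr rfl) (by rw [hn, h])
  have hs'z : s' * z = z * s' := (hmemS s').1 hs'S
  have hs'4 : s' * s' * (s' * s') = 1 := by rw [hs'c, hcc]
  -- the square of g
  obtain ⟨n, hn⟩ : ∃ n : ℕ, g * g = s' ^ n := by
    obtain ⟨n, hn | hn⟩ := hform' _ hggS
    · exact ⟨n, hn⟩
    · exfalso
      apply hgnz
      have h1 : Commute g (g * g) := (Commute.refl g).mul_right (Commute.refl g)
      have h2 : Commute g (s' ^ n) := (show Commute g s' from hgs').pow_right n
      have h3 : z = (g * g) * (s' ^ n)⁻¹ := by rw [hn]; group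
      have h4 : Commute g z := by
        rw [h3]
        exact h1.mul_right h2.inv_right
      exact h4.eq
  have hs'pow : ∀ k : ℕ, s' ^ (2 * k) = c ^ k := by
    intro k
    rw [pow_mul, sq, hs'c]
  rcases Nat.even_or_odd' n with ⟨k, hk | hk⟩
  · rw [hk, hs'pow] at hn
    rcases hcpow k with h | h
    · -- g² = 1
      rw [h] at hn
      obtain ⟨M, hM1, hM2, hM3⟩ := quaternion_case hT z s' (g * s') hzz hs'z
        (by rw [mul_assoc, ← mul_assoc s', ← hgs']; group) hs'4 (by rw [hs'c]; exact hc1)
        (by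
          calc g * s' * (g * s') = g * (s' * g) * s' := by group
            _ = (g * g) * (s' * s') := by rw [← hgs']; group
            _ = s' * s' := by rw [hn, one_mul])
        (by
          calc g * s' * z = g * (s' * z) := by group
            _ = (g * z) * s' := by rw [hs'z]; group
            _ = s' * s' * z * (g * s') := by rw [hgz, hs'c]; group)
      rw [hs'c] at hM3
      exact ⟨M, hM1, hM2, c, hcZ, hM3⟩
    · rw [h] at hn
      obtain ⟨M, hM1, hM2, hM3⟩ := quaternion_case hT z s' g hzz hs'z hgs' hs'4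
        (by rw [hs'c]; exact hc1) (by rw [hn, hs'c]) (by rw [hgz, hs'c])
      rw [hs'c] at hM3
      exact ⟨M, hM1, hM2, c, hcZ, hM3⟩
  · -- g has order 8
    have hg4 : g ^ 4 = c := by
      have h1 : g ^ 4 = (g * g) * (g * g) := by
        simp only [pow_succ, pow_zero, one_mul, mul_assoc]
      rw [h1, hn, ← pow_add, ← two_mul, hs'pow, hk, pow_add, pow_mul, sq, hcc, one_pow, one_mul,
        pow_one]
    have hord : orderOf g = 8 := by
      have := orderOf_eq_prime_pow (x := g) (p := 2) (n := 2)
        (by norm_num [hg4]; exact hc1) (by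
          have h1 : g ^ (2 ^ (2 + 1)) = (g ^ 4) ^ 2 := by rw [← pow_mul]; norm_num
          rw [h1, hg4, sq, hcc])
      rw [this]; norm_num
    refine ⟨zpowers g, ?_, ?_, c, hcZ, ?_⟩
    · have h1 := (zpowers g).card_mul_index
      rw [Nat.card_zpowers, hord, hT] at h1
      omega
    · intro h
      obtain ⟨i, hi⟩ := mem_powers_iff_mem_zpowers.2 h
      apply hgnz
      have h1 : g ^ i = z := hi
      rw [← h1, ← pow_succ, ← pow_succ']
    · intro m hm hm2
      obtain ⟨i, rfl⟩ := mem_powers_iff_mem_zpowers.2 hm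
      have h1 : (g ^ i) ^ 2 = 1 := hm2
      rw [← pow_mul] at h1
      have h2 : 8 ∣ i * 2 := by rw [← hord]; exact orderOf_dvd_of_pow_eq_one h1
      obtain ⟨j, hj⟩ : 4 ∣ i := by omega
      show g ^ i = 1 ∨ g ^ i = c
      rw [hj, pow_mul, hg4]
      exact hcpow j

end Cfsg.Agent.SmallSimple.TwoGroup16
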