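import Cfsg.Agent.SmallSimple.Order5040D
import Cfsg.Agent.SmallSimple.TwoGroup16
set_option autoImplicit false
namespace Cfsg.Agent.SmallSimple.Order5040E

open Subgroup MulAction
open Cfsg.Agent.SmallSimple.SylowPrime Cfsg.Agent.SmallSimple.SylowPrimeCount
open Cfsg.Agent.SmallSimple.FixCount Cfsg.Agent.SmallSimple.PrimeSylowAut
open Cfsg.Agent.SmallSimple.Order5040 Cfsg.Agent.SmallSimple.Order5040B
open Cfsg.Agent.SmallSimple.Order5040D

variable {G : Type*} [Group G] [Finite G] [IsSimpleGroup G]

theorem final (hG : Nat.card G = 5040)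
    (h7 : ∀ P : Sylow 7 G, Nat.card (centralizer (P : Set G)) = 7)
    (P : Sylow 5 G) (h5 : Nat.card (normalizer (P : Set G)) = 40) : False := by
  have := fact5
  have := fact2
  have hrel : (centralizer ((P : Subgroup G) : Set G)).relIndex
      (normalizer ((P : Subgroup G) : Set G)) < 2 ^ 3 := by
    have h1 := relIndex_dvd_pred (p := 5) (by norm_num) (card_sylow5 hG P)
    exact lt_of_le_of_lt (Nat.le_of_dvd (by norm_num) h1) (by norm_num)
  obtain ⟨z, hzC, hzo, hz⟩ := SylowPrimeInvol.exists_central_involution (p := 5) (a := 3)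
    (by norm_num) (by norm_num) (card_sylow5 hG P) (h5.trans (by norm_num)) hrel
  have hz2 : z ^ 2 = 1 := by rw [← hzo]; exact pow_orderOf_eq_one z
  have hz1 : z ≠ 1 := by rintro rfl; rw [orderOf_one] at hzo; norm_num at hzo
  have hcz : Nat.card (centralizer {z}) = 40 := card_centralizer_eq_40 hG h7 P h5 hz hz2 hz1
  have hNeq : normalizer (P : Set G) = centralizer {z} :=
    Subgroup.eq_of_le_of_card_ge hz (by rw [hcz, h5])
  -- Sylow 2-subgroups
  set N := normalizer (P : Set G) with hN
  obtain ⟨S0⟩ : Nonempty (Sylow 2 N) := inferInstance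
  have hS0 : Nat.card S0 = 8 :=
    SylowPrimeInvol.card_sylow_of_card_eq S0 (k := 3) (m := 5) (by rw [h5]; norm_num) (by norm_num)
  set S : Subgroup G := (S0 : Subgroup N).map N.subtype with hS
  have hScard : Nat.card S = 8 := by
    rw [← hS0]
    exact Nat.card_congr ((S0 : Subgroup N).equivMapOfInjective _
      (Subgroup.subtype_injective _)).symm.toEquiv
  have hSN : S ≤ N := by
    rintro _ ⟨x, _, rfl⟩
    exact x.2
  have hSp : IsPGroup 2 S := S0.2.map _
  obtain ⟨T, hT⟩ := hSp.exists_le_sylow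
  have hTcard : Nat.card T = 16 := card_sylow2 hG T
  have hzN : z ∈ N := by
    rw [hNeq, mem_centralizer_singleton_iff]
  -- `T ⊓ N = S`
  have hTN : (T : Subgroup G) ⊓ N = S := by
    symm
    apply Subgroup.eq_of_le_of_card_ge (le_inf hT hSN)
    have h1 : IsPGroup 2 ((T : Subgroup G) ⊓ N : Subgroup G) := T.2.to_le inf_le_left
    obtain ⟨n, hn⟩ := h1.exists_card_eq
    have h2 := card_dvd_of_le (inf_le_right : (T : Subgroup G) ⊓ N ≤ N)
    rw [hn] at h2 ⊢
    have h3 : Nat.card N = 40 := h5
    rw [h3] at h2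
    rw [hScard]
    have h4 : n ≤ 3 := by
      by_contra hlt
      have h5 : 2 ^ 4 ∣ 2 ^ n := pow_dvd_pow 2 (by omega)
      have h6 := h5.trans h2
      norm_num at h6
    calc 2 ^ n ≤ 2 ^ 3 := Nat.pow_le_pow_right (by norm_num) h4
      _ = 8 := by norm_num
  -- `z ∈ T`
  have hzT : z ∈ (T : Subgroup G) := by
    have h1 : (⟨z, hzN⟩ : N) ∈ (S0 : Subgroup N) := by
      have h2 : IsPGroup 2 (zpowers (⟨z, hzN⟩ : N)) :=
        IsPGroup.of_card (n := 1) (by rw [Nat.card_zpowers, Subgroup.orderOf_mk, hzo, pow_one])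
      have h3 := h2.inf_normalizer_sylow S0
      have h4 : (⟨z, hzN⟩ : N) ∈ zpowers (⟨z, hzN⟩ : N) ⊓ normalizer (S0 : Set N) := by
        refine ⟨mem_zpowers _, ?_⟩
        apply centralizer_le_normalizer'
        rw [mem_centralizer_iff]
        rintro ⟨x, hx⟩ _
        apply Subtype.ext
        have h5 := hx
        rw [hNeq, mem_centralizer_singleton_iff] at h5
        exact h5
      rw [h3] at h4
      exact h4.2
    exact hT ⟨⟨z, hzN⟩, h1, rfl⟩
  set zT : T := ⟨z, hzT⟩ with hzTdef
  set K : Subgroup T := (centralizer (P : Set G)).subgroupOf T with hK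
  have hCT : ∀ x : T, x ∈ centralizer {zT} ↔ (x : G) ∈ N := by
    intro x
    rw [hNeq, mem_centralizer_singleton_iff, mem_centralizer_singleton_iff, Subtype.ext_iff]
    rfl
  have hcard8 : Nat.card (centralizer {zT}) = 8 := by
    rw [← hScard, ← hTN]
    refine Nat.card_congr
      { toFun := fun x => ⟨x.1.1, x.1.2, (hCT x.1).1 x.2⟩
        invFun := fun x => ⟨⟨x.1, x.2.1⟩, (hCT _).2 x.2.2⟩
        left_inv := fun x => rfl
        right_inv := fun x => rfl }
  have hCN : centralizer (P : Set G) ≤ N := centralizer_le_normalizer' (P : Subgroup G)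
  have hKZ : K ⊓ center T = ⊥ := by
    by_contra hne
    have hT2 : IsPGroup 2 (K ⊓ center T : Subgroup T) := T.2.to_subgroup _
    have hdvd : 2 ∣ Nat.card (K ⊓ center T : Subgroup T) := by
      obtain ⟨n, hn0, hn⟩ := hT2.nontrivial_iff_card.1
        ((Subgroup.nontrivial_iff_ne_bot (K ⊓ center T)).2 hne)
      rw [hn]
      exact dvd_pow_self 2 hn0.ne'
    obtain ⟨⟨x, hxKc⟩, hx⟩ := exists_prime_orderOf_dvd_card' 2 hdvd
    rw [Subgroup.orderOf_mk, ← Subgroup.orderOf_coe] at hx
    obtain ⟨hxK, hxc⟩ := mem_inf.1 hxKc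
    have hxC : (x : G) ∈ centralizer (P : Set G) := hxK
    have hTx : (T : Subgroup G) ≤ centralizer {(x : G)} := by
      intro w hw
      rw [mem_centralizer_singleton_iff]
      exact congrArg Subtype.val ((mem_center_iff.1 hxc) ⟨w, hw⟩)
    have hNx : N ≤ centralizer {(x : G)} := by
      set D := N ⊓ centralizer {(x : G)} with hD
      have h8 : 8 ∣ Nat.card D := by
        rw [← hScard]
        exact card_dvd_of_le (le_inf hSN (hT.trans hTx))
      have h5' : 5 ∣ Nat.card D := by
        have h1 : (P : Subgroup G) ≤ D := by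
          refine le_inf le_normalizer ?_
          intro w hw
          rw [mem_centralizer_singleton_iff]
          exact mem_centralizer_iff.1 hxC w hw
        have h2 : Nat.card (P : Subgroup G) = 5 := card_sylow5 hG P
        rw [← h2]
        exact card_dvd_of_le h1
      have h40 : 40 ∣ Nat.card D := by
        have : Nat.Coprime 8 5 := by norm_num
        exact this.mul_dvd_of_dvd_of_dvd h8 h5'
      have h1 : D = N := by
        apply Subgroup.eq_of_le_of_card_ge inf_le_left
        have h3 : Nat.card N = 40 := h5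
        rw [h3]
        exact Nat.le_of_dvd Nat.card_pos h40
      rw [← h1]
      exact inf_le_right
    have hx2 : (x : G) ^ 2 = 1 := by
      have h9 := pow_orderOf_eq_one (x : G)
      rwa [hx] at h9
    have hx1 : (x : G) ≠ 1 := by intro h; rw [h, orderOf_one] at hx; norm_num at hx
    have h1 := card_centralizer_eq_40 hG h7 P h5 hNx hx2 hx1
    have h2 := card_dvd_of_le hTx
    have h3 : Nat.card (T : Subgroup G) = 16 := hTcard
    rw [h1, h3] at h2
    norm_num at h2
  have hcyc : ∃ s ∈ centralizer {zT}, ∀ x ∈ centralizer {zT}, ∃ n : ℕ, x * s ^ n ∈ K := by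
    obtain ⟨s, hs, hgen⟩ := exists_generator_mod_centralizer (p := 5) (by norm_num)
      (card_sylow5 hG P) ((T : Subgroup G) ⊓ N) inf_le_right
    refine ⟨⟨s, hs.1⟩, (hCT _).2 hs.2, fun x hx => ?_⟩
    obtain ⟨n, hn⟩ := hgen x ⟨x.2, (hCT x).1 hx⟩
    exact ⟨n, hn⟩
  obtain ⟨M, hM, hzM, c, hc, hMc⟩ := TwoGroup16.exists_index_two hTcard K zT
    (fun h => hz1 (congrArg Subtype.val h)) (Subtype.ext hz2) hzC
    (fun x hx => (hCT x).2 (hCN hx)) hcard8 hKZ hcyc
  -- final contradiction
  set M' : Subgroup G := M.map (T : Subgroup G).subtype with hM'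
  have hMcard : Nat.card M = 8 := by
    have h1 := M.card_mul_index
    rw [hM, hTcard] at h1
    omega
  have hM'card : Nat.card M' = 8 := by
    rw [← hMcard]
    exact Nat.card_congr (M.equivMapOfInjective _ (Subgroup.subtype_injective _)).symm.toEquiv
  have hidx : Nat.card (G ⧸ M') = 630 := by
    have h1 := M'.card_mul_index
    rw [hM'card, hG] at h1
    have h2 : M'.index = Nat.card (G ⧸ M') := rfl
    omega
  obtain ⟨k, hk⟩ := parity hG (X := G ⧸ M') (t := z) hz2
  have hfix : Nat.card (fixedBy (G ⧸ M') z) = 0 := by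
    rw [Nat.card_eq_zero]
    left
    constructor
    rintro ⟨x, hx⟩
    obtain ⟨g, rfl⟩ := QuotientGroup.mk_surjective x
    obtain ⟨m, hm, hmz⟩ := (mk_mem_fixedBy_iff M' z g).1 hx
    have hmz' : (m : G) = g⁻¹ * z * g := hmz
    have hm2 : m ^ 2 = 1 := by
      apply Subtype.ext
      show (m : G) ^ 2 = 1
      have : (m : G) ^ 2 = g⁻¹ * z ^ 2 * g := by rw [hmz', pow_two, pow_two]; group
      rw [this, hz2]; group
    rcases hMc m hm hm2 with h | h
    · apply hz1
      rw [h] at hmz'
      have h1 : z = g * (g⁻¹ * z * g) * g⁻¹ := by group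
      rw [h1, ← hmz']
      show g * 1 * g⁻¹ = 1
      group
    · -- `T^(g⁻¹) ≤ C(z)`
      have h1 : (T : Subgroup G).map (MulAut.conj g).toMonoidHom ≤ centralizer {z} := by
        rintro _ ⟨x, hx, rfl⟩
        rw [mem_centralizer_singleton_iff]
        have h2 : x * (m : G) = (m : G) * x := by
          have h3 := (mem_center_iff.1 hc) ⟨x, hx⟩
          rw [h]
          exact congrArg Subtype.val h3
        have h3 : (MulAut.conj g).toMonoidHom x = g * x * g⁻¹ := rfl
        rw [h3]
        calc g * x * g⁻¹ * z = g * (x * (g⁻¹ * z * g)) * g⁻¹ := by group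
          _ = g * ((g⁻¹ * z * g) * x) * g⁻¹ := by rw [← hmz', h2]
          _ = z * (g * x * g⁻¹) := by group
      have h2 := card_dvd_of_le h1
      have h3 : Nat.card ((T : Subgroup G).map (MulAut.conj g).toMonoidHom) = 16 := by
        rw [← hTcard]
        exact Nat.card_congr ((T : Subgroup G).equivMapOfInjective _
          (MulAut.conj g).injective).symm.toEquiv
      rw [h3, hcz] at h2
      norm_num at h2
  rw [hidx, hfix] at hk
  omega

end Cfsg.Agent.SmallSimple.Order5040E
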