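import Cfsg.Agent.SmallSimple.Order5040

/-!
A simple group of order 5040 does not have exactly 21 Sylow 5-subgroups (assuming that the
normalizer of a Sylow 7-subgroup has order 42).
-/

set_option autoImplicit false

namespace Cfsg.Agent.SmallSimple.Order5040N5

open Subgroup MulAction
open Cfsg.Agent.SmallSimple.SylowPrime Cfsg.Agent.SmallSimple.SylowPrimeCount
open Cfsg.Agent.SmallSimple.FixCount Cfsg.Agent.SmallSimple.PrimeSylowAut
open Cfsg.Agent.SmallSimple.Order5040

variable {G : Type*} [Group G] [Finite G]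

theorem pow_pred_mem_centralizer {p : ℕ} (hp : p.Prime) {P : Subgroup G}
    (hP : Nat.card P = p) {x : G} (hx : x ∈ normalizer (P : Set G)) :
    x ^ (p - 1) ∈ centralizer (P : Set G) := by
  have := Fact.mk hp
  have hcyc : IsCyclic P := isCyclic_of_prime_card hP
  have h1 : Nat.card (MulAut P) = p - 1 := by
    rw [hcyc.card_mulAut, hP, Nat.totient_prime hp]
  have h2 : (P.normalizerMonoidHom ⟨x, hx⟩) ^ (p - 1) = 1 := by
    rw [← h1]; exact pow_card_eq_one'
  rw [← map_pow] at h2
  have h3 : (⟨x, hx⟩ : normalizer (P : Set G)) ^ (p - 1) ∈ P.normalizerMonoidHom.ker := h2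
  rw [normalizerMonoidHom_ker] at h3
  exact h3

/-- An element of order 3 normalizing a Sylow 5-subgroup centralizes it. -/
theorem mem_centralizer5 (hG : Nat.card G = 5040) (Q : Sylow 5 G) {y : G} (hy : y ^ 3 = 1)
    (hyQ : y • Q = Q) : y ∈ centralizer (Q : Set G) := by
  have h1 := pow_pred_mem_centralizer (p := 5) (by norm_num) (card_sylow5 hG Q)
    (Sylow.smul_eq_iff_mem_normalizer.1 hyQ)
  have h2 : y ^ (5 - 1) = y := by
    show y ^ 4 = y
    rw [pow_succ, hy, one_mul]
  rw [h2] at h1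
  exact h1

/-- A Sylow 7-subgroup acts freely on the Sylow 5-subgroups if their normalizer has order prime
to 7. -/
theorem free7 (hG : Nat.card G = 5040) {n : ℕ} (hn : Nat.card (Sylow 5 G) = n)
    (hn7 : 7 ∣ n) (P : Sylow 7 G) (Q : Sylow 5 G) (v : G) (hv : v ∈ P)
    (hvQ : v • Q = Q) : v = 1 := by
  have := fact5
  have h1 := card_normalizer_mul Q hn hG
  have h2 : v ∈ normalizer (Q : Set G) := Sylow.smul_eq_iff_mem_normalizer.1 hvQ
  have h3 : orderOf v ∣ Nat.card (normalizer (Q : Set G)) := by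
    have := orderOf_dvd_natCard (⟨v, h2⟩ : normalizer (Q : Set G))
    rwa [Subgroup.orderOf_mk] at this
  have h4 : orderOf v ∣ 7 := by
    have := orderOf_dvd_natCard (⟨v, hv⟩ : (P : Subgroup G))
    have hc := card_sylow7 hG P
    rw [Subgroup.orderOf_mk] at this
    rw [← hc]
    exact this
  rcases (Nat.dvd_prime (by norm_num)).1 h4 with h5 | h5
  · exact orderOf_eq_one_iff.1 h5
  · exfalso
    rw [h5] at h3
    have h6 : 7 * 7 ∣ Nat.card (normalizer (Q : Set G)) * n := Nat.mul_dvd_mul h3 hn7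
    rw [h1] at h6
    norm_num at h6

/-- If `y` of order 3 centralizes the Sylow 7-subgroup `P` and normalizes no Sylow 5-subgroup, we
have a contradiction. -/
theorem false_of_mem_centralizer7 (hG : Nat.card G = 5040) (P : Sylow 7 G)
    (hN : Nat.card (normalizer (P : Set G)) = 42) {y : G} (hy : orderOf y = 3)
    (hyC : y ∈ centralizer (P : Set G)) (hfix : ∀ Q : Sylow 5 G, y • Q ≠ Q) : False := by
  have := fact7
  have := fact5
  have := fact3
  have hy3 : y ^ 3 = 1 := by rw [← hy]; exact pow_orderOf_eq_one y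
  -- `P ≤ C(y)`
  have hPC : (P : Subgroup G) ≤ centralizer {y} := by
    intro v hv
    rw [mem_centralizer_singleton_iff]
    exact (mem_centralizer_iff.1 hyC v hv)
  obtain ⟨n, hn1, hn2⟩ := card_eq_mul_modEq_one P (centralizer {y}) hPC
  set m := Nat.card (centralizer {y} ⊓ normalizer (P : Set G) : Subgroup G) with hm
  have hm42 : m ∣ 42 := by
    rw [← hN]; exact card_dvd_of_le inf_le_right
  have h7m : 7 ∣ m := by
    have h1 : (P : Subgroup G) ≤ centralizer {y} ⊓ normalizer (P : Set G) :=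
      le_inf hPC le_normalizer
    have h2 := card_dvd_of_le h1
    have hc : Nat.card (P : Subgroup G) = 7 := card_sylow7 hG P
    rwa [hc] at h2
  have h3m : 3 ∣ m := by
    have h1 : y ∈ centralizer {y} ⊓ normalizer (P : Set G) :=
      ⟨mem_centralizer_singleton_iff.2 rfl, centralizer_le_normalizer' (P : Subgroup G) hyC⟩
    have h2 := orderOf_dvd_natCard (⟨y, h1⟩ : (centralizer {y} ⊓ normalizer (P : Set G) : Subgroup G))
    rwa [Subgroup.orderOf_mk, hy] at h2
  -- `9 ∣ |C(y)|`
  have h9 : 9 ∣ Nat.card (centralizer {y} : Subgroup G) := by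
    have h1 : IsPGroup 3 (zpowers y) :=
      IsPGroup.of_card (n := 1) (by rw [Nat.card_zpowers, hy, pow_one])
    obtain ⟨S, hS⟩ := h1.exists_le_sylow
    have hcS : Nat.card (S : Subgroup G) = 9 := card_sylow3 hG S
    have hcomm : ∀ a b : S, a * b = b * a :=
      (IsPGroup.isMulCommutative_of_card_eq_prime_sq (p := 3) (by
        show Nat.card (S : Subgroup G) = 3 ^ 2
        rw [hcS]; norm_num)).is_comm.comm
    have hle : (S : Subgroup G) ≤ centralizer {y} := by
      intro x hx
      rw [mem_centralizer_singleton_iff]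
      exact congrArg Subtype.val (hcomm ⟨x, hx⟩ ⟨y, hS (mem_zpowers y)⟩)
    rw [← hcS]
    exact card_dvd_of_le hle
  -- `5 ∤ |C(y)|`
  have h5 : ¬ 5 ∣ Nat.card (centralizer {y} : Subgroup G) := by
    intro h
    obtain ⟨⟨x, hxC⟩, hx⟩ := exists_prime_orderOf_dvd_card' 5 h
    rw [Subgroup.orderOf_mk] at hx
    obtain ⟨Q, hQ⟩ := exists_sylow_eq_zpowers (card_sylow5 hG) hx
    apply hfix Q
    rw [Sylow.smul_eq_iff_mem_normalizer]
    apply centralizer_le_normalizer'
    show y ∈ centralizer ((Q : Subgroup G) : Set G)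
    rw [hQ, mem_centralizer_iff]
    intro w hw
    obtain ⟨k, rfl⟩ := mem_zpowers_iff.1 hw
    rw [mem_centralizer_singleton_iff] at hxC
    exact ((show Commute x y from hxC).zpow_left k).eq
  have hdvd : Nat.card (centralizer {y} : Subgroup G) ∣ 5 * 1008 := by
    have := card_subgroup_dvd_card (centralizer {y} : Subgroup G)
    rwa [hG] at this
  have hdvd2 : Nat.card (centralizer {y} : Subgroup G) ∣ 1008 := by
    have hco : Nat.Coprime (Nat.card (centralizer {y} : Subgroup G)) 5 := by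
      rw [Nat.coprime_comm]
      exact (Nat.Prime.coprime_iff_not_dvd (by norm_num)).2 h5
    exact hco.dvd_of_dvd_mul_left hdvd
  rw [hn2] at h9 hdvd2
  have hm2 : m = 21 ∨ m = 42 := by
    have h21 : 21 ∣ m := (Nat.Coprime.mul_dvd_of_dvd_of_dvd (by norm_num) h7m h3m : 7 * 3 ∣ m)
    have hle : m ≤ 42 := Nat.le_of_dvd (by norm_num) hm42
    have hpos : 0 < m := Nat.card_pos
    omega
  have hn3 : 3 ∣ n := by
    rcases hm2 with h | h <;> rw [h] at h9 <;> omega
  have hn48 : n ∣ 48 := by
    rcases hm2 with h | h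
    · rw [h] at hdvd2
      exact Nat.dvd_of_mul_dvd_mul_left (k := 21) (by norm_num) hdvd2
    · rw [h] at hdvd2
      have : 42 * n ∣ 42 * 24 := hdvd2
      exact (Nat.dvd_of_mul_dvd_mul_left (k := 42) (by norm_num) this).trans (by norm_num)
  have hnle : n ≤ 48 := Nat.le_of_dvd (by norm_num) hn48
  unfold Nat.ModEq at hn1
  have key : ∀ n < 49, n ∣ 48 → 3 ∣ n → n % 7 = 1 % 7 → False := by decide
  exact key n (by omega) hn48 hn3 hn1

/-- Elements of `C(P)`, `P` a Sylow 7-subgroup: the number of normalized Sylow 5-subgroups is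
divisible by 7 in case `P` acts freely. -/
theorem seven_dvd_card_fixedBy (hG : Nat.card G = 5040) {n : ℕ} (hn : Nat.card (Sylow 5 G) = n)
    (hn7 : 7 ∣ n) (P : Sylow 7 G) {u : G} (hu : u ∈ centralizer (P : Set G)) :
    7 ∣ Nat.card (fixedBy (Sylow 5 G) u) := by
  have := fact7
  obtain ⟨v, hv⟩ := exists_prime_orderOf_dvd_card' (G := (P : Subgroup G)) 7 (by
    rw [card_sylow7 hG P])
  obtain ⟨v, hvP⟩ := v
  rw [Subgroup.orderOf_mk] at hv
  have h1 := card_fixedBy_modEq_inter (X := Sylow 5 G) (u := u) (v := v) (q := 7)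
    (by rw [← hv]; exact pow_orderOf_eq_one v) (mem_centralizer_iff.1 hu v hvP)
  have h2 : IsEmpty {x : Sylow 5 G // u • x = x ∧ v • x = x} := by
    constructor
    rintro ⟨Q, hQ1, hQ2⟩
    have h3 := free7 hG hn hn7 P Q v hvP hQ2
    rw [h3, orderOf_one] at hv
    norm_num at hv
  have h3 : Nat.card {x : Sylow 5 G // u • x = x ∧ v • x = x} = 0 := Nat.card_of_isEmpty
  rw [h3] at h1
  exact (Nat.modEq_zero_iff_dvd).1 h1

/-- Elements of `N(P) ∖ C(P)`. -/
theorem seven_mul_card_fixedBy_le (hG : Nat.card G = 5040) {n : ℕ}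
    (hn : Nat.card (Sylow 5 G) = n)
    (hn7 : 7 ∣ n) (P : Sylow 7 G) {u : G} (huN : u ∈ normalizer (P : Set G))
    (hu : u ∉ centralizer (P : Set G)) :
    7 * Nat.card (fixedBy (Sylow 5 G) u) ≤ n := by
  have := fact7
  have h1 := Parity.card_mul_card_fixed_le (X := Sylow 5 G) (P : Subgroup G) u
    (fun p hp => (mem_normalizer_iff.1 huN p).1 hp) (by
      intro p hp hc
      by_contra hp1
      exact hu (mem_centralizer_of_commute (by norm_num) (card_sylow7 hG P) hp hp1 hc))
  have h2 : Nat.card {x : Sylow 5 G // ∀ p ∈ (P : Subgroup G), p • x = x → p = 1} =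
      Nat.card (Sylow 5 G) := by
    refine Nat.card_congr (Equiv.subtypeUnivEquiv ?_)
    intro Q p hp hpQ
    exact free7 hG hn hn7 P Q p hp hpQ
  have h3 : Nat.card {x : Sylow 5 G // u • x = x ∧ ∀ p ∈ (P : Subgroup G), p • x = x → p = 1} =
      Nat.card (fixedBy (Sylow 5 G) u) := by
    refine Nat.card_congr (Equiv.subtypeEquivRight ?_)
    intro Q
    constructor
    · rintro ⟨h, _⟩; exact h
    · intro h
      exact ⟨h, fun p hp hpQ => free7 hG hn hn7 P Q p hp hpQ⟩
  rw [h2, h3, hn] at h1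
  have hc : Nat.card (P : Subgroup G) = 7 := card_sylow7 hG P
  rwa [hc] at h1

theorem card_fixedBy_lt_sylow5 [IsSimpleGroup G] {n : ℕ} (hn : Nat.card (Sylow 5 G) = n)
    (h1n : 1 < n) {u : G} (hu : u ≠ 1) : Nat.card (fixedBy (Sylow 5 G) u) < n := by
  have := fact5
  rw [← hn]
  exact SylowPrimeCount.card_fixedBy_lt (by rw [hn]; omega) hu

/-- An element of order 3 normalizes no Sylow 5-subgroup or exactly 6 of them, if `n_5 = 21`. -/
theorem card_fixedBy_three [IsSimpleGroup G] (hG : Nat.card G = 5040)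
    (hn : Nat.card (Sylow 5 G) = 21) {y : G} (hy : orderOf y = 3) {Q : Sylow 5 G}
    (hQ : y • Q = Q) : Nat.card (fixedBy (Sylow 5 G) y) = 6 := by
  have := fact5
  have := fact3
  have hy3 : y ^ 3 = 1 := by rw [← hy]; exact pow_orderOf_eq_one y
  have h1 := card_fixedBy_modEq_one Q (mem_centralizer5 hG Q hy3 hQ)
  have h2 : Nat.card (Sylow 5 G) ≡ Nat.card (fixedBy (Sylow 5 G) y) [MOD 3] :=
    card_fixedBy_modEq hy3
  have h3 := card_fixedBy_lt_sylow5 hn (by norm_num) (u := y) (by
    rintro rfl; rw [orderOf_one] at hy; norm_num at hy)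
  rw [hn] at h2
  unfold Nat.ModEq at h1 h2
  omega

/-- Elements of order 3 normalizing a Sylow 7-subgroup normalize no Sylow 5-subgroup. -/
theorem smul_ne_of_three [IsSimpleGroup G] (hG : Nat.card G = 5040)
    (hn : Nat.card (Sylow 5 G) = 21) (P : Sylow 7 G) {y : G} (hy : orderOf y = 3)
    (hyN : y ∈ normalizer (P : Set G)) (Q : Sylow 5 G) : y • Q ≠ Q := by
  intro hQ
  have h6 := card_fixedBy_three hG hn hy hQ
  by_cases hyC : y ∈ centralizer (P : Set G)
  · have h7 := seven_dvd_card_fixedBy hG hn (by norm_num) P hyC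
    rw [h6] at h7
    norm_num at h7
  · have h7 := seven_mul_card_fixedBy_le hG hn (by norm_num) P hyN hyC
    rw [h6] at h7
    norm_num at h7

/-- In a simple group of order 5040 with `|N(P_7)| = 42` we have `n_5 ≠ 21`. -/
theorem n5_ne_21 [IsSimpleGroup G] (hG : Nat.card G = 5040)
    (hN7 : ∀ P : Sylow 7 G, Nat.card (normalizer (P : Set G)) = 42) :
    Nat.card (Sylow 5 G) ≠ 21 := by
  have := fact7
  have := fact5
  have := fact3
  have := fact2
  intro hn
  let P : Sylow 7 G := default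
  have hN := hN7 P
  have hP7 : Nat.card (P : Subgroup G) = 7 := card_sylow7 hG P
  -- no element of order 3 in `C(P)`
  have h3 : ¬ 3 ∣ Nat.card (centralizer (P : Set G)) := by
    intro h
    obtain ⟨⟨y, hyC⟩, hy⟩ := exists_prime_orderOf_dvd_card' 3 h
    rw [Subgroup.orderOf_mk] at hy
    exact false_of_mem_centralizer7 hG P hN hy hyC
      (smul_ne_of_three hG hn P hy (centralizer_le_normalizer' (P : Subgroup G) hyC))
  -- no element of order 2 in `C(P)`
  have h2 : ¬ 2 ∣ Nat.card (centralizer (P : Set G)) := by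
    intro h
    obtain ⟨⟨u, huC⟩, hu⟩ := exists_prime_orderOf_dvd_card' 2 h
    rw [Subgroup.orderOf_mk] at hu
    have hu2 : u ^ 2 = 1 := by rw [← hu]; exact pow_orderOf_eq_one u
    have h7 := seven_dvd_card_fixedBy hG hn (by norm_num) P huC
    obtain ⟨k, hk⟩ := parity hG (X := Sylow 5 G) hu2
    have hlt := card_fixedBy_lt_sylow5 hn (by norm_num) (u := u) (by
      rintro rfl; rw [orderOf_one] at hu; norm_num at hu)
    rw [hn] at hk
    omega
  -- `|C(P)| = 7`
  have hC7 : Nat.card (centralizer (P : Set G)) = 7 := by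
    have h4 : Nat.card (centralizer (P : Set G)) ∣ 42 := by
      rw [← hN]; exact card_dvd_of_le (centralizer_le_normalizer' (P : Subgroup G))
    have h5 : (P : Subgroup G) ≤ centralizer (P : Set G) := by
      intro v hv
      have hcyc : IsCyclic (P : Subgroup G) := isCyclic_of_prime_card hP7
      rw [mem_centralizer_iff]
      intro w hw
      have h6 : IsMulCommutative (P : Subgroup G) := IsCyclic.isMulCommutative
      exact congrArg Subtype.val (h6.is_comm.comm (⟨w, hw⟩ : (P : Subgroup G)) ⟨v, hv⟩)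
    have h6 := card_dvd_of_le h5
    rw [hP7] at h6
    obtain ⟨c, hc⟩ := h6
    rw [hc] at h4 h3 h2
    have h7 : c ∣ 6 := Nat.dvd_of_mul_dvd_mul_left (k := 7) (by norm_num) (by simpa using h4)
    have hcle : c ≤ 6 := Nat.le_of_dvd (by norm_num) h7
    rw [hc]
    interval_cases c <;> omega
  -- an element of order 6 in `N(P)`
  let f : normalizer (P : Set G) →* MulAut (P : Subgroup G) := (P : Subgroup G).normalizerMonoidHom
  have hcyc : IsCyclic (P : Subgroup G) := isCyclic_of_prime_card hP7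
  have hAc : IsCyclic (MulAut (P : Subgroup G)) := isCyclic_mulAut (by norm_num : Nat.Prime 7) hP7
  have hA : Nat.card (MulAut (P : Subgroup G)) = 6 := by
    rw [hcyc.card_mulAut, hP7, Nat.totient_prime (by norm_num)]
  have hker : Nat.card f.ker = 7 := by
    have h1 : f.ker = (centralizer (P : Set G)).subgroupOf (normalizer (P : Set G)) :=
      normalizerMonoidHom_ker (P : Subgroup G)
    rw [h1]
    exact (Nat.card_congr (subgroupOfEquivOfLe
      (centralizer_le_normalizer' (P : Subgroup G))).toEquiv).trans hC7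
  have hsurj : Function.Surjective f := by
    rw [← MonoidHom.range_eq_top]
    apply eq_top_of_card_eq
    rw [hA]
    have h1 := f.ker.card_mul_index
    rw [index_ker, hker, hN] at h1
    omega
  obtain ⟨g, hg⟩ := IsCyclic.exists_ofOrder_eq_natCard (α := MulAut (P : Subgroup G))
  rw [hA] at hg
  obtain ⟨s, rfl⟩ := hsurj g
  have hs6 : 6 ∣ orderOf s := by
    rw [← hg]; exact orderOf_map_dvd f s
  obtain ⟨k, hk⟩ := hs6
  have hspos : 0 < orderOf s := orderOf_pos s
  have hk0 : k ≠ 0 := by rintro rfl; omega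
  have hu : orderOf (s ^ (3 * k)) = 2 := by
    rw [orderOf_pow_of_dvd (by omega) (by rw [hk]; exact ⟨2, by ring⟩), hk]
    rw [show 6 * k = 2 * (3 * k) by ring]
    exact Nat.mul_div_cancel _ (by omega)
  have hy : orderOf (s ^ (2 * k)) = 3 := by
    rw [orderOf_pow_of_dvd (by omega) (by rw [hk]; exact ⟨3, by ring⟩), hk]
    rw [show 6 * k = 3 * (2 * k) by ring]
    exact Nat.mul_div_cancel _ (by omega)
  have huy : (s : G) ^ (3 * k) * (s : G) ^ (2 * k) = (s : G) ^ (2 * k) * (s : G) ^ (3 * k) := by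
    rw [← pow_add, ← pow_add, add_comm]
  rw [← Subgroup.orderOf_coe, coe_pow] at hu hy
  set u := (s : G) ^ (3 * k) with hudef
  set y := (s : G) ^ (2 * k) with hydef
  have huN : u ∈ normalizer (P : Set G) := pow_mem s.2 _
  have hyN : y ∈ normalizer (P : Set G) := pow_mem s.2 _
  have hu2 : u ^ 2 = 1 := by rw [← hu]; exact pow_orderOf_eq_one u
  have huC : u ∉ centralizer (P : Set G) := by
    intro h
    apply h2
    have := orderOf_dvd_natCard (⟨u, h⟩ : centralizer (P : Set G))
    rwa [Subgroup.orderOf_mk, hu] at this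
  have h7 := seven_mul_card_fixedBy_le hG hn (by norm_num) P huN huC
  obtain ⟨j, hj⟩ := parity hG (X := Sylow 5 G) hu2
  rw [hn] at hj
  have hone : Nat.card (fixedBy (Sylow 5 G) u) = 1 := by omega
  obtain ⟨hss, ⟨Q⟩⟩ := Nat.card_eq_one_iff_unique.1 hone
  have hQ : u • (Q : Sylow 5 G) = Q := Q.2
  have hyQ : u • (y • (Q : Sylow 5 G)) = y • (Q : Sylow 5 G) := by
    rw [← mul_smul, huy, mul_smul, hQ]
  have h8 : (⟨y • (Q : Sylow 5 G), hyQ⟩ : fixedBy (Sylow 5 G) u) = Q := Subsingleton.elim _ _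
  exact smul_ne_of_three hG hn P hy hyN Q (congrArg Subtype.val h8)

end Cfsg.Agent.SmallSimple.Order5040N5
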