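import Mathlib
import Cfsg.Prelude.Def_Characters
import Cfsg.Agent.Characters.Core
import Cfsg.Agent.Characters.Linear
import Cfsg.Agent.S0146
import Cfsg.Agent.S0148
import Cfsg.Agent.SmallSimple.DihedralNormGroup
import Cfsg.Agent.SmallSimple.DihedralNormChar

/-!
# Induction from a self-centralizing subgroup of prime order

`P ≤ G` of prime order `p` with `C_G(P) = P`.  For a nontrivial linear character `μ` of `P` put
`Θ_μ = Ind_P^G (1 - μ)`.  We compute all inner products `⟨Θ_μ, Θ_ν⟩`:
`e + 1` if `μ = ν` and `e` if `μ`, `ν` are not conjugate under `N = N_G(P)`, `|N| = e p`.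
-/

set_option autoImplicit false

namespace Cfsg.Agent.SmallSimple.PrimeCoherence

open Subgroup Cfsg Cfsg.Agent.Characters.Core Cfsg.Agent.SmallSimple.DihedralNormGroup
open Cfsg.Agent.SmallSimple.DihedralNormChar
open scoped ComplexConjugate

universe u

variable {G : Type u} [Group G] {p : ℕ} {P : Subgroup G}

/-- Conjugation by an element of the normalizer. -/
def cj (n : normalizer (P : Set G)) : P →* P where
  toFun x := ⟨(n : G)⁻¹ * x * n, by
    have h := (mem_normalizer_iff.1 (inv_mem n.2) (x : G)).1 x.2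
    rwa [inv_inv] at h⟩
  map_one' := by apply Subtype.ext; simp
  map_mul' x y := by apply Subtype.ext; simp [mul_assoc]

theorem coe_cj (n : normalizer (P : Set G)) (x : P) : ((cj n x : P) : G) = (n : G)⁻¹ * x * n := rfl

theorem cj_one (x : P) : cj (1 : normalizer (P : Set G)) x = x := by
  apply Subtype.ext; simp [coe_cj]

theorem cj_mul (n m : normalizer (P : Set G)) (x : P) : cj (n * m) x = cj m (cj n x) := by
  apply Subtype.ext; simp [coe_cj, mul_assoc]

/-- The normalizer acts on the linear characters of `P`. -/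
def conjHom (n : normalizer (P : Set G)) (μ : P →* ℂˣ) : P →* ℂˣ := μ.comp (cj n)

theorem conjHom_apply (n : normalizer (P : Set G)) (μ : P →* ℂˣ) (x : P) :
    conjHom n μ x = μ (cj n x) := rfl

theorem conjHom_one (μ : P →* ℂˣ) : conjHom (1 : normalizer (P : Set G)) μ = μ := by
  ext x; rw [conjHom_apply, cj_one]

theorem conjHom_mul (n m : normalizer (P : Set G)) (μ : P →* ℂˣ) :
    conjHom (n * m) μ = conjHom n (conjHom m μ) := by
  ext x; rw [conjHom_apply, conjHom_apply, conjHom_apply, cj_mul]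

theorem conjHom_ne_one {n : normalizer (P : Set G)} {μ : P →* ℂˣ} (h : μ ≠ 1) :
    conjHom n μ ≠ 1 := by
  intro h1
  apply h
  have : μ = conjHom n⁻¹ (conjHom n μ) := by
    rw [← conjHom_mul, inv_mul_cancel, conjHom_one]
  rw [this, h1]
  ext x; rfl

/-- the action of the normalizer on the nontrivial linear characters of `P` -/
@[reducible] def act : MulAction (normalizer (P : Set G)) {μ : P →* ℂˣ // μ ≠ 1} where
  smul n μ := ⟨conjHom n μ.1, conjHom_ne_one μ.2⟩
  one_smul μ := Subtype.ext (conjHom_one μ.1)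
  mul_smul n m μ := Subtype.ext (conjHom_mul n m μ.1)

section ind

variable [Fintype G]

/-- The induced function on `P` is an average over the normalizer. -/
theorem ind_apply (hp : p.Prime) (hP : Nat.card P = p) (β : P → ℂ) (hβ : β 1 = 0)
    [Fintype (normalizer (P : Set G))] (g : P) :
    indFun P β (g : G) = (p : ℂ)⁻¹ * ∑ n : normalizer (P : Set G), β (cj n g) := by
  classical
  rw [indFun_apply, hP]
  congr 1
  by_cases hg : g = 1
  · subst hg
    rw [Finset.sum_eq_zero, Finset.sum_eq_zero]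
    · intro n _; rw [map_one, hβ]
    · intro x _
      have h1 : x⁻¹ * ((1 : P) : G) * x = 1 := by simp
      rw [h1, extendByZero_of_mem _ _ (one_mem P)]
      exact hβ
  · have hg' : (g : G) ≠ 1 := fun h => hg (Subtype.ext h)
    have hz : ∀ x : G, x ∉ normalizer (P : Set G) → extendByZero P β (x⁻¹ * g * x) = 0 := by
      intro x hx
      apply extendByZero_of_notMem
      intro hmem
      apply hx
      have := mem_normalizer_of_conj_mem hp hP (x := x⁻¹) g.2 hg' (by rwa [inv_inv])
      exact inv_inv x ▸ inv_mem this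
    rw [← Finset.sum_subset (Finset.subset_univ (Finset.univ.filter
      (fun x : G => x ∈ normalizer (P : Set G))))]
    · rw [← Finset.sum_subtype_eq_sum_filter]
      refine Finset.sum_congr (by ext; simp) fun n _ => ?_
      have hmem : (n : G)⁻¹ * g * n ∈ P := (cj n g).2
      rw [extendByZero_of_mem _ _ hmem]
      rfl
    · intro x _ hx
      apply hz
      simpa using hx

omit [Fintype G] in
/-- inner product of the base functions -/
theorem inner_base [Fintype P] (μ ν : P →* ℂˣ) (hμ : μ ≠ 1) (hν : ν ≠ 1) :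
    classInner (baseFun μ) (baseFun ν) = 1 + if μ = ν then 1 else 0 := by
  classical
  have h1 : ∀ μ : P →* ℂˣ, baseFun μ = (1 : P → ℂ) - fun x => (μ x : ℂ) := by
    intro μ; funext x; rfl
  have hne : ∀ μ : P →* ℂˣ, μ ≠ 1 → (1 : P → ℂ) ≠ fun x => (μ x : ℂ) := by
    intro μ hμ h
    apply hμ
    ext x
    have := congrFun h x
    simp only [Pi.one_apply] at this
    rw [← this]; rfl
  have hi := Cfsg.Agent.Characters.Linear.isIrrCharacter_hom (G := P)
  rw [h1, h1, classInner_sub_left, classInner_sub_right, classInner_sub_right,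
    classInner_irr_self isIrr_one, classInner_irr_ne isIrr_one (hi ν) (hne ν hν),
    classInner_irr_ne (hi μ) isIrr_one (hne μ hμ).symm, classInner_irr (hi μ) (hi ν)]
  have h2 : ((fun x : P => (μ x : ℂ)) = fun x => (ν x : ℂ)) ↔ μ = ν := by
    constructor
    · intro h
      ext x
      exact congrFun h x
    · rintro rfl; rfl
  simp only [h2]
  ring

/-- inner products of the induced functions -/
theorem inner_ind (hp : p.Prime) (hP : Nat.card P = p) {e : ℕ}
    (hN : Nat.card (normalizer (P : Set G)) = e * p)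
    (μ ν : P →* ℂˣ) (hμ : μ ≠ 1) (hν : ν ≠ 1) :
    classInner (indFun P (baseFun μ)) (indFun P (baseFun ν)) =
      e + (Nat.card {n : normalizer (P : Set G) // μ = conjHom n ν} : ℂ) / p := by
  classical
  have hpC : (p : ℂ) ≠ 0 := Nat.cast_ne_zero.2 hp.ne_zero
  have := Fintype.ofFinite P
  have := Fintype.ofFinite (normalizer (P : Set G))
  have hcf : IsClassFunction G (indFun P (baseFun ν)) := by
    obtain ⟨χ, ψ, h1, h2, h3⟩ := isGeneralizedCharacter_ind ν
    rw [h3]
    intro g h
    rw [Pi.sub_apply, Pi.sub_apply, isCharacter_isClassFunction h1, isCharacter_isClassFunction h2]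
  rw [Cfsg.Agent.S0146.result P (baseFun μ) _ hcf]
  have h1 : (fun h : P => indFun P (baseFun ν) (h : G)) =
      (p : ℂ)⁻¹ • ∑ n : normalizer (P : Set G), baseFun (conjHom n ν) := by
    funext x
    rw [ind_apply hp hP (baseFun ν) (baseFun_one ν) x, Pi.smul_apply, Finset.sum_apply,
      smul_eq_mul]
    rfl
  rw [h1, classInner_smul_right, classInner_sum_right, map_inv₀, Complex.conj_natCast]
  rw [Finset.sum_congr rfl fun n _ => inner_base μ (conjHom n ν) hμ (conjHom_ne_one hν),
    Finset.sum_add_distrib, Finset.sum_const, Finset.card_univ, ← Nat.card_eq_fintype_card, hN,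
    Finset.sum_boole, Nat.card_eq_fintype_card, Fintype.card_subtype]
  rw [nsmul_eq_mul, mul_one]
  push_cast
  field_simp

end ind

/-- a nontrivial linear character of a group of prime order is faithful -/
theorem faithful_of_ne_one (hp : p.Prime) (hP : Nat.card P = p) {μ : P →* ℂˣ} (hμ : μ ≠ 1)
    {x : P} (hx : μ x = 1) : x = 1 := by
  by_contra hx1
  apply hμ
  have hx' : (x : G) ≠ 1 := fun h => hx1 (Subtype.ext h)
  ext y
  have hy : (y : G) ∈ zpowers (x : G) := by
    rw [zpowers_eq_of_mem hp hP x.2 hx']; exact y.2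
  obtain ⟨k, hk⟩ := mem_zpowers_iff.1 hy
  have hk' : x ^ k = y := Subtype.ext (by rw [← hk]; simp)
  rw [← hk', map_zpow, hx, one_zpow]
  rfl

/-- The stabilizer of a nontrivial linear character is `P`. -/
theorem conjHom_eq_iff (hp : p.Prime) (hP : Nat.card P = p)
    (hC : centralizer (P : Set G) = P) {μ : P →* ℂˣ} (hμ : μ ≠ 1)
    (n : normalizer (P : Set G)) : μ = conjHom n μ ↔ (n : G) ∈ P := by
  constructor
  · intro h
    have hnt : Nontrivial P := by
      have : Finite P := Nat.finite_of_card_ne_zero (by rw [hP]; exact hp.ne_zero)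
      rw [← Finite.one_lt_card_iff_nontrivial, hP]; exact hp.one_lt
    obtain ⟨y, hy⟩ := exists_ne (1 : P)
    have h1 : μ y = μ (cj n y) := by
      conv_lhs => rw [h]
      rfl
    have h2 : μ (y * (cj n y)⁻¹) = 1 := by rw [map_mul, map_inv, h1, mul_inv_cancel]
    have h3 := faithful_of_ne_one hp hP hμ h2
    have h4 : y = cj n y := mul_inv_eq_one.1 h3
    have h5 : (y : G) = (n : G)⁻¹ * y * n := congrArg Subtype.val h4
    have h6 : (n : G) * y = y * n := by
      conv_lhs => rw [h5]
      group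
    have h7 := mem_centralizer_of_comm hp hP y.2 (fun h => hy (Subtype.ext h)) h6
    rwa [hC] at h7
  · intro hn
    ext x
    rw [conjHom_apply]
    congr 2
    apply Subtype.ext
    rw [coe_cj]
    rw [mul_assoc, comm_of_mem hp hP x.2 hn]
    group

theorem card_stab (hp : p.Prime) (hP : Nat.card P = p)
    (hC : centralizer (P : Set G) = P) {μ : P →* ℂˣ} (hμ : μ ≠ 1) :
    Nat.card {n : normalizer (P : Set G) // μ = conjHom n μ} = p := by
  have hle : P ≤ normalizer (P : Set G) := le_normalizer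
  rw [← hP]
  refine Nat.card_congr ?_
  refine (Equiv.subtypeEquivRight (conjHom_eq_iff hp hP hC hμ)).trans ?_
  exact (Equiv.subtypeSubtypeEquivSubtype (fun {x} hx => hle hx))

/-- number of linear characters -/
theorem card_hom (hp : p.Prime) (hP : Nat.card P = p) : Nat.card (P →* ℂˣ) = p := by
  have hfin : Finite P := Nat.finite_of_card_ne_zero (by rw [hP]; exact hp.ne_zero)
  rw [Cfsg.Agent.Characters.Linear.card_hom_eq_index_commutator]
  have h : _root_.commutator P = ⊥ := by
    rw [commutator_def, Subgroup.commutator_eq_bot_iff_le_centralizer]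
    intro x _
    rw [mem_centralizer_iff]
    intro y _
    exact Subtype.ext (comm_of_mem hp hP y.2 x.2)
  rw [h, index_bot, hP]

/-- Each orbit of `N` on the nontrivial linear characters has `e` elements. -/
theorem card_conj (hp : p.Prime) (hP : Nat.card P = p)
    (hC : centralizer (P : Set G) = P) {e : ℕ} (hN : Nat.card (normalizer (P : Set G)) = e * p)
    [Finite (normalizer (P : Set G))] {μ : P →* ℂˣ} (hμ : μ ≠ 1) :
    Nat.card {ν : P →* ℂˣ // ∃ n, ν = conjHom n μ} = e := by
  let _ := act (P := P)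
  have h1 := Nat.card_congr (MulAction.orbitProdStabilizerEquivGroup (normalizer (P : Set G))
    (⟨μ, hμ⟩ : {μ : P →* ℂˣ // μ ≠ 1}))
  rw [Nat.card_prod, hN] at h1
  have h2 : Nat.card (MulAction.stabilizer (normalizer (P : Set G))
      (⟨μ, hμ⟩ : {μ : P →* ℂˣ // μ ≠ 1})) = p := by
    rw [← card_stab hp hP hC hμ]
    refine Nat.card_congr (Equiv.subtypeEquivRight fun n => ?_)
    rw [MulAction.mem_stabilizer_iff]
    constructor
    · intro h
      exact (congrArg Subtype.val h).symm
    · intro h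
      exact Subtype.ext h.symm
  rw [h2] at h1
  have h3 := Nat.eq_of_mul_eq_mul_right hp.pos h1
  rw [← h3]
  refine Nat.card_congr ⟨fun ν => ⟨⟨ν.1, ?_⟩, ?_⟩, fun ν => ⟨ν.1.1, ?_⟩, fun ν => rfl,
    fun ν => rfl⟩
  · obtain ⟨n, hn⟩ := ν.2
    rw [hn]; exact conjHom_ne_one hμ
  · obtain ⟨n, hn⟩ := ν.2
    exact ⟨n, Subtype.ext hn.symm⟩
  · obtain ⟨n, hn⟩ := ν.2
    exact ⟨n, (congrArg Subtype.val hn).symm⟩

/-- Representatives of the orbits of `N` on the nontrivial linear characters of `P`. -/
theorem exists_reps (hp : p.Prime) (hP : Nat.card P = p)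
    (hC : centralizer (P : Set G) = P) {e t : ℕ}
    (hN : Nat.card (normalizer (P : Set G)) = e * p) (ht : e * t = p - 1)
    [Finite (normalizer (P : Set G))] :
    ∃ r : Fin t → (P →* ℂˣ), (∀ i, r i ≠ 1) ∧
      (∀ i j n, i ≠ j → r i ≠ conjHom n (r j)) ∧
      ∀ μ : P →* ℂˣ, μ ≠ 1 → ∃ i n, μ = conjHom n (r i) := by
  classical
  let _ := act (P := P)
  have hepos : 0 < e := by
    rcases Nat.eq_zero_or_pos e with h | h
    · rw [h, zero_mul] at hN
      have := Nat.card_pos (α := normalizer (P : Set G))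
      omega
    · exact h
  have hfinH : Finite (P →* ℂˣ) :=
    Nat.finite_of_card_ne_zero (by rw [card_hom hp hP]; exact hp.ne_zero)
  have := Fintype.ofFinite (P →* ℂˣ)
  let Λ := {μ : P →* ℂˣ // μ ≠ 1}
  let Ω := MulAction.orbitRel.Quotient (normalizer (P : Set G)) Λ
  have hΛ : Nat.card Λ = p - 1 := by
    have h1 := Nat.card_congr (Equiv.sumCompl (fun μ : P →* ℂˣ => μ = 1))
    rw [Nat.card_sum, card_hom hp hP] at h1
    have h2 : Nat.card {μ : P →* ℂˣ // μ = 1} = 1 := by
      rw [Nat.card_eq_one_iff_unique]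
      exact ⟨⟨fun a b => Subtype.ext (a.2.trans b.2.symm)⟩, ⟨⟨1, rfl⟩⟩⟩
    rw [h2] at h1
    have h3 : Nat.card {μ : P →* ℂˣ // ¬ μ = 1} = p - 1 := by omega
    exact h3
  have hΩ : Finite Ω := Quotient.finite _
  have := Fintype.ofFinite Ω
  have hcard : Nat.card Λ = Nat.card Ω * e := by
    rw [Nat.card_congr (MulAction.selfEquivSigmaOrbits (normalizer (P : Set G)) Λ),
      Nat.card_sigma]
    rw [Finset.sum_congr rfl (g := fun _ => e)]
    · rw [Finset.sum_const, Finset.card_univ, ← Nat.card_eq_fintype_card, smul_eq_mul]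
    · intro ω _
      rw [← card_conj hp hP hC hN ω.out.2]
      refine Nat.card_congr ⟨fun ν => ⟨ν.1.1, ?_⟩, fun ν => ⟨⟨ν.1, ?_⟩, ?_⟩, fun ν => rfl,
        fun ν => rfl⟩
      · obtain ⟨n, hn⟩ := ν.2
        exact ⟨n, (congrArg Subtype.val hn).symm⟩
      · obtain ⟨n, hn⟩ := ν.2
        rw [hn]; exact conjHom_ne_one ω.out.2
      · obtain ⟨n, hn⟩ := ν.2
        exact ⟨n, Subtype.ext hn.symm⟩
  have hΩt : Nat.card Ω = t := by
    rw [hΛ, ← ht, mul_comm e t] at hcard
    exact (Nat.eq_of_mul_eq_mul_right hepos hcard).symm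
  have eq := Finite.equivFinOfCardEq hΩt
  refine ⟨fun i => (eq.symm i).out.1, fun i => (eq.symm i).out.2, ?_, ?_⟩
  · intro i j n hij h
    apply hij
    apply eq.symm.injective
    rw [← Quotient.out_eq (eq.symm i), ← Quotient.out_eq (eq.symm j)]
    exact Quotient.sound ⟨n, Subtype.ext h.symm⟩
  · intro μ hμ
    refine ⟨eq (Quotient.mk _ ⟨μ, hμ⟩), ?_⟩
    show ∃ n, μ = conjHom n (eq.symm (eq (Quotient.mk _ ⟨μ, hμ⟩))).out.1
    rw [eq.symm_apply_apply]
    have h1 := Quotient.exact (Quotient.out_eq (Quotient.mk (MulAction.orbitRel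
      (normalizer (P : Set G)) Λ) ⟨μ, hμ⟩))
    obtain ⟨n, hn⟩ := (MulAction.orbitRel (normalizer (P : Set G)) Λ).symm h1
    exact ⟨n, (congrArg Subtype.val hn).symm⟩

end Cfsg.Agent.SmallSimple.PrimeCoherence
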