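import Mathlib
import Cfsg.Agent.Characters.Brauer
import Cfsg.Agent.S0198
import Cfsg.Agent.SmallSimple.PrimeCoherence
import Cfsg.Agent.SmallSimple.SelfCentSum

/-!
# Exceptional characters for a self-centralizing subgroup of prime order

`P ≤ G` of prime order `p`, `C_G(P) = P`, `|N_G(P)| = e p`, `t = (p - 1) / e ≥ e + 2`.
There are `t` exceptional irreducible characters, all of the same degree `f ≡ d e (mod p)`
(`d = ±1`), the other irreducible characters `χ` take a rational integral value `c χ` on `P \ {1}`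
with `∑ (c χ)^2 = e`, and `∑ c χ • χ = d • θ` on the elements not conjugate into `P \ {1}` for
every exceptional `θ`.
-/

set_option autoImplicit false

namespace Cfsg.Agent.SmallSimple.PrimeCoherenceMain

open Subgroup Cfsg Cfsg.Agent.Characters.Core Cfsg.Agent.SmallSimple.DihedralNormGroup
open Cfsg.Agent.SmallSimple.DihedralNormChar Cfsg.Agent.SmallSimple.PrimeCoherence
open scoped ComplexConjugate

universe u

/-- Fourier inversion on a finite commutative group. -/
theorem fourier {P : Type u} [Group P] [Fintype P] [Fintype (P →* ℂˣ)]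
    (hP : ∀ a b : P, a * b = b * a) (φ : P → ℂ) (x : P) :
    φ x = ∑ μ : P →* ℂˣ, classInner φ (fun y => (μ y : ℂ)) * (μ x : ℂ) := by
  classical
  have := finite_irr (G := P)
  have := Fintype.ofFinite (IrrCharacter P)
  have hφ : IsClassFunction P φ := by
    intro g h
    rw [hP h g, mul_inv_cancel_right]
  conv_lhs => rw [classFunction_eq_sum hφ]
  rw [Finset.sum_apply]
  let E : (P →* ℂˣ) ≃ IrrCharacter P :=
    (Cfsg.Agent.Characters.Linear.linearEquiv P).trans
      (Equiv.subtypeUnivEquiv fun χ => SelfCentSum.irr_apply_one_of_comm hP χ.2)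
  rw [← E.sum_comp]
  rfl

theorem sum_hom {P : Type u} [Group P] [Fintype P] [Fintype (P →* ℂˣ)]
    (hP : ∀ a b : P, a * b = b * a) [DecidableEq P] (x : P) :
    ∑ μ : P →* ℂˣ, (μ x : ℂ) = if x = 1 then (Nat.card P : ℂ) else 0 := by
  have h := fourier hP (fun y => if y = 1 then (Nat.card P : ℂ) else 0) x
  refine Eq.trans ?_ h.symm
  refine Finset.sum_congr rfl fun μ _ => ?_
  rw [classInner_def]
  simp only [ite_mul, zero_mul, Finset.sum_ite_eq', Finset.mem_univ, if_true, map_one,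
    Units.val_one, mul_one]
  rw [inv_mul_cancel₀ card_ne_zero_complex, one_mul]

variable {G : Type u} [Group G] {p : ℕ} {P : Subgroup G}

/-- inner product of `Θ_μ` with a character -/
theorem inner_ind_char [Fintype G] [Fintype P] (μ : P →* ℂˣ) {χ : G → ℂ}
    (hχ : IsClassFunction G χ) :
    classInner (indFun P (baseFun μ)) χ =
      classInner (1 : P → ℂ) (fun x : P => χ x) - classInner (fun x => (μ x : ℂ)) (fun x : P => χ x) := by
  rw [Cfsg.Agent.S0146.result P (baseFun μ) χ hχ, ← classInner_sub_left]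
  rfl

/-- `Θ_μ` depends only on the `N`-orbit of `μ`. -/
theorem ind_conjHom [Fintype G] (μ : P →* ℂˣ)
    (n : normalizer (P : Set G)) :
    indFun P (baseFun (conjHom n μ)) = indFun P (baseFun μ) := by
  classical
  have := Fintype.ofFinite P
  have := Fintype.ofFinite (normalizer (P : Set G))
  have hcf : ∀ ν : P →* ℂˣ, IsClassFunction G (indFun P (baseFun ν)) := by
    intro ν
    obtain ⟨χ, ψ, h1, h2, h3⟩ := isGeneralizedCharacter_ind ν
    rw [h3]
    intro g h
    rw [Pi.sub_apply, Pi.sub_apply, isCharacter_isClassFunction h1, isCharacter_isClassFunction h2]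
  apply classFunction_ext (hcf _) (hcf _)
  intro χ hχ
  rw [Cfsg.Agent.S0146.result P _ χ (isIrr_isClassFunction hχ),
    Cfsg.Agent.S0146.result P _ χ (isIrr_isClassFunction hχ)]
  rw [classInner_def, classInner_def]
  congr 1
  have hbij : Function.Bijective (cj n) := by
    constructor
    · intro x y hxy
      have h := congrArg (cj n⁻¹) hxy
      rwa [← cj_mul, ← cj_mul, mul_inv_cancel, cj_one, cj_one] at h
    · intro y
      refine ⟨cj n⁻¹ y, ?_⟩
      rw [← cj_mul, inv_mul_cancel, cj_one]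
  refine Fintype.sum_bijective (cj n) hbij _ _ fun x => ?_
  have h1 : χ (cj n x : P) = χ x := by
    rw [coe_cj]
    have := isIrr_isClassFunction hχ (x : G) (n : G)⁻¹
    rwa [inv_inv] at this
  rw [h1]
  rfl

theorem gram [Fintype G] (hp : p.Prime) (hP : Nat.card P = p)
    (hC : centralizer (P : Set G) = P) {e t : ℕ}
    (hN : Nat.card (normalizer (P : Set G)) = e * p)
    (r : Fin t → (P →* ℂˣ)) (hr1 : ∀ i, r i ≠ 1) (hr2 : ∀ i j n, i ≠ j → r i ≠ conjHom n (r j))
    (i j : Fin t) :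
    classInner (indFun P (baseFun (r i))) (indFun P (baseFun (r j))) =
      (e : ℂ) + if i = j then 1 else 0 := by
  have hpC : (p : ℂ) ≠ 0 := Nat.cast_ne_zero.2 hp.ne_zero
  rw [inner_ind hp hP hN _ _ (hr1 i) (hr1 j)]
  split_ifs with h
  · subst h
    rw [card_stab hp hP hC (hr1 i), div_self hpC]
  · have : IsEmpty {n : normalizer (P : Set G) // r i = conjHom n (r j)} :=
      ⟨fun n => hr2 i j n.1 h n.2⟩
    rw [Nat.card_of_isEmpty, Nat.cast_zero, zero_div]

theorem core [Fintype G] [Fintype (IrrCharacter G)] (hp : p.Prime) (hP : Nat.card P = p)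
    (hC : centralizer (P : Set G) = P) {e t : ℕ}
    (hN : Nat.card (normalizer (P : Set G)) = e * p) (het : e + 2 ≤ t)
    (r : Fin t → (P →* ℂˣ)) (hr1 : ∀ i, r i ≠ 1) (hr2 : ∀ i j n, i ≠ j → r i ≠ conjHom n (r j)) :
    ∃ (ε : ℤ) (θ : Fin t → IrrCharacter G) (c : IrrCharacter G → ℤ),
      (ε = 1 ∨ ε = -1) ∧ Function.Injective θ ∧ (∀ i, c (θ i) = 0) ∧
      (∀ χ : IrrCharacter G, (χ : G → ℂ) = 1 → c χ = 1) ∧
      ∑ χ, (c χ) ^ 2 = e ∧
      ∀ i, indFun P (baseFun (r i)) = ∑ χ : IrrCharacter G, (c χ) • (χ : G → ℂ) + ε • (θ i : G → ℂ) := by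
  classical
  have hgen : ∀ i, IsGeneralizedCharacter G (indFun P (baseFun (r i))) :=
    fun i => isGeneralizedCharacter_ind (r i)
  have hgram := gram hp hP hC hN r hr1 hr2
  have htpos : 0 < t := by omega
  let i₀ : Fin t := ⟨0, htpos⟩
  obtain ⟨ε, hε, μ, hμ, hμinj, hτ⟩ := Cfsg.Agent.S0198.result t i₀
    (fun i => indFun P (baseFun (r i)) - indFun P (baseFun (r i₀)))
    (sub_self _)
    (fun i => Cfsg.Agent.Characters.Brauer.isGeneralizedCharacter_sub (hgen i) (hgen i₀))
    (fun i => by rw [Pi.sub_apply, ind_one, ind_one, sub_self])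
    (by
      intro i j hi hj
      rw [classInner_sub_left, classInner_sub_right, classInner_sub_right, hgram, hgram, hgram,
        hgram, if_neg hi, if_neg (Ne.symm hj), if_pos rfl]
      split_ifs <;> ring)
  obtain ⟨ε', hε', hεε⟩ : ∃ ε' : ℤ, (ε' = 1 ∨ ε' = -1) ∧ ε = (ε' : ℂ) := by
    rcases hε with h | h
    · exact ⟨1, Or.inl rfl, by rw [h]; norm_num⟩
    · exact ⟨-1, Or.inr rfl, by rw [h]; norm_num⟩
  have hε2 : ε' ^ 2 = 1 := by rcases hε' with h | h <;> rw [h] <;> norm_num
  let θ : Fin t → IrrCharacter G := fun i => ⟨μ i, hμ i⟩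
  have hθinj : Function.Injective θ := fun i j h => hμinj (congrArg Subtype.val h)
  choose m hm using fun i => isGeneralizedCharacter_iff.1 (hgen i)
  have hmi : ∀ i (χ : IrrCharacter G),
      classInner (indFun P (baseFun (r i))) (χ : G → ℂ) = (m i χ : ℂ) := by
    intro i χ
    have h := classInner_sum_zsmul_irr (m i) χ
    rw [← hm i] at h
    exact h
  have hk : ∀ i χ, m i χ = m i₀ χ +
      ε' * ((if θ i = χ then 1 else 0) - (if θ i₀ = χ then 1 else 0)) := by
    intro i χ
    have h : classInner (indFun P (baseFun (r i)) - indFun P (baseFun (r i₀))) (χ : G → ℂ) =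
        classInner (ε • (μ i - μ i₀)) (χ : G → ℂ) := by rw [← hτ i]
    rw [classInner_sub_left, hmi, hmi, classInner_smul_left, classInner_sub_left,
      classInner_irr (hμ i) χ.2, classInner_irr (hμ i₀) χ.2, hεε] at h
    have e1 : (μ i = (χ : G → ℂ)) ↔ θ i = χ := by
      constructor
      · intro h; exact Subtype.ext h
      · rintro rfl; rfl
    have e2 : (μ i₀ = (χ : G → ℂ)) ↔ θ i₀ = χ := by
      constructor
      · intro h; exact Subtype.ext h
      · rintro rfl; rfl
    simp only [e1, e2] at h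
    have h' : (m i χ : ℂ) = ((m i₀ χ +
      ε' * ((if θ i = χ then 1 else 0) - (if θ i₀ = χ then 1 else 0)) : ℤ) : ℂ) := by
      push_cast
      linear_combination h
    exact_mod_cast h'
  have hnorm : ∀ i, ∑ χ, (m i χ) ^ 2 = (e : ℤ) + 1 := by
    intro i
    have h := classInner_sum_smul_sum_smul (fun ψ : IrrCharacter G => (m i ψ : ℂ))
      (fun ψ => (m i ψ : ℂ))
    simp only [Int.cast_smul_eq_zsmul] at h
    rw [← hm i, hgram, if_pos rfl] at h
    simp only [map_intCast, ← pow_two] at h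
    exact_mod_cast h.symm
  -- the principal character
  let ψ₀ : IrrCharacter G := ⟨1, isIrr_one⟩
  have hm1 : ∀ i, m i ψ₀ = 1 := by
    intro i
    have h := hmi i ψ₀
    have h' : classInner (indFun P (baseFun (r i))) 1 = (m i ψ₀ : ℂ) := h
    rw [classInner_ind_one hp hP (r i) (fun x hx => faithful_of_ne_one hp hP (hr1 i) hx)] at h'
    exact_mod_cast h'.symm
  have hψ₀ : ∀ i, θ i ≠ ψ₀ := by
    have h0 : θ i₀ ≠ ψ₀ := by
      intro h
      let i₁ : Fin t := ⟨1, by omega⟩
      have hne : i₁ ≠ i₀ := by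
        intro h; exact absurd (congrArg Fin.val h) (by norm_num [i₁, i₀])
      have h1 := hk i₁ ψ₀
      rw [hm1, hm1, if_pos h] at h1
      split_ifs at h1 with h2
      · exact hne (hθinj (h2.trans h.symm))
      · rcases hε' with h3 | h3 <;> rw [h3] at h1 <;> norm_num at h1
    intro i h
    have h1 := hk i ψ₀
    rw [hm1, hm1, if_pos h, if_neg h0] at h1
    rcases hε' with h3 | h3 <;> rw [h3] at h1 <;> norm_num at h1
  -- values of `m i₀` at the exceptional characters
  have hval : ∀ i, i ≠ i₀ → m i₀ (θ i) = m i₀ (θ i₀) - ε' := by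
    intro i hi
    have hne : θ i ≠ θ i₀ := fun h => hi (hθinj h)
    have h1 := hnorm i
    have h2 : ∑ χ, (m i χ) ^ 2 = ∑ χ, (m i₀ χ) ^ 2 +
        2 * ε' * (m i₀ (θ i) - m i₀ (θ i₀)) + 2 := by
      have h3 : ∀ χ, (m i χ) ^ 2 = (m i₀ χ) ^ 2 +
          2 * ε' * ((if θ i = χ then m i₀ χ else 0) - (if θ i₀ = χ then m i₀ χ else 0)) +
          ((if θ i = χ then 1 else 0) + (if θ i₀ = χ then 1 else 0)) := by
        intro χ
        rw [hk i χ]
        by_cases h4 : θ i = χ
        · have h5 : θ i₀ ≠ χ := fun h => hne (h4.trans h.symm)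
          simp only [if_pos h4, if_neg h5]
          ring_nf
          rw [hε2]; ring
        · by_cases h5 : θ i₀ = χ
          · simp only [if_neg h4, if_pos h5]
            ring_nf
            rw [hε2]; ring
          · simp only [if_neg h4, if_neg h5]
            ring
      rw [Finset.sum_congr rfl fun χ _ => h3 χ, Finset.sum_add_distrib, Finset.sum_add_distrib,
        Finset.sum_add_distrib, ← Finset.mul_sum, Finset.sum_sub_distrib]
      simp only [Finset.sum_ite_eq, Finset.mem_univ, if_true]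
      ring
    rw [h1, hnorm i₀] at h2
    have h3 : ε' * (m i₀ (θ i) - m i₀ (θ i₀)) = -1 := by linarith
    rcases hε' with h4 | h4 <;> rw [h4] at h3 ⊢ <;> linarith
  have hb : m i₀ (θ i₀) - ε' = 0 := by
    by_contra hb
    have hsub : insert ψ₀ ((Finset.univ.erase i₀).image θ) ⊆ Finset.univ := Finset.subset_univ _
    have h1 : ∑ χ ∈ insert ψ₀ ((Finset.univ.erase i₀).image θ), (m i₀ χ) ^ 2 ≤
        ∑ χ, (m i₀ χ) ^ 2 :=
      Finset.sum_le_sum_of_subset_of_nonneg hsub (fun _ _ _ => sq_nonneg _)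
    rw [Finset.sum_insert, hm1, Finset.sum_image (fun i _ j _ h => hθinj h), hnorm] at h1
    · have h2 : ∑ i ∈ Finset.univ.erase i₀, (1 : ℤ) ≤
          ∑ i ∈ Finset.univ.erase i₀, (m i₀ (θ i)) ^ 2 := by
        refine Finset.sum_le_sum fun i hi => ?_
        rw [hval i (Finset.ne_of_mem_erase hi)]
        have : 0 < (m i₀ (θ i₀) - ε') ^ 2 := by positivity
        omega
      rw [Finset.sum_const, Finset.card_erase_of_mem (Finset.mem_univ _), Finset.card_univ,
        Fintype.card_fin, nsmul_eq_mul, mul_one] at h2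
      have h3 : ((t - 1 : ℕ) : ℤ) = (t : ℤ) - 1 := by omega
      rw [h3] at h2
      have h4 : ((e : ℤ) + 2) ≤ t := by exact_mod_cast het
      rw [one_pow] at h1
      linarith
    · intro h
      obtain ⟨i, _, hi⟩ := Finset.mem_image.1 h
      exact hψ₀ i hi
  -- the nonexceptional part
  refine ⟨ε', θ, fun χ => m i₀ χ - ε' * (if θ i₀ = χ then 1 else 0), hε', hθinj, ?_, ?_, ?_, ?_⟩
  · intro i
    by_cases hi : i = i₀
    · subst hi
      simp only [if_true]
      linarith
    · have hne : θ i₀ ≠ θ i := fun h => hi (hθinj h.symm)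
      simp only [if_neg hne]
      rw [hval i hi, hb]; ring
  · intro χ hχ
    have h : χ = ψ₀ := Subtype.ext hχ
    subst h
    simp only [if_neg (hψ₀ i₀), hm1]
    ring
  · have h1 := hnorm i₀
    have h2 : ∀ χ, (m i₀ χ) ^ 2 = (m i₀ χ - ε' * (if θ i₀ = χ then 1 else 0)) ^ 2 +
        (if θ i₀ = χ then 1 else 0) := by
      intro χ
      by_cases h3 : θ i₀ = χ
      · subst h3
        simp only [if_true]
        have h4 : m i₀ (θ i₀) = ε' := by linarith
        rw [h4]
        ring_nf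
        exact hε2
      · simp only [if_neg h3]; ring
    rw [Finset.sum_congr rfl fun χ _ => h2 χ, Finset.sum_add_distrib] at h1
    simp only [Finset.sum_ite_eq, Finset.mem_univ, if_true] at h1
    linarith
  · intro i
    rw [hm i]
    have h1 : ∑ χ : IrrCharacter G, ((m i₀ χ - ε' * (if θ i₀ = χ then 1 else 0) : ℤ)) •
        (χ : G → ℂ) + ε' • (θ i : G → ℂ) = ∑ χ : IrrCharacter G,
        ((m i₀ χ - ε' * (if θ i₀ = χ then 1 else 0) : ℤ) • (χ : G → ℂ) +
          (ε' * (if θ i = χ then 1 else 0)) • (χ : G → ℂ)) := by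
      rw [Finset.sum_add_distrib]
      congr 1
      rw [Finset.sum_eq_single (θ i)]
      · simp
      · intro χ _ hχ
        rw [if_neg (Ne.symm hχ), mul_zero, zero_smul]
      · intro h; exact absurd (Finset.mem_univ _) h
    rw [h1]
    refine Finset.sum_congr rfl fun χ _ => ?_
    rw [← add_smul, hk i χ]
    congr 1
    ring

/-- real-valuedness of the inner product of two characters -/
theorem inner_comm_of_char {H : Type u} [Group H] [Fintype H] {χ ψ : H → ℂ}
    (hχ : IsCharacter H χ) (hψ : IsCharacter H ψ) : classInner χ ψ = classInner ψ χ := by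
  obtain ⟨n, hn⟩ := classInner_isNat hχ hψ
  rw [← classInner_conj_symm ψ χ, ← classInner_conj_symm χ ψ, hn, Complex.conj_natCast,
    Complex.conj_natCast]

/-- **Main theorem** (Brauer, Brauer–Suzuki): exceptional characters for a self-centralizing
subgroup of prime order with `t = (p - 1) / e ≥ e + 2`. -/
theorem main [Fintype G] [Fintype (IrrCharacter G)] (hp : p.Prime) (hP : Nat.card P = p)
    (hC : centralizer (P : Set G) = P) {e t : ℕ}
    (hN : Nat.card (normalizer (P : Set G)) = e * p) (ht : e * t = p - 1) (het : e + 2 ≤ t) :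
    ∃ (d : ℤ) (X : Finset (IrrCharacter G)) (c : IrrCharacter G → ℤ) (f : ℕ),
      (d = 1 ∨ d = -1) ∧ X.card = t ∧ (∀ θ ∈ X, (θ : G → ℂ) 1 = f) ∧
      ((f : ℤ) ≡ d * e [ZMOD p]) ∧
      (∀ χ ∉ X, ∀ n : ℕ, (χ : G → ℂ) 1 = n → (n : ℤ) ≡ c χ [ZMOD p]) ∧
      (∀ χ ∉ X, ∀ x ∈ P, x ≠ 1 → (χ : G → ℂ) x = c χ) ∧
      (∀ χ ∈ X, c χ = 0) ∧
      (∀ χ : IrrCharacter G, (χ : G → ℂ) = 1 → χ ∉ X ∧ c χ = 1) ∧
      ∑ χ, (c χ) ^ 2 = e ∧
      (∀ θ ∈ X, ∀ g : G, (∀ x : G, x⁻¹ * g * x ∈ P → x⁻¹ * g * x = 1) →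
        ∑ χ : IrrCharacter G, (c χ : ℂ) * (χ : G → ℂ) g = d * (θ : G → ℂ) g) := by
  classical
  have := Fintype.ofFinite P
  have hcommP : ∀ a b : P, a * b = b * a := fun a b => Subtype.ext (comm_of_mem hp hP a.2 b.2)
  have hfinH : Finite (P →* ℂˣ) :=
    Nat.finite_of_card_ne_zero (by rw [card_hom hp hP]; exact hp.ne_zero)
  have := Fintype.ofFinite (P →* ℂˣ)
  obtain ⟨r, hr1, hr2, hr3⟩ := exists_reps hp hP hC hN ht
  obtain ⟨ε, θ, c, hε, hθ, hcθ, hc1, hc2, hΘ⟩ := core hp hP hC hN het r hr1 hr2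
  have hi := Cfsg.Agent.Characters.Linear.isCharacter_hom (G := P)
  have hres : ∀ χ : IrrCharacter G, IsCharacter P (fun x : P => (χ : G → ℂ) x) :=
    fun χ => isCharacter_comp P.subtype (isIrr_isCharacter χ.2)
  -- coordinates of `Θ`
  have hcoord : ∀ i (χ : IrrCharacter G), classInner (indFun P (baseFun (r i))) (χ : G → ℂ) =
      c χ + ε * (if θ i = χ then 1 else 0) := by
    intro i χ
    have e1 : ((θ i : G → ℂ) = (χ : G → ℂ)) ↔ θ i = χ :=
      ⟨fun h => Subtype.ext h, fun h => by rw [h]⟩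
    rw [hΘ i, classInner_add_left, classInner_sum_zsmul_irr, ← Int.cast_smul_eq_zsmul ℂ,
      classInner_smul_left, classInner_irr (θ i).2 χ.2]
    simp only [e1]
  -- multiplicity of a linear character in the restriction
  have hmult : ∀ (χ : IrrCharacter G) (z : ℕ),
      classInner (1 : P → ℂ) (fun x : P => (χ : G → ℂ) x) = z → ∀ (i : Fin t) (μ : P →* ℂˣ),
      (∃ n, μ = conjHom n (r i)) → classInner (fun x : P => (χ : G → ℂ) x) (fun x => (μ x : ℂ)) =
        z - (c χ + ε * (if θ i = χ then 1 else 0)) := by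
    rintro χ z hz i μ ⟨n, hn⟩
    have h1 := hcoord i χ
    rw [← ind_conjHom (r i) n, ← hn, inner_ind_char μ (isIrr_isClassFunction χ.2), hz] at h1
    rw [inner_comm_of_char (hres χ) (hi μ)]
    linear_combination -h1
  have hone : ∀ (χ : IrrCharacter G), ∃ z : ℕ,
      classInner (1 : P → ℂ) (fun x : P => (χ : G → ℂ) x) = z := fun χ =>
    classInner_isNat isCharacter_one (hres χ)
  have hmult1 : ∀ (χ : IrrCharacter G) (z : ℕ),
      classInner (1 : P → ℂ) (fun x : P => (χ : G → ℂ) x) = z →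
      classInner (fun x : P => (χ : G → ℂ) x) (fun x => (((1 : P →* ℂˣ) x : ℂˣ) : ℂ)) = z := by
    intro χ z hz
    rw [inner_comm_of_char (hres χ) (hi 1), ← hz]
    rfl
  -- values of the nonexceptional characters on `P`
  have hval : ∀ χ : IrrCharacter G, (∀ i, θ i ≠ χ) → ∀ z : ℕ,
      classInner (1 : P → ℂ) (fun x : P => (χ : G → ℂ) x) = z → ∀ x : P,
      (χ : G → ℂ) x = (z - c χ) * (if x = 1 then (p : ℂ) else 0) + c χ := by
    intro χ hχ z hz x
    have h1 : (χ : G → ℂ) x = ∑ μ : P →* ℂˣ, classInner (fun x : P => (χ : G → ℂ) x)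
        (fun y => (μ y : ℂ)) * (μ x : ℂ) := fourier hcommP (fun x : P => (χ : G → ℂ) x) x
    have h2 : ∀ μ : P →* ℂˣ, classInner (fun x : P => (χ : G → ℂ) x)
        (fun y => (μ y : ℂ)) * (μ x : ℂ) = (z - c χ) * (μ x : ℂ) +
          (if μ = 1 then (c χ : ℂ) else 0) := by
      intro μ
      by_cases hμ : μ = 1
      · subst hμ
        rw [hmult1 χ z hz, if_pos rfl]
        simp
      · obtain ⟨i, n, hn⟩ := hr3 μ hμ
        rw [hmult χ z hz i μ ⟨n, hn⟩, if_neg (hχ i), if_neg hμ]
        ring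
    rw [h1, Finset.sum_congr rfl fun μ _ => h2 μ, Finset.sum_add_distrib, ← Finset.mul_sum,
      sum_hom hcommP, Finset.sum_ite_eq', if_pos (Finset.mem_univ _), hP]
  have hX : ∀ χ : IrrCharacter G, χ ∉ Finset.univ.image θ ↔ ∀ i, θ i ≠ χ := by
    intro χ
    simp
  have htpos : 0 < t := by omega
  obtain ⟨f, _, hf⟩ := isIrr_apply_one (θ ⟨0, htpos⟩).2
  have hεC : (ε : ℂ) * ε = 1 := by
    rcases hε with h | h <;> rw [h] <;> norm_num
  have hrel : ∀ i, ∀ g : G, (∀ x : G, x⁻¹ * g * x ∈ P → x⁻¹ * g * x = 1) →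
        ∑ χ : IrrCharacter G, (c χ : ℂ) * (χ : G → ℂ) g = (-ε : ℂ) * (θ i : G → ℂ) g := by
    intro i g hg
    have h1 := ind_eq_zero (r i) hg
    rw [hΘ i, Pi.add_apply, Finset.sum_apply, Pi.smul_apply] at h1
    simp only [Pi.smul_apply, zsmul_eq_mul] at h1
    linear_combination h1
  have hdeg : ∀ i, (θ i : G → ℂ) 1 = f := by
    intro i
    have h1 := hrel i 1 (fun x _ => by group)
    have h2 := hrel ⟨0, htpos⟩ 1 (fun x _ => by group)
    rw [h1, hf] at h2
    linear_combination (-ε : ℂ) * h2 - ((θ i : G → ℂ) 1 - f) * hεC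
  refine ⟨-ε, Finset.univ.image θ, c, f, ?_, ?_, ?_, ?_, ?_, ?_, ?_, ?_, hc2, ?_⟩
  · rcases hε with h | h <;> rw [h] <;> norm_num
  · rw [Finset.card_image_of_injective _ hθ, Finset.card_univ, Fintype.card_fin]
  · intro θ' hθ'
    obtain ⟨i, _, rfl⟩ := Finset.mem_image.1 hθ'
    exact hdeg i
  · -- congruence for the exceptional degree
    set χ := θ ⟨0, htpos⟩ with hχdef
    obtain ⟨z, hz⟩ := hone χ
    have h1 : (χ : G → ℂ) ((1 : P) : G) = ∑ μ : P →* ℂˣ, classInner (fun x : P => (χ : G → ℂ) x)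
        (fun y => (μ y : ℂ)) * (μ (1 : P) : ℂ) := fourier hcommP (fun x : P => (χ : G → ℂ) x) 1
    have h2 : ∀ μ : P →* ℂˣ, classInner (fun x : P => (χ : G → ℂ) x)
        (fun y => (μ y : ℂ)) * (μ (1 : P) : ℂ) = z -
          (if ∃ n, μ = conjHom n (r ⟨0, htpos⟩) then (ε : ℂ) else 0) := by
      intro μ
      rw [map_one, Units.val_one, mul_one]
      by_cases hμ : μ = 1
      · subst hμ
        rw [hmult1 χ z hz, if_neg, sub_zero]
        rintro ⟨n, hn⟩
        exact conjHom_ne_one (hr1 _) hn.symm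
      · obtain ⟨i, n, hn⟩ := hr3 μ hμ
        rw [hmult χ z hz i μ ⟨n, hn⟩, hχdef, hcθ]
        by_cases hi0 : i = ⟨0, htpos⟩
        · subst hi0
          rw [if_pos rfl, if_pos ⟨n, hn⟩]
          push_cast
          ring
        · rw [if_neg (fun h => hi0 (hθ h)), if_neg]
          · push_cast
            ring
          · rintro ⟨n', hn'⟩
            apply hr2 i ⟨0, htpos⟩ (n⁻¹ * n') hi0
            rw [conjHom_mul, ← hn', hn, ← conjHom_mul, inv_mul_cancel, conjHom_one]
    rw [Finset.sum_congr rfl fun μ _ => h2 μ, Finset.sum_sub_distrib, Finset.sum_const,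
      Finset.card_univ, ← Nat.card_eq_fintype_card, card_hom hp hP, Subgroup.coe_one, hf,
      ← Finset.sum_filter, Finset.sum_const, ← Fintype.card_subtype,
      ← Nat.card_eq_fintype_card, card_conj hp hP hC hN (hr1 _)] at h1
    have h3 : (f : ℤ) = p * z - e * ε := by
      have : ((f : ℤ) : ℂ) = ((p * z - e * ε : ℤ) : ℂ) := by
        push_cast
        rw [h1, nsmul_eq_mul, nsmul_eq_mul]
      exact_mod_cast this
    rw [Int.modEq_iff_dvd, h3]
    exact ⟨-z, by ring⟩
  · intro χ hχ n hn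
    obtain ⟨z, hz⟩ := hone χ
    have h1 := hval χ ((hX χ).1 hχ) z hz 1
    rw [if_pos rfl, Subgroup.coe_one, hn] at h1
    have h3 : (n : ℤ) = (z - c χ) * p + c χ := by exact_mod_cast h1
    rw [Int.modEq_iff_dvd, h3]
    exact ⟨c χ - z, by ring⟩
  · intro χ hχ x hx hx1
    obtain ⟨z, hz⟩ := hone χ
    have h1 := hval χ ((hX χ).1 hχ) z hz ⟨x, hx⟩
    rw [if_neg (fun h => hx1 (congrArg Subtype.val h)), mul_zero, zero_add] at h1
    exact h1
  · intro χ hχ
    obtain ⟨i, _, rfl⟩ := Finset.mem_image.1 hχ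
    exact hcθ i
  · intro χ hχ
    refine ⟨?_, hc1 χ hχ⟩
    rw [hX]
    intro i h
    have h1 := hc1 χ hχ
    rw [← h, hcθ] at h1
    exact absurd h1 (by norm_num)
  · intro θ' hθ' g hg
    obtain ⟨i, _, rfl⟩ := Finset.mem_image.1 hθ'
    rw [hrel i g hg]
    push_cast
    rfl

end Cfsg.Agent.SmallSimple.PrimeCoherenceMain
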