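import Mathlib
import Cfsg.Agent.Characters.Brauer
import Cfsg.Agent.S0134
import Cfsg.Agent.SmallSimple.PrimeCoherenceMain

/-!
# Arithmetic of the exceptional characters for a self-centralizing Sylow subgroup of prime order

`G` simple, `P ≤ G` of prime order `p`, `C_G(P) = P`, `|N_G(P)| = e p`, `e t = p - 1`,
`t ≥ e + 2`: consequences of `PrimeCoherenceMain.main` about degrees only.
-/

set_option autoImplicit false

namespace Cfsg.Agent.SmallSimple.PrimeCoherenceArith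

open Subgroup Cfsg Cfsg.Agent.Characters.Core

universe u

/-- the degree of an irreducible character as a natural number dividing `|G|` -/
theorem exists_degree {G : Type u} [Group G] [Finite G] {χ : G → ℂ} (hχ : IsIrrCharacter G χ) :
    ∃ n : ℕ, χ 1 = n ∧ n ∣ Nat.card G := by
  obtain ⟨m, ρ, hρ, rfl⟩ := hχ
  have h5 := Cfsg.Agent.S0135.result ρ
  refine ⟨_, ?_, h5⟩
  rw [Representation.char_one]

/-- the degree function -/
theorem exists_degree_fun {G : Type u} [Group G] [Finite G] [Fintype (IrrCharacter G)] :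
    ∃ n : IrrCharacter G → ℕ, (∀ χ : IrrCharacter G, (χ : G → ℂ) 1 = n χ) ∧
      (∀ χ, n χ ∣ Nat.card G) ∧ ∑ χ, n χ ^ 2 = Nat.card G := by
  choose n hn hn' using fun χ : IrrCharacter G => exists_degree χ.2
  refine ⟨n, hn, hn', ?_⟩
  have h := Cfsg.Agent.S0134.result (G := G)
  rw [finsum_eq_sum_of_fintype] at h
  have h2 : ((∑ χ, n χ ^ 2 : ℕ) : ℂ) = Nat.card G := by
    rw [← h]
    push_cast
    exact Finset.sum_congr rfl fun χ _ => by rw [hn χ]
  exact_mod_cast h2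

/-- Degrees of the characters in the principal block of a simple group with a self-centralizing
subgroup of prime order `p` and inertial index `e`, `e t = p - 1`, `t ≥ e + 2`. -/
theorem degrees {G : Type u} [Group G] [Finite G] [IsSimpleGroup G]
    (hG : ¬ (Nat.card G).Prime) {p : ℕ} {P : Subgroup G} (hp : p.Prime) (hP : Nat.card P = p)
    (hC : centralizer (P : Set G) = P) {e t : ℕ}
    (hN : Nat.card (normalizer (P : Set G)) = e * p) (ht : e * t = p - 1) (het : e + 2 ≤ t) :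
    ∃ (d : ℤ) (f : ℕ) (s : Finset (IrrCharacter G)) (c : IrrCharacter G → ℤ)
      (n : IrrCharacter G → ℕ),
      (d = 1 ∨ d = -1) ∧ f ∣ Nat.card G ∧ ((f : ℤ) ≡ d * e [ZMOD p]) ∧
      (∀ χ ∈ s, c χ ≠ 0) ∧ (∀ χ ∈ s, 2 ≤ n χ) ∧
      (∀ χ ∈ s, n χ ∣ Nat.card G) ∧ (∀ χ ∈ s, (n χ : ℤ) ≡ c χ [ZMOD p]) ∧
      ∑ χ ∈ s, (c χ) ^ 2 + 1 = e ∧ 1 + ∑ χ ∈ s, c χ * n χ = d * f ∧
      t * f ^ 2 + 1 + ∑ χ ∈ s, (n χ) ^ 2 ≤ Nat.card G := by
  classical
  have := Fintype.ofFinite G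
  have := finite_irr (G := G)
  have := Fintype.ofFinite (IrrCharacter G)
  obtain ⟨n, hn1, hn2, hn3⟩ := exists_degree_fun (G := G)
  obtain ⟨d, X, c, f, hd, hX, hf, hfe, hc1, -, hcX, hcone, hsum, hrel⟩ :=
    PrimeCoherenceMain.main hp hP hC hN ht het
  let one : IrrCharacter G := ⟨1, isIrr_one⟩
  have hone1 : one ∉ X := (hcone one rfl).1
  have hone2 : c one = 1 := (hcone one rfl).2
  have hnone : n one = 1 := by
    have h1 : (one : G → ℂ) 1 = (n one : ℂ) := hn1 one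
    have h2 : (one : G → ℂ) 1 = 1 := rfl
    rw [h2] at h1
    exact_mod_cast h1.symm
  have hXf : ∀ θ ∈ X, n θ = f := by
    intro θ hθ
    have h1 := hf θ hθ
    rw [hn1 θ] at h1
    exact_mod_cast h1
  have htpos : 0 < t := by omega
  obtain ⟨θ, hθ⟩ : X.Nonempty := Finset.card_pos.mp (by omega)
  let s : Finset (IrrCharacter G) := Finset.univ.filter fun χ => χ ≠ one ∧ c χ ≠ 0
  have hs : ∀ χ, χ ∈ s ↔ χ ≠ one ∧ c χ ≠ 0 := fun χ => by simp [s]
  have hsX : ∀ χ ∈ s, χ ∉ X := fun χ h1 h2 => ((hs χ).1 h1).2 (hcX χ h2)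
  have hsplit : ∀ F : IrrCharacter G → ℤ, (∀ χ, c χ = 0 → F χ = 0) →
      ∑ χ, F χ = F one + ∑ χ ∈ s, F χ := by
    intro F hF
    rw [← Finset.add_sum_erase _ _ (Finset.mem_univ one)]
    congr 1
    symm
    apply Finset.sum_subset
    · intro χ h1
      rw [Finset.mem_erase]
      exact ⟨((hs χ).1 h1).1, Finset.mem_univ _⟩
    · intro χ h1 h2
      apply hF
      by_contra h3
      exact h2 ((hs χ).2 ⟨(Finset.mem_erase.1 h1).1, h3⟩)
  refine ⟨d, f, s, c, n, hd, ?_, hfe, fun χ h => ((hs χ).1 h).2, ?_, fun χ _ => hn2 χ,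
    fun χ h => hc1 χ (hsX χ h) (n χ) (hn1 χ), ?_, ?_, ?_⟩
  · rw [← hXf θ hθ]
    exact hn2 θ
  · intro χ h
    by_contra hlt
    have hpos : 0 < n χ := Nat.pos_of_dvd_of_pos (hn2 χ) Nat.card_pos
    have h1 : n χ = 1 := by omega
    have h2 : (χ : G → ℂ) 1 = 1 := by rw [hn1 χ, h1, Nat.cast_one]
    have h3 := SelfCentSum.eq_one_of_apply_one hG χ.2 h2
    exact ((hs χ).1 h).1 (Subtype.ext h3)
  · have h1 := hsplit (fun χ => c χ ^ 2) (fun χ h => by simp [h])
    rw [hsum] at h1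
    simp only [hone2] at h1
    rw [h1]; ring
  · have h1 := hrel θ hθ 1 (fun x _ => by simp)
    have h2 : ((∑ χ, c χ * (n χ : ℤ) : ℤ) : ℂ) = ((d * f : ℤ) : ℂ) := by
      push_cast
      rw [hf θ hθ] at h1
      rw [← h1]
      exact Finset.sum_congr rfl fun χ _ => by rw [hn1 χ]
    have h3 : (∑ χ, c χ * (n χ : ℤ) : ℤ) = d * f := by exact_mod_cast h2
    rw [← h3, hsplit (fun χ => c χ * (n χ : ℤ)) (fun χ h => by simp [h])]
    simp only [hone2, hnone]
    norm_num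
  · rw [← hn3]
    have hdisj : Disjoint X ({one} ∪ s) := by
      rw [Finset.disjoint_right]
      intro χ h1
      rw [Finset.mem_union, Finset.mem_singleton] at h1
      rcases h1 with h1 | h1
      · rw [h1]; exact hone1
      · exact hsX χ h1
    have hdisj2 : Disjoint ({one} : Finset (IrrCharacter G)) s := by
      rw [Finset.disjoint_singleton_left]
      intro h1
      exact ((hs one).1 h1).1 rfl
    calc t * f ^ 2 + 1 + ∑ χ ∈ s, (n χ) ^ 2
        = ∑ χ ∈ X, (n χ) ^ 2 + (∑ χ ∈ {one}, (n χ) ^ 2 + ∑ χ ∈ s, (n χ) ^ 2) := by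
          have h1 : ∑ χ ∈ X, (n χ) ^ 2 = t * f ^ 2 := by
            rw [Finset.sum_congr rfl fun χ hχ => by rw [hXf χ hχ], Finset.sum_const, hX,
              smul_eq_mul]
          rw [Finset.sum_singleton, hnone, h1]
          ring
      _ = ∑ χ ∈ X ∪ ({one} ∪ s), (n χ) ^ 2 := by
          rw [Finset.sum_union hdisj, Finset.sum_union hdisj2]
      _ ≤ ∑ χ, (n χ) ^ 2 :=
          Finset.sum_le_sum_of_subset (Finset.subset_univ _)

end Cfsg.Agent.SmallSimple.PrimeCoherenceArith
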