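import Mathlib
import Cfsg.Prelude.Def_Characters
import Cfsg.Agent.Characters.Core
import Cfsg.Agent.Characters.Central
import Cfsg.Agent.Characters.Values
import Cfsg.Agent.Characters.ClassMul
import Cfsg.Agent.Characters.Counting
import Cfsg.Agent.Characters.Linear
import Cfsg.Agent.CharactersDeep.NormalInd
import Cfsg.Agent.S0148
import Cfsg.Agent.S0135

/-!
# Self-centralizing subgroups with dihedral normalizer

Let `P` be an abelian T.I. subgroup of odd order `> 1` of a finite group `G`, which has index two in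
its normalizer and is inverted by the elements of `N(P) \ P`.  If `λ` is a linear character of `P`
with `λ ≠ 1`, then `Ind (1 - λ) = 1 + χ - ψ` with irreducible characters `χ`, `ψ`, and a count of
products of two involutions gives
`|P| |C(t)|² / |G| = 1 + χ(t)²/χ(1) - ψ(t)²/ψ(1)` for an involution `t` in `N(P)`.
-/

set_option autoImplicit false

open scoped ComplexConjugate
open Cfsg

namespace Cfsg.Agent.SmallSimple.DihedralNormalizerCore

open Cfsg.Agent.Characters.Core Cfsg.Agent.CharactersDeep.NormalInd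

/-! ### Combinatorics of coefficient vectors of squared norm three -/

theorem exists_three {I : Type*} [Fintype I] [DecidableEq I] (a d : I → ℤ) (i₀ : I)
    (hd : ∀ i, 0 < d i) (hd0 : d i₀ = 1) (ha0 : a i₀ = 1) (h3 : ∑ i, a i * a i = 3)
    (h0 : ∑ i, a i * d i = 0) :
    ∃ x y : I, x ≠ i₀ ∧ y ≠ i₀ ∧ x ≠ y ∧
      a = Pi.single i₀ 1 + Pi.single x 1 - Pi.single y 1 := by
  set b : I → ℤ := a - Pi.single i₀ 1 with hb
  have hb0 : b i₀ = 0 := by simp [hb, ha0]
  have hbz : ∀ z, z ≠ i₀ → b z = a z := fun z hz => by simp [hb, hz]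
  have hb2 : ∑ i, b i * b i = 2 := by
    rw [← Finset.add_sum_erase _ _ (Finset.mem_univ i₀), ha0] at h3
    rw [← Finset.add_sum_erase _ _ (Finset.mem_univ i₀), hb0]
    rw [Finset.sum_congr rfl (fun i hi => by rw [hbz i (Finset.ne_of_mem_erase hi)])]
    linarith
  have hbd : ∑ i, b i * d i = -1 := by
    rw [← Finset.add_sum_erase _ _ (Finset.mem_univ i₀), ha0, hd0] at h0
    rw [← Finset.add_sum_erase _ _ (Finset.mem_univ i₀), hb0]
    rw [Finset.sum_congr rfl (fun i hi => by rw [hbz i (Finset.ne_of_mem_erase hi)])]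
    linarith
  have hle : ∀ i, b i * b i ≤ 2 := fun i => by
    rw [← hb2]
    exact Finset.single_le_sum (f := fun i => b i * b i) (fun j _ => mul_self_nonneg _)
      (Finset.mem_univ i)
  have hval : ∀ i, b i = -1 ∨ b i = 0 ∨ b i = 1 := fun i => by
    have h := hle i
    have h1 : b i ≤ 1 := by nlinarith
    have h1' : -1 ≤ b i := by nlinarith
    omega
  have hneg : ∃ i, b i = -1 := by
    by_contra hcon
    push Not at hcon
    have hnp : ∀ i, 0 ≤ b i := fun i => by
      rcases hval i with h | h | h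
      · exact absurd h (hcon i)
      · omega
      · omega
    have : 0 ≤ ∑ i, b i * d i := Finset.sum_nonneg fun i _ => mul_nonneg (hnp i) (hd i).le
    omega
  have hpos : ∃ i, b i = 1 := by
    by_contra hcon
    push Not at hcon
    have hnp : ∀ i, b i * b i ≤ - (b i * d i) := fun i => by
      have := hd i
      rcases hval i with h | h | h
      · rw [h]; linarith
      · rw [h]; simp
      · exact absurd h (hcon i)
    have h4 : ∑ i, b i * b i ≤ ∑ i, - (b i * d i) := Finset.sum_le_sum fun i _ => hnp i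
    rw [Finset.sum_neg_distrib, hb2, hbd] at h4
    omega
  obtain ⟨x, hx⟩ := hpos
  obtain ⟨y, hy⟩ := hneg
  have hxy : x ≠ y := by
    rintro rfl
    omega
  have hx0 : x ≠ i₀ := by
    rintro rfl
    omega
  have hy0 : y ≠ i₀ := by
    rintro rfl
    omega
  refine ⟨x, y, hx0, hy0, hxy, ?_⟩
  have hbe : b = Pi.single x 1 - Pi.single y 1 := by
    funext z
    by_cases hzx : z = x
    · subst hzx
      simp [hx, hxy]
    by_cases hzy : z = y
    · subst hzy
      simp [hy, hzx]
    simp only [Pi.sub_apply, Pi.single_apply, hzx, hzy, if_false, sub_zero]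
    have h3 : ∑ i ∈ ({x, y, z} : Finset I), b i * b i ≤ ∑ i, b i * b i :=
      Finset.sum_le_sum_of_subset_of_nonneg (Finset.subset_univ _)
        (fun j _ _ => mul_self_nonneg _)
    rw [hb2, Finset.sum_insert (by simp [hxy, Ne.symm hzx]),
      Finset.sum_insert (by simpa using Ne.symm hzy), Finset.sum_singleton, hx, hy] at h3
    have : b z * b z ≤ 0 := by linarith
    nlinarith [mul_self_nonneg (b z)]
  have : a = b + Pi.single i₀ 1 := by simp [hb]
  rw [this, hbe]
  abel

/-- A generalized character of squared norm three, vanishing at `1` and containing the principal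
character exactly once, is `1 + χ - ψ`. -/
theorem decomp_three {G : Type*} [Group G] [Fintype G] {θ : G → ℂ}
    (hθ : IsGeneralizedCharacter G θ) (h3 : classInner θ θ = 3) (h1 : classInner θ 1 = 1)
    (h0 : θ 1 = 0) :
    ∃ χ ψ : G → ℂ, IsIrrCharacter G χ ∧ IsIrrCharacter G ψ ∧ χ ≠ 1 ∧ ψ ≠ 1 ∧ χ ≠ ψ ∧
      θ = 1 + χ - ψ := by
  classical
  have := finite_irr (G := G)
  have := Fintype.ofFinite (IrrCharacter G)
  obtain ⟨m, hm⟩ := isGeneralizedCharacter_iff.mp hθ
  let i₀ : IrrCharacter G := ⟨1, isIrr_one⟩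
  choose d hdpos hd using fun χ : IrrCharacter G => isIrr_apply_one χ.2
  have hm0 : m i₀ = 1 := by
    have h := classInner_sum_zsmul_irr m i₀
    rw [← hm] at h
    have h' : (m i₀ : ℂ) = 1 := by rw [← h]; exact h1
    exact_mod_cast h'
  have hm3 : ∑ i, m i * m i = 3 := by
    have h := classInner_sum_smul_sum_smul (fun ψ : IrrCharacter G => (m ψ : ℂ))
      (fun ψ => (m ψ : ℂ))
    simp only [Int.cast_smul_eq_zsmul] at h
    rw [← hm, h3] at h
    simp only [map_intCast] at h
    exact_mod_cast h.symm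
  have hmd : ∑ i, m i * (d i : ℤ) = 0 := by
    have h := congrFun hm 1
    rw [h0, Finset.sum_apply] at h
    simp only [Pi.smul_apply, zsmul_eq_mul] at h
    have h' : ((∑ i, m i * (d i : ℤ) : ℤ) : ℂ) = 0 := by
      rw [h]
      push_cast
      exact Finset.sum_congr rfl fun i _ => by rw [hd i]
    exact_mod_cast h'
  have hd0 : (d i₀ : ℤ) = 1 := by
    have h := hd i₀
    have h' : ((d i₀ : ℕ) : ℂ) = 1 := by rw [← h]; rfl
    exact_mod_cast h'
  obtain ⟨x, y, hx0, hy0, hxy, he⟩ := exists_three m (fun i => (d i : ℤ)) i₀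
    (fun i => by exact_mod_cast hdpos i) hd0 hm0 hm3 hmd
  refine ⟨x, y, x.2, y.2, fun h => hx0 (Subtype.ext h), fun h => hy0 (Subtype.ext h),
    fun h => hxy (Subtype.ext h), ?_⟩
  rw [hm, he]
  have key : ∀ z : IrrCharacter G,
      ∑ ψ : IrrCharacter G, (Pi.single z (1 : ℤ) : IrrCharacter G → ℤ) ψ • (ψ : G → ℂ) = z := by
    intro z
    rw [Finset.sum_eq_single z]
    · simp
    · intro b _ hb
      simp [hb]
    · simp
  simp only [Pi.add_apply, Pi.sub_apply, add_smul, sub_smul, Finset.sum_add_distrib,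
    Finset.sum_sub_distrib]
  rw [key, key, key]

/-! ### The set-up -/

section Setup

/-- `P` is a T.I. subgroup of odd order, has index two in `N = N(P)` and is inverted by the elements
of `N` outside `P`. -/
structure Hyp {G : Type*} [Group G] (P N : Subgroup G) : Prop where
  le : P ≤ N
  card : Nat.card N = 2 * Nat.card P
  odd : Odd (Nat.card P)
  ti : ∀ g : G, g ∉ N → ∀ x ∈ P, g * x * g⁻¹ ∈ P → x = 1
  inv : ∀ g ∈ N, g ∉ P → ∀ x ∈ P, g * x * g⁻¹ = x⁻¹

variable {G : Type*} [Group G] {P N : Subgroup G}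

theorem Hyp.exists_mem_diff [Finite G] (h : Hyp P N) : ∃ g ∈ N, g ∉ P := by
  by_contra hcon
  push Not at hcon
  have h1 : N ≤ P := hcon
  have h2 : N = P := le_antisymm h1 h.le
  have h3 := h.card
  rw [h2] at h3
  have : 0 < Nat.card P := Nat.card_pos
  omega

theorem Hyp.comm [Finite G] (h : Hyp P N) (x : G) (hx : x ∈ P) (y : G) (hy : y ∈ P) :
    x * y = y * x := by
  obtain ⟨g, hgN, hgP⟩ := h.exists_mem_diff
  have h1 := h.inv g hgN hgP (x * y) (P.mul_mem hx hy)
  have h2 : g * (x * y) * g⁻¹ = (g * x * g⁻¹) * (g * y * g⁻¹) := by group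
  rw [h2, h.inv g hgN hgP x hx, h.inv g hgN hgP y hy] at h1
  have h3 := congrArg (·⁻¹) h1
  simp only [mul_inv_rev, inv_inv] at h3
  exact h3.symm

theorem Hyp.conj_mem [Finite G] (h : Hyp P N) (g : G) (hg : g ∈ N) (x : G) (hx : x ∈ P) :
    g * x * g⁻¹ ∈ P := by
  by_cases hgP : g ∈ P
  · exact P.mul_mem (P.mul_mem hgP hx) (P.inv_mem hgP)
  · rw [h.inv g hg hgP x hx]
    exact P.inv_mem hx

theorem Hyp.eq_one_of_sq [Finite G] (h : Hyp P N) (x : G) (hx : x ∈ P) (h2 : x * x = 1) :
    x = 1 := by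
  have h3 : orderOf x ∣ 2 := orderOf_dvd_of_pow_eq_one (by rw [pow_two, h2])
  have h4 : orderOf x ∣ Nat.card P := by
    have := orderOf_dvd_natCard (⟨x, hx⟩ : P)
    rwa [Subgroup.orderOf_mk] at this
  have h5 : orderOf x ∣ 1 := by
    have hc : Nat.Coprime 2 (Nat.card P) := (Nat.coprime_two_left).2 h.odd
    rw [← hc]
    exact Nat.dvd_gcd h3 h4
  exact orderOf_eq_one_iff.1 (Nat.dvd_one.1 h5)

theorem Hyp.relIndex [Finite G] (h : Hyp P N) : (P.subgroupOf N).index = 2 := by
  have h1 : Nat.card (P.subgroupOf N) = Nat.card P :=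
    Nat.card_congr (Subgroup.subgroupOfEquivOfLe h.le).toEquiv
  have h2 := Subgroup.card_mul_index (P.subgroupOf N)
  rw [h1, h.card, mul_comm 2] at h2
  exact Nat.eq_of_mul_eq_mul_left Nat.card_pos h2

theorem Hyp.mul_mem_iff [Finite G] (h : Hyp P N) (a : G) (ha : a ∈ N) (b : G) (hb : b ∈ N) :
    a * b ∈ P ↔ (a ∈ P ↔ b ∈ P) := by
  have := Subgroup.mul_mem_iff_of_index_two h.relIndex (a := ⟨a, ha⟩) (b := ⟨b, hb⟩)
  simpa [Subgroup.mem_subgroupOf] using this

/-- The elements of `N` outside `P` are involutions. -/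
theorem Hyp.mul_self_eq_one [Finite G] (h : Hyp P N) (g : G) (hg : g ∈ N) (hgP : g ∉ P) :
    g * g = 1 := by
  have h1 : g * g ∈ P := (h.mul_mem_iff g hg g hg).2 Iff.rfl
  have h2 := h.inv g hg hgP _ h1
  have h3 : g * (g * g) * g⁻¹ = g * g := by group
  rw [h3] at h2
  apply h.eq_one_of_sq _ h1
  conv_lhs => lhs; rw [h2]
  simp

/-- The elements of `N` outside `P` are conjugate. -/
theorem Hyp.isConj [Finite G] (h : Hyp P N) (s t : G) (hs : s ∈ N) (hsP : s ∉ P) (ht : t ∈ N)
    (htP : t ∉ P) : IsConj s t := by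
  -- `t * s ∈ P` is a square `x * x`
  have h1 : t * s ∈ P := (h.mul_mem_iff t ht s hs).2 (by simp [hsP, htP])
  obtain ⟨k, hk⟩ := h.odd
  set x : G := (t * s) ^ (k + 1) with hx
  have hxP : x ∈ P := P.pow_mem h1 _
  have hxx : x * x = t * s := by
    rw [hx, ← pow_add]
    have : k + 1 + (k + 1) = Nat.card P + 1 := by omega
    rw [this, pow_succ]
    have h2 : (⟨t * s, h1⟩ : P) ^ Nat.card P = 1 := pow_card_eq_one'
    have h3 := congrArg Subtype.val h2
    simp only [Subgroup.coe_pow, Subgroup.coe_one] at h3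
    rw [h3, one_mul]
  rw [isConj_iff]
  refine ⟨x, ?_⟩
  have h4 : s * x * s⁻¹ = x⁻¹ := h.inv s hs hsP x hxP
  have h5 : s * x⁻¹ = x * s := by
    have : s * x⁻¹ * s⁻¹ = x := by
      have := congrArg (·⁻¹) h4
      simpa [mul_assoc] using this
    calc s * x⁻¹ = (s * x⁻¹ * s⁻¹) * s := by group
      _ = x * s := by rw [this]
  rw [mul_assoc, h5, ← mul_assoc, hxx, mul_assoc, h.mul_self_eq_one s hs hsP, mul_one]

/-- If the product of two involutions is a non-identity element of `P`, both are in `N`. -/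
theorem Hyp.mem_left (h : Hyp P N) (u v : G) (hu : u * u = 1) (hv : v * v = 1)
    (huv : u * v ∈ P) (hne : u * v ≠ 1) : u ∈ N := by
  by_contra hcon
  apply hne
  apply h.ti u hcon _ huv
  have hu' : u⁻¹ = u := inv_eq_of_mul_eq_one_left hu
  have hv' : v⁻¹ = v := inv_eq_of_mul_eq_one_left hv
  have : u * (u * v) * u⁻¹ = (u * v)⁻¹ := by
    rw [mul_inv_rev, hu', hv', ← mul_assoc, hu, one_mul]
  rw [this]
  exact P.inv_mem huv

theorem Hyp.mem_right (h : Hyp P N) (u v : G) (hu : u * u = 1) (hv : v * v = 1)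
    (huv : u * v ∈ P) (hne : u * v ≠ 1) : v ∈ N := by
  have h1 := h.mem_left u v hu hv huv hne
  have : v = u⁻¹ * (u * v) := by group
  rw [this]
  exact N.mul_mem (N.inv_mem h1) (h.le huv)

end Setup

/-! ### The generalized character -/

section Char

variable {G : Type*} [Group G] {P N : Subgroup G}

/-- The function `1 - λ` on `P`. -/
noncomputable def beta (lam : P →* ℂˣ) : P → ℂ := fun x => 1 - (lam x : ℂ)

theorem beta_apply (lam : P →* ℂˣ) (x : P) : beta lam x = 1 - (lam x : ℂ) := rfl

theorem beta_one (lam : P →* ℂˣ) : beta lam 1 = 0 := by simp [beta_apply]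

theorem sum_lam_eq_zero (lam : P →* ℂˣ) (h : lam ≠ 1) [Fintype P] :
    ∑ x : P, (lam x : ℂ) = 0 := by
  have h1 : (Units.coeHom ℂ).comp lam ≠ 1 := by
    intro h2
    apply h
    ext x
    have := DFunLike.congr_fun h2 x
    simpa using this
  exact sum_hom_units_eq_zero _ h1

theorem lam_inv (lam : P →* ℂˣ) (x : P) : (lam x⁻¹ : ℂ) = (lam x : ℂ)⁻¹ := by simp

theorem lam_sq_ne_one (h : Hyp P N) (lam : P →* ℂˣ) (hlam : lam ≠ 1) : lam ^ 2 ≠ 1 := by
  intro h2
  apply hlam
  obtain ⟨k, hk⟩ := h.odd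
  ext x
  have h3 : lam x ^ Nat.card P = 1 := by rw [← map_pow, pow_card_eq_one', map_one]
  have h4 : lam x ^ 2 = 1 := by
    have := DFunLike.congr_fun h2 x
    simpa using this
  rw [hk, pow_add, pow_mul, h4, one_pow, one_mul, pow_one] at h3
  rw [h3]; rfl

theorem lam_inv_ne_one (lam : P →* ℂˣ) (hlam : lam ≠ 1) : lam⁻¹ ≠ 1 := by
  intro h'
  apply hlam
  ext x
  have := DFunLike.congr_fun h' x
  simpa using this

theorem sum_beta (lam : P →* ℂˣ) (h : lam ≠ 1) [Fintype P] :
    ∑ x : P, beta lam x = Nat.card P := by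
  simp only [beta_apply, Finset.sum_sub_distrib, sum_lam_eq_zero lam h, sub_zero]
  simp

variable [Fintype G]

/-- The generalized character induced from `1 - λ`. -/
noncomputable def theta (lam : P →* ℂˣ) : G → ℂ := indFun P (beta lam)

theorem theta_def (lam : P →* ℂˣ) : theta (G := G) lam = indFun P (beta lam) := rfl

theorem isGeneralizedCharacter_theta (lam : P →* ℂˣ) :
    IsGeneralizedCharacter G (theta (G := G) lam) := by
  refine ⟨indFun P (1 : P → ℂ), indFun P (fun x => (lam x : ℂ)),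
    Cfsg.Agent.S0148.result P _ isCharacter_one,
    Cfsg.Agent.S0148.result P _ (Cfsg.Agent.Characters.Linear.isCharacter_hom lam), ?_⟩
  funext g
  rw [theta_def, Pi.sub_apply, Cfsg.Agent.CharactersDeep.NormalInd.indFun_apply,
    Cfsg.Agent.CharactersDeep.NormalInd.indFun_apply,
    Cfsg.Agent.CharactersDeep.NormalInd.indFun_apply, ← mul_sub, ← Finset.sum_sub_distrib]
  congr 1
  refine Finset.sum_congr rfl fun x _ => ?_
  by_cases hx : x⁻¹ * g * x ∈ P
  · rw [Cfsg.Agent.CharactersDeep.NormalInd.extendByZero_of_mem P _ hx,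
      Cfsg.Agent.CharactersDeep.NormalInd.extendByZero_of_mem P _ hx,
      Cfsg.Agent.CharactersDeep.NormalInd.extendByZero_of_mem P _ hx]
    rfl
  · rw [extendByZero_of_not_mem P _ hx, extendByZero_of_not_mem P _ hx,
      extendByZero_of_not_mem P _ hx, sub_zero]

theorem theta_one (lam : P →* ℂˣ) : theta (G := G) lam 1 = 0 := by
  rw [theta_def, indFun_one, beta_one, mul_zero]

theorem conj_lam (lam : P →* ℂˣ) (x : P) : conj (lam x : ℂ) = (lam x : ℂ)⁻¹ := by
  have h1 : (lam x : ℂ) ^ Nat.card P = 1 := by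
    have : lam x ^ Nat.card P = 1 := by rw [← map_pow, pow_card_eq_one', map_one]
    have := congrArg Units.val this
    simpa using this
  have h2 : ‖(lam x : ℂ)‖ = 1 := Complex.norm_eq_one_of_pow_eq_one h1 Nat.card_pos.ne'
  exact (Complex.inv_eq_conj h2).symm

theorem theta_coe (h : Hyp P N) (lam : P →* ℂˣ) (x : P) :
    theta (G := G) lam x = beta lam x + beta lam x⁻¹ := by
  classical
  have hP : (Nat.card P : ℂ) ≠ 0 := by exact_mod_cast Nat.card_pos.ne'
  rw [theta_def, Cfsg.Agent.CharactersDeep.NormalInd.indFun_apply]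
  have key : ∀ y : G, extendByZero P (beta lam) (y⁻¹ * x * y) =
      (if y ∈ P then (beta lam x - beta lam x⁻¹) else 0) + (if y ∈ N then beta lam x⁻¹ else 0) := by
    intro y
    by_cases hyP : y ∈ P
    · have e : y⁻¹ * (x : G) * y = x := by
        rw [mul_assoc, h.comm x x.2 y hyP, ← mul_assoc, inv_mul_cancel, one_mul]
      rw [if_pos hyP, if_pos (h.le hyP), e, extendByZero_coe]
      ring
    · rw [if_neg hyP, zero_add]
      by_cases hyN : y ∈ N
      · rw [if_pos hyN]
        have hyP' : y⁻¹ ∉ P := fun h' => hyP (by simpa using P.inv_mem h')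
        have e : y⁻¹ * (x : G) * y = ((x⁻¹ : P) : G) := by
          have := h.inv y⁻¹ (N.inv_mem hyN) hyP' x x.2
          rw [inv_inv] at this
          rw [this]; rfl
        rw [e, extendByZero_coe]
      · rw [if_neg hyN]
        by_cases hx : x = 1
        · subst hx
          have : y⁻¹ * ((1 : P) : G) * y = ((1 : P) : G) := by simp
          rw [this, extendByZero_coe, beta_one]
        · apply extendByZero_of_not_mem
          intro hmem
          apply hx
          have hyN' : y⁻¹ ∉ N := fun h' => hyN (by simpa using N.inv_mem h')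
          have := h.ti y⁻¹ hyN' x x.2 (by simpa using hmem)
          exact Subtype.ext this
  simp only [key, Finset.sum_add_distrib, Finset.sum_ite, Finset.sum_const_zero, add_zero,
    Finset.sum_const, nsmul_eq_mul]
  have c1 : ((Finset.univ.filter (fun y : G => y ∈ P)).card : ℂ) = Nat.card P := by
    rw [Nat.card_eq_fintype_card]
    norm_cast
    exact (Fintype.card_subtype _).symm
  have c2 : ((Finset.univ.filter (fun y : G => y ∈ N)).card : ℂ) = 2 * Nat.card P := by
    have : (Finset.univ.filter (fun y : G => y ∈ N)).card = Nat.card N := by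
      rw [Nat.card_eq_fintype_card]
      exact (Fintype.card_subtype _).symm
    rw [this, h.card]
    push_cast
    ring
  rw [c1, c2]
  field_simp
  ring

theorem classInner_theta (h : Hyp P N) (lam : P →* ℂˣ) (hlam : lam ≠ 1) :
    classInner (theta (G := G) lam) (theta lam) = 3 := by
  classical
  have hP : (Nat.card P : ℂ) ≠ 0 := by exact_mod_cast Nat.card_pos.ne'
  have hcf : IsClassFunction G (theta (G := G) lam) := indFun_isClassFunction P _
  conv_lhs => rw [theta_def]
  rw [classInner_indFun P (beta lam) (indFun P (beta lam)) hcf, classInner_def]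
  have key : ∀ x : P, beta lam x * conj (indFun P (beta lam) (x : G)) =
      3 - ((lam⁻¹) x : ℂ) - 3 * (lam x : ℂ) + ((lam ^ 2) x : ℂ) := by
    intro x
    have hx0 : (lam x : ℂ) ≠ 0 := (lam x).ne_zero
    have := theta_coe h lam x
    rw [theta_def] at this
    rw [this]
    simp only [beta_apply, map_add, map_sub, map_one, map_inv₀, conj_lam, lam_inv, inv_inv,
      MonoidHom.inv_apply, MonoidHom.pow_apply, Units.val_inv_eq_inv_val, Units.val_pow_eq_pow_val]
    field_simp
    ring
  rw [Finset.sum_congr rfl fun x _ => key x]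
  rw [Finset.sum_add_distrib, Finset.sum_sub_distrib, Finset.sum_sub_distrib, ← Finset.mul_sum,
    sum_lam_eq_zero lam hlam, sum_lam_eq_zero lam⁻¹ (lam_inv_ne_one lam hlam),
    sum_lam_eq_zero (lam ^ 2) (lam_sq_ne_one h lam hlam)]
  simp only [Finset.sum_const, Finset.card_univ, nsmul_eq_mul, ← Nat.card_eq_fintype_card]
  field_simp
  ring

theorem classInner_theta_one (lam : P →* ℂˣ) (hlam : lam ≠ 1) :
    classInner (theta (G := G) lam) 1 = 1 := by
  classical
  have hP : (Nat.card P : ℂ) ≠ 0 := by exact_mod_cast Nat.card_pos.ne'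
  rw [theta_def, classInner_indFun P (beta lam) 1 (fun _ _ => rfl), classInner_def]
  simp only [Pi.one_apply, map_one, mul_one]
  rw [sum_beta lam hlam, inv_mul_cancel₀ hP]

theorem theta_eq_zero (h : Hyp P N) (lam : P →* ℂˣ) (t : G) (ht : t * t = 1) (ht1 : t ≠ 1) :
    theta (G := G) lam t = 0 := by
  rw [theta_def, Cfsg.Agent.CharactersDeep.NormalInd.indFun_apply]
  rw [Finset.sum_eq_zero, mul_zero]
  intro x _
  apply extendByZero_of_not_mem
  intro hmem
  have h1 : x⁻¹ * t * x = 1 := by
    apply h.eq_one_of_sq _ hmem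
    have : x⁻¹ * t * x * (x⁻¹ * t * x) = x⁻¹ * (t * t) * x := by group
    rw [this, ht]
    group
  apply ht1
  have : t = x * (x⁻¹ * t * x) * x⁻¹ := by group
  rw [this, h1]
  group

/-- `Ind (1 - λ) = 1 + χ - ψ`. -/
theorem theta_decomp (h : Hyp P N) (lam : P →* ℂˣ) (hlam : lam ≠ 1) :
    ∃ χ ψ : G → ℂ, IsIrrCharacter G χ ∧ IsIrrCharacter G ψ ∧ χ ≠ 1 ∧ ψ ≠ 1 ∧ χ ≠ ψ ∧
      theta lam = 1 + χ - ψ :=
  decomp_three (isGeneralizedCharacter_theta lam) (classInner_theta h lam hlam)
    (classInner_theta_one lam hlam) (theta_one lam)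

/-! ### The counting sum -/

theorem sum_theta (lam : P →* ℂˣ) (t : G) :
    ∑ a : G, theta lam (a * t * a⁻¹ * t) = (Nat.card P : ℂ)⁻¹ *
      ∑ x : G, ∑ y : G, extendByZero P (beta lam) ((y * t * y⁻¹) * (x * t * x⁻¹)) := by
  simp only [theta_def, Cfsg.Agent.CharactersDeep.NormalInd.indFun_apply]
  rw [← Finset.mul_sum, Finset.sum_comm]
  congr 1
  refine Fintype.sum_equiv (Equiv.inv G) _ _ fun x => ?_
  refine Fintype.sum_equiv (Equiv.mulLeft x⁻¹) _ _ fun a => ?_
  simp only [Equiv.inv_apply, Equiv.coe_mulLeft]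
  congr 1
  group

open scoped Classical in
theorem sum_conj_class (h : Hyp P N) (lam : P →* ℂˣ) (hlam : lam ≠ 1) (t : G) (htN : t ∈ N)
    (htP : t ∉ P) :
    ∑ u with IsConj t u, ∑ v with IsConj t v, extendByZero P (beta lam) (v * u) =
      (Nat.card P : ℂ) ^ 2 := by
  have ht : t * t = 1 := h.mul_self_eq_one t htN htP
  have ht1 : t ≠ 1 := fun h1 => htP (h1 ▸ P.one_mem)
  have hsq : ∀ u, IsConj t u → u * u = 1 := by
    intro u hu
    obtain ⟨c, rfl⟩ := isConj_iff.1 hu
    have : c * t * c⁻¹ * (c * t * c⁻¹) = c * (t * t) * c⁻¹ := by group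
    rw [this, ht]; group
  have hnP : ∀ u, IsConj t u → u ∉ P := by
    intro u hu hP
    have h1 := h.eq_one_of_sq u hP (hsq u hu)
    rw [h1] at hu
    exact ht1 (isConj_one_right.1 hu.symm)
  have inner : ∀ u ∈ Finset.univ.filter (IsConj t),
      ∑ v with IsConj t v, extendByZero P (beta lam) (v * u) =
        if u ∈ N then (Nat.card P : ℂ) else 0 := by
    intro u hu
    have hu' : IsConj t u := (Finset.mem_filter.1 hu).2
    by_cases huN : u ∈ N
    · rw [if_pos huN, Finset.sum_filter]
      have e1 : ∀ v : G, (if IsConj t v then extendByZero P (beta lam) (v * u) else 0) =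
          extendByZero P (beta lam) (v * u) := by
        intro v
        by_cases hv : IsConj t v
        · rw [if_pos hv]
        · rw [if_neg hv]
          symm
          apply extendByZero_of_not_mem
          intro hmem
          apply hv
          have hvN : v ∈ N := by
            have : v = v * u * u⁻¹ := by group
            rw [this]
            exact N.mul_mem (h.le hmem) (N.inv_mem huN)
          have hvP : v ∉ P := by
            intro hvP
            apply hnP u hu'
            have : u = v⁻¹ * (v * u) := by group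
            rw [this]
            exact P.mul_mem (P.inv_mem hvP) hmem
          exact h.isConj t v htN htP hvN hvP
      rw [Finset.sum_congr rfl fun v _ => e1 v]
      rw [Fintype.sum_equiv (Equiv.mulRight u) (fun v => extendByZero P (beta lam) (v * u))
        (fun v => extendByZero P (beta lam) v) (fun v => rfl)]
      rw [sum_extendByZero, sum_beta lam hlam]
    · rw [if_neg huN]
      apply Finset.sum_eq_zero
      intro v hv
      have hv' : IsConj t v := (Finset.mem_filter.1 hv).2
      by_cases h1 : v * u = 1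
      · rw [h1, Cfsg.Agent.CharactersDeep.NormalInd.extendByZero_of_mem P _ P.one_mem]
        exact beta_one lam
      · apply extendByZero_of_not_mem
        intro hmem
        exact huN (h.mem_right v u (hsq v hv') (hsq u hu') hmem h1)
  rw [Finset.sum_congr rfl inner, Finset.sum_ite, Finset.sum_const_zero, add_zero,
    Finset.sum_const, nsmul_eq_mul, pow_two]
  congr 1
  have e2 : Finset.filter (fun u => u ∈ N) (Finset.filter (IsConj t) Finset.univ) =
      Finset.univ.filter (fun u => u ∈ N) \ Finset.univ.filter (fun u => u ∈ P) := by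
    ext u
    simp only [Finset.mem_filter, Finset.mem_univ, true_and, Finset.mem_sdiff]
    constructor
    · rintro ⟨h1, h2⟩
      exact ⟨h2, hnP u h1⟩
    · rintro ⟨h1, h2⟩
      exact ⟨h.isConj t u htN htP h1 h2, h1⟩
  have e3 : (Finset.univ.filter (fun u : G => u ∈ N)).card = Nat.card N := by
    rw [Nat.card_eq_fintype_card]
    exact (Fintype.card_subtype _).symm
  have e4 : (Finset.univ.filter (fun u : G => u ∈ P)).card = Nat.card P := by
    rw [Nat.card_eq_fintype_card]
    exact (Fintype.card_subtype _).symm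
  rw [e2, Finset.card_sdiff_of_subset, e3, e4, h.card]
  · congr 1
    omega
  · intro u hu
    rw [Finset.mem_filter] at hu ⊢
    exact ⟨hu.1, h.le hu.2⟩

/-- The number of products: the case of an involution in `N`. -/
theorem sum_theta_of_mem (h : Hyp P N) (lam : P →* ℂˣ) (hlam : lam ≠ 1) (t : G) (htN : t ∈ N)
    (htP : t ∉ P) :
    ∑ a : G, theta lam (a * t * a⁻¹ * t) = (Nat.card P : ℂ) *
      (Nat.card (Subgroup.centralizer ({t} : Set G)) : ℂ) ^ 2 := by
  classical
  have hP : (Nat.card P : ℂ) ≠ 0 := by exact_mod_cast Nat.card_pos.ne'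
  rw [sum_theta]
  have e1 : ∀ x : G, ∑ y : G, extendByZero P (beta lam) ((y * t * y⁻¹) * (x * t * x⁻¹)) =
      Nat.card (Subgroup.centralizer ({t} : Set G)) •
        ∑ v with IsConj t v, extendByZero P (beta lam) (v * (x * t * x⁻¹)) := fun x =>
    Cfsg.Agent.Characters.ClassMul.sum_conj_eq_smul
      (fun v => extendByZero P (beta lam) (v * (x * t * x⁻¹))) t
  rw [Finset.sum_congr rfl fun x _ => e1 x, ← Finset.smul_sum]
  have e2 := Cfsg.Agent.Characters.ClassMul.sum_conj_eq_smul
      (fun u => ∑ v with IsConj t v, extendByZero P (beta lam) (v * u)) t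
  rw [e2, sum_conj_class h lam hlam t htN htP, nsmul_eq_mul, nsmul_eq_mul]
  field_simp

/-- The number of products: the case of an involution not conjugate into `N`. -/
theorem sum_theta_of_forall_notMem (h : Hyp P N) (lam : P →* ℂˣ) (t : G) (ht : t * t = 1)
    (hN : ∀ g : G, g * t * g⁻¹ ∉ N) :
    ∑ a : G, theta lam (a * t * a⁻¹ * t) = 0 := by
  rw [sum_theta, Finset.sum_eq_zero, mul_zero]
  intro x _
  apply Finset.sum_eq_zero
  intro y _
  have hsq : ∀ c : G, c * t * c⁻¹ * (c * t * c⁻¹) = 1 := by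
    intro c
    have : c * t * c⁻¹ * (c * t * c⁻¹) = c * (t * t) * c⁻¹ := by group
    rw [this, ht]; group
  by_cases h1 : (y * t * y⁻¹) * (x * t * x⁻¹) = 1
  · rw [h1, Cfsg.Agent.CharactersDeep.NormalInd.extendByZero_of_mem P _ P.one_mem]
    exact beta_one lam
  · apply extendByZero_of_not_mem
    intro hmem
    exact hN y (h.mem_left _ _ (hsq y) (hsq x) hmem h1)

/-- The character side of the count. -/
theorem sum_theta_eq (lam : P →* ℂˣ) {χ ψ : G → ℂ} (hχ : IsIrrCharacter G χ)
    (hψ : IsIrrCharacter G ψ) (hdec : theta lam = 1 + χ - ψ) (t : G) :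
    ∑ a : G, theta lam (a * t * a⁻¹ * t) =
      (Nat.card G : ℂ) * (1 + χ t ^ 2 / χ 1 - ψ t ^ 2 / ψ 1) := by
  rw [hdec]
  simp only [Pi.add_apply, Pi.sub_apply, Pi.one_apply, Finset.sum_add_distrib,
    Finset.sum_sub_distrib]
  rw [Cfsg.Agent.Characters.Central.sum_char_conj_mul hχ,
    Cfsg.Agent.Characters.Central.sum_char_conj_mul hψ]
  simp only [Finset.sum_const, Finset.card_univ, nsmul_eq_mul, ← Nat.card_eq_fintype_card]
  ring

/-- The main formula. -/
theorem main_formula (h : Hyp P N) (lam : P →* ℂˣ) (hlam : lam ≠ 1) {χ ψ : G → ℂ}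
    (hχ : IsIrrCharacter G χ) (hψ : IsIrrCharacter G ψ) (hdec : theta lam = 1 + χ - ψ) (t : G)
    (ht : t * t = 1) (ht1 : t ≠ 1) :
    ((Nat.card P : ℂ) * (Nat.card (Subgroup.centralizer ({t} : Set G)) : ℂ) ^ 2 *
      (χ 1 * (χ 1 + 1)) = (Nat.card G : ℂ) * (χ 1 - χ t) ^ 2) ∨
    ((∀ g : G, g * t * g⁻¹ ∉ N) ∧ χ 1 = χ t) := by
  have hG : (Nat.card G : ℂ) ≠ 0 := by exact_mod_cast Nat.card_pos.ne'
  have hχ1 : χ 1 ≠ 0 := isIrr_apply_one_ne_zero hχ
  have hψ1 : ψ 1 ≠ 0 := isIrr_apply_one_ne_zero hψ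
  have hd1 : ψ 1 = 1 + χ 1 := by
    have := congrFun hdec 1
    rw [theta_one] at this
    simp only [Pi.add_apply, Pi.sub_apply, Pi.one_apply] at this
    linear_combination this
  have hdt : ψ t = 1 + χ t := by
    have := congrFun hdec t
    rw [theta_eq_zero h lam t ht ht1] at this
    simp only [Pi.add_apply, Pi.sub_apply, Pi.one_apply] at this
    linear_combination this
  have hs := sum_theta_eq lam hχ hψ hdec t
  rw [hdt, hd1] at hs
  rw [hd1] at hψ1
  have key : (1 + χ t ^ 2 / χ 1 - (1 + χ t) ^ 2 / (1 + χ 1)) * (χ 1 * (χ 1 + 1)) =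
      (χ 1 - χ t) ^ 2 := by
    field_simp
    ring
  by_cases hcase : ∀ g : G, g * t * g⁻¹ ∉ N
  · right
    refine ⟨hcase, ?_⟩
    rw [sum_theta_of_forall_notMem h lam t ht hcase] at hs
    have h0 : (1 + χ t ^ 2 / χ 1 - (1 + χ t) ^ 2 / (1 + χ 1)) = 0 := by
      rcases mul_eq_zero.1 hs.symm with h' | h'
      · exact absurd h' hG
      · exact h'
    rw [h0, zero_mul] at key
    have := pow_eq_zero_iff (two_ne_zero) |>.1 key.symm
    linear_combination this
  · left
    push Not at hcase
    obtain ⟨g, hg⟩ := hcase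
    set s := g * t * g⁻¹ with hs'
    have hsts : IsConj t s := isConj_iff.2 ⟨g, rfl⟩
    have hss : s * s = 1 := by
      have : s * s = g * (t * t) * g⁻¹ := by rw [hs']; group
      rw [this, ht]; group
    have hsP : s ∉ P := by
      intro hsP
      have h1 := h.eq_one_of_sq s hsP hss
      rw [h1] at hsts
      exact ht1 (isConj_one_right.1 hsts.symm)
    have h1 := sum_theta_of_mem h lam hlam s hg hsP
    have h2 := sum_theta_eq lam hχ hψ hdec s
    have hχs : χ s = χ t := (classFunction_apply_eq (isIrr_isClassFunction hχ) hsts).symm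
    have hψs : ψ s = ψ t := (classFunction_apply_eq (isIrr_isClassFunction hψ) hsts).symm
    have hcard : Nat.card (Subgroup.centralizer ({s} : Set G)) =
        Nat.card (Subgroup.centralizer ({t} : Set G)) := by
      rw [← Cfsg.Agent.Characters.ClassMul.card_fiber_conj s s (IsConj.refl s),
        ← Cfsg.Agent.Characters.ClassMul.card_fiber_conj t s hsts]
      have e1 : ∀ b : G, b * g * t * (b * g)⁻¹ = b * s * b⁻¹ := by intro b; rw [hs']; group
      have e2 : ∀ b : G, b * g⁻¹ * s * (b * g⁻¹)⁻¹ = b * t * b⁻¹ := by intro b; rw [hs']; group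
      exact Nat.card_congr ⟨fun a => ⟨a.1 * g, (e1 a.1).trans a.2⟩,
        fun a => ⟨a.1 * g⁻¹, (e2 a.1).trans a.2⟩, fun a => by simp, fun a => by simp⟩
    rw [h1, hχs, hψs, hd1, hdt, hcard] at h2
    rw [h2, mul_assoc, key]

end Char

end Cfsg.Agent.SmallSimple.DihedralNormalizerCore
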