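import Mathlib
import Cfsg.Agent.SmallSimple.DihedralNormalizerCore

/-!
# Simple groups with a self-centralizing subgroup with dihedral normalizer

See `exists_degree_eq` and `card_centralizer_sq_lt`.
-/

set_option autoImplicit false

open scoped ComplexConjugate
open Cfsg

namespace Cfsg.Agent.SmallSimple.DihedralNormalizerSimple

open Cfsg.Agent.Characters.Core Cfsg.Agent.SmallSimple.DihedralNormalizerCore

/-! ### Character values on involutions -/

/-- A finite family of signs: sum and product. -/
theorem multiset_signs (s : Multiset ℂ) (hs : ∀ z ∈ s, z ^ 2 = 1) :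
    ∃ m : ℕ, m ≤ Multiset.card s ∧ s.sum = (Multiset.card s : ℂ) - 2 * m ∧ s.prod = (-1) ^ m := by
  induction s using Multiset.induction_on with
  | empty => exact ⟨0, le_rfl, by simp, by simp⟩
  | cons a s ih =>
    obtain ⟨m, hm, hsum, hprod⟩ := ih fun z hz => hs z (Multiset.mem_cons_of_mem hz)
    have ha := hs a (Multiset.mem_cons_self a s)
    rcases (show a = 1 ∨ a = -1 from by simpa using ha) with rfl | rfl
    · refine ⟨m, by rw [Multiset.card_cons]; omega, ?_, ?_⟩
      · rw [Multiset.sum_cons, hsum, Multiset.card_cons]; push_cast; ring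
      · rw [Multiset.prod_cons, hprod, one_mul]
    · refine ⟨m + 1, by rw [Multiset.card_cons]; omega, ?_, ?_⟩
      · rw [Multiset.sum_cons, hsum, Multiset.card_cons]; push_cast; ring
      · rw [Multiset.prod_cons, hprod, pow_succ]; ring

/-- A character value at an involution. -/
theorem exists_of_involution {G : Type*} [Group G] {n : ℕ}
    (ρ : Representation ℂ G (Fin n → ℂ)) (t : G) (ht : t * t = 1) :
    ∃ m : ℕ, m ≤ n ∧ ρ.character t = (n : ℂ) - 2 * m ∧ LinearMap.det (ρ t) = (-1) ^ m := by
  have h2 : (ρ t) ^ 2 = 1 := by rw [← map_pow, pow_two, ht, map_one]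
  obtain ⟨m, hm, hsum, hprod⟩ := multiset_signs (ρ t).charpoly.roots fun z hz =>
    Cfsg.Agent.Characters.Values.pow_eq_one_of_mem_roots h2 hz
  rw [Cfsg.Agent.Characters.Values.card_roots_charpoly] at hm hsum
  simp only [Module.finrank_fintype_fun_eq_card, Fintype.card_fin] at hm hsum
  refine ⟨m, hm, ?_, ?_⟩
  · rw [Cfsg.Agent.Characters.Values.character_eq_sum_roots, hsum]
  · rw [Module.End.det_eq_prod_roots_charpoly_of_splits (IsAlgClosed.splits _), hprod]

section Simple

variable {G : Type*} [Group G] [Finite G] [IsSimpleGroup G] {P N : Subgroup G}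

omit [IsSimpleGroup G] in
theorem exists_hom_ne_one (h : Hyp P N) (h1 : 1 < Nat.card P) : ∃ lam : P →* ℂˣ, lam ≠ 1 := by
  let _ : CommGroup P := { (inferInstance : Group P) with
    mul_comm := fun a b => Subtype.ext (h.comm a a.2 b b.2) }
  have : Nontrivial P := Finite.one_lt_card_iff_nontrivial.1 h1
  obtain ⟨x, hx⟩ := exists_ne (1 : P)
  obtain ⟨φ, hφ⟩ := CommGroup.exists_apply_ne_one_of_hasEnoughRootsOfUnity P ℂ hx
  exact ⟨φ, fun h2 => hφ (by rw [h2]; rfl)⟩

omit [IsSimpleGroup G] in
theorem not_comm (h : Hyp P N) (h1 : 1 < Nat.card P) : ¬ ∀ a b : G, a * b = b * a := by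
  intro hcomm
  obtain ⟨g, hgN, hgP⟩ := h.exists_mem_diff
  have : Nontrivial P := Finite.one_lt_card_iff_nontrivial.1 h1
  obtain ⟨x, hx⟩ := exists_ne (1 : P)
  apply hx
  have h2 := h.inv g hgN hgP x x.2
  rw [hcomm g x, mul_inv_cancel_right] at h2
  apply Subtype.ext
  apply h.eq_one_of_sq _ x.2
  conv_lhs => lhs; rw [h2]
  simp

omit [Finite G] in
/-- A homomorphism from a non-abelian simple group to a commutative group is trivial. -/
theorem hom_comm_eq_one (hna : ¬ ∀ a b : G, a * b = b * a) {A : Type*} [CommGroup A]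
    (f : G →* A) : f = 1 := by
  rcases IsSimpleGroup.eq_bot_or_eq_top_of_normal f.ker inferInstance with h | h
  · exfalso
    apply hna
    intro a b
    apply (f.ker_eq_bot_iff.1 h)
    rw [map_mul, map_mul, mul_comm]
  · ext x
    have : x ∈ f.ker := h ▸ Subgroup.mem_top x
    exact this

omit [Finite G] in
theorem comm_of_mem_center {t : G} (ht1 : t ≠ 1) (ht : ∀ g : G, g * t = t * g) :
    ∀ a b : G, a * b = b * a := by
  have h1 : t ∈ Subgroup.center G := Subgroup.mem_center_iff.2 ht
  rcases IsSimpleGroup.eq_bot_or_eq_top_of_normal (Subgroup.center G) inferInstance with h | h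
  · exact absurd (by rw [h] at h1; exact Subgroup.mem_bot.1 h1) ht1
  · intro a b
    have : b ∈ Subgroup.center G := h ▸ Subgroup.mem_top b
    exact (Subgroup.mem_center_iff.1 this a)

/-- A nonprincipal irreducible character of a finite simple group is faithful. -/
theorem ker_eq_bot {n : ℕ} (ρ : Representation ℂ G (Fin n → ℂ))
    (hirr : IsIrrCharacter G ρ.character) (h1 : ρ.character ≠ 1) (g : G) (hg : ρ g = 1) :
    g = 1 := by
  have := Fintype.ofFinite G
  rcases IsSimpleGroup.eq_bot_or_eq_top_of_normal (MonoidHom.ker ρ) inferInstance with h | h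
  · have : g ∈ MonoidHom.ker ρ := hg
    rw [h] at this
    exact Subgroup.mem_bot.1 this
  · exfalso
    have h2 : ∀ x, ρ.character x = n := by
      intro x
      have : x ∈ MonoidHom.ker ρ := h ▸ Subgroup.mem_top x
      have h3 : ρ x = 1 := this
      have h4 : ρ.character x = LinearMap.trace ℂ _ (ρ x) := rfl
      rw [h4, h3, LinearMap.trace_one]
      simp
    obtain ⟨k, hk, hk1⟩ := isIrr_apply_one hirr
    have h5 := classInner_irr_ne hirr isIrr_one h1
    rw [classInner_def] at h5
    simp only [h2, Pi.one_apply, map_one, mul_one, Finset.sum_const, Finset.card_univ,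
      nsmul_eq_mul, ← Nat.card_eq_fintype_card] at h5
    rw [← mul_assoc, inv_mul_cancel₀ card_ne_zero_complex, one_mul] at h5
    rw [h2, h5] at hk1
    have : (k : ℂ) = 0 := hk1.symm
    have : k = 0 := by exact_mod_cast this
    omega

/-- **Main result.** Let `P` be a T.I. subgroup of odd order `> 1` of a finite simple group `G` which
has index two in its normalizer `N` and is inverted by the elements of `N` outside `P`. For every
involution `t` there are natural numbers `f` (the degree of an irreducible character) and `m` (the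
multiplicity of the eigenvalue `-1` of `t`) as follows. Every involution is conjugate into `N`. -/
theorem exists_degree_eq' (h : Hyp P N) (h1 : 1 < Nat.card P) (t : G) (ht : orderOf t = 2) :
    (∃ g : G, g * t * g⁻¹ ∈ N) ∧
    ∃ f m : ℕ, 1 < f ∧ 0 < m ∧ m < f ∧ Even m ∧ f ∣ Nat.card G ∧ f + 1 ∣ Nat.card G ∧
      f ^ 2 + (f + 1) ^ 2 < Nat.card G ∧
      Nat.card P * Nat.card (Subgroup.centralizer ({t} : Set G)) ^ 2 * (f * (f + 1)) =
        4 * m ^ 2 * Nat.card G := by
  classical
  have := Fintype.ofFinite G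
  have hna := not_comm h h1
  have ht1 : t ≠ 1 := by
    rintro rfl
    rw [orderOf_one] at ht
    omega
  have htt : t * t = 1 := by rw [← pow_two, ← ht, pow_orderOf_eq_one]
  obtain ⟨lam, hlam⟩ := exists_hom_ne_one h h1
  obtain ⟨χ, ψ, hχ, hψ, hχ1, hψ1, hχψ, hdec⟩ := theta_decomp h lam hlam
  have hmain := main_formula h lam hlam hχ hψ hdec t htt ht1
  have hd1 : ψ 1 = 1 + χ 1 := by
    have := congrFun hdec 1
    rw [theta_one] at this
    simp only [Pi.add_apply, Pi.sub_apply, Pi.one_apply] at this
    linear_combination this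
  -- degrees divide
  obtain ⟨f, ρ, hρ, hρχ⟩ := id hχ
  obtain ⟨e, σ, hσ, hσψ⟩ := id hψ
  have hχf : χ 1 = f := by rw [← hρχ]; simp
  have hψe : ψ 1 = e := by rw [← hσψ]; simp
  have hef : e = f + 1 := by
    have : (e : ℂ) = f + 1 := by rw [← hψe, hd1, hχf]; ring
    exact_mod_cast this
  have hfdvd : f ∣ Nat.card G := by
    have := Cfsg.Agent.S0135.result ρ
    simpa using this
  have hedvd : f + 1 ∣ Nat.card G := by
    have := Cfsg.Agent.S0135.result σ
    rw [← hef]
    simpa using this
  -- value at `t`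
  obtain ⟨m, hmf, hmt, hmdet⟩ := exists_of_involution ρ t htt
  have hχt : χ t = f - 2 * m := by rw [← hρχ, hmt]
  have hirrρ : IsIrrCharacter G ρ.character := by rw [hρχ]; exact hχ
  have hρ1 : ρ.character ≠ 1 := by rw [hρχ]; exact hχ1
  have hm0 : 0 < m := by
    rcases Nat.eq_zero_or_pos m with h0 | h0
    · exfalso
      apply ht1
      apply ker_eq_bot ρ hirrρ hρ1
      have h2 := (Cfsg.Agent.Characters.Values.character_eq_finrank_iff ρ t).1
        (by rw [hmt, h0]; simp)
      exact h2
    · exact h0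
  have hmlt : m < f := by
    rcases Nat.lt_or_ge m f with h0 | h0
    · exact h0
    · exfalso
      have hmf' : m = f := le_antisymm hmf h0
      have h2 : ‖ρ.character t‖ = (Module.finrank ℂ (Fin f → ℂ) : ℝ) := by
        rw [hmt, hmf']
        have : (f : ℂ) - 2 * f = -(f : ℂ) := by ring
        rw [this, norm_neg]
        simp
      obtain ⟨w, hw⟩ := (Cfsg.Agent.Characters.Values.norm_character_eq_iff ρ t).1 h2
      apply hna
      apply comm_of_mem_center ht1
      intro g
      have h3 : ρ (g * t * g⁻¹ * t⁻¹) = 1 := by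
        have hc : ρ g * ρ t = ρ t * ρ g := by
          rw [hw]
          ext x
          simp
        rw [map_mul, map_mul, map_mul, hc, mul_assoc (ρ t), ← map_mul ρ g, mul_inv_cancel, map_one,
          mul_one, ← map_mul, mul_inv_cancel, map_one]
      have h4 := ker_eq_bot ρ hirrρ hρ1 _ h3
      have h5 : g * t = (g * t * g⁻¹ * t⁻¹) * (t * g) := by group
      rw [h4, one_mul] at h5
      exact h5
  have hf1 : 1 < f := by omega
  have heven : Even m := by
    have h2 : ((LinearMap.det : Module.End ℂ (Fin f → ℂ) →* ℂ).comp ρ).toHomUnits = 1 :=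
      hom_comm_eq_one hna _
    have h3 := congrArg Units.val (DFunLike.congr_fun h2 t)
    rw [MonoidHom.coe_toHomUnits] at h3
    have h4 : LinearMap.det (ρ t) = 1 := h3
    rw [hmdet] at h4
    by_contra hodd
    rw [Nat.not_even_iff_odd] at hodd
    rw [hodd.neg_one_pow] at h4
    norm_num at h4
  have hsq : f ^ 2 + (f + 1) ^ 2 < Nat.card G := by
    have := finite_irr (G := G)
    have := Fintype.ofFinite (IrrCharacter G)
    have h2 := Cfsg.Agent.Characters.Counting.sum_irr_one_mul (G := G) 1
    rw [if_pos rfl] at h2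
    choose d hdpos hd using fun χ : IrrCharacter G => isIrr_apply_one χ.2
    have h3 : ∑ χ : IrrCharacter G, d χ * d χ = Nat.card G := by
      have : ((∑ χ : IrrCharacter G, d χ * d χ : ℕ) : ℂ) = (Nat.card G : ℂ) := by
        rw [← h2]
        push_cast
        exact Finset.sum_congr rfl fun i _ => by rw [hd i]
      exact_mod_cast this
    let i₀ : IrrCharacter G := ⟨1, isIrr_one⟩
    let i₁ : IrrCharacter G := ⟨χ, hχ⟩
    let i₂ : IrrCharacter G := ⟨ψ, hψ⟩
    have h01 : i₀ ≠ i₁ := fun h' => hχ1 (congrArg Subtype.val h').symm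
    have h02 : i₀ ≠ i₂ := fun h' => hψ1 (congrArg Subtype.val h').symm
    have h12 : i₁ ≠ i₂ := fun h' => hχψ (congrArg Subtype.val h')
    have hd1' : d i₁ = f := by
      have : (d i₁ : ℂ) = f := by rw [← hd i₁]; exact hχf
      exact_mod_cast this
    have hd2' : d i₂ = f + 1 := by
      have : (d i₂ : ℂ) = e := by rw [← hd i₂]; exact hψe
      rw [← hef]
      exact_mod_cast this
    have h4 : ∑ χ ∈ ({i₀, i₁, i₂} : Finset (IrrCharacter G)), d χ * d χ ≤
        ∑ χ : IrrCharacter G, d χ * d χ :=
      Finset.sum_le_sum_of_subset (Finset.subset_univ _)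
    rw [h3, Finset.sum_insert (by simp [h01, h02]), Finset.sum_insert (by simp [h12]),
      Finset.sum_singleton, hd1', hd2'] at h4
    have := hdpos i₀
    nlinarith
  rcases hmain with hmain | hmain
  · constructor
    · by_contra hcon
      push Not at hcon
      have hs := sum_theta_of_forall_notMem h lam t htt hcon
      have hs2 := sum_theta_eq lam hχ hψ hdec t
      have hG : (Nat.card G : ℂ) ≠ 0 := by exact_mod_cast Nat.card_pos.ne'
      have hc : (Nat.card (Subgroup.centralizer ({t} : Set G)) : ℂ) ≠ 0 := by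
        exact_mod_cast Nat.card_pos.ne'
      have hP : (Nat.card P : ℂ) ≠ 0 := by exact_mod_cast Nat.card_pos.ne'
      have hdt : ψ t = 1 + χ t := by
        have := congrFun hdec t
        rw [theta_eq_zero h lam t htt ht1] at this
        simp only [Pi.add_apply, Pi.sub_apply, Pi.one_apply] at this
        linear_combination this
      have hχ0 : χ 1 ≠ 0 := isIrr_apply_one_ne_zero hχ
      have hψ0 : ψ 1 ≠ 0 := isIrr_apply_one_ne_zero hψ
      rw [hs, hdt, hd1] at hs2
      rw [hd1] at hψ0
      have h0 : (1 + χ t ^ 2 / χ 1 - (1 + χ t) ^ 2 / (1 + χ 1)) = 0 := by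
        rcases mul_eq_zero.1 hs2.symm with h' | h'
        · exact absurd h' hG
        · exact h'
      have key : (1 + χ t ^ 2 / χ 1 - (1 + χ t) ^ 2 / (1 + χ 1)) * (χ 1 * (χ 1 + 1)) =
          (χ 1 - χ t) ^ 2 := by
        field_simp
        ring
      rw [h0, zero_mul] at key
      rw [← key, mul_zero] at hmain
      have h6 : χ 1 + 1 ≠ 0 := by rwa [add_comm] at hψ0
      exact (mul_ne_zero (mul_ne_zero hP (pow_ne_zero 2 hc)) (mul_ne_zero hχ0 h6)) hmain
    · refine ⟨f, m, hf1, hm0, hmlt, heven, hfdvd, hedvd, hsq, ?_⟩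
      rw [hχt, hχf] at hmain
      have h2 : (f : ℂ) - (f - 2 * m) = 2 * m := by ring
      rw [h2] at hmain
      have h3 : ((Nat.card P * Nat.card (Subgroup.centralizer ({t} : Set G)) ^ 2 * (f * (f + 1)) :
          ℕ) : ℂ) = ((4 * m ^ 2 * Nat.card G : ℕ) : ℂ) := by
        push_cast
        rw [hmain]
        ring
      exact_mod_cast h3
  · exfalso
    have h2 := hmain.2
    rw [hχt, hχf] at h2
    have h3 : (m : ℂ) = 0 := by linear_combination (1 / 2 : ℂ) * h2
    have : m = 0 := by exact_mod_cast h3
    omega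

theorem card_centralizer_sq_lt' (h : Hyp P N) (h1 : 1 < Nat.card P) (t : G)
    (ht : orderOf t = 2) :
    Nat.card P * Nat.card (Subgroup.centralizer ({t} : Set G)) ^ 2 < 4 * Nat.card G := by
  obtain ⟨-, f, m, hf1, hm0, hmf, -, -, -, -, he⟩ := exists_degree_eq' h h1 t ht
  by_contra hcon
  push Not at hcon
  have hG : 0 < Nat.card G := Nat.card_pos
  have h2 : 4 * Nat.card G * (f * (f + 1)) ≤ 4 * m ^ 2 * Nat.card G := by
    rw [← he]
    exact Nat.mul_le_mul_right _ hcon
  have h3 : m ^ 2 < f * (f + 1) := by nlinarith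
  nlinarith [Nat.mul_lt_mul_of_pos_left h3 (by omega : 0 < 4 * Nat.card G)]

end Simple

/-! ### The case of prime order -/

/-- A self-centralizing subgroup of odd prime order which has index two in its normalizer. -/
theorem hyp_of_prime {G : Type*} [Group G] [Finite G] {p : ℕ} [Fact p.Prime] (hp2 : p ≠ 2)
    (P : Subgroup G) (hP : Nat.card P = p)
    (hC : Subgroup.centralizer (P : Set G) = P)
    (hN : Nat.card (Subgroup.normalizer (P : Set G)) = 2 * p) :
    Hyp P (Subgroup.normalizer (P : Set G)) := by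
  have hp : p.Prime := Fact.out
  have hord : ∀ x ∈ P, x ≠ 1 → orderOf x = p := by
    intro x hx hx1
    have h1 : orderOf x ∣ p := by
      have := orderOf_dvd_natCard (⟨x, hx⟩ : P)
      rwa [Subgroup.orderOf_mk, hP] at this
    rcases (Nat.dvd_prime hp).1 h1 with h | h
    · exact absurd (orderOf_eq_one_iff.1 h) hx1
    · exact h
  have hgen : ∀ x ∈ P, x ≠ 1 → Subgroup.zpowers x = P := by
    intro x hx hx1
    apply Subgroup.eq_of_le_of_card_ge (Subgroup.zpowers_le.2 hx)
    rw [Nat.card_zpowers, hord x hx hx1, hP]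
  have hcomm : ∀ x ∈ P, ∀ y ∈ P, x * y = y * x := by
    intro x hx y hy
    have h1 : x ∈ Subgroup.centralizer (P : Set G) := by rw [hC]; exact hx
    exact (Subgroup.mem_centralizer_iff.1 h1 y hy).symm
  refine ⟨Subgroup.le_normalizer, by rw [hN, hP], ?_, ?_, ?_⟩
  · rw [hP]
    exact hp.odd_of_ne_two hp2
  · intro g hg x hx hgx
    by_contra hx1
    apply hg
    rw [Subgroup.mem_normalizer_iff_map_conj_eq]
    apply Subgroup.eq_of_le_of_card_ge
    · rintro _ ⟨y, hy, rfl⟩
      have hy' : y ∈ Subgroup.zpowers x := by rw [hgen x hx hx1]; exact hy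
      obtain ⟨k, rfl⟩ := Subgroup.mem_zpowers_iff.1 hy'
      rw [MonoidHom.coe_coe, map_zpow]
      apply P.zpow_mem
      simpa using hgx
    · rw [Subgroup.card_map_of_injective (MulAut.conj g).injective]
  · intro g hg hgP x hx
    by_cases hx1 : x = 1
    · subst hx1
      simp
    have hidx : (P.subgroupOf (Subgroup.normalizer (P : Set G))).index = 2 := by
      have h1 : Nat.card (P.subgroupOf (Subgroup.normalizer (P : Set G))) = Nat.card P :=
        Nat.card_congr (Subgroup.subgroupOfEquivOfLe Subgroup.le_normalizer).toEquiv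
      have h2 := Subgroup.card_mul_index (P.subgroupOf (Subgroup.normalizer (P : Set G)))
      rw [h1, hN, hP, mul_comm 2] at h2
      exact Nat.eq_of_mul_eq_mul_left hp.pos h2
    have hgg : g * g ∈ P := by
      have := Subgroup.mul_mem_iff_of_index_two hidx (a := ⟨g, hg⟩) (b := ⟨g, hg⟩)
      simpa [Subgroup.mem_subgroupOf] using this
    have hgx : g * x * g⁻¹ ∈ P := by
      have h1 := (Subgroup.mem_normalizer_iff.1 hg x).1 hx
      exact h1
    have h2 : g * x * g⁻¹ ∈ Subgroup.zpowers x := by rw [hgen x hx hx1]; exact hgx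
    obtain ⟨k, hk⟩ := Subgroup.mem_zpowers_iff.1 h2
    have h3 : g * (g * x * g⁻¹) * g⁻¹ = x := by
      have : g * (g * x * g⁻¹) * g⁻¹ = (g * g) * x * (g * g)⁻¹ := by group
      rw [this, hcomm (g * g) hgg x hx, mul_inv_cancel_right]
    have h4 : x ^ (k * k) = x := by
      have : g * x ^ k * g⁻¹ = (g * x * g⁻¹) ^ k := (conj_zpow (i := k) (a := g) (b := x)).symm
      rw [← hk, this, ← hk, ← zpow_mul] at h3
      exact h3
    have h5 : (p : ℤ) ∣ k * k - 1 := by
      rw [← hord x hx hx1]
      apply orderOf_dvd_iff_zpow_eq_one.2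
      rw [zpow_sub, h4, zpow_one, mul_inv_cancel]
    have h6 : (p : ℤ) ∣ (k - 1) * (k + 1) := by
      have : (k - 1) * (k + 1) = k * k - 1 := by ring
      rwa [this]
    rcases (Nat.prime_iff_prime_int.1 hp).dvd_or_dvd h6 with h7 | h7
    · exfalso
      have h8 : x ^ (k - 1) = 1 := by
        apply orderOf_dvd_iff_zpow_eq_one.1
        rw [hord x hx hx1]
        exact h7
      have h9 : x ^ k = x := by
        have : x ^ k = x ^ (k - 1) * x := by rw [← zpow_add_one, sub_add_cancel]
        rw [this, h8, one_mul]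
      rw [h9] at hk
      have h10 : g ∈ Subgroup.centralizer (P : Set G) := by
        rw [Subgroup.mem_centralizer_iff]
        intro y hy
        have hy' : y ∈ Subgroup.zpowers x := by rw [hgen x hx hx1]; exact hy
        obtain ⟨j, rfl⟩ := Subgroup.mem_zpowers_iff.1 hy'
        have h11 : Commute g x := by
          have := congrArg (· * g) hk
          simp only [inv_mul_cancel_right] at this
          exact this.symm
        exact (h11.zpow_right j).symm
      rw [hC] at h10
      exact hgP h10
    · have h8 : x ^ (k + 1) = 1 := by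
        apply orderOf_dvd_iff_zpow_eq_one.1
        rw [hord x hx hx1]
        exact h7
      rw [← hk]
      have h9 : x ^ k * x = 1 := by rw [← zpow_add_one, h8]
      exact eq_inv_of_mul_eq_one_left h9

/-- **Main result for prime order.** `G` simple, `P` a self-centralizing Sylow `p`-subgroup of odd
prime order `p` with normalizer of order `2 p`: every involution `t` is conjugate into `N(P)` and
there are natural numbers `f`, `m` with the following properties. -/
theorem exists_degree_eq {G : Type*} [Group G] [Finite G] [IsSimpleGroup G] (p : ℕ)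
    [Fact p.Prime] (hp2 : p ≠ 2) (P : Sylow p G) (hP : Nat.card P = p)
    (hC : Subgroup.centralizer (P : Set G) = (P : Subgroup G))
    (hN : Nat.card (Subgroup.normalizer (P : Set G)) = 2 * p) (t : G) (ht : orderOf t = 2) :
    (∃ g : G, g * t * g⁻¹ ∈ Subgroup.normalizer (P : Set G)) ∧
    ∃ f m : ℕ, 1 < f ∧ 0 < m ∧ m < f ∧ Even m ∧ f ∣ Nat.card G ∧ f + 1 ∣ Nat.card G ∧
      f ^ 2 + (f + 1) ^ 2 < Nat.card G ∧
      p * Nat.card (Subgroup.centralizer ({t} : Set G)) ^ 2 * (f * (f + 1)) =
        4 * m ^ 2 * Nat.card G := by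
  have hp : p.Prime := Fact.out
  have h := hyp_of_prime hp2 (P : Subgroup G) hP hC hN
  have h1 : 1 < Nat.card (P : Subgroup G) := by
    have : Nat.card (P : Subgroup G) = p := hP
    rw [this]; exact hp.one_lt
  have h2 := exists_degree_eq' h h1 t ht
  have : Nat.card (P : Subgroup G) = p := hP
  rw [this] at h2
  exact h2

/-- `G` simple, `P` a self-centralizing Sylow `p`-subgroup of odd prime order `p` with normalizer of
order `2 p`: the centralizer `C` of any involution satisfies `p |C|² < 4 |G|`. -/
theorem card_centralizer_sq_lt {G : Type*} [Group G] [Finite G] [IsSimpleGroup G] (p : ℕ)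
    [Fact p.Prime] (hp2 : p ≠ 2) (P : Sylow p G) (hP : Nat.card P = p)
    (hC : Subgroup.centralizer (P : Set G) = (P : Subgroup G))
    (hN : Nat.card (Subgroup.normalizer (P : Set G)) = 2 * p) (t : G) (ht : orderOf t = 2) :
    p * Nat.card (Subgroup.centralizer ({t} : Set G)) ^ 2 < 4 * Nat.card G := by
  have hp : p.Prime := Fact.out
  have h := hyp_of_prime hp2 (P : Subgroup G) hP hC hN
  have h1 : 1 < Nat.card (P : Subgroup G) := by
    have : Nat.card (P : Subgroup G) = p := hP
    rw [this]; exact hp.one_lt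
  have h2 := card_centralizer_sq_lt' h h1 t ht
  have : Nat.card (P : Subgroup G) = p := hP
  rw [this] at h2
  exact h2

/-- A Sylow `2`-subgroup version: there is an involution whose centralizer contains a Sylow
`2`-subgroup. -/
theorem exists_involution_two_pow_dvd {G : Type*} [Group G] [Finite G] (h2 : 2 ∣ Nat.card G) :
    ∃ t : G, orderOf t = 2 ∧
      2 ^ (Nat.card G).factorization 2 ∣ Nat.card (Subgroup.centralizer ({t} : Set G)) := by
  have : Fact (Nat.Prime 2) := ⟨Nat.prime_two⟩
  obtain ⟨S⟩ : Nonempty (Sylow 2 G) := inferInstance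
  have hS : Nat.card (S : Subgroup G) = 2 ^ (Nat.card G).factorization 2 := S.card_eq_multiplicity
  have hnt : Nontrivial (S : Subgroup G) := by
    rw [← Finite.one_lt_card_iff_nontrivial, hS]
    apply Nat.one_lt_two_pow
    have := (Nat.prime_two.dvd_iff_one_le_factorization Nat.card_pos.ne').1 h2
    omega
  have hc : Nontrivial (Subgroup.center (S : Subgroup G)) := S.2.center_nontrivial
  have hcp : IsPGroup 2 (Subgroup.center (S : Subgroup G)) := S.2.to_subgroup _
  obtain ⟨k, hk⟩ := hcp.exists_card_eq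
  have hk0 : k ≠ 0 := by
    rintro rfl
    rw [← Finite.one_lt_card_iff_nontrivial, hk] at hc
    omega
  obtain ⟨z, hz⟩ := exists_prime_orderOf_dvd_card' 2 (G := Subgroup.center (S : Subgroup G))
    (by rw [hk]; exact dvd_pow_self 2 hk0)
  refine ⟨((z : (S : Subgroup G)) : G), by rw [Subgroup.orderOf_coe, Subgroup.orderOf_coe]; exact hz,
    ?_⟩
  rw [← hS]
  apply Subgroup.card_dvd_of_le
  intro s hs
  rw [Subgroup.mem_centralizer_singleton_iff]
  have h3 := Subgroup.mem_center_iff.1 z.2 ⟨s, hs⟩
  exact congrArg Subtype.val h3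

/-- The contradiction: `p * (2-part of |G|)² ≥ 4 |G|` is impossible. -/
theorem two_part_sq_lt {G : Type*} [Group G] [Finite G] [IsSimpleGroup G] (p : ℕ)
    [Fact p.Prime] (hp2 : p ≠ 2) (P : Sylow p G) (hP : Nat.card P = p)
    (hC : Subgroup.centralizer (P : Set G) = (P : Subgroup G))
    (hN : Nat.card (Subgroup.normalizer (P : Set G)) = 2 * p) :
    p * (2 ^ (Nat.card G).factorization 2) ^ 2 < 4 * Nat.card G := by
  have h2 : 2 ∣ Nat.card G :=
    (Dvd.intro _ rfl : 2 ∣ 2 * p).trans (hN ▸ Subgroup.card_subgroup_dvd_card _)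
  obtain ⟨t, ht, hdvd⟩ := exists_involution_two_pow_dvd h2
  have h3 := card_centralizer_sq_lt p hp2 P hP hC hN t ht
  have h4 := Nat.le_of_dvd Nat.card_pos hdvd
  calc p * (2 ^ (Nat.card G).factorization 2) ^ 2
      ≤ p * Nat.card (Subgroup.centralizer ({t} : Set G)) ^ 2 :=
        Nat.mul_le_mul_left _ (Nat.pow_le_pow_left h4 2)
    _ < 4 * Nat.card G := h3

end Cfsg.Agent.SmallSimple.DihedralNormalizerSimple
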