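import Mathlib

/-!
Elementary facts about a finite group `G` with an element `z` of prime order `p` such that
`C_G(z) = ⟨z⟩`.
-/

set_option autoImplicit false

namespace Cfsg.Agent.SmallSimple.SelfCentPrime

open Subgroup

/-- The size of a conjugacy class times the order of the centralizer is the group order. -/
theorem card_carrier_mul_card_centralizer {G : Type*} [Group G] [Finite G] (g : G) :
    Nat.card (ConjClasses.mk g).carrier * Nat.card (centralizer ({g} : Set G)) = Nat.card G := by
  have h1 : (centralizer ({g} : Set G)).index = Nat.card (ConjClasses.mk g).carrier := by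
    rw [Subgroup.centralizer_eq_comap_stabilizer]
    refine (Subgroup.index_comap_of_surjective (MulAction.stabilizer (ConjAct G) g)
      (f := (ConjAct.toConjAct (G := G)).toMonoidHom) (MulEquiv.surjective _)).trans ?_
    rw [MulAction.index_stabilizer, ConjAct.orbit_eq_carrier_conjClasses]
    rfl
  rw [← h1, mul_comm]
  exact Subgroup.card_mul_index _

section
variable {G : Type*} [Group G] {p : ℕ} {z : G}

/-- two elements of prime order, one in the cyclic group of the other -/
theorem zpowers_eq_of_mem [hp : Fact p.Prime] (hz : orderOf z = p) {c : G} (hc : c ∈ zpowers z)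
    (hc1 : c ≠ 1) : zpowers c = zpowers z := by
  have hle : zpowers c ≤ zpowers z := by
    rw [zpowers_le]; exact hc
  have hfin : Finite (zpowers z) := by
    apply Nat.finite_of_card_ne_zero
    rw [Nat.card_zpowers, hz]; exact hp.out.ne_zero
  apply Subgroup.eq_of_le_of_card_ge hle
  have hdvd : Nat.card (zpowers c) ∣ p := by
    rw [← hz, ← Nat.card_zpowers]
    exact Subgroup.card_dvd_of_le hle
  rcases (Nat.dvd_prime hp.out).mp hdvd with h | h
  · exfalso
    rw [Nat.card_zpowers, orderOf_eq_one_iff] at h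
    exact hc1 h
  · rw [h, Nat.card_zpowers, hz]

theorem centralizer_zpowers (x : G) :
    centralizer ((zpowers x : Subgroup G) : Set G) = centralizer ({x} : Set G) := by
  rw [zpowers_eq_closure, centralizer_closure]

theorem centralizer_eq_of_mem [Fact p.Prime] (hz : orderOf z = p)
    (hC : centralizer ({z} : Set G) = zpowers z) {c : G} (hc : c ∈ zpowers z)
    (hc1 : c ≠ 1) : centralizer ({c} : Set G) = zpowers z := by
  rw [← centralizer_zpowers, zpowers_eq_of_mem hz hc hc1, centralizer_zpowers, hC]

/-- A Sylow `p`-subgroup containing `z` is `⟨z⟩`. -/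
theorem sylow_eq_zpowers [Finite G] [Fact p.Prime] (hz : orderOf z = p)
    (hC : centralizer ({z} : Set G) = zpowers z) (P : Sylow p G) (hzP : z ∈ (P : Subgroup G)) :
    (P : Subgroup G) = zpowers z := by
  have hp := (Fact.out : p.Prime)
  apply le_antisymm
  · have hnt : Nontrivial (P : Subgroup G) := by
      refine ⟨⟨⟨z, hzP⟩, 1, ?_⟩⟩
      intro h
      have : z = 1 := congrArg Subtype.val h
      rw [this, orderOf_one] at hz
      exact hp.one_lt.ne hz
    have hc := P.isPGroup'.center_nontrivial
    obtain ⟨c, hc1⟩ := exists_ne (1 : center (P : Subgroup G))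
    have hcz : (c.1.1 : G) ∈ zpowers z := by
      rw [← hC, mem_centralizer_iff]
      intro h hh
      rw [Set.mem_singleton_iff] at hh
      subst hh
      have := (mem_center_iff.mp c.2) ⟨h, hzP⟩
      exact congrArg Subtype.val this
    have hc1' : (c.1.1 : G) ≠ 1 := by
      intro h
      apply hc1
      ext
      exact h
    have hzc : z ∈ zpowers (c.1.1 : G) := by
      rw [zpowers_eq_of_mem hz hcz hc1']; exact mem_zpowers z
    rw [← hC]
    intro x hx
    rw [mem_centralizer_iff]
    intro h hh
    rw [Set.mem_singleton_iff] at hh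
    subst hh
    obtain ⟨k, hk⟩ := hzc
    have h1 := (mem_center_iff.mp c.2) ⟨x, hx⟩
    have h2 : Commute x (c.1.1 : G) := congrArg Subtype.val h1
    have h3 := h2.zpow_right k
    simp only at hk
    rw [hk] at h3
    exact h3.eq.symm
  · rw [zpowers_le]; exact hzP

theorem exists_sylow_eq_zpowers [Finite G] [Fact p.Prime] (hz : orderOf z = p)
    (hC : centralizer ({z} : Set G) = zpowers z) :
    ∃ P : Sylow p G, (P : Subgroup G) = zpowers z := by
  have hpg : IsPGroup p (zpowers z) := by
    apply IsPGroup.of_card (n := 1)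
    rw [Nat.card_zpowers, hz, pow_one]
  obtain ⟨P, hP⟩ := hpg.exists_le_sylow
  exact ⟨P, sylow_eq_zpowers hz hC P (hP (mem_zpowers z))⟩

theorem card_sylow_eq [Finite G] [Fact p.Prime] (hz : orderOf z = p)
    (hC : centralizer ({z} : Set G) = zpowers z) (Q : Sylow p G) :
    Nat.card (Q : Subgroup G) = p := by
  obtain ⟨P, hP⟩ := exists_sylow_eq_zpowers hz hC
  have h1 := P.card_eq_multiplicity
  have h2 := Q.card_eq_multiplicity
  rw [h2, ← h1, hP, Nat.card_zpowers, hz]

/-- Every element of order `p` is conjugate to a nontrivial element of `⟨z⟩`. -/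
theorem exists_conj_mem [Finite G] [Fact p.Prime] (hz : orderOf z = p)
    (hC : centralizer ({z} : Set G) = zpowers z) {x : G} (hx : orderOf x = p) :
    ∃ y ∈ zpowers z, y ≠ 1 ∧ IsConj x y := by
  have hp := (Fact.out : p.Prime)
  have hpg : IsPGroup p (zpowers x) := by
    apply IsPGroup.of_card (n := 1)
    rw [Nat.card_zpowers, hx, pow_one]
  obtain ⟨Q, hQ⟩ := hpg.exists_le_sylow
  obtain ⟨P, hP⟩ := exists_sylow_eq_zpowers hz hC
  obtain ⟨g, hg⟩ := MulAction.exists_smul_eq G Q P
  refine ⟨g * x * g⁻¹, ?_, ?_, ?_⟩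
  · rw [← hP, ← hg]
    have hxQ : x ∈ (Q : Subgroup G) := hQ (mem_zpowers x)
    exact Subgroup.smul_mem_pointwise_smul x (MulAut.conj g) (Q : Subgroup G) hxQ
  · intro h
    rw [conj_eq_one_iff] at h
    rw [h, orderOf_one] at hx
    exact hp.one_lt.ne hx
  · rw [isConj_iff]
    exact ⟨g, rfl⟩

/-- Every element of order `p` has a class of size `|G| / p`. -/
theorem card_carrier_mul [Finite G] [Fact p.Prime] (hz : orderOf z = p)
    (hC : centralizer ({z} : Set G) = zpowers z) {x : G} (hx : orderOf x = p) :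
    Nat.card (ConjClasses.mk x).carrier * p = Nat.card G := by
  obtain ⟨y, hy, hy1, hxy⟩ := exists_conj_mem hz hC hx
  rw [ConjClasses.mk_eq_mk_iff_isConj.mpr hxy]
  have := card_carrier_mul_card_centralizer y
  rw [centralizer_eq_of_mem hz hC hy hy1, Nat.card_zpowers, hz] at this
  exact this

/-- The number of elements of order `p`. -/
theorem card_orderOf_eq [Finite G] [Fact p.Prime] (hz : orderOf z = p)
    (hC : centralizer ({z} : Set G) = zpowers z) :
    Nat.card {x : G // orderOf x = p} = Nat.card (Sylow p G) * (p - 1) := by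
  classical
  have hp := (Fact.out : p.Prime)
  have hord : ∀ (Q : Sylow p G) (x : G), x ∈ (Q : Subgroup G) → x ≠ 1 → orderOf x = p := by
    intro Q x hx hx1
    have h1 : orderOf x ∣ p := by
      have := Subgroup.orderOf_dvd_natCard (Q : Subgroup G) hx
      rwa [card_sylow_eq hz hC Q] at this
    rcases (Nat.dvd_prime hp).mp h1 with h | h
    · exact absurd (orderOf_eq_one_iff.mp h) hx1
    · exact h
  have hzp : ∀ (Q : Sylow p G) (x : G), x ∈ (Q : Subgroup G) → x ≠ 1 →
      (Q : Subgroup G) = zpowers x := by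
    intro Q x hx hx1
    symm
    apply Subgroup.eq_of_le_of_card_ge
    · rw [zpowers_le]; exact hx
    · rw [card_sylow_eq hz hC Q, Nat.card_zpowers, hord Q x hx hx1]
  let f : (Σ Q : Sylow p G, {x : (Q : Subgroup G) // x ≠ 1}) → {x : G // orderOf x = p} :=
    fun a => ⟨a.2.1.1, hord a.1 a.2.1.1 a.2.1.2 (fun h => a.2.2 (Subtype.ext h))⟩
  have hf : Function.Bijective f := by
    constructor
    · rintro ⟨Q, ⟨⟨x, hx⟩, hx1⟩⟩ ⟨R, ⟨⟨y, hy⟩, hy1⟩⟩ h
      have hxy : x = y := congrArg Subtype.val h
      subst hxy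
      have hx1' : x ≠ 1 := fun h => hx1 (Subtype.ext h)
      have hQR : Q = R := by
        apply Sylow.ext
        rw [hzp Q x hx hx1', hzp R x hy hx1']
      subst hQR
      rfl
    · rintro ⟨x, hx⟩
      have hpg : IsPGroup p (zpowers x) := by
        apply IsPGroup.of_card (n := 1)
        rw [Nat.card_zpowers, hx, pow_one]
      obtain ⟨Q, hQ⟩ := hpg.exists_le_sylow
      refine ⟨⟨Q, ⟨⟨x, hQ (mem_zpowers x)⟩, ?_⟩⟩, rfl⟩
      intro h
      have : x = 1 := congrArg Subtype.val h
      rw [this, orderOf_one] at hx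
      exact hp.one_lt.ne hx
  rw [← Nat.card_congr (Equiv.ofBijective f hf)]
  have : Fintype (Sylow p G) := Fintype.ofFinite _
  rw [Nat.card_sigma]
  have : ∀ Q : Sylow p G, Nat.card {x : (Q : Subgroup G) // x ≠ 1} = p - 1 := by
    intro Q
    have : Fintype (Q : Subgroup G) := Fintype.ofFinite _
    rw [Nat.card_eq_fintype_card, Fintype.card_subtype_compl, Fintype.card_subtype_eq,
      ← Nat.card_eq_fintype_card, card_sylow_eq hz hC Q]
  simp only [this, Finset.sum_const, Finset.card_univ, smul_eq_mul, Nat.card_eq_fintype_card]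

/-- Counting elements of order `p` by classes. -/
theorem card_classes_mul [Finite G] [Fact p.Prime] (hz : orderOf z = p)
    (hC : centralizer ({z} : Set G) = zpowers z) :
    Nat.card G * Nat.card {c : ConjClasses G // ∃ g : G, ConjClasses.mk g = c ∧ orderOf g = p} =
      Nat.card (Sylow p G) * (p - 1) * p := by
  classical
  rw [← card_orderOf_eq hz hC]
  have hconj : ∀ {x y : G}, IsConj x y → orderOf x = orderOf y := by
    intro x y h
    obtain ⟨g, hg⟩ := isConj_iff.mp h
    rw [← hg]
    have := orderOf_injective (MulAut.conj g).toMonoidHom (MulAut.conj g).injective x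
    simpa using this.symm
  let f : (Σ c : {c : ConjClasses G // ∃ g : G, ConjClasses.mk g = c ∧ orderOf g = p},
      c.1.carrier) → {x : G // orderOf x = p} :=
    fun a => ⟨a.2.1, by
      obtain ⟨⟨c, g, hg, hgo⟩, ⟨x, hx⟩⟩ := a
      subst hg
      have hx' : x ∈ (ConjClasses.mk g).carrier := hx
      rw [ConjClasses.mem_carrier_iff_mk_eq, ConjClasses.mk_eq_mk_iff_isConj] at hx'
      show orderOf x = p
      rw [hconj hx', hgo]⟩
  have hf : Function.Bijective f := by
    constructor
    · rintro ⟨⟨c, hc⟩, ⟨x, hx⟩⟩ ⟨⟨d, hd⟩, ⟨y, hy⟩⟩ h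
      have hxy : x = y := congrArg Subtype.val h
      subst hxy
      rw [ConjClasses.mem_carrier_iff_mk_eq] at hx hy
      subst hx
      subst hy
      rfl
    · rintro ⟨x, hx⟩
      exact ⟨⟨⟨ConjClasses.mk x, x, rfl, hx⟩, ⟨x, ConjClasses.mem_carrier_mk⟩⟩, rfl⟩
  rw [← Nat.card_congr (Equiv.ofBijective f hf)]
  have : Fintype {c : ConjClasses G // ∃ g : G, ConjClasses.mk g = c ∧ orderOf g = p} :=
    Fintype.ofFinite _
  rw [Nat.card_sigma, Finset.sum_mul]
  have : ∀ c : {c : ConjClasses G // ∃ g : G, ConjClasses.mk g = c ∧ orderOf g = p},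
      Nat.card c.1.carrier * p = Nat.card G := by
    rintro ⟨c, g, hg, hgo⟩
    subst hg
    exact card_carrier_mul hz hC hgo
  simp only [this, Finset.sum_const, Finset.card_univ, smul_eq_mul, Nat.card_eq_fintype_card]
  ring

end

end Cfsg.Agent.SmallSimple.SelfCentPrime
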