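import Mathlib
import Cfsg.Agent.SmallSimple.PrimeOrderData
import Cfsg.Agent.SmallSimple.TransferInvol
import Cfsg.Agent.SmallSimple.SelfCentPrime

/-!
Local structure of a simple group of order 4080.
-/

set_option autoImplicit false

namespace Cfsg.Agent.SmallSimple.Order4080

open Subgroup MulAction
open Cfsg.Agent.SmallSimple.SylowPrime Cfsg.Agent.SmallSimple.SylowPrimeCount
open Cfsg.Agent.SmallSimple.SylowPrimeInvol Cfsg.Agent.SmallSimple.PrimeOrderData

variable {G : Type*} [Group G] [Finite G] [IsSimpleGroup G]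

omit [Finite G] in
theorem not_comm (h : Nat.card G = 4080) : ¬ ∀ a b : G, a * b = b * a := by
  intro hc
  let _ : CommGroup G := { (inferInstance : Group G) with mul_comm := hc }
  have hp : (Nat.card G).Prime := IsSimpleGroup.prime_card
  rw [h] at hp
  norm_num at hp

theorem card_sylow_17 (h : Nat.card G = 4080) : Nat.card (Sylow 17 G) = 120 := by
  have : Fact (Nat.Prime 17) := ⟨by norm_num⟩
  obtain ⟨h1, h2, h3, -⟩ := card_sylow_prop (G := G) (p := 17) (m := 240) (by rw [h])
    (by norm_num) (by norm_num)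
  have key : ∀ n ∈ Nat.divisors 240, n % 17 = 1 → n ≠ 1 → n = 120 := by decide +kernel
  exact key _ (Nat.mem_divisors.2 ⟨h1, by norm_num⟩) h2 h3

theorem card_17 (h : Nat.card G = 4080) (z : G) (hz : orderOf z = 17) :
    Nat.card (centralizer ({z} : Set G)) = 17 ∧
      Nat.card (normalizer ((zpowers z : Subgroup G) : Set G)) = 34 := by
  have : Fact (Nat.Prime 17) := ⟨by norm_num⟩
  obtain ⟨e, c, he1, he2, hc, hn, hs⟩ := exists_data (G := G) (p := 17) (m := 240) (by rw [h])
    (by norm_num) (by norm_num) z hz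
  rw [card_sylow_17 h] at hs
  have hce : c * e = 2 := by omega
  have hc1 : c = 1 := by
    have hcd : c ∣ 2 := ⟨e, hce.symm⟩
    rcases (Nat.dvd_prime Nat.prime_two).1 hcd with h1 | h1
    · exact h1
    · exfalso
      rw [h1] at hce
      omega
  have he : e = 2 := by rw [hc1] at hce; omega
  subst hc1 he
  exact ⟨hc, hn⟩

theorem centralizer_17 (h : Nat.card G = 4080) (z : G) (hz : orderOf z = 17) :
    centralizer ({z} : Set G) = zpowers z := by
  symm
  apply Subgroup.eq_of_le_of_card_ge
  · rw [zpowers_le, mem_centralizer_singleton_iff]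
  · rw [(card_17 h z hz).1, Nat.card_zpowers, hz]

/-- Existence of the involution `t`. -/
theorem exists_t (h : Nat.card G = 4080) : ∃ (P : Sylow 17 G) (t : G), orderOf t = 2 ∧
    t ∈ normalizer (P : Set G) ∧ Nat.card P = 17 ∧ Nat.card (normalizer (P : Set G)) = 34 ∧
    (∀ x, x ∈ (P : Subgroup G) → x * t = t * x → x = 1) := by
  have : Fact (Nat.Prime 17) := ⟨by norm_num⟩
  have : Fact (Nat.Prime 2) := ⟨by norm_num⟩
  obtain ⟨z, hz⟩ := exists_prime_orderOf_dvd_card' (G := G) 17 (by rw [h]; norm_num)
  obtain ⟨P, hP⟩ := exists_sylow_eq (G := G) (p := 17) (m := 240) (by rw [h]) (by norm_num) z hz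
  have hN := (card_17 h z hz).2
  have hP' : (P : Set G) = ((zpowers z : Subgroup G) : Set G) :=
    congrArg (fun K : Subgroup G => (K : Set G)) hP
  rw [← hP'] at hN
  obtain ⟨t, ht⟩ := exists_prime_orderOf_dvd_card' (G := normalizer (P : Set G)) 2
    (by rw [hN]; norm_num)
  have hPc : Nat.card P = 17 := by
    have : Nat.card (P : Subgroup G) = 17 := by rw [hP, Nat.card_zpowers, hz]
    exact this
  have ht' : orderOf (t : G) = 2 := by rw [Subgroup.orderOf_coe, ht]
  refine ⟨P, t, ht', t.2, hPc, hN, ?_⟩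
  intro x hx hxt
  by_contra hx1
  have hx17 : orderOf x = 17 := by
    have h1 : orderOf x ∣ 17 := by
      rw [← hPc]
      exact Subgroup.orderOf_dvd_natCard _ hx
    rcases (Nat.dvd_prime (by norm_num)).1 h1 with h2 | h2
    · exact absurd (orderOf_eq_one_iff.1 h2) hx1
    · exact h2
  have h2 : (t : G) ∈ centralizer ({x} : Set G) := by
    rw [mem_centralizer_singleton_iff]
    exact hxt.symm
  have h3 := Subgroup.orderOf_dvd_natCard _ h2
  rw [ht', (card_17 h x hx17).1] at h3
  norm_num at h3

/-- The facts about the involution `t` inverting an element of order 17. -/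
theorem exists_t' (h : Nat.card G = 4080) : ∃ t : G, orderOf t = 2 ∧
    Nat.card (centralizer ({t} : Set G)) ≤ 16 ∧
    ¬ 5 ∣ Nat.card (centralizer ({t} : Set G)) := by
  have f17 : Fact (Nat.Prime 17) := ⟨by norm_num⟩
  have f5 : Fact (Nat.Prime 5) := ⟨by norm_num⟩
  have f2 : Fact (Nat.Prime 2) := ⟨by norm_num⟩
  obtain ⟨P, t, ht, htN, hP, hN, htC⟩ := exists_t h
  have ht1 : t ≠ 1 := by
    rintro rfl
    rw [orderOf_one] at ht
    omega
  have htPP : t ∉ centralizer (P : Set G) := by
    intro hcon
    obtain ⟨z, hz⟩ := exists_prime_orderOf_dvd_card' (G := P) 17 (by rw [hP])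
    have h1 := htC z z.2 ((mem_centralizer_iff.1 hcon) z z.2)
    have h2 : z = 1 := Subtype.ext h1
    rw [h2, orderOf_one] at hz
    omega
  have hf : Nat.card (fixedBy (Sylow 17 G) t) ≤ 8 := by
    have := mul_card_fixedBy_le P hP htN htPP
    rw [card_sylow_17 h] at this
    omega
  have hfP : t • P = P := Sylow.smul_eq_iff_mem_normalizer.2 htN
  refine ⟨t, ht, ?_, ?_⟩
  · have h1 := card_centralizer_le t P hfP
    have h2 : Nat.card (centralizer ({t} : Set G) ⊓ stabilizer G P : Subgroup G) ∣ 2 := by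
      have h3 : Nat.card (centralizer ({t} : Set G) ⊓ stabilizer G P : Subgroup G) ∣ 17 * 2 := by
        have : (17 * 2 : ℕ) = Nat.card (normalizer (P : Set G)) := by rw [hN]
        rw [this]
        apply card_dvd_of_le
        intro x hx
        exact Sylow.smul_eq_iff_mem_normalizer.1 hx.2
      refine Nat.Coprime.dvd_of_dvd_mul_left ?_ h3
      rw [Nat.coprime_comm, Nat.Prime.coprime_iff_not_dvd f17.out]
      intro h4
      obtain ⟨x, hx⟩ := exists_prime_orderOf_dvd_card' (G := (centralizer ({t} : Set G) ⊓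
        stabilizer G P : Subgroup G)) 17 h4
      have hx' : orderOf (x : G) = 17 := by rw [Subgroup.orderOf_coe, hx]
      have hx2 := x.2
      rw [mem_inf] at hx2
      have h5 : (x : G) ∈ P := mem_of_mem_normalizer_sylow hx'
        (Sylow.smul_eq_iff_mem_normalizer.1 hx2.2)
      have h6 := htC x h5 (mem_centralizer_singleton_iff.1 hx2.1)
      rw [h6, orderOf_one] at hx'
      omega
    have h7 := Nat.le_of_dvd (by norm_num) h2
    calc Nat.card (centralizer ({t} : Set G)) ≤ _ := h1
      _ ≤ 8 * 2 := Nat.mul_le_mul hf h7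
      _ = 16 := by norm_num
  · intro h5
    obtain ⟨y, hy⟩ := exists_prime_orderOf_dvd_card' (G := centralizer ({t} : Set G)) 5 h5
    have hy' : orderOf (y : G) = 5 := by rw [Subgroup.orderOf_coe, hy]
    have hyt : t * y = y * t := ((mem_centralizer_singleton_iff.1 y.2)).symm
    have h6 := dvd_card_fixedBy (X := Sylow 17 G) hy' hyt (by
      intro Q hQ
      have h7 := Sylow.smul_eq_iff_mem_normalizer.1 hQ
      have h8 : Nat.card (normalizer (Q : Set G)) = 34 := by
        have h9 := card_normalizer_mul P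
        have h10 := card_normalizer_mul Q
        rw [← h9, hN] at h10
        exact Nat.eq_of_mul_eq_mul_right Nat.card_pos h10
      have h9 : orderOf (y : G) ∣ 34 := by
        rw [← h8]
        exact Subgroup.orderOf_dvd_natCard _ h7
      rw [hy'] at h9
      norm_num at h9)
    have h7 := card_fixedBy_modEq_two (X := Sylow 17 G) ht
    rw [card_sylow_17 h] at h7
    have h8 : 0 < Nat.card (fixedBy (Sylow 17 G) t) := by
      have : Nonempty (fixedBy (Sylow 17 G) t) := ⟨⟨P, hfP⟩⟩
      exact Nat.card_pos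
    unfold Nat.ModEq at h7
    omega

theorem units_five : ∀ a b : (ZMod 5)ˣ, a ≠ 1 → b ≠ 1 → a ^ 2 = 1 → b ^ 2 = 1 → a = b := by
  decide +kernel

theorem card_sylow_5 (h : Nat.card G = 4080) : Nat.card (Sylow 5 G) = 136 := by
  have f5 : Fact (Nat.Prime 5) := ⟨by norm_num⟩
  obtain ⟨h1, h2, h3, h4⟩ := card_sylow_prop (G := G) (p := 5) (m := 816) (by rw [h])
    (by norm_num) (by norm_num)
  have key : ∀ n ∈ Nat.divisors 816, n % 5 = 1 → n ≠ 1 →
      n = 6 ∨ n = 16 ∨ n = 51 ∨ n = 136 ∨ n = 816 := by decide +kernel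
  have hburn := SylowCount.card_sylow_mul_ne_card (G := G) (p := 5) (by rw [h]; norm_num)
    (by rw [h]; norm_num) (by rw [h]; norm_num)
  rcases key _ (Nat.mem_divisors.2 ⟨h1, by norm_num⟩) h2 h3 with h5 | h5 | h5 | h5 | h5
  · rw [h5, h] at h4
    exact absurd h4 (by decide +kernel)
  · rw [h5, h] at h4
    exact absurd h4 (by decide +kernel)
  · exfalso
    obtain ⟨t, ht, hC, hC5⟩ := exists_t' h
    obtain ⟨P⟩ : Nonempty (Sylow 5 G) := inferInstance
    have hP : Nat.card (P : Subgroup G) = 5 := by
      have := card_sylow_of_card_eq P (k := 1) (m := 816) (by rw [h]; norm_num) (by norm_num)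
      rwa [pow_one] at this
    have hcyc : IsCyclic (P : Subgroup G) := isCyclic_of_prime_card hP
    have hodd : Odd (normalizer (P : Set G)).index := by
      rw [← P.card_eq_index_normalizer, h5]
      decide
    have hunit : ∀ n : ℕ, n = 5 → ∀ a b : (ZMod n)ˣ, a ≠ 1 → b ≠ 1 → a ^ 2 = 1 → b ^ 2 = 1 →
        a = b := by
      rintro n rfl
      exact units_five
    obtain ⟨x, hx1, hx2⟩ := TransferInvol.exists_conj_centralizes (not_comm h) (P : Subgroup G)
      (hunit _ hP) hodd t (by rw [← ht, pow_orderOf_eq_one])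
    obtain ⟨g, hg⟩ := isConj_iff.1 hx1
    apply hC5
    obtain ⟨y, hy⟩ := exists_prime_orderOf_dvd_card' (G := (P : Subgroup G)) 5 (by rw [hP])
    have hy5 : orderOf (g⁻¹ * y * g) = 5 := by
      have h6 : orderOf (y : G) = 5 := by rw [Subgroup.orderOf_coe, hy]
      have h7 := orderOf_injective (MulAut.conj g⁻¹).toMonoidHom (MulAut.conj g⁻¹).injective (y : G)
      refine Eq.trans ?_ h6
      simpa using h7
    rw [← hy5]
    apply Subgroup.orderOf_dvd_natCard
    rw [mem_centralizer_singleton_iff]
    have h6 := mem_centralizer_iff.1 hx2 y y.2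
    have h7 : t = g⁻¹ * x * g := by rw [← hg]; group
    rw [h7]
    calc g⁻¹ * y * g * (g⁻¹ * x * g) = g⁻¹ * (y * x) * g := by group
      _ = g⁻¹ * (x * y) * g := by rw [h6]
      _ = g⁻¹ * x * g * (g⁻¹ * y * g) := by group
  · exact h5
  · rw [h5, h] at hburn
    norm_num at hburn

theorem card_5 (h : Nat.card G = 4080) (y : G) (hy : orderOf y = 5) :
    Nat.card (centralizer ({y} : Set G)) = 15 ∧
      Nat.card (normalizer ((zpowers y : Subgroup G) : Set G)) = 30 := by
  have : Fact (Nat.Prime 5) := ⟨by norm_num⟩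
  obtain ⟨e, c, he1, he2, hc, hn, hs⟩ := exists_data (G := G) (p := 5) (m := 816) (by rw [h])
    (by norm_num) (by norm_num) y hy
  rw [card_sylow_5 h] at hs
  have hce : c * e = 6 := by omega
  have key : ∀ e ∈ Nat.divisors 4, e ≠ 1 → e = 2 ∨ e = 4 := by decide +kernel
  have he : e = 2 := by
    rcases key e (Nat.mem_divisors.2 ⟨he1, by norm_num⟩) he2 with h1 | h1
    · exact h1
    · rw [h1] at hce; omega
  subst he
  have hc3 : c = 3 := by omega
  subst hc3
  exact ⟨hc, hn⟩

/-- The centralizer of an element of order 5 is generated by an element of order 15. -/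
theorem centralizer_5 (h : Nat.card G = 4080) (y : G) (hy : orderOf y = 5) :
    ∃ d : G, orderOf d = 15 ∧ centralizer ({y} : Set G) = zpowers d := by
  have f3 : Fact (Nat.Prime 3) := ⟨by norm_num⟩
  obtain ⟨x, hx⟩ := exists_prime_orderOf_dvd_card' (G := centralizer ({y} : Set G)) 3
    (by rw [(card_5 h y hy).1]; norm_num)
  have hx' : orderOf (x : G) = 3 := by rw [Subgroup.orderOf_coe, hx]
  have hxy : Commute (x : G) y := mem_centralizer_singleton_iff.1 x.2
  have ho : orderOf ((x : G) * y) = 15 := by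
    rw [hxy.orderOf_mul_eq_mul_orderOf_of_coprime (by rw [hx', hy]; norm_num), hx', hy]
  refine ⟨x * y, ho, ?_⟩
  symm
  apply Subgroup.eq_of_le_of_card_ge
  · rw [zpowers_le, mem_centralizer_singleton_iff]
    exact (hxy.mul_left (Commute.refl y)).eq
  · rw [(card_5 h y hy).1, Nat.card_zpowers, ho]

theorem card_sylow_3 (h : Nat.card G = 4080) : Nat.card (Sylow 3 G) = 136 := by
  have f3 : Fact (Nat.Prime 3) := ⟨by norm_num⟩
  have f5 : Fact (Nat.Prime 5) := ⟨by norm_num⟩
  obtain ⟨h1, h2, h3, h4⟩ := card_sylow_prop (G := G) (p := 3) (m := 1360) (by rw [h])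
    (by norm_num) (by norm_num)
  have key : ∀ n ∈ Nat.divisors 1360, n % 3 = 1 → n % 5 = 1 → n ≠ 1 →
      n = 16 ∨ n = 136 := by decide +kernel
  have h5 : Nat.card (Sylow 3 G) % 5 = 1 := by
    obtain ⟨y, hy⟩ := exists_prime_orderOf_dvd_card' (G := G) 5 (by rw [h]; norm_num)
    have hpg : IsPGroup 5 (zpowers y) :=
      IsPGroup.of_card (n := 1) (by rw [Nat.card_zpowers, hy, pow_one])
    have h6 := hpg.card_modEq_card_fixedPoints (Sylow 3 G)
    obtain ⟨d, hd, hCd⟩ := centralizer_5 h y hy
    -- the fixed Sylow 3-subgroups lie in `⟨d⟩`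
    have hd5 : orderOf (d ^ 5) = 3 := by
      rw [orderOf_pow, hd]; norm_num
    have h7 : ∀ Q : Sylow 3 G, Q ∈ fixedPoints (zpowers y) (Sylow 3 G) →
        (Q : Subgroup G) = zpowers (d ^ 5) := by
      intro Q hQ
      have hQc : Nat.card (Q : Subgroup G) = 3 := by
        have := card_sylow_of_card_eq Q (k := 1) (m := 1360) (by rw [h]; norm_num) (by norm_num)
        rwa [pow_one] at this
      have h8 : y ∈ normalizer (Q : Set G) :=
        Sylow.smul_eq_iff_mem_normalizer.1 (hQ ⟨y, mem_zpowers y⟩)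
      -- y centralizes Q
      have h9 : y ∈ centralizer (Q : Set G) := by
        have h10 := relIndex_dvd_pred (p := 3) (by norm_num) hQc
        have h11 : y ^ ((centralizer (Q : Set G)).relIndex (normalizer (Q : Set G))) ∈
            centralizer (Q : Set G) := by
          have hn : ((centralizer ((Q : Subgroup G) : Set G)).subgroupOf
              (normalizer ((Q : Subgroup G) : Set G))).Normal := by
            rw [← normalizerMonoidHom_ker]; infer_instance
          have := Subgroup.pow_index_mem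
            ((centralizer (Q : Set G)).subgroupOf (normalizer (Q : Set G))) ⟨y, h8⟩
          exact this
        have h12 : y ^ 2 ∈ centralizer (Q : Set G) := by
          obtain ⟨k, hk⟩ := h10
          have h13 : 3 - 1 = 2 := rfl
          rw [h13] at hk
          rw [hk, pow_mul]
          exact pow_mem h11 k
        have h13 : y = (y ^ 2) ^ 3 := by
          rw [← pow_mul]
          have : y ^ 5 = 1 := by rw [← hy, pow_orderOf_eq_one]
          calc y = y ^ 5 * y := by rw [this, one_mul]
            _ = y ^ (2 * 3) := by rw [← pow_succ]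
        rw [h13]
        exact pow_mem h12 3
      have h14 : (Q : Subgroup G) ≤ zpowers d := by
        rw [← hCd]
        intro q hq
        rw [mem_centralizer_singleton_iff]
        exact mem_centralizer_iff.1 h9 q hq
      obtain ⟨q, hq⟩ := exists_prime_orderOf_dvd_card' (G := (Q : Subgroup G)) 3 (by rw [hQc])
      have hq' : orderOf (q : G) = 3 := by rw [Subgroup.orderOf_coe, hq]
      have h15 : (Q : Subgroup G) = zpowers (q : G) := by
        symm
        apply Subgroup.eq_of_le_of_card_ge
        · rw [zpowers_le]; exact q.2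
        · rw [hQc, Nat.card_zpowers, hq']
      have h16 : zpowers (q : G) ≤ zpowers (d ^ 5) := by
        rw [zpowers_le]
        obtain ⟨k, hk⟩ := mem_zpowers_iff.1 (h14 q.2)
        have h17 : (d ^ k) ^ 3 = 1 := by
          rw [hk]
          exact orderOf_dvd_iff_pow_eq_one.1 hq'.dvd
        have h18 : d ^ (k * 3) = 1 := by rw [zpow_mul]; exact_mod_cast h17
        have h19 : (15 : ℤ) ∣ k * 3 := by
          rw [← orderOf_dvd_iff_zpow_eq_one, hd] at h18
          exact_mod_cast h18
        have h20 : (5 : ℤ) ∣ k := by omega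
        obtain ⟨l, hl⟩ := h20
        rw [← hk, hl, zpow_mul]
        exact mem_zpowers_iff.2 ⟨l, by rw [zpow_ofNat]⟩
      rw [h15]
      apply Subgroup.eq_of_le_of_card_ge h16
      rw [Nat.card_zpowers, Nat.card_zpowers, hq', hd5]
    have h8 : Nat.card (fixedPoints (zpowers y) (Sylow 3 G)) ≤ 1 := by
      rw [Finite.card_le_one_iff_subsingleton]
      refine ⟨fun a b => ?_⟩
      apply Subtype.ext
      apply Sylow.ext
      rw [h7 a.1 a.2, h7 b.1 b.2]
    unfold Nat.ModEq at h6
    -- there is at least one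
    have h9 : Nat.card (fixedPoints (zpowers y) (Sylow 3 G)) ≠ 0 := by
      intro h0
      obtain ⟨Q, hQ⟩ := exists_sylow_eq (G := G) (p := 3) (m := 1360) (by rw [h]) (by norm_num)
        (d ^ 5) hd5
      have hQf : Q ∈ fixedPoints (zpowers y) (Sylow 3 G) := by
        rintro ⟨g, hg⟩
        show g • Q = Q
        rw [Sylow.smul_eq_iff_mem_normalizer]
        apply centralizer_le_normalizer' (Q : Subgroup G)
        rw [hQ, centralizer_zpowers, mem_centralizer_singleton_iff]
        have hyd : y ∈ zpowers d := by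
          rw [← hCd, mem_centralizer_singleton_iff]
        obtain ⟨k, rfl⟩ := mem_zpowers_iff.1 hg
        obtain ⟨l, rfl⟩ := mem_zpowers_iff.1 hyd
        exact (((Commute.refl d).zpow_left l).zpow_left k).pow_right 5
      have : Nonempty (fixedPoints (zpowers y) (Sylow 3 G)) := ⟨⟨Q, hQf⟩⟩
      exact (Nat.card_pos).ne' h0
    omega
  rcases key _ (Nat.mem_divisors.2 ⟨h1, by norm_num⟩) h2 h5 h3 with h6 | h6
  · rw [h6, h] at h4
    exact absurd h4 (by decide +kernel)
  · exact h6

theorem card_3 (h : Nat.card G = 4080) (x : G) (hx : orderOf x = 3) :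
    Nat.card (centralizer ({x} : Set G)) = 15 := by
  have : Fact (Nat.Prime 3) := ⟨by norm_num⟩
  obtain ⟨e, c, he1, he2, hc, hn, hs⟩ := exists_data (G := G) (p := 3) (m := 1360) (by rw [h])
    (by norm_num) (by norm_num) x hx
  rw [card_sylow_3 h] at hs
  have hce : c * e = 10 := by omega
  have he : e = 2 := by
    rcases (Nat.dvd_prime Nat.prime_two).1 he1 with h1 | h1
    · exact absurd h1 he2
    · exact h1
  subst he
  have hc5 : c = 5 := by omega
  subst hc5
  exact hc

/-- If `d` generates the centralizer of an element of order 5, it generates the centralizer of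
each of its nontrivial powers. -/
theorem centralizer_15 (h : Nat.card G = 4080) {d : G} (hd : orderOf d = 15) {g : G}
    (hg : g ∈ zpowers d) (hg1 : g ≠ 1) : centralizer ({g} : Set G) = zpowers d := by
  have f5 : Fact (Nat.Prime 5) := ⟨by norm_num⟩
  have f3 : Fact (Nat.Prime 3) := ⟨by norm_num⟩
  symm
  apply Subgroup.eq_of_le_of_card_ge
  · rw [zpowers_le, mem_centralizer_singleton_iff]
    obtain ⟨k, rfl⟩ := mem_zpowers_iff.1 hg
    exact ((Commute.refl d).zpow_right k).eq
  · rw [Nat.card_zpowers, hd]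
    by_cases hg3 : g ^ 3 = 1
    · have : orderOf g = 3 := orderOf_eq_prime hg3 hg1
      rw [card_3 h g this]
    · have h15 : g ^ 15 = 1 := by
        obtain ⟨k, rfl⟩ := mem_zpowers_iff.1 hg
        rw [← zpow_natCast, ← zpow_mul, mul_comm, zpow_mul, zpow_natCast, ← hd, pow_orderOf_eq_one,
          one_zpow]
      have : orderOf (g ^ 3) = 5 := orderOf_eq_prime (by rw [← pow_mul]; exact h15) hg3
      rw [← (card_5 h _ this).1]
      apply Nat.card_mono (Set.toFinite _)
      intro x hx
      have h1 := mem_centralizer_singleton_iff.1 hx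
      have h2 : Commute x g := h1
      exact mem_centralizer_singleton_iff.2 (h2.pow_right 3).eq

/-- There are at least 1904 nontrivial elements `g` with `g ^ 15 = 1`. -/
theorem card_15_le (h : Nat.card G = 4080) : 1904 ≤ Nat.card {g : G // g ≠ 1 ∧ g ^ 15 = 1} := by
  have f5 : Fact (Nat.Prime 5) := ⟨by norm_num⟩
  have hS : ∀ Q : Sylow 5 G, ∃ y : G, orderOf y = 5 ∧ (Q : Subgroup G) = zpowers y ∧
      ∃ d : G, orderOf d = 15 ∧ centralizer ((Q : Subgroup G) : Set G) = zpowers d := by
    intro Q
    have hQc : Nat.card (Q : Subgroup G) = 5 := by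
      have := card_sylow_of_card_eq Q (k := 1) (m := 816) (by rw [h]; norm_num) (by norm_num)
      rwa [pow_one] at this
    obtain ⟨q, hq⟩ := exists_prime_orderOf_dvd_card' (G := (Q : Subgroup G)) 5 (by rw [hQc])
    have hq' : orderOf (q : G) = 5 := by rw [Subgroup.orderOf_coe, hq]
    have h15 : (Q : Subgroup G) = zpowers (q : G) := by
      symm
      apply Subgroup.eq_of_le_of_card_ge
      · rw [zpowers_le]; exact q.2
      · rw [hQc, Nat.card_zpowers, hq']
    refine ⟨q, hq', h15, ?_⟩
    rw [h15, centralizer_zpowers]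
    exact centralizer_5 h q hq'
  have hd15 : ∀ (d : G), orderOf d = 15 → ∀ g ∈ zpowers d, g ^ 15 = 1 := by
    intro d hd g hg
    obtain ⟨k, rfl⟩ := mem_zpowers_iff.1 hg
    rw [← zpow_natCast, ← zpow_mul, mul_comm, zpow_mul, zpow_natCast, ← hd, pow_orderOf_eq_one,
      one_zpow]
  let f : (Σ Q : Sylow 5 G, {g : centralizer ((Q : Subgroup G) : Set G) // g ≠ 1}) →
      {g : G // g ≠ 1 ∧ g ^ 15 = 1} := fun a => ⟨a.2.1.1, by
        intro h1
        exact a.2.2 (Subtype.ext h1), by
        obtain ⟨y, hy, hQy, d, hd, hC⟩ := hS a.1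
        apply hd15 d hd
        rw [← hC]
        exact a.2.1.2⟩
  have hf : Function.Injective f := by
    rintro ⟨Q, ⟨⟨x, hx⟩, hx1⟩⟩ ⟨R, ⟨⟨y, hy⟩, hy1⟩⟩ hxy
    have hxy : x = y := congrArg Subtype.val hxy
    subst hxy
    have hx1' : x ≠ 1 := fun h => hx1 (Subtype.ext h)
    have hQR : Q = R := by
      obtain ⟨q, hq, hQq, d, hd, hC⟩ := hS Q
      obtain ⟨r, hr, hRr, e, he, hE⟩ := hS R
      have h1 := centralizer_15 h hd (by rw [← hC]; exact hx) hx1'
      have h2 := centralizer_15 h he (by rw [← hE]; exact hy) hx1'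
      have h3 : centralizer ((Q : Subgroup G) : Set G) = centralizer ((R : Subgroup G) : Set G) := by
        rw [hC, hE, ← h1, ← h2]
      have h4 : r ∈ (Q : Subgroup G) := by
        apply mem_of_mem_normalizer_sylow hr
        apply centralizer_le_normalizer' (Q : Subgroup G)
        rw [h3, hRr, centralizer_zpowers, mem_centralizer_singleton_iff]
      apply Sylow.ext
      symm
      apply Subgroup.eq_of_le_of_card_ge
      · rw [hRr, zpowers_le]; exact h4
      · rw [hQq, hRr, Nat.card_zpowers, Nat.card_zpowers, hq, hr]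
    subst hQR
    rfl
  have h1 := Nat.card_le_card_of_injective f hf
  have : Fintype (Sylow 5 G) := Fintype.ofFinite _
  rw [Nat.card_sigma] at h1
  have h2 : ∀ Q : Sylow 5 G, Nat.card {g : centralizer ((Q : Subgroup G) : Set G) // g ≠ 1} = 14 := by
    intro Q
    obtain ⟨y, hy, hQy, d, hd, hC⟩ := hS Q
    have h3 : Nat.card (centralizer ((Q : Subgroup G) : Set G)) = 15 := by
      rw [hC, Nat.card_zpowers, hd]
    classical
    have h4 := Nat.card_congr (Equiv.optionSubtypeNe (1 : centralizer ((Q : Subgroup G) : Set G)))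
    rw [Finite.card_option, h3] at h4
    omega
  simp only [h2, Finset.sum_const, Finset.card_univ, smul_eq_mul] at h1
  rw [← Nat.card_eq_fintype_card, card_sylow_5 h] at h1
  omega

/-- Classification of the elements of a simple group of order 4080. -/
theorem exists_t'' (h : Nat.card G = 4080) : ∃ t : G, orderOf t = 2 ∧
    Nat.card (centralizer ({t} : Set G)) = 16 ∧
    ∀ g : G, g = 1 ∨ orderOf g = 17 ∨ g ^ 15 = 1 ∨ IsConj t g := by
  have f17 : Fact (Nat.Prime 17) := ⟨by norm_num⟩
  obtain ⟨t, ht, hC, -⟩ := exists_t' h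
  obtain ⟨z, hz⟩ := exists_prime_orderOf_dvd_card' (G := G) 17 (by rw [h]; norm_num)
  have h17 := SelfCentPrime.card_orderOf_eq hz (centralizer_17 h z hz)
  rw [card_sylow_17 h] at h17
  have h15 := card_15_le h
  have hcl := SelfCentPrime.card_carrier_mul_card_centralizer t
  rw [h] at hcl
  set T : Set G := (ConjClasses.mk t).carrier with hT
  have hT255 : 255 ≤ Nat.card T := by
    by_contra hcon
    push Not at hcon
    have h1 : Nat.card T * Nat.card (centralizer ({t} : Set G)) ≤ 254 * 16 :=
      Nat.mul_le_mul (by omega) hC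
    omega
  have hTo : ∀ g ∈ T, orderOf g = 2 := by
    intro g hg
    rw [hT, ConjClasses.mem_carrier_iff_mk_eq, ConjClasses.mk_eq_mk_iff_isConj] at hg
    obtain ⟨c, hc⟩ := isConj_iff.1 hg.symm
    rw [← hc, ← ht]
    have := orderOf_injective (MulAut.conj c).toMonoidHom (MulAut.conj c).injective t
    simpa using this
  set A : Set G := {g | orderOf g = 17} with hA
  set B : Set G := {g | g ≠ 1 ∧ g ^ 15 = 1} with hB
  have cA : A.ncard = 1920 := h17
  have cB : 1904 ≤ B.ncard := h15
  have cT : 255 ≤ T.ncard := hT255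
  have hAB : Disjoint A B := by
    rw [Set.disjoint_left]
    rintro g hg ⟨-, hg2⟩
    have hg' : orderOf g = 17 := hg
    have := orderOf_dvd_of_pow_eq_one hg2
    rw [hg'] at this
    norm_num at this
  have hABT : Disjoint (A ∪ B) T := by
    rw [Set.disjoint_left]
    rintro g (hg | ⟨-, hg2⟩) hgT
    · have hg' : orderOf g = 17 := hg
      rw [hTo g hgT] at hg'
      omega
    · have := orderOf_dvd_of_pow_eq_one hg2
      rw [hTo g hgT] at this
      norm_num at this
  have h1 : Disjoint (A ∪ B ∪ T) {1} := by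
    rw [Set.disjoint_singleton_right]
    rintro ((hg | ⟨hg1, -⟩) | hg)
    · have hg' : orderOf (1 : G) = 17 := hg
      rw [orderOf_one] at hg'
      omega
    · exact hg1 rfl
    · have := hTo 1 hg
      rw [orderOf_one] at this
      omega
  have c1 := Set.ncard_union_eq hAB (Set.toFinite _) (Set.toFinite _)
  have c2 := Set.ncard_union_eq hABT (Set.toFinite _) (Set.toFinite _)
  have c3 := Set.ncard_union_eq h1 (Set.toFinite _) (Set.toFinite _)
  rw [Set.ncard_singleton] at c3
  have c4 : (A ∪ B ∪ T ∪ {1}).ncard ≤ 4080 := by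
    rw [← h, ← Set.ncard_univ]
    exact Set.ncard_le_ncard (Set.subset_univ _) (Set.toFinite _)
  have hTe : T.ncard = 255 := by omega
  have huniv : A ∪ B ∪ T ∪ {1} = Set.univ := by
    apply Set.eq_of_subset_of_ncard_le (Set.subset_univ _) _ (Set.toFinite _)
    rw [Set.ncard_univ, h]
    omega
  refine ⟨t, ht, ?_, ?_⟩
  · have hTe' : Nat.card T = 255 := hTe
    rw [hTe'] at hcl
    omega
  · intro g
    have hg : g ∈ A ∪ B ∪ T ∪ {1} := by rw [huniv]; exact Set.mem_univ g
    rcases hg with ((hg | hg) | hg) | hg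
    · exact Or.inr (Or.inl hg)
    · exact Or.inr (Or.inr (Or.inl hg.2))
    · refine Or.inr (Or.inr (Or.inr ?_))
      rw [hT, ConjClasses.mem_carrier_iff_mk_eq, ConjClasses.mk_eq_mk_iff_isConj] at hg
      exact hg.symm
    · exact Or.inl hg

/-- Every element of order dividing 16 is an involution or trivial; the centralizers of involutions
have order 16. -/
theorem two_elements (h : Nat.card G = 4080) :
    (∀ g : G, g ^ 16 = 1 → g ^ 2 = 1) ∧
      ∀ g : G, orderOf g = 2 → Nat.card (centralizer ({g} : Set G)) = 16 := by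
  obtain ⟨t, ht, hC, hcl⟩ := exists_t'' h
  have hconj : ∀ g : G, g ^ 16 = 1 → g ≠ 1 → IsConj t g := by
    intro g hg hg1
    rcases hcl g with h1 | h1 | h1 | h1
    · exact absurd h1 hg1
    · have := orderOf_dvd_of_pow_eq_one hg
      rw [h1] at this
      norm_num at this
    · exfalso
      apply hg1
      calc g = g ^ 16 * (g ^ 15)⁻¹ := by group
        _ = 1 := by rw [hg, h1]; group
    · exact h1
  constructor
  · intro g hg
    by_cases hg1 : g = 1
    · rw [hg1, one_pow]
    · obtain ⟨c, hc⟩ := isConj_iff.1 (hconj g hg hg1)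
      have ht2 : t ^ 2 = 1 := by rw [← ht, pow_orderOf_eq_one]
      rw [← hc, conj_pow, ht2]
      group
  · intro g hg
    have hg1 : g ≠ 1 := by
      rintro rfl
      rw [orderOf_one] at hg
      omega
    have hg16 : g ^ 16 = 1 := by
      rw [← orderOf_dvd_iff_pow_eq_one, hg]
      norm_num
    have h1 := hconj g hg16 hg1
    have h2 := SelfCentPrime.card_carrier_mul_card_centralizer t
    have h3 := SelfCentPrime.card_carrier_mul_card_centralizer g
    rw [ConjClasses.mk_eq_mk_iff_isConj.2 h1, ← h3, hC] at h2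
    have h4 : 0 < Nat.card (ConjClasses.mk g).carrier := by
      rcases Nat.eq_zero_or_pos (Nat.card (ConjClasses.mk g).carrier) with h5 | h5
      · rw [h5, h, zero_mul] at h3
        omega
      · exact h5
    exact (Nat.eq_of_mul_eq_mul_left h4 h2).symm

/-- The hypothesis of the Brauer–Suzuki–Wall type characterization. -/
theorem centralizer_involution (h : Nat.card G = 4080) (t : G) (ht : orderOf t = 2) :
    IsMulCommutative (centralizer ({t} : Set G)) ∧ ∀ c ∈ centralizer ({t} : Set G), c ^ 2 = 1 := by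
  obtain ⟨h1, h2⟩ := two_elements h
  have h3 : ∀ c ∈ centralizer ({t} : Set G), c ^ 2 = 1 := by
    intro c hc
    apply h1
    have h4 := Subgroup.orderOf_dvd_natCard _ hc
    rw [h2 t ht] at h4
    exact orderOf_dvd_iff_pow_eq_one.1 h4
  refine ⟨⟨⟨?_⟩⟩, h3⟩
  rintro ⟨a, ha⟩ ⟨b, hb⟩
  apply Subtype.ext
  show a * b = b * a
  have ha2 := h3 a ha
  have hb2 := h3 b hb
  have hab2 := h3 (a * b) (mul_mem ha hb)
  rw [sq] at ha2 hb2 hab2
  calc a * b = (a * a) * (a * b) * (b * b) := by rw [ha2, hb2]; group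
    _ = a * (a * a * b * b) * b := by group
    _ = a * b := by
      rw [ha2, one_mul, hb2]
      group
    _ = b * a := by
      have h5 : a * b = (a * b)⁻¹ := eq_inv_of_mul_eq_one_left hab2
      have h6 : a⁻¹ = a := inv_eq_of_mul_eq_one_left ha2
      have h7 : b⁻¹ = b := inv_eq_of_mul_eq_one_left hb2
      rw [h5, mul_inv_rev, h6, h7]

end Cfsg.Agent.SmallSimple.Order4080
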