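import Mathlib

/-!
Permutations of `Fin 4 × ZMod 5` of the form `(j, i) ↦ (σ j, c j + k * i)`
(the normalizer of the fixed point free permutation `(j, i) ↦ (j, i + 1)`).
-/

set_option autoImplicit false

namespace Cfsg.Agent.SmallSimple.BlockPerm

open Equiv Equiv.Perm

theorem even_two_elements_commute : ∀ σ τ : Perm (Fin 4), sign σ = 1 → sign τ = 1 →
    σ ^ 4 = 1 → τ ^ 4 = 1 → σ * τ = τ * σ := by decide +kernel

theorem even_two_element_fixedPointFree : ∀ σ : Perm (Fin 4), sign σ = 1 → σ ^ 4 = 1 →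
    σ ≠ 1 → ∀ i, σ i ≠ i := by decide +kernel

theorem pow_four_of_pow_eight : ∀ σ : Perm (Fin 4), σ ^ 8 = 1 → σ ^ 4 = 1 := by
  decide +kernel

theorem sign_addLeft_zmod_five : ∀ c : ZMod 5, sign (Equiv.addLeft c) = 1 := by
  decide +kernel

theorem pow_four_eq_one_of_two_pow (σ : Perm (Fin 4)) (m : ℕ) (h : σ ^ (2 ^ m) = 1) :
    σ ^ 4 = 1 := by
  apply pow_four_of_pow_eight
  have h1 : orderOf σ ∣ 2 ^ m := orderOf_dvd_of_pow_eq_one h
  have h2 : orderOf σ ∣ 24 := by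
    have := orderOf_dvd_card (x := σ)
    rwa [Fintype.card_perm, Fintype.card_fin] at this
  obtain ⟨k, _, hk⟩ := (Nat.dvd_prime_pow Nat.prime_two).1 h1
  rw [hk] at h2
  have hk3 : k ≤ 3 := by
    by_contra hcon
    have h3 : 2 ^ 4 ∣ 2 ^ k := pow_dvd_pow 2 (by omega)
    have h4 := h3.trans h2
    revert h4; decide
  rw [← orderOf_dvd_iff_pow_eq_one, hk]
  exact (pow_dvd_pow 2 hk3).trans (by norm_num)

/-- `π` maps `(j, i)` to `(σ j, c j + k * i)`. -/
def IsBlk (π : Perm (Fin 4 × ZMod 5)) (σ : Perm (Fin 4)) (k : (ZMod 5)ˣ) (c : Fin 4 → ZMod 5) :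
    Prop :=
  ∀ j i, π (j, i) = (σ j, c j + k * i)

theorem IsBlk.sign_eq {π : Perm (Fin 4 × ZMod 5)} {σ : Perm (Fin 4)} {k : (ZMod 5)ˣ}
    {c : Fin 4 → ZMod 5} (h : IsBlk π σ k c) : sign π = sign σ := by
  have h1 : π = (prodCongrLeft (fun _ : ZMod 5 => σ) : Perm (Fin 4 × ZMod 5)) *
      (prodCongrRight (fun j : Fin 4 => (Equiv.addLeft (c j) : Perm (ZMod 5)) * Units.mulLeft k)) := by
    ext1 ⟨j, i⟩
    rw [h j i]
    simp [Perm.mul_apply, prodCongrLeft, prodCongrRight]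
  rw [h1, Perm.sign_mul, sign_prodCongrLeft, sign_prodCongrRight]
  simp only [Perm.sign_mul, sign_addLeft_zmod_five, one_mul, Finset.prod_const, Finset.card_univ,
    ZMod.card, Fintype.card_fin]
  rcases Int.units_eq_one_or (sign σ) with h2 | h2 <;>
  rcases Int.units_eq_one_or (sign (Units.mulLeft k : Perm (ZMod 5))) with h3 | h3 <;>
  rw [h2, h3] <;> decide

theorem IsBlk.mul {π π' : Perm (Fin 4 × ZMod 5)} {σ σ' : Perm (Fin 4)} {k k' : (ZMod 5)ˣ}
    {c c' : Fin 4 → ZMod 5} (h : IsBlk π σ k c) (h' : IsBlk π' σ' k' c') :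
    IsBlk (π * π') (σ * σ') (k * k') (fun j => c (σ' j) + k * c' j) := by
  intro j i
  rw [Perm.mul_apply, h', h, Perm.mul_apply, Units.val_mul]
  congr 1
  ring

theorem IsBlk.one : IsBlk 1 1 1 (fun _ => 0) := by
  intro j i; simp

theorem IsBlk.inv {π : Perm (Fin 4 × ZMod 5)} {σ : Perm (Fin 4)} {k : (ZMod 5)ˣ}
    {c : Fin 4 → ZMod 5} (h : IsBlk π σ k c) :
    IsBlk π⁻¹ σ⁻¹ k⁻¹ (fun j => - (k⁻¹ : (ZMod 5)ˣ) * c (σ⁻¹ j)) := by
  intro j i
  rw [Perm.inv_eq_iff_eq, h]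
  have hs : σ (σ⁻¹ j) = j := by simp
  rw [hs]
  congr 1
  have : (k : ZMod 5) * ((k⁻¹ : (ZMod 5)ˣ) : ZMod 5) = 1 := by simp
  linear_combination (c (σ⁻¹ j) - i) * this

theorem IsBlk.unique {π : Perm (Fin 4 × ZMod 5)} {σ σ' : Perm (Fin 4)} {k k' : (ZMod 5)ˣ}
    {c c' : Fin 4 → ZMod 5} (h : IsBlk π σ k c) (h' : IsBlk π σ' k' c') :
    σ = σ' ∧ k = k' ∧ c = c' := by
  have h1 : ∀ j i, σ j = σ' j ∧ c j + k * i = c' j + k' * i := by
    intro j i
    have := (h j i).symm.trans (h' j i)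
    exact ⟨congrArg Prod.fst this, congrArg Prod.snd this⟩
  have hc : ∀ j, c j = c' j := by
    intro j
    simpa using (h1 j 0).2
  refine ⟨Equiv.ext fun j => (h1 j 0).1, Units.ext ?_, funext hc⟩
  have := (h1 0 1).2
  rw [hc 0] at this
  simpa using this

theorem IsBlk.pow {π : Perm (Fin 4 × ZMod 5)} {σ : Perm (Fin 4)} {k : (ZMod 5)ˣ}
    {c : Fin 4 → ZMod 5} (h : IsBlk π σ k c) (n : ℕ) : ∃ c', IsBlk (π ^ n) (σ ^ n) (k ^ n) c' := by
  induction n with
  | zero => exact ⟨_, by simpa using IsBlk.one⟩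
  | succ n ih =>
    obtain ⟨c', hc'⟩ := ih
    exact ⟨_, by simpa [pow_succ] using hc'.mul h⟩

theorem IsBlk.perm_pow_four {π : Perm (Fin 4 × ZMod 5)} {σ : Perm (Fin 4)} {k : (ZMod 5)ˣ}
    {c : Fin 4 → ZMod 5} (h : IsBlk π σ k c) {m : ℕ} (hm : π ^ (2 ^ m) = 1) : σ ^ 4 = 1 := by
  obtain ⟨c', hc'⟩ := h.pow (2 ^ m)
  rw [hm] at hc'
  exact pow_four_eq_one_of_two_pow σ m (hc'.unique IsBlk.one).1

/-- A permutation with trivial block permutation and trivial multiplier has 5th power one. -/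
theorem IsBlk.pow_five {π : Perm (Fin 4 × ZMod 5)} {c : Fin 4 → ZMod 5} (h : IsBlk π 1 1 c) :
    π ^ 5 = 1 := by
  have h5 : ∀ n : ℕ, IsBlk (π ^ n) 1 1 (fun j => n * c j) := by
    intro n
    induction n with
    | zero => simpa using IsBlk.one
    | succ n ih =>
      have := ih.mul h
      rw [pow_succ]
      simpa [add_mul] using this
  have := h5 5
  ext1 ⟨j, i⟩
  rw [this j i]
  have h0 : (5 : ZMod 5) = 0 := by decide
  simp [h0]

/-- Two even permutations of two-power order: the commutator has fifth power one. -/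
theorem IsBlk.commutator_pow_five {π π' : Perm (Fin 4 × ZMod 5)} {σ σ' : Perm (Fin 4)}
    {k k' : (ZMod 5)ˣ} {c c' : Fin 4 → ZMod 5} (h : IsBlk π σ k c) (h' : IsBlk π' σ' k' c')
    {m m' : ℕ} (hm : π ^ (2 ^ m) = 1) (hm' : π' ^ (2 ^ m') = 1) (hs : sign π = 1)
    (hs' : sign π' = 1) : (π * π' * π⁻¹ * π'⁻¹) ^ 5 = 1 := by
  have hσ : σ * σ' = σ' * σ := even_two_elements_commute σ σ' (h.sign_eq ▸ hs)
    (h'.sign_eq ▸ hs') (h.perm_pow_four hm) (h'.perm_pow_four hm')
  have h1 := ((h.mul h').mul h.inv).mul h'.inv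
  have h2 : σ * σ' * σ⁻¹ * σ'⁻¹ = 1 := by rw [hσ]; group
  have h3 : k * k' * k⁻¹ * k'⁻¹ = 1 := by
    rw [mul_comm k k']; group
  rw [h2, h3] at h1
  exact h1.pow_five

/-- An even permutation of two-power order with multiplier one which is not the identity has no
fixed points. -/
theorem IsBlk.fixedPointFree {π : Perm (Fin 4 × ZMod 5)} {σ : Perm (Fin 4)}
    {c : Fin 4 → ZMod 5} (h : IsBlk π σ 1 c) {m : ℕ} (hm : π ^ (2 ^ m) = 1) (hs : sign π = 1)
    (hne : π ≠ 1) : ∀ z, π z ≠ z := by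
  have hσ : σ ≠ 1 := by
    intro hσ
    rw [hσ] at h
    apply hne
    have h1 := h.pow_five
    have h2 : orderOf π ∣ 5 := orderOf_dvd_of_pow_eq_one h1
    have h3 : orderOf π ∣ 2 ^ m := orderOf_dvd_of_pow_eq_one hm
    have h4 : Nat.Coprime 5 (2 ^ m) := Nat.Coprime.pow_right _ (by norm_num)
    rw [← orderOf_eq_one_iff]
    exact Nat.eq_one_of_dvd_coprimes h4 h2 h3
  rintro ⟨j, i⟩ hz
  rw [h j i] at hz
  exact even_two_element_fixedPointFree σ (h.sign_eq ▸ hs) (h.perm_pow_four hm) hσ j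
    (congrArg Prod.fst hz)

/-- A permutation normalizing the model `(j, i) ↦ (j, i + 1)` is of block form. -/
theorem exists_isBlk (π : Perm (Fin 4 × ZMod 5)) (k : (ZMod 5)ˣ)
    (h : ∀ j i, π (j, i + 1) = ((π (j, i)).1, (π (j, i)).2 + k)) :
    ∃ σ c, IsBlk π σ k c := by
  have h1 : ∀ j (i : ZMod 5), π (j, i) = ((π (j, 0)).1, (π (j, 0)).2 + k * i) := by
    intro j i
    have h2 : ∀ n : ℕ, π (j, (n : ZMod 5)) = ((π (j, 0)).1, (π (j, 0)).2 + k * n) := by
      intro n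
      induction n with
      | zero => simp
      | succ n ih =>
        rw [Nat.cast_succ, h, ih]
        congr 1
        ring
    have := h2 i.val
    rwa [ZMod.natCast_zmod_val] at this
  let f : Fin 4 → Fin 4 := fun j => (π (j, 0)).1
  have hf : Function.Surjective f := by
    intro j
    obtain ⟨⟨j', i'⟩, hj'⟩ := π.surjective (j, 0)
    refine ⟨j', ?_⟩
    rw [h1] at hj'
    exact congrArg Prod.fst hj'
  refine ⟨Equiv.ofBijective f ⟨Finite.injective_iff_surjective.2 hf, hf⟩, fun j => (π (j, 0)).2, ?_⟩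
  intro j i
  exact h1 j i

/-- Coordinates for a fixed point free permutation of order 5 of 20 points. -/
theorem exists_coordinates {Y : Type*} [Finite Y] (hY : Nat.card Y = 20) (a : Perm Y)
    (ha : a ^ 5 = 1) (hfree : ∀ y, a y ≠ y) :
    ∃ f : Fin 4 × ZMod 5 ≃ Y, ∀ j i, f (j, i + 1) = a (f (j, i)) := by
  classical
  have hY' : Nat.card (Fin 4 × ZMod 5) = Nat.card Y := by
    rw [hY, Nat.card_prod, Nat.card_eq_fintype_card, Nat.card_eq_fintype_card, Fintype.card_fin,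
      ZMod.card]
  let e : Fin 4 × ZMod 5 ≃ Y := (Finite.equivFinOfCardEq hY').trans (Finite.equivFinOfCardEq rfl).symm
  have key : ∀ b : Perm (Fin 4 × ZMod 5), b ^ 5 = 1 → (∀ y, b y ≠ y) →
      b.cycleType = Multiset.replicate 4 5 := by
    intro b hb hbf
    have : Fact (Nat.Prime 5) := ⟨by norm_num⟩
    have hord : orderOf b = 5 := by
      apply orderOf_eq_prime hb
      intro h1
      exact hbf (0, 0) (by rw [h1]; rfl)
    have hp : (orderOf b).Prime := by rw [hord]; norm_num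
    obtain ⟨n, hn⟩ := cycleType_prime_order hp
    have hsum := sum_cycleType b
    have hsupp : b.support = Finset.univ := by
      ext z; simp [hbf z]
    rw [hn, hsupp, hord, Multiset.sum_replicate, Finset.card_univ, Fintype.card_prod,
      Fintype.card_fin, ZMod.card] at hsum
    have hn' : n + 1 = 4 := by
      simp at hsum; omega
    rw [hn, hord, hn']
  let m : Perm (Fin 4 × ZMod 5) := prodCongrRight (fun _ => Equiv.addRight (1 : ZMod 5))
  have hm : ∀ j i, m (j, i) = (j, i + 1) := fun j i => rfl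
  have hmblk : IsBlk m 1 1 (fun _ => 1) := by
    intro j i; rw [hm]; simp [add_comm]
  have hm5 : m ^ 5 = 1 := hmblk.pow_five
  have hmf : ∀ y, m y ≠ y := by
    rintro ⟨j, i⟩ h
    rw [hm] at h
    have := congrArg Prod.snd h
    simp at this
    revert this; decide
  let b : Perm (Fin 4 × ZMod 5) := e.permCongr.symm a
  have hbdef : ∀ z, e (b z) = a (e z) := by intro z; simp [b]
  have hb5 : b ^ 5 = 1 := by
    have h1 : ∀ n : ℕ, ∀ z, e ((b ^ n) z) = (a ^ n) (e z) := by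
      intro n
      induction n with
      | zero => intro z; simp
      | succ n ih => intro z; rw [pow_succ, pow_succ, Perm.mul_apply, Perm.mul_apply, ih, hbdef]
    ext1 z
    apply e.injective
    rw [h1, ha]; rfl
  have hbf : ∀ y, b y ≠ y := by
    intro y h
    exact hfree (e y) (by rw [← hbdef, h])
  have hconj : IsConj m b := by
    rw [isConj_iff_cycleType_eq, key m hm5 hmf, key b hb5 hbf]
  obtain ⟨c, hc⟩ := isConj_iff.1 hconj
  refine ⟨c.trans e, ?_⟩
  intro j i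
  have h1 : c (m (j, i)) = b (c (j, i)) := by
    rw [← hc]; simp
  rw [← hm, Equiv.trans_apply, h1, hbdef]
  rfl

end Cfsg.Agent.SmallSimple.BlockPerm
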