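import Mathlib
import Cfsg.Agent.S1009
import Cfsg.Agent.SmallSimple.BlockPerm

/-!
A simple group does not have exactly 21 Sylow 5-subgroups.
-/

set_option autoImplicit false

namespace Cfsg.Agent.SmallSimple.SylFive

open MulAction Subgroup
open scoped commutatorElement

/-- Commutators of elements normalizing a cyclic subgroup centralize it. -/
theorem commutator_mem_centralizer_of_isCyclic {G : Type*} [Group G] (P : Subgroup G)
    (hP : IsCyclic P) {x y : G} (hx : x ∈ normalizer (P : Set G))
    (hy : y ∈ normalizer (P : Set G)) :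
    x * y * x⁻¹ * y⁻¹ ∈ centralizer (P : Set G) := by
  obtain ⟨⟨g, hg⟩, hgen⟩ := hP.exists_generator
  have hz : ∀ p ∈ P, ∃ n : ℤ, p = g ^ n := by
    intro p hp
    obtain ⟨n, hn⟩ := mem_zpowers_iff.1 (hgen ⟨p, hp⟩)
    exact ⟨n, (congrArg Subtype.val hn).symm⟩
  obtain ⟨m, hm⟩ := hz (x⁻¹ * g * x) ((mem_set_normalizer_iff''.1 hx g).1 hg)
  obtain ⟨n, hn⟩ := hz (y⁻¹ * g * y) ((mem_set_normalizer_iff''.1 hy g).1 hg)
  have hx' : ∀ k : ℤ, x⁻¹ * g ^ k * x = g ^ (m * k) := by
    intro k
    have := conj_zpow (i := k) (a := x⁻¹) (b := g)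
    rw [inv_inv] at this
    rw [← this, hm, zpow_mul]
  have hy' : ∀ k : ℤ, y⁻¹ * g ^ k * y = g ^ (n * k) := by
    intro k
    have := conj_zpow (i := k) (a := y⁻¹) (b := g)
    rw [inv_inv] at this
    rw [← this, hn, zpow_mul]
  rw [mem_centralizer_iff]
  intro p hp
  obtain ⟨k, rfl⟩ := hz p hp
  have key : y⁻¹ * (x⁻¹ * g ^ k * x) * y = x⁻¹ * (y⁻¹ * g ^ k * y) * x := by
    rw [hx' k, hy' (m * k), hy' k, hx' (n * k)]
    congr 1
    ring
  calc g ^ k * (x * y * x⁻¹ * y⁻¹)
      = x * y * (y⁻¹ * (x⁻¹ * g ^ k * x) * y) * x⁻¹ * y⁻¹ := by group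
    _ = x * y * (x⁻¹ * (y⁻¹ * g ^ k * y) * x) * x⁻¹ * y⁻¹ := by rw [key]
    _ = x * y * x⁻¹ * y⁻¹ * g ^ k := by group

/-- In a perfect finite group, an abelian Sylow subgroup `S` whose normalizer normalizes a cyclic
subgroup `P` centralizes `P`. -/
theorem sylow_le_centralizer_of_normalizer_le {G : Type*} [Group G] [Finite G] {p : ℕ}
    [Fact p.Prime] (S : Sylow p G) (hS : IsMulCommutative S) (hperf : _root_.commutator G = ⊤)
    (P : Subgroup G) (hP : IsCyclic P)
    (hN : normalizer (S : Set G) ≤ normalizer (P : Set G)) :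
    (S : Subgroup G) ≤ centralizer (P : Set G) := by
  have h := commutator_inf_eq_focalSubgroup S
  rw [hperf, top_inf_eq] at h
  rw [h, focalSubgroup_def, closure_le]
  rintro g ⟨hg, x, hx, u, rfl⟩
  have h1 : u⁻¹⁻¹ * x⁻¹ * u⁻¹ ∈ S := by
    have : x⁻¹ * ⁅x, u⁆ ∈ (S : Subgroup G) := mul_mem (inv_mem hx) hg
    rw [commutatorElement_def] at this
    have h2 : x⁻¹ * (x * u * x⁻¹ * u⁻¹) = u⁻¹⁻¹ * x⁻¹ * u⁻¹ := by group
    rw [h2] at this
    exact this
  obtain ⟨n, hn, h2⟩ := S.conj_eq_normalizer_conj_of_mem x⁻¹ u⁻¹ (inv_mem hx) h1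
  have h3 : ⁅x, u⁆ = x * n⁻¹ * x⁻¹ * n⁻¹⁻¹ := by
    rw [commutatorElement_def]
    calc x * u * x⁻¹ * u⁻¹ = x * (u⁻¹⁻¹ * x⁻¹ * u⁻¹) := by group
      _ = x * (n⁻¹ * x⁻¹ * n) := by rw [h2]
      _ = x * n⁻¹ * x⁻¹ * n⁻¹⁻¹ := by group
  rw [h3]
  exact commutator_mem_centralizer_of_isCyclic P hP (hN (le_normalizer hx)) (inv_mem (hN hn))

section Simple

variable {G : Type*} [Group G] [Finite G]

instance fact5 : Fact (Nat.Prime 5) := ⟨by norm_num⟩

theorem not_normal (h : Nat.card (Sylow 5 G) = 21) (P : Sylow 5 G) : ¬ (P : Subgroup G).Normal := by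
  intro hn
  have h1 := P.card_eq_index_normalizer
  have h2 : normalizer (P : Set G) = ⊤ := normalizer_eq_top_iff.2 hn
  rw [h2, index_top, h] at h1
  omega

theorem relIndex_normalizer (h : Nat.card (Sylow 5 G) = 21) (P Q : Sylow 5 G) (hPQ : P ≠ Q) :
    (stabilizer P Q).index = 5 := by
  obtain ⟨n, hn⟩ := P.2.card_orbit (α := Sylow 5 G) Q
  have h1 : (stabilizer P Q).index = 5 ^ n := by
    rw [index_stabilizer, ← hn, Nat.card_coe_set_eq]
  have h2 : n ≠ 0 := by
    intro h0
    rw [h0, pow_zero, index_eq_one] at h1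
    have h3 : Q ∈ fixedPoints P (Sylow 5 G) := by
      intro g
      have : g ∈ stabilizer P Q := by rw [h1]; trivial
      exact this
    rw [P.2.sylow_mem_fixedPoints_iff] at h3
    exact hPQ (Sylow.ext (P.3 Q.2 h3)).symm
  have h3 : Nat.card (orbit P Q) ≤ 20 := by
    have h4 : (orbit P Q) ⊆ {P}ᶜ := by
      intro R hR hRP
      rw [Set.mem_singleton_iff] at hRP
      rw [hRP] at hR
      obtain ⟨g, hg⟩ := hR
      apply hPQ
      have h5 : Q = g⁻¹ • P := eq_inv_smul_iff.2 hg
      have h6 : g⁻¹ • P = P := by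
        rw [Subgroup.smul_def, Sylow.smul_eq_iff_mem_normalizer]
        exact le_normalizer (g⁻¹).2
      rw [h5, h6]
    have h5 := Set.ncard_le_ncard h4 (Set.toFinite _)
    rw [Set.ncard_compl, Set.ncard_singleton, h] at h5
    rw [Nat.card_coe_set_eq]
    exact h5
  have h4 : n < 2 := by
    by_contra hcon
    have h5 : 5 ^ 2 ≤ 5 ^ n := Nat.pow_le_pow_right (by norm_num) (by omega)
    rw [hn] at h3
    omega
  have h5 : n = 1 := by omega
  rw [h1, h5, pow_one]

variable [IsSimpleGroup G]

theorem toPermHom_injective (h : Nat.card (Sylow 5 G) = 21) :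
    Function.Injective (toPermHom G (Sylow 5 G)) := by
  rw [← MonoidHom.ker_eq_bot_iff]
  rcases IsSimpleGroup.eq_bot_or_eq_top_of_normal (toPermHom G (Sylow 5 G)).ker inferInstance with
    h1 | h1
  · exact h1
  · exfalso
    obtain ⟨P⟩ : Nonempty (Sylow 5 G) := inferInstance
    apply not_normal h P
    rw [← normalizer_eq_top_iff, eq_top_iff]
    intro g _
    have hg : g ∈ (toPermHom G (Sylow 5 G)).ker := by rw [h1]; trivial
    rw [MonoidHom.mem_ker] at hg
    rw [P.coe_coe, ← Sylow.smul_eq_iff_mem_normalizer]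
    exact congrArg (fun f => f P) hg

theorem sylow_comm (h : Nat.card (Sylow 5 G) = 21) (P : Sylow 5 G) :
    IsMulCommutative (P : Subgroup G) := by
  have hPc : P.1 ≠ ⊥ := by
    intro hb
    apply not_normal h P
    rw [hb]; infer_instance
  have hcard : (Nat.card P).minFac = 5 := by
    obtain ⟨n, hn⟩ := P.2.exists_card_eq
    rw [hn]
    rcases Nat.eq_zero_or_pos n with h0 | h0
    · exfalso; apply hPc
      rw [h0, pow_zero] at hn
      exact card_eq_one.1 hn
    · exact Nat.Prime.pow_minFac (by norm_num) (by omega)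
  have hc : ∀ Q : Sylow 5 G, _root_.commutator P ≤ stabilizer P Q := by
    intro Q
    by_cases hPQ : P = Q
    · subst hPQ
      intro g _
      rw [mem_stabilizer_iff, Subgroup.smul_def, Sylow.smul_eq_iff_mem_normalizer]
      exact le_normalizer g.2
    · have h1 := relIndex_normalizer h P Q hPQ
      have h2 : (stabilizer P Q).Normal := normal_of_index_eq_minFac_card (by rw [h1]; exact hcard.symm)
      rw [← Normal.quotient_commutative_iff_commutator_le]
      have h3 : Nat.card (P ⧸ stabilizer P Q) = 5 := h1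
      have h4 : IsCyclic (P ⧸ stabilizer P Q) := isCyclic_of_prime_card h3
      exact IsCyclic.isMulCommutative
  have hbot : _root_.commutator P = ⊥ := by
    rw [eq_bot_iff]
    intro g hg
    rw [mem_bot]
    apply Subtype.ext
    apply toPermHom_injective h
    ext1 Q
    have := hc Q hg
    rw [mem_stabilizer_iff, Subgroup.smul_def] at this
    simpa using this
  rw [_root_.commutator_eq_bot_iff_center_eq_top] at hbot
  constructor
  constructor
  intro a b
  have : a ∈ center P := by rw [hbot]; trivial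
  exact (mem_center_iff.1 this b).symm

theorem card_sylow_five (h : Nat.card (Sylow 5 G) = 21) (R : Sylow 5 G) : Nat.card R = 5 := by
  obtain ⟨P, Q, hPQ⟩ := Cfsg.Agent.S1009.result 5 (fun P : Sylow 5 G => sylow_comm h P)
  have hnorm : (⨅ R : Sylow 5 G, (R : Subgroup G)).Normal := by
    constructor
    intro n hn g
    rw [mem_iInf] at hn ⊢
    intro R
    have := hn (g⁻¹ • R)
    rw [Sylow.coe_subgroup_smul, Subgroup.mem_pointwise_smul_iff_inv_smul_mem] at this
    simpa using this
  have hbot : (P : Subgroup G) ⊓ Q = ⊥ := by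
    rcases IsSimpleGroup.eq_bot_or_eq_top_of_normal _ hnorm with h1 | h1
    · rw [hPQ, h1]
    · exfalso
      apply not_normal h P
      have : (P : Subgroup G) = ⊤ := by
        rw [eq_top_iff, ← h1]
        exact iInf_le _ P
      rw [this]; infer_instance
  have hne : P ≠ Q := by
    rintro rfl
    rw [inf_idem] at hbot
    apply not_normal h P
    rw [hbot]; infer_instance
  have h1 := relIndex_normalizer h P Q hne
  have h2 : stabilizer P Q = ⊥ := by
    rw [eq_bot_iff]
    intro g hg
    rw [mem_stabilizer_iff, Subgroup.smul_def, Sylow.smul_eq_iff_mem_normalizer] at hg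
    have h3 : (g : G) ∈ (P : Subgroup G) ⊓ normalizer (Q : Set G) := ⟨g.2, hg⟩
    have h4 := P.2.inf_normalizer_sylow Q
    rw [h4, hbot, mem_bot] at h3
    exact mem_bot.2 (Subtype.ext h3)
  rw [h2, index_bot] at h1
  exact (Nat.card_congr (R.equiv P).toEquiv).trans h1

omit [IsSimpleGroup G] in
theorem not_isMulCommutative (h : Nat.card (Sylow 5 G) = 21) : ¬ IsMulCommutative G := by
  obtain ⟨P⟩ : Nonempty (Sylow 5 G) := inferInstance
  intro hG
  apply not_normal h P
  constructor
  intro n hn g
  rw [mul_comm' g n, mul_inv_cancel_right]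
  exact hn

theorem commutator_eq_top (h : Nat.card (Sylow 5 G) = 21) : _root_.commutator G = ⊤ := by
  rcases IsSimpleGroup.eq_bot_or_eq_top_of_normal (_root_.commutator G) inferInstance with h1 | h1
  · exfalso
    apply not_isMulCommutative h
    rw [_root_.commutator_eq_bot_iff_center_eq_top] at h1
    constructor
    constructor
    intro a b
    have : a ∈ center G := by rw [h1]; trivial
    exact (mem_center_iff.1 this b).symm
  · exact h1

theorem hom_trivial (h : Nat.card (Sylow 5 G) = 21) {A : Type*} [CommGroup A] (f : G →* A) (g : G) :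
    f g = 1 := by
  have h1 : _root_.commutator G ≤ f.ker := Abelianization.commutator_subset_ker f
  rw [commutator_eq_top h] at h1
  exact h1 (mem_top g)

/-- Burnside's transfer theorem for simple groups. -/
theorem sylow_eq_bot (hnc : ¬ IsMulCommutative G) {p : ℕ} [Fact p.Prime] (S : Sylow p G)
    (hS : normalizer (S : Set G) ≤ centralizer (S : Set G)) : (S : Subgroup G) = ⊥ := by
  have hc := MonoidHom.ker_transferSylow_isComplement' S hS
  rcases IsSimpleGroup.eq_bot_or_eq_top_of_normal (MonoidHom.transferSylow S hS).ker inferInstance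
    with h1 | h1
  · exfalso
    rw [h1, isComplement'_bot_left] at hc
    apply hnc
    constructor
    constructor
    intro a b
    have ha : a ∈ (S : Subgroup G) := by rw [hc]; trivial
    have hb : b ∈ (S : Subgroup G) := by rw [hc]; trivial
    exact (mem_centralizer_iff.1 (hS (le_normalizer ha)) b hb).symm
  · rwa [h1, isComplement'_top_left] at hc

open BlockPerm in
theorem exists_blk (h : Nat.card (Sylow 5 G) = 21) (P : Sylow 5 G) :
    ∃ φ : stabilizer G P →* Equiv.Perm (Fin 4 × ZMod 5),
      Function.Injective φ ∧ (∀ g, Equiv.Perm.sign (φ g) = 1) ∧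
      (∀ g, ∃ σ k c, IsBlk (φ g) σ k c ∧ ((g : G) ∈ centralizer (P : Set G) → k = 1)) ∧
      (∀ g, (∀ z, φ g z ≠ z) → ∀ Q : Sylow 5 G, (g : G) • Q = Q → Q = P) := by
  classical
  let _ : Fintype (Sylow 5 G) := Fintype.ofFinite _
  have hP5 : Nat.card P = 5 := card_sylow_five h P
  have hcyc : IsCyclic P := isCyclic_of_prime_card hP5
  obtain ⟨⟨a, haP⟩, hgen⟩ := hcyc.exists_generator
  have hz : ∀ p ∈ (P : Subgroup G), p ∈ zpowers a := by
    intro p hp
    obtain ⟨n, hn⟩ := mem_zpowers_iff.1 (hgen ⟨p, hp⟩)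
    exact mem_zpowers_iff.2 ⟨n, congrArg Subtype.val hn⟩
  have ha : orderOf a = 5 := by
    have h1 := orderOf_eq_card_of_forall_mem_zpowers hgen
    rw [hP5, ← orderOf_coe] at h1
    exact h1
  have haN : a ∈ stabilizer G P := by
    rw [Sylow.stabilizer_eq_normalizer]
    exact le_normalizer haP
  let Y := SubMulAction.ofStabilizer G P
  let _ : Fintype Y := Fintype.ofFinite _
  have hYcard : Nat.card Y = 20 := by
    have := SubMulAction.nat_card_ofStabilizer_eq G P
    rw [h] at this
    exact this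
  let ψ : stabilizer G P →* Equiv.Perm Y := toPermHom (stabilizer G P) Y
  have hψ : ∀ (g : stabilizer G P) (y : Y), ((ψ g y : Y) : Sylow 5 G) = (g : G) • (y : Sylow 5 G) :=
    fun g y => rfl
  obtain ⟨f, hf⟩ := exists_coordinates hYcard (ψ ⟨a, haN⟩)
    (by
      rw [← map_pow]
      have : (⟨a, haN⟩ : stabilizer G P) ^ 5 = 1 := by
        apply Subtype.ext
        show a ^ 5 = 1
        rw [← ha]; exact pow_orderOf_eq_one a
      rw [this, map_one])
    (by
      intro y hy
      have h1 := hψ ⟨a, haN⟩ y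
      rw [hy] at h1
      have h2 : (P : Subgroup G) ≤ normalizer ((y : Sylow 5 G) : Set G) := by
        intro p hp
        obtain ⟨n, rfl⟩ := mem_zpowers_iff.1 (hz p hp)
        apply zpow_mem
        rw [← Sylow.smul_eq_iff_mem_normalizer]
        exact h1.symm
      rw [← sylow_mem_fixedPoints_iff, P.2.sylow_mem_fixedPoints_iff] at h2
      exact y.2 (Sylow.ext (P.3 (y : Sylow 5 G).2 h2)))
  let φ : stabilizer G P →* Equiv.Perm (Fin 4 × ZMod 5) :=
    (f.symm.permCongrHom.toMonoidHom).comp ψ
  have hφ : ∀ g z, f (φ g z) = ψ g (f z) := by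
    intro g z
    simp [φ]
  have hψa : ∀ (n : ℕ) (z : Fin 4 × ZMod 5), ψ (⟨a, haN⟩ ^ n) (f z) = f (z.1, z.2 + n) := by
    intro n
    induction n with
    | zero => intro z; simp
    | succ n ih =>
      intro z
      rw [pow_succ', map_mul, Equiv.Perm.mul_apply, ih, ← hf, Nat.cast_succ, add_assoc]
  refine ⟨φ, ?_, ?_, ?_, ?_⟩
  · -- injectivity
    rw [injective_iff_map_eq_one]
    intro g hg
    apply Subtype.ext
    apply toPermHom_injective h
    ext1 Q
    show (g : G) • Q = (1 : G) • Q
    rw [one_smul]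
    by_cases hQP : Q = P
    · rw [hQP]; exact g.2
    · have h1 := hφ g (f.symm ⟨Q, hQP⟩)
      rw [hg, Equiv.Perm.one_apply, Equiv.apply_symm_apply] at h1
      have h2 := hψ g ⟨Q, hQP⟩
      rw [← h1] at h2
      exact h2.symm
  · -- sign
    intro g
    have h1 : Equiv.Perm.sign (φ g) = Equiv.Perm.sign (ψ g) := by
      apply Equiv.Perm.sign_bij (fun z _ => f z)
      · intro z _ _
        exact hφ g z
      · intro z₁ z₂ _ _ h12
        exact f.injective h12
      · intro y hy
        refine ⟨f.symm y, ?_, by simp⟩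
        intro hy'
        apply hy
        have := hφ g (f.symm y)
        rw [hy', Equiv.apply_symm_apply] at this
        exact this.symm
    have h2 : Equiv.Perm.sign (ψ g) = Equiv.Perm.sign (toPermHom G (Sylow 5 G) g) := by
      apply Equiv.Perm.sign_bij (fun (y : Y) _ => (y : Sylow 5 G))
      · intro y _ _
        exact hψ g y
      · intro y₁ y₂ _ _ h12
        exact Subtype.ext h12
      · intro Q hQ
        have hQP : Q ≠ P := by
          rintro rfl
          exact hQ g.2
        refine ⟨⟨Q, hQP⟩, ?_, rfl⟩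
        intro hy
        apply hQ
        exact congrArg Subtype.val hy
    rw [h1, h2]
    exact hom_trivial h (Equiv.Perm.sign.comp (toPermHom G (Sylow 5 G))) (g : G)
  · -- block form
    intro g
    have hgN : (g : G) ∈ normalizer (P : Set G) := by
      rw [← Sylow.stabilizer_eq_normalizer]; exact g.2
    have hconj : (g : G) * a * (g : G)⁻¹ ∈ (P : Subgroup G) := (mem_set_normalizer_iff.1 hgN a).1 haP
    obtain ⟨n, hn⟩ := (Submonoid.mem_powers_iff _ _).1 (mem_powers_iff_mem_zpowers.2 (hz _ hconj))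
    have hcop : Nat.Coprime n 5 := by
      rw [Nat.coprime_comm, Nat.Prime.coprime_iff_not_dvd (by norm_num)]
      intro h5
      have h1 : a ^ n = 1 := by
        rw [← orderOf_dvd_iff_pow_eq_one, ha]; exact h5
      rw [← hn] at hconj
      rw [h1] at hn
      have h2 : a = 1 := by
        have := hn.symm
        rwa [mul_inv_eq_one, mul_eq_left] at this
      rw [h2, orderOf_one] at ha
      omega
    have hga : g * ⟨a, haN⟩ = (⟨a, haN⟩ : stabilizer G P) ^ n * g := by
      apply Subtype.ext
      show (g : G) * a = a ^ n * g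
      rw [hn]; group
    obtain ⟨σ, c, hblk⟩ := exists_isBlk (φ g) (ZMod.unitOfCoprime n hcop) (by
      intro j i
      apply f.injective
      rw [hφ, hf, ← Equiv.Perm.mul_apply, ← map_mul, hga, map_mul, Equiv.Perm.mul_apply, ← hφ, hψa]
      rfl)
    refine ⟨σ, _, c, hblk, ?_⟩
    intro hgC
    apply Units.ext
    rw [ZMod.coe_unitOfCoprime]
    have h1 : a ^ n = a := by
      have := mem_centralizer_iff.1 hgC a haP
      rw [hn, ← this, mul_inv_cancel_right]
    have h2 : a ^ n = a ^ 1 := by rw [h1, pow_one]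
    rw [pow_inj_mod, ha] at h2
    have h3 := (ZMod.natCast_eq_natCast_iff' n 1 5).2 h2
    rw [h3]; simp
  · -- fixed points
    intro g hg Q hQ
    by_contra hQP
    apply hg (f.symm ⟨Q, hQP⟩)
    apply f.injective
    rw [hφ, Equiv.apply_symm_apply]
    exact Subtype.ext hQ

/-- A simple group does not have exactly 21 Sylow 5-subgroups. -/
theorem false_of_simple (h : Nat.card (Sylow 5 G) = 21) : False := by
  classical
  have : Fact (Nat.Prime 2) := ⟨Nat.prime_two⟩
  -- a Sylow 2-subgroup S normalizing a Sylow 5-subgroup P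
  obtain ⟨S⟩ : Nonempty (Sylow 2 G) := inferInstance
  obtain ⟨P, hP⟩ := S.2.nonempty_fixed_point_of_prime_not_dvd_card (α := Sylow 5 G)
    (by rw [h]; norm_num)
  have hSN : (S : Subgroup G) ≤ normalizer (P : Set G) := (sylow_mem_fixedPoints_iff _).1 hP
  have hP5 : Nat.card P = 5 := card_sylow_five h P
  have hcyc : IsCyclic P := isCyclic_of_prime_card hP5
  have hperf := commutator_eq_top h
  obtain ⟨φ, hinj, hsign, hblk, hfix⟩ := exists_blk h P
  have hSst : (S : Subgroup G) ≤ stabilizer G P := by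
    rw [Sylow.stabilizer_eq_normalizer]; exact hSN
  have hpow : ∀ x (hx : x ∈ (S : Subgroup G)), ∃ m : ℕ, x ^ (2 ^ m) = 1 ∧
      φ ⟨x, hSst hx⟩ ^ (2 ^ m) = 1 := by
    intro x hx
    obtain ⟨m, hm⟩ := S.2 ⟨x, hx⟩
    have hm' : x ^ (2 ^ m) = 1 := congrArg Subtype.val hm
    refine ⟨m, hm', ?_⟩
    rw [← map_pow]
    have : (⟨x, hSst hx⟩ : stabilizer G P) ^ (2 ^ m) = 1 := Subtype.ext hm'
    rw [this, map_one]
  -- an element with 5th power one in S is trivial
  have h25 : ∀ x ∈ (S : Subgroup G), x ^ 5 = 1 → x = 1 := by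
    intro x hx h5
    obtain ⟨m, hm, _⟩ := hpow x hx
    rw [← orderOf_eq_one_iff]
    exact Nat.eq_one_of_dvd_coprimes (Nat.Coprime.pow_right m (by norm_num : Nat.Coprime 5 2))
      (orderOf_dvd_of_pow_eq_one h5) (orderOf_dvd_of_pow_eq_one hm)
  -- S is abelian
  have hScomm : IsMulCommutative (S : Subgroup G) := by
    constructor
    constructor
    rintro ⟨x, hx⟩ ⟨y, hy⟩
    obtain ⟨m, _, hm⟩ := hpow x hx
    obtain ⟨m', _, hm'⟩ := hpow y hy
    obtain ⟨σ, k, c, hb, _⟩ := hblk ⟨x, hSst hx⟩
    obtain ⟨σ', k', c', hb', _⟩ := hblk ⟨y, hSst hy⟩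
    have h1 := hb.commutator_pow_five hb' hm hm' (hsign _) (hsign _)
    rw [← map_mul, ← map_inv, ← map_mul, ← map_inv, ← map_mul, ← map_pow,
      map_eq_one_iff φ hinj] at h1
    have h2 : (x * y * x⁻¹ * y⁻¹) ^ 5 = 1 := congrArg Subtype.val h1
    have h3 := h25 _ (mul_mem (mul_mem (mul_mem hx hy) (inv_mem hx)) (inv_mem hy)) h2
    apply Subtype.ext
    show x * y = y * x
    rwa [mul_inv_eq_one, mul_inv_eq_iff_eq_mul] at h3
  -- S centralizes P
  have hSC : (S : Subgroup G) ≤ centralizer (P : Set G) := by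
    by_cases hv : ∃ v ∈ (S : Subgroup G), v ∈ centralizer (P : Set G) ∧ v ≠ 1
    · -- then `N(S) ≤ N(P)`
      obtain ⟨v, hvS, hvC, hv1⟩ := hv
      obtain ⟨m, _, hm⟩ := hpow v hvS
      obtain ⟨σ, k, c, hb, hk⟩ := hblk ⟨v, hSst hvS⟩
      have hk1 := hk hvC
      rw [hk1] at hb
      have hne : φ ⟨v, hSst hvS⟩ ≠ 1 := by
        intro h1
        rw [map_eq_one_iff φ hinj] at h1
        exact hv1 (congrArg Subtype.val h1)
      have hfree := hb.fixedPointFree hm (hsign _) hne
      have huniq : ∀ Q : Sylow 5 G, v • Q = Q → Q = P := hfix ⟨v, hSst hvS⟩ hfree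
      apply sylow_le_centralizer_of_normalizer_le S hScomm hperf P hcyc
      intro g hg
      have h1 : g⁻¹ * v * g ∈ (S : Subgroup G) := (mem_set_normalizer_iff''.1 hg v).1 hvS
      have h2 : (g⁻¹ * v * g) • P = P := hSst h1
      have h3 : v • (g • P) = g • P := by
        have := congrArg (fun X => g • X) h2
        simpa [smul_smul, mul_assoc] using this
      have h4 := huniq _ h3
      rwa [Sylow.smul_eq_iff_mem_normalizer] at h4
    · -- then `S` is cyclic
      push Not at hv
      have hScyc : IsCyclic S := by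
        have h1 : IsCyclic (MulAut P) := by
          have h2 : IsCyclic (ZMod (Nat.card P))ˣ := by
            rw [hP5]; infer_instance
          exact isCyclic_of_surjective (IsCyclic.mulAutMulEquiv P).symm
            (IsCyclic.mulAutMulEquiv P).symm.surjective
        let r : S →* MulAut P :=
          (normalizerMonoidHom (P : Subgroup G)).comp (Subgroup.inclusion hSN)
        apply isCyclic_of_injective r
        rw [injective_iff_map_eq_one]
        rintro ⟨x, hx⟩ hr
        have h3 : Subgroup.inclusion hSN ⟨x, hx⟩ ∈ (normalizerMonoidHom (P : Subgroup G)).ker := hr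
        rw [normalizerMonoidHom_ker] at h3
        exact Subtype.ext (hv x hx h3)
      by_cases h2 : 2 ∣ Nat.card G
      · have hmin : (Nat.card G).minFac = 2 := (Nat.minFac_eq_two_iff _).2 h2
        have hSbot := sylow_eq_bot (not_isMulCommutative h) S
          (IsCyclic.normalizer_le_centralizer hmin hScyc)
        rw [hSbot]; exact bot_le
      · have hSbot : (S : Subgroup G) = ⊥ := by
          rw [← card_eq_one, S.card_eq_multiplicity, Nat.factorization_eq_zero_of_not_dvd h2, pow_zero]
        rw [hSbot]; exact bot_le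
  -- hence `N(P) = C(P)`, contradicting Burnside's transfer theorem
  have hNC : normalizer (P : Set G) ≤ centralizer (P : Set G) := by
    have key := card_dvd_of_injective _ (QuotientGroup.kerLift_injective
      (normalizerMonoidHom (P : Subgroup G)))
    rw [normalizerMonoidHom_ker, ← index, ← relIndex, hcyc.card_mulAut, hP5] at key
    have h4 : Nat.totient 5 = 4 := by decide
    rw [h4] at key
    have hodd : (centralizer (P : Set G)).relIndex (normalizer (P : Set G)) ∣ (S : Subgroup G).index :=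
      (relIndex_dvd_of_le_left _ hSC).trans (relIndex_dvd_index_of_le hSN)
    have h5 : Nat.Coprime 4 (S : Subgroup G).index := by
      have : Nat.Coprime 2 (S : Subgroup G).index := by
        rw [Nat.Prime.coprime_iff_not_dvd Nat.prime_two]
        exact S.not_dvd_index
      exact Nat.Coprime.pow_left 2 this
    have h6 := Nat.eq_one_of_dvd_coprimes h5 key hodd
    rw [relIndex_eq_one] at h6
    exact h6
  have hbot := sylow_eq_bot (not_isMulCommutative h) P hNC
  apply not_normal h P
  rw [hbot]; infer_instance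

end Simple

end Cfsg.Agent.SmallSimple.SylFive
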