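import Mathlib
import Cfsg.Agent.SmallSimple.SylFive

/-!
Reduction of "no group has exactly 21 Sylow 5-subgroups" to simple groups.
-/

set_option autoImplicit false

namespace Cfsg.Agent.SmallSimple.SylFiveReduce

open MulAction Subgroup

section General

variable {G : Type*} [Group G] [Finite G] {p : ℕ} [Fact p.Prime]

/-- The number of Sylow subgroups of a subgroup containing a Sylow subgroup of the group. -/
theorem card_sylow_subgroup (P : Sylow p G) (H : Subgroup G) (hPH : (P : Subgroup G) ≤ H) :
    Nat.card (Sylow p H) = (normalizer (P : Set G)).relIndex H := by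
  rw [(P.subtype hPH).card_eq_index_normalizer, relIndex]
  congr 1
  exact (subgroupOf_normalizer_eq hPH).symm

/-- If a normal subgroup normalizes all Sylow subgroups then the quotient has as many Sylow
subgroups. -/
theorem card_sylow_quotient (M : Subgroup G) [M.Normal]
    (hM : ∀ P : Sylow p G, M ≤ normalizer (P : Set G)) :
    Nat.card (Sylow p (G ⧸ M)) = Nat.card (Sylow p G) := by
  symm
  have hf : Function.Surjective (QuotientGroup.mk' M) := QuotientGroup.mk'_surjective M
  apply Nat.card_congr
  apply Equiv.ofBijective (fun P : Sylow p G => P.mapSurjective hf)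
  refine ⟨?_, Sylow.mapSurjective_surjective hf p⟩
  intro P Q hPQ
  have h1 : (P : Subgroup G).map (QuotientGroup.mk' M) = (Q : Subgroup G).map (QuotientGroup.mk' M) :=
    congrArg (fun X : Sylow p (G ⧸ M) => (X : Subgroup (G ⧸ M))) hPQ
  have h2 : (P : Subgroup G) ⊔ M = (Q : Subgroup G) ⊔ M := by
    have := congrArg (Subgroup.comap (QuotientGroup.mk' M)) h1
    rwa [comap_map_eq, comap_map_eq, QuotientGroup.ker_mk'] at this
  have h3 : (P : Subgroup G) ≤ normalizer (Q : Set G) := by
    calc (P : Subgroup G) ≤ (Q : Subgroup G) ⊔ M := by rw [← h2]; exact le_sup_left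
      _ ≤ normalizer (Q : Set G) := sup_le le_normalizer (hM Q)
  rw [← sylow_mem_fixedPoints_iff, P.2.sylow_mem_fixedPoints_iff] at h3
  exact (Sylow.ext (P.3 Q.2 h3)).symm

theorem relIndex_eq_index_of_sup_eq_top (N M : Subgroup G) [M.Normal] (h : N ⊔ M = ⊤) :
    N.relIndex M = N.index := by
  have h1 : M.relIndex N = M.index := by
    rw [← relIndex_sup_right, h, relIndex_top_right]
  have h2 : N.relIndex M * M.index = M.relIndex N * N.index := by
    rw [← inf_relIndex_right, ← inf_relIndex_right M N, relIndex_mul_index inf_le_right,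
      relIndex_mul_index inf_le_right, inf_comm]
  rw [h1, mul_comm M.index] at h2
  exact Nat.eq_of_mul_eq_mul_right (Nat.pos_of_ne_zero index_ne_zero_of_finite) h2

end General

instance fact3 : Fact (Nat.Prime 3) := ⟨by norm_num⟩
instance fact5 : Fact (Nat.Prime 5) := ⟨by norm_num⟩

/-- A normal 3-subgroup normalizes the Sylow 5-subgroups if there are at most 21 of them. -/
theorem three_group_le_normalizer {X : Type*} [Group X] [Finite X] (hX : Nat.card (Sylow 5 X) ≤ 21)
    (T : Subgroup X) [T.Normal] (hT : IsPGroup 3 T) (P : Sylow 5 X) :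
    T ≤ normalizer (P : Set X) := by
  set r := (normalizer (P : Set X)).relIndex (T ⊔ P) with hr
  have h1 : Nat.card (Sylow 5 (T ⊔ P : Subgroup X)) = r := card_sylow_subgroup P _ le_sup_right
  have h2 : r ≡ 1 [MOD 5] := by
    rw [← h1]; exact card_sylow_modEq_one 5 _
  have h3 : r ≤ 21 := by
    refine le_trans ?_ hX
    rw [P.card_eq_index_normalizer, ← relIndex_top_right]
    apply relIndex_le_of_le_right le_top
    rw [relIndex_top_right]
    exact index_ne_zero_of_finite
  obtain ⟨a, ha⟩ := hT.exists_card_eq
  obtain ⟨b, hb⟩ := P.2.exists_card_eq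
  have h4 : r ∣ 3 ^ a * 5 ^ b := by
    have h5 : r ∣ Nat.card (T ⊔ P : Subgroup X) := relIndex_dvd_card _ _
    refine h5.trans ?_
    have h6 : Nat.card (T ⊔ P : Subgroup X) = Nat.card T * T.relIndex (T ⊔ P) := by
      have := relIndex_mul_relIndex ⊥ T (T ⊔ P) bot_le le_sup_left
      rw [relIndex_bot_left, relIndex_bot_left] at this
      exact this.symm
    rw [h6, relIndex_sup_left, ha]
    apply mul_dvd_mul_left
    rw [← hb]
    exact relIndex_dvd_card _ _
  have h5 : Nat.Coprime r (5 ^ b) := by
    apply Nat.Coprime.pow_right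
    rw [Nat.coprime_comm, Nat.Prime.coprime_iff_not_dvd (by norm_num)]
    intro h
    have := (Nat.modEq_zero_iff_dvd.2 h).symm.trans h2
    exact absurd this (by decide)
  have h6 : r ∣ 3 ^ a := h5.dvd_of_dvd_mul_right h4
  obtain ⟨j, _, hj⟩ := (Nat.dvd_prime_pow (by norm_num)).1 h6
  have hj3 : j < 3 := by
    by_contra hcon
    have : 3 ^ 3 ≤ 3 ^ j := Nat.pow_le_pow_right (by norm_num) (by omega)
    omega
  have h7 : r = 1 := by
    rw [hj] at h2 ⊢
    interval_cases j
    · rfl
    · exact absurd h2 (by decide)
    · exact absurd h2 (by decide)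
  rw [hr, relIndex_eq_one] at h7
  exact le_sup_left.trans h7

/-- The normalizer of a Sylow 5-subgroup is maximal if there are 21 Sylow 5-subgroups. -/
theorem eq_or_eq_top {G : Type*} [Group G] [Finite G] (h : Nat.card (Sylow 5 G) = 21)
    (P : Sylow 5 G) (H : Subgroup G) (hH : normalizer (P : Set G) ≤ H) :
    H = normalizer (P : Set G) ∨ H = ⊤ := by
  have h1 : (normalizer (P : Set G)).relIndex H * H.index = 21 := by
    rw [relIndex_mul_index hH, ← P.card_eq_index_normalizer, h]
  have h2 : (normalizer (P : Set G)).relIndex H ≡ 1 [MOD 5] := by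
    rw [← card_sylow_subgroup P H (le_normalizer.trans hH)]
    exact card_sylow_modEq_one 5 _
  have h3 : (normalizer (P : Set G)).relIndex H ∣ 21 := ⟨_, h1.symm⟩
  have h4 : (normalizer (P : Set G)).relIndex H = 1 ∨ (normalizer (P : Set G)).relIndex H = 21 := by
    generalize (normalizer (P : Set G)).relIndex H = r at h1 h2 h3
    have h5 : r ≤ 21 := Nat.le_of_dvd (by norm_num) h3
    interval_cases r <;> first | (left; rfl) | (right; rfl) | (exfalso; revert h3; decide) |
      (exfalso; revert h2; decide)
  rcases h4 with h4 | h4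
  · left
    exact le_antisymm (relIndex_eq_one.1 h4) hH
  · right
    rw [h4] at h1
    rw [← index_eq_one]
    omega

universe u

theorem main (n : ℕ) : ∀ (G : Type u) [Group G] [Finite G], Nat.card G = n →
    Nat.card (Sylow 5 G) ≠ 21 := by
  induction n using Nat.strong_induction_on with
  | _ n ih =>
  intro G _ _ hn h
  -- (c) no nontrivial normal subgroup normalizes all Sylow 5-subgroups
  have hc : ∀ M : Subgroup G, M.Normal → M ≠ ⊥ → ¬ ∀ P : Sylow 5 G, M ≤ normalizer (P : Set G) := by
    intro M hMn hM hall
    have h1 := card_sylow_quotient M hall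
    rw [h] at h1
    refine ih (Nat.card (G ⧸ M)) ?_ (G ⧸ M) rfl h1
    rw [← hn, card_eq_card_quotient_mul_card_subgroup M]
    have h2 : 1 < Nat.card M := by
      rw [one_lt_card_iff_ne_bot]; exact hM
    have h3 : 0 < Nat.card (G ⧸ M) := Nat.card_pos
    nlinarith
  -- (d)
  have hd : ∀ M : Subgroup G, M.Normal → M ≠ ⊥ → ∀ P : Sylow 5 G,
      normalizer (P : Set G) ⊔ M = ⊤ := by
    intro M hMn hM P
    rcases eq_or_eq_top h P (normalizer (P : Set G) ⊔ M) le_sup_left with h1 | h1
    · exfalso
      have h2 : M ≤ normalizer (P : Set G) := by rw [← h1]; exact le_sup_right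
      apply hc M hMn hM
      intro Q m hm
      obtain ⟨g, rfl⟩ := exists_smul_eq G P Q
      rw [← Sylow.smul_eq_iff_mem_normalizer]
      have h3 : g⁻¹ * m * g ∈ normalizer (P : Set G) := by
        apply h2
        have := hMn.conj_mem m hm g⁻¹
        rwa [inv_inv] at this
      rw [← Sylow.smul_eq_iff_mem_normalizer] at h3
      have h4 := congrArg (fun X => g • X) h3
      simpa [smul_smul, mul_assoc] using h4
    · exact h1
  -- G is simple
  have hsimple : IsSimpleGroup G := by
    have hnt : Nontrivial G := by
      by_contra hcon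
      rw [not_nontrivial_iff_subsingleton] at hcon
      obtain ⟨P⟩ : Nonempty (Sylow 5 G) := inferInstance
      apply SylFive.not_normal h P
      constructor
      intro n hn g
      rw [Subsingleton.elim (g * n * g⁻¹) n]; exact hn
    constructor
    intro M hMn
    by_contra hcon
    push Not at hcon
    obtain ⟨hM1, hM2⟩ := hcon
    have hMcard : Nat.card M < n := by
      rw [← hn]
      by_contra hge
      exact hM2 (eq_top_of_le_card M (by omega))
    -- 5 does not divide the order of M
    have h5M : ¬ 5 ∣ Nat.card M := by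
      intro h5
      obtain ⟨Q⟩ : Nonempty (Sylow 5 M) := inferInstance
      obtain ⟨P, hP⟩ := Q.exists_comap_subtype_eq
      have hPQ : ((P : Subgroup G) ⊓ M).subgroupOf M = (Q : Subgroup M) := by
        rw [inf_subgroupOf_right]
        exact hP
      have hle : normalizer (P : Set G) ≤ normalizer (((P : Subgroup G) ⊓ M : Subgroup G) : Set G) := by
        intro g hg
        rw [mem_set_normalizer_iff] at hg ⊢
        intro x
        rw [SetLike.mem_coe, SetLike.mem_coe, mem_inf, mem_inf]
        have h1 : x ∈ M ↔ g * x * g⁻¹ ∈ M := by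
          constructor
          · intro hx; exact hMn.conj_mem x hx g
          · intro hx
            have := hMn.conj_mem _ hx g⁻¹
            have h2 : g⁻¹ * (g * x * g⁻¹) * g⁻¹⁻¹ = x := by group
            rwa [h2] at this
        exact and_congr (hg x) h1
      rcases eq_or_eq_top h P _ hle with h1 | h1
      · -- then M has 21 Sylow 5-subgroups
        have h2 : Nat.card (Sylow 5 M) = 21 := by
          rw [Q.card_eq_index_normalizer]
          have h3 : normalizer (Q : Set M) =
              (normalizer (((P : Subgroup G) ⊓ M : Subgroup G) : Set G)).subgroupOf M := by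
            rw [subgroupOf_normalizer_eq inf_le_right, hPQ]
            rfl
          rw [h3, h1]
          have h4 := relIndex_eq_index_of_sup_eq_top (normalizer (P : Set G)) M (hd M hMn hM1 P)
          rw [relIndex] at h4
          rw [h4, ← P.card_eq_index_normalizer, h]
        exact ih (Nat.card M) hMcard M rfl h2
      · -- then P ⊓ M is normal, hence trivial
        have hnorm : ((P : Subgroup G) ⊓ M).Normal := normalizer_eq_top_iff.1 h1
        have hbot : (P : Subgroup G) ⊓ M = ⊥ := by
          by_contra hne
          apply hc _ hnorm hne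
          intro P'
          have h2 : IsPGroup 5 ((P : Subgroup G) ⊓ M : Subgroup G) := P.2.to_inf_left
          exact (h2.le_sylow_of_normal P').trans le_normalizer
        rw [hbot, bot_subgroupOf] at hPQ
        exact Q.ne_bot_of_dvd_card h5 hPQ.symm
    -- a Sylow 3-subgroup of M
    obtain ⟨T⟩ : Nonempty (Sylow 3 M) := inferInstance
    set T' : Subgroup G := (T : Subgroup M).map M.subtype with hT'
    set K : Subgroup G := normalizer (T' : Set G) with hK
    have hfr : K ⊔ M = ⊤ := Sylow.normalizer_sup_eq_top T
    have hKidx : ¬ 5 ∣ K.index := by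
      rw [← relIndex_eq_index_of_sup_eq_top K M hfr]
      intro h5
      exact h5M (h5.trans (relIndex_dvd_card _ _))
    have hT'p : IsPGroup 3 T' := T.2.map M.subtype
    -- a Sylow 5-subgroup of G in K
    obtain ⟨Q⟩ : Nonempty (Sylow 5 K) := inferInstance
    have hQp : IsPGroup 5 ((Q : Subgroup K).map K.subtype) := Q.2.map K.subtype
    have hQidx : ¬ 5 ∣ ((Q : Subgroup K).map K.subtype).index := by
      rw [index_map_subtype]
      intro h5
      rcases (Nat.Prime.dvd_mul (by norm_num)).1 h5 with h6 | h6
      · exact Q.not_dvd_index h6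
      · exact hKidx h6
    let P : Sylow 5 G := hQp.toSylow hQidx
    have hPK : (P : Subgroup G) ≤ K := map_subtype_le _
    have hT'K : T' ≤ K := le_normalizer
    have hT'n : (T'.subgroupOf K).Normal := normal_in_normalizer
    have hKcard : Nat.card (Sylow 5 K) ≤ 21 := by
      rw [card_sylow_subgroup P K hPK, ← h, P.card_eq_index_normalizer, ← relIndex_top_right]
      apply relIndex_le_of_le_right le_top
      rw [relIndex_top_right]
      exact index_ne_zero_of_finite
    have h1 : T'.subgroupOf K ≤ normalizer ((P.subtype hPK : Sylow 5 K) : Set K) :=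
      three_group_le_normalizer hKcard (T'.subgroupOf K)
        (hT'p.comap_of_injective K.subtype K.subtype_injective) (P.subtype hPK)
    have h2 : T' ≤ normalizer (P : Set G) := by
      intro t ht
      have h3 : (⟨t, hT'K ht⟩ : K) ∈ normalizer ((P.subtype hPK : Sylow 5 K) : Set K) :=
        h1 ht
      have h4 : normalizer ((P.subtype hPK : Sylow 5 K) : Set K) =
          (normalizer (P : Set G)).subgroupOf K := (subgroupOf_normalizer_eq hPK).symm
      rw [h4] at h3
      exact h3
    have h3 : (normalizer (P : Set G)).relIndex M = 21 := by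
      rw [relIndex_eq_index_of_sup_eq_top _ M (hd M hMn hM1 P), ← P.card_eq_index_normalizer, h]
    have h4 : (normalizer (P : Set G)).relIndex M ∣ T'.relIndex M := relIndex_dvd_of_le_left M h2
    have h5 : T'.relIndex M = (T : Subgroup M).index := by
      rw [relIndex, hT']
      exact congrArg index (comap_map_eq_self_of_injective M.subtype_injective _)
    rw [h3, h5] at h4
    exact T.not_dvd_index ((by norm_num : 3 ∣ 21).trans h4)
  exact SylFive.false_of_simple h

end Cfsg.Agent.SmallSimple.SylFiveReduce
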