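import Mathlib
import Cfsg.Agent.SmallSimple.SylowEight
import Cfsg.Agent.SmallSimple.Simple168Klein
import Cfsg.Agent.SmallSimple.SylowPrimeCount
import Cfsg.Agent.SmallSimple.SylowPrime
import Cfsg.Agent.SmallSimple.SylFiveReduce
import Cfsg.Agent.SmallSimple.DegreePPlusOne
import Cfsg.Agent.SmallSimple.PrimeLocal

set_option autoImplicit false

/-! There is no simple group of order 3960. -/

namespace Cfsg.Agent.SmallSimple.Order3960

open Subgroup

/-- A permutation of order dividing 4 of a set with `4m+1` points, `m` odd, whose square has only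
one fixed point, is odd. -/
theorem sign_eq_neg_one {Ω : Type*} [Fintype Ω] [DecidableEq Ω] (σ : Equiv.Perm Ω)
    (h4 : σ ^ 4 = 1) (ω : Ω) (hω : σ ω = ω) (huniq : ∀ a, (σ ^ 2) a = a → a = ω) (m : ℕ)
    (hm : Odd m) (hcard : Fintype.card Ω = 4 * m + 1) : Equiv.Perm.sign σ = -1 := by
  have hsupp : σ.support = Finset.univ.erase ω := by
    ext a
    rw [Equiv.Perm.mem_support, Finset.mem_erase]
    constructor
    · intro ha
      exact ⟨fun h => ha (by rw [h, hω]), Finset.mem_univ a⟩
    · rintro ⟨ha, -⟩ h
      apply ha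
      apply huniq
      rw [pow_two, Equiv.Perm.mul_apply, h, h]
  have hsum : σ.cycleType.sum = 4 * m := by
    rw [Equiv.Perm.sum_cycleType, hsupp, Finset.card_erase_of_mem (Finset.mem_univ ω),
      Finset.card_univ, hcard]
    rfl
  have hall : ∀ n ∈ σ.cycleType, n = 4 := by
    intro n hn
    have h2 : 2 ≤ n := Equiv.Perm.two_le_of_mem_cycleType hn
    have hd : n ∣ 4 := (Equiv.Perm.dvd_of_mem_cycleType hn).trans (orderOf_dvd_of_pow_eq_one h4)
    have hn4 : n ≤ 4 := Nat.le_of_dvd (by norm_num) hd
    have hne2 : n ≠ 2 := by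
      rintro rfl
      rw [Equiv.Perm.cycleType_def, Multiset.mem_map] at hn
      obtain ⟨c, hc, hc2⟩ := hn
      rw [← Finset.mem_def] at hc
      rw [Equiv.Perm.mem_cycleFactorsFinset_iff] at hc
      obtain ⟨a, b, hab, hcab⟩ := Equiv.Perm.card_support_eq_two.1 hc2
      have ha : a ∈ c.support := by
        rw [hcab, Equiv.Perm.mem_support, Equiv.swap_apply_left]
        exact hab.symm
      have hb : b ∈ c.support := by
        rw [hcab, Equiv.Perm.mem_support, Equiv.swap_apply_right]
        exact hab
      have h1 : σ a = b := by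
        rw [← hc.2 a ha, hcab, Equiv.swap_apply_left]
      have h2 : σ b = a := by
        rw [← hc.2 b hb, hcab, Equiv.swap_apply_right]
      have h3 : a = ω := huniq a (by rw [pow_two, Equiv.Perm.mul_apply, h1, h2])
      rw [h3, hω] at h1
      exact hab (h3.trans h1)
    interval_cases n
    · exact absurd rfl hne2
    · revert hd; decide
    · rfl
  have hrep : σ.cycleType = Multiset.replicate (Multiset.card σ.cycleType) 4 :=
    Multiset.eq_replicate_card.2 hall
  have hc : Multiset.card σ.cycleType = m := by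
    have h1 := congrArg Multiset.sum hrep
    rw [hsum, Multiset.sum_replicate, smul_eq_mul] at h1
    omega
  rw [Equiv.Perm.sign_of_cycleType, hsum, hc, pow_add, pow_mul]
  rw [hm.neg_one_pow]
  norm_num

theorem eq_one_of_centralizer_eq_top {G : Type*} [Group G] [IsSimpleGroup G]
    (hG : ¬ IsMulCommutative G) (z : G) (hz : centralizer ({z} : Set G) = ⊤) : z = 1 := by
  have h1 : z ∈ center G := by
    rw [mem_center_iff]
    intro g
    have h2 : g ∈ centralizer ({z} : Set G) := by rw [hz]; exact mem_top g
    rw [mem_centralizer_singleton_iff] at h2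
    exact h2
  rcases Subgroup.Normal.eq_bot_or_eq_top (H := center G) inferInstance with h | h
  · rw [h] at h1
    exact mem_bot.1 h1
  · exfalso
    apply hG
    refine ⟨⟨fun a b => ?_⟩⟩
    have h2 : b ∈ center G := by rw [h]; exact mem_top b
    exact (mem_center_iff.1 h2) a

/-- The centralizer of a conjugate. -/
theorem centralizer_conj {G : Type*} [Group G] (g z : G) :
    centralizer ({g * z * g⁻¹} : Set G) =
      (centralizer ({z} : Set G)).map (MulAut.conj g).toMonoidHom := by
  ext x
  rw [mem_centralizer_singleton_iff, mem_map_equiv, mem_centralizer_singleton_iff]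
  rw [MulAut.conj_symm_apply]
  constructor
  · intro h
    have : g⁻¹ * (x * (g * z * g⁻¹)) * g = g⁻¹ * (g * z * g⁻¹ * x) * g := by rw [h]
    calc g⁻¹ * x * g * z = g⁻¹ * (x * (g * z * g⁻¹)) * g := by group
      _ = g⁻¹ * (g * z * g⁻¹ * x) * g := this
      _ = z * (g⁻¹ * x * g) := by group
  · intro h
    calc x * (g * z * g⁻¹) = g * (g⁻¹ * x * g * z) * g⁻¹ := by group
      _ = g * (z * (g⁻¹ * x * g)) * g⁻¹ := by rw [h]
      _ = g * z * g⁻¹ * x := by group

section main

variable {G : Type*} [Group G] [Finite G] [IsSimpleGroup G]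

theorem aux (h : Nat.card G = 3960) (hG : ¬ IsMulCommutative G)
    (P : Sylow 11 G) (K : Subgroup G) (hn : Nat.card (Sylow 11 G) = 45)
    (hp : Fact (Nat.Prime 11))
    (hN : Nat.card (normalizer ((P : Subgroup G) : Set G)) = 88)
    (hC : Nat.card (centralizer ((P : Subgroup G) : Set G)) = 44)
    (hK : Nat.card K = 4)
    (hKmem : ∀ x, x ∈ K ↔ x ∈ centralizer ((P : Subgroup G) : Set G) ∧ x ^ 4 = 1) : False := by
  classical
  set H := normalizer ((P : Subgroup G) : Set G) with hHdef
  set C := centralizer ((P : Subgroup G) : Set G) with hCdef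
  have hCH : C ≤ H := centralizer_le_normalizer _
  have hPH : (P : Subgroup G) ≤ H := le_normalizer
  have hPcard : Nat.card (P : Subgroup G) = 11 :=
    Simple168.card_sylow_of_eq 11 1 360 (by rw [h]; norm_num) (by norm_num) P
  have hCn : ∀ n ∈ H, ∀ c ∈ C, n * c * n⁻¹ ∈ C := by
    intro n hn c hc
    rw [hCdef, mem_centralizer_iff] at hc ⊢
    intro y hy
    have hy' : n⁻¹ * y * n ∈ (P : Subgroup G) := (mem_normalizer_iff''.1 hn y).1 hy
    have h1 := hc _ hy'
    calc y * (n * c * n⁻¹) = n * (n⁻¹ * y * n * c) * n⁻¹ := by group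
      _ = n * (c * (n⁻¹ * y * n)) * n⁻¹ := by rw [h1]
      _ = n * c * n⁻¹ * y := by group
  have hKN : H ≤ normalizer (K : Set G) := by
    rw [Subgroup.le_normalizer_iff]
    intro n hn k hk
    rw [hKmem] at hk ⊢
    refine ⟨hCn n hn k hk.1, ?_⟩
    rw [conj_pow, hk.2, mul_one, mul_inv_cancel]
  have hKC : K ≤ C := fun x hx => ((hKmem x).1 hx).1
  have h8 : 8 ∣ Nat.card G := by rw [h]; norm_num
  have h16 : ¬ 16 ∣ Nat.card G := by rw [h]; norm_num
  have h7 : ¬ 7 ∣ Nat.card G := by rw [h]; norm_num
  obtain ⟨T, hTH⟩ : ∃ T : Sylow 2 G, (T : Subgroup G) ≤ H := by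
    obtain ⟨S⟩ : Nonempty (Sylow 2 H) := inferInstance
    have hS : Nat.card (S : Subgroup H) = 8 :=
      Simple168.card_sylow_of_eq 2 3 11 (by rw [hN]; norm_num) (by norm_num) S
    have h1 : IsPGroup 2 ((S : Subgroup H).map H.subtype) := S.isPGroup'.map _
    obtain ⟨T, hT⟩ := h1.exists_le_sylow
    refine ⟨T, ?_⟩
    have h2 : (S : Subgroup H).map H.subtype = T := by
      apply Subgroup.eq_of_le_of_card_ge hT
      rw [SylowEight.card_sylow_eight h8 h16 T,
        ← Nat.card_congr ((S : Subgroup H).equivMapOfInjective _ H.subtype_injective).toEquiv, hS]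
    rw [← h2]
    exact map_subtype_le _
  have hTcard := SylowEight.card_sylow_eight h8 h16 T
  have hTna : ¬ ∀ x y : (T : Subgroup G), x * y = y * x := by
    intro h0
    exact SylowEight.not_comm_sylow_of_card_eight hG h8 h16 h7 T ⟨⟨h0⟩⟩
  have hK2 : IsPGroup 2 K := IsPGroup.of_card (n := 2) hK
  have hKT : K ≤ (T : Subgroup G) :=
    Simple168Klein.le_sylow_of_le_normalizer hK2 T (hTH.trans hKN)
  -- a central involution of `T` in `K`
  obtain ⟨z, hzK, hz2, hzT⟩ : ∃ z ∈ K, orderOf z = 2 ∧ ∀ t ∈ (T : Subgroup G), t * z = z * t := by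
    have hnorm : (K.subgroupOf (T : Subgroup G)).Normal :=
      (normal_subgroupOf_iff_le_normalizer hKT).2 (hTH.trans hKN)
    have hne : K.subgroupOf (T : Subgroup G) ≠ ⊥ := by
      intro h0
      have h1 := Nat.card_congr (subgroupOfEquivOfLe hKT).toEquiv
      rw [h0, hK] at h1
      simp at h1
    obtain ⟨z, hzK, hzc, hz1⟩ := SylowPrimeCount.exists_mem_center_of_normal T.isPGroup' _ hne
    refine ⟨z.1, hzK, ?_, ?_⟩
    · rw [Subgroup.orderOf_coe]
      exact Simple168Classes.orderOf_of_mem_center hTcard hTna hzc hz1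
    · intro t ht
      exact congrArg Subtype.val (mem_center_iff.1 hzc ⟨t, ht⟩)
  have hz1 : z ≠ 1 := by
    rintro rfl
    simp at hz2
  set Z := centralizer ({z} : Set G) with hZdef
  have hTZ : (T : Subgroup G) ≤ Z := by
    intro t ht
    rw [hZdef, mem_centralizer_singleton_iff]
    exact hzT t ht
  have hPZ : (P : Subgroup G) ≤ Z := by
    intro y hy
    rw [hZdef, mem_centralizer_singleton_iff]
    exact (mem_centralizer_iff.1 (hKC hzK)) y hy
  have hHZ : H ≤ Z := by
    have h1 : Nat.card (T : Subgroup G) ∣ Nat.card (H ⊓ Z : Subgroup G) :=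
      Subgroup.card_dvd_of_le (le_inf hTH hTZ)
    have h2 : Nat.card (P : Subgroup G) ∣ Nat.card (H ⊓ Z : Subgroup G) :=
      Subgroup.card_dvd_of_le (le_inf hPH hPZ)
    rw [hTcard] at h1
    rw [hPcard] at h2
    have h3 : 8 * 11 ∣ Nat.card (H ⊓ Z : Subgroup G) :=
      Nat.Coprime.mul_dvd_of_dvd_of_dvd (by norm_num) h1 h2
    have h4 : H ⊓ Z = H := by
      apply Subgroup.eq_of_le_of_card_ge inf_le_left
      rw [hN]
      exact Nat.le_of_dvd Nat.card_pos h3
    rw [← h4]
    exact inf_le_right
  -- `C(z) = N(P)`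
  have hZH : Z = H := by
    have h1 : Nat.card (Sylow 11 Z) = H.relIndex Z :=
      SylFiveReduce.card_sylow_subgroup P Z hPZ
    have h2 : H.relIndex Z * Z.index = 45 := by
      rw [relIndex_mul_index hHZ, ← hn, P.card_eq_index_normalizer]
      rfl
    have h3 : H.relIndex Z ≡ 1 [MOD 11] := by
      rw [← h1]
      exact card_sylow_modEq_one 11 Z
    have h4 : H.relIndex Z ∣ 45 := ⟨_, h2.symm⟩
    have h5 : H.relIndex Z = 1 ∨ H.relIndex Z = 45 := by
      have h6 : H.relIndex Z ≤ 45 := Nat.le_of_dvd (by norm_num) h4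
      revert h3 h4
      unfold Nat.ModEq
      generalize H.relIndex Z = m at *
      interval_cases m <;> decide
    rcases h5 with h5 | h5
    · exact le_antisymm (relIndex_eq_one.1 h5) hHZ
    · exfalso
      rw [h5] at h2
      have h6 : Z.index = 1 := by omega
      exact hz1 (eq_one_of_centralizer_eq_top hG z (index_eq_one.1 h6))
  -- every involution is associated to a Sylow 11-subgroup
  have hinv : ∀ u : G, orderOf u = 2 → ∃ g : G, u = g * z * g⁻¹ ∧
      centralizer ({u} : Set G) = normalizer (((g • P : Sylow 11 G) : Subgroup G) : Set G) := by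
    intro u hu
    obtain ⟨g, hg⟩ := isConj_iff.1
      (SylowEight.isConj_of_card_sylow_eight hG h8 h16 z u hz2 hu)
    refine ⟨g, hg.symm, ?_⟩
    rw [← hg, centralizer_conj, ← hZdef, hZH, Sylow.coe_subgroup_smul]
    exact (Simple168Klein.normalizer_map_conj (P : Subgroup G) g).symm
  have hPQ : ∀ Q : Sylow 11 G, (P : Subgroup G) ≤ normalizer ((Q : Subgroup G) : Set G) → Q = P := by
    intro Q hQ
    have h1 : (P : Subgroup G) ⊓ normalizer ((Q : Subgroup G) : Set G) =
      (P : Subgroup G) ⊓ Q := P.isPGroup'.inf_normalizer_sylow Q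
    rw [inf_eq_left.2 hQ] at h1
    have h2 : (P : Subgroup G) ≤ Q := inf_eq_left.1 h1.symm
    apply Sylow.ext
    exact P.is_maximal' Q.isPGroup' h2
  -- the only involution of `K`
  have huniqK : ∀ u ∈ K, orderOf u = 2 → u = z := by
    intro u hu hu2
    obtain ⟨g, -, hg⟩ := hinv u hu2
    have h1 : (P : Subgroup G) ≤ normalizer (((g • P : Sylow 11 G) : Subgroup G) : Set G) := by
      rw [← hg]
      intro y hy
      rw [mem_centralizer_singleton_iff]
      exact (mem_centralizer_iff.1 (hKC hu)) y hy
    rw [hPQ _ h1] at hg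
    have h2 : (⟨u, hKT hu⟩ : (T : Subgroup G)) = ⟨z, hKT hzK⟩ := by
      apply Simple168Classes.center_unique hTcard hTna
      · rw [mem_center_iff]
        rintro ⟨t, ht⟩
        apply Subtype.ext
        show t * u = u * t
        have h3 : t ∈ centralizer ({u} : Set G) := by
          rw [hg]
          exact hTH ht
        exact mem_centralizer_singleton_iff.1 h3
      · intro h0
        have : u = 1 := congrArg Subtype.val h0
        rw [this] at hu2
        simp at hu2
      · rw [mem_center_iff]
        rintro ⟨t, ht⟩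
        exact Subtype.ext (hzT t ht)
      · intro h0
        exact hz1 (congrArg Subtype.val h0)
    exact congrArg Subtype.val h2
  -- an element of order 4
  obtain ⟨k, hkK, hk4⟩ : ∃ k ∈ K, orderOf k = 4 := by
    by_contra hcon
    push Not at hcon
    have h1 : ∀ x ∈ K, x = 1 ∨ x = z := by
      intro x hx
      have h2 : orderOf x ∣ 2 ^ 2 := by
        apply orderOf_dvd_of_pow_eq_one
        exact ((hKmem x).1 hx).2
      obtain ⟨j, hj, hj'⟩ := (Nat.dvd_prime_pow Nat.prime_two).1 h2
      interval_cases j
      · left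
        exact orderOf_eq_one_iff.1 hj'
      · right
        exact huniqK x hx hj'
      · exact absurd hj' (hcon x hx)
    have h2 : K ≤ zpowers z := by
      intro x hx
      rcases h1 x hx with h3 | h3
      · rw [h3]; exact one_mem _
      · rw [h3]; exact mem_zpowers z
    have h3 := Subgroup.card_le_of_le h2
    rw [hK, Nat.card_zpowers, hz2] at h3
    omega
  have hkpow : zpowers k = K := by
    apply Subgroup.eq_of_le_of_card_ge ((zpowers_le).2 hkK)
    rw [hK, Nat.card_zpowers, hk4]
  have hk2 : k ^ 2 = z := by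
    apply huniqK _ (K.pow_mem hkK 2)
    rw [orderOf_pow, hk4]
    norm_num
  have hfour : ∀ x ∈ K, x = 1 ∨ x = k ∨ x = z ∨ x = k⁻¹ := by
    intro x hx
    rw [← hkpow, mem_zpowers_iff] at hx
    obtain ⟨j, rfl⟩ := hx
    rw [← zpow_mod_orderOf, hk4]
    have h1 : 0 ≤ j % 4 := Int.emod_nonneg _ (by norm_num)
    have h2 : j % 4 < 4 := Int.emod_lt_of_pos _ (by norm_num)
    have h3 : ((4 : ℕ) : ℤ) = 4 := rfl
    rw [h3]
    interval_cases hj : j % 4
    · left; simp
    · right; left; simp
    · right; right; left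
      rw [← hk2]
      exact zpow_ofNat k 2
    · right; right; right
      rw [eq_inv_iff_mul_eq_one]
      have h5 : k ^ (3 : ℤ) = k ^ 3 := zpow_ofNat k 3
      rw [h5, ← pow_succ, show 3 + 1 = orderOf k by rw [hk4], pow_orderOf_eq_one]
  -- decomposition of elements of `C`
  have hdec : ∀ c ∈ C, ∃ y ∈ (P : Subgroup G), ∃ w ∈ K, c = y * w := by
    intro c hc
    have h1 : orderOf c ∣ 44 := by
      have h2 := orderOf_dvd_natCard (⟨c, hc⟩ : C)
      rwa [hC, Subgroup.orderOf_mk] at h2
    have h44 : c ^ 44 = 1 := orderOf_dvd_iff_pow_eq_one.1 h1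
    refine ⟨c ^ 12, ?_, (c ^ 11)⁻¹, ?_, ?_⟩
    · by_cases h12 : c ^ 12 = 1
      · rw [h12]; exact one_mem _
      · have h3 : orderOf (c ^ 12) = 11 := by
          apply orderOf_eq_prime _ h12
          rw [← pow_mul, show 12 * 11 = 44 * 3 by norm_num, pow_mul, h44, one_pow]
        exact SylowPrime.mem_of_mem_normalizer_sylow h3 (H.pow_mem (hCH hc) 12)
    · apply K.inv_mem
      rw [hKmem]
      refine ⟨C.pow_mem hc 11, ?_⟩
      rw [← pow_mul, show 11 * 4 = 44 by norm_num, h44]
    · rw [show 12 = 1 + 11 by norm_num, pow_add, pow_one, mul_inv_cancel_right]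
  have hCidx : (C.subgroupOf H).index = 2 := by
    have h1 := (C.subgroupOf H).card_mul_index
    rw [Nat.card_congr (subgroupOfEquivOfLe hCH).toEquiv, hC, hN] at h1
    omega
  -- `z` normalizes only `P`
  have huniq : ∀ Q : Sylow 11 G, z ∈ normalizer ((Q : Subgroup G) : Set G) → Q = P := by
    intro Q hzQ
    by_contra hQP
    obtain ⟨g, hg⟩ := MulAction.exists_smul_eq G P Q
    set u := g * z * g⁻¹ with hu
    have hu2 : orderOf u = 2 := by
      rw [← hz2]
      exact MulEquiv.orderOf_eq (MulAut.conj g) z
    have huQ : centralizer ({u} : Set G) = normalizer ((Q : Subgroup G) : Set G) := by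
      rw [hu, centralizer_conj, ← hZdef, hZH, ← hg, Sylow.coe_subgroup_smul]
      exact (Simple168Klein.normalizer_map_conj (P : Subgroup G) g).symm
    clear_value u
    have huH : u ∈ H := by
      rw [← hZH, hZdef, mem_centralizer_singleton_iff]
      rw [← huQ, mem_centralizer_singleton_iff] at hzQ
      exact hzQ.symm
    have huu : u * u = 1 := by rw [← pow_two, ← hu2, pow_orderOf_eq_one]
    have huinv : u⁻¹ = u := inv_eq_of_mul_eq_one_left huu
    have huC : u ∉ C := by
      intro h0
      have h1 : u ∈ K := by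
        rw [hKmem]
        refine ⟨h0, ?_⟩
        rw [show 4 = 2 * 2 by norm_num, pow_mul, ← hu2, pow_orderOf_eq_one, hu2, one_pow]
      have h2 : u = z := huniqK u h1 hu2
      apply hQP
      apply hPQ
      rw [← huQ, h2]
      exact hPZ
    -- `u` inverts `P`
    have hPcomm : ∀ x ∈ (P : Subgroup G), ∀ y ∈ (P : Subgroup G), x * y = y * x := by
      have hcyc : IsCyclic (P : Subgroup G) := isCyclic_of_prime_card hPcard
      intro x hx y hy
      exact congrArg Subtype.val (hcyc.isMulCommutative.is_comm.comm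
        (⟨x, hx⟩ : (P : Subgroup G)) ⟨y, hy⟩)
    have hPinv : ∀ y ∈ (P : Subgroup G), u * y * u⁻¹ = y⁻¹ := by
      intro y hy
      have hy' : u * y * u⁻¹ ∈ (P : Subgroup G) := (mem_normalizer_iff.1 huH y).1 hy
      have hw : y * (u * y * u⁻¹) ∈ (P : Subgroup G) := mul_mem hy hy'
      by_cases h1 : y * (u * y * u⁻¹) = 1
      · exact eq_inv_of_mul_eq_one_right h1
      · exfalso
        apply huC
        rw [hCdef, mem_centralizer_iff]
        intro v hv
        have h2 := SylowPrime.mem_zpowers_of_card_prime hp.out hPcard hw h1 hv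
        obtain ⟨j, hj⟩ := mem_zpowers_iff.1 h2
        have h3 : Commute u (y * (u * y * u⁻¹)) := by
          show u * (y * (u * y * u⁻¹)) = y * (u * y * u⁻¹) * u
          have e1 : u * (y * (u * y * u⁻¹)) = (u * y * u⁻¹) * (u * u) * y * u⁻¹ := by group
          rw [e1, huu, mul_one, hPcomm _ hy' _ hy, huinv]
        rw [← hj]
        exact (h3.zpow_right j).symm.eq
    -- `u` inverts `K`
    have hkC : ∀ c ∈ C, c * k = k * c := by
      intro c hc
      obtain ⟨y, hy, w, hw, rfl⟩ := hdec c hc
      have h1 : y * k = k * y := (mem_centralizer_iff.1 (hKC hkK)) y hy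
      have h2 : w * k = k * w := by
        rcases hfour w hw with h3 | h3 | h3 | h3 <;> rw [h3]
        · simp
        · rw [← hk2]; group
        · simp
      rw [mul_assoc, h2, ← mul_assoc, h1, mul_assoc]
    have hkinv : u * k * u⁻¹ = k⁻¹ := by
      have h1 : u * k * u⁻¹ ∈ K := (mem_normalizer_iff.1 (hKN huH) k).1 hkK
      have h2 : orderOf (u * k * u⁻¹) = 4 := by
        rw [← hk4]
        exact MulEquiv.orderOf_eq (MulAut.conj u) k
      rcases hfour _ h1 with h3 | h3 | h3 | h3
      · rw [h3] at h2; simp at h2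
      · exfalso
        -- then `k` is central in `T`
        have h4 : ∀ t ∈ (T : Subgroup G), t * k = k * t := by
          intro t ht
          by_cases htC : t ∈ C
          · exact hkC t htC
          · have h5 : u * t ∈ C := by
              have h6 := (mul_mem_iff_of_index_two hCidx (a := ⟨u, huH⟩) (b := ⟨t, hTH ht⟩)).2
                (by
                  constructor
                  · intro h7; exact absurd h7 huC
                  · intro h7; exact absurd h7 htC)
              exact h6
            have h6 := hkC _ h5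
            have h7 : u * k = k * u := mul_inv_eq_iff_eq_mul.1 h3
            have h8 : u * (t * k) = u * (k * t) := by
              rw [← mul_assoc, h6, ← mul_assoc, ← h7]
              group
            exact mul_left_cancel h8
        have h5 : (⟨k, hKT hkK⟩ : (T : Subgroup G)) ∈ center (T : Subgroup G) := by
          rw [mem_center_iff]
          rintro ⟨t, ht⟩
          exact Subtype.ext (h4 t ht)
        have h6 := Simple168Classes.orderOf_of_mem_center hTcard hTna h5 (by
          intro h0
          have : k = 1 := congrArg Subtype.val h0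
          rw [this] at hk4
          simp at hk4)
        rw [Subgroup.orderOf_mk, hk4] at h6
        omega
      · rw [h3] at h2; omega
      · exact h3
    have hKinv : ∀ w ∈ K, u * w * u⁻¹ = w⁻¹ := by
      intro w hw
      rw [← hkpow, mem_zpowers_iff] at hw
      obtain ⟨j, rfl⟩ := hw
      rw [← conj_zpow, hkinv, inv_zpow]
    have hCinv : ∀ c ∈ C, u * c * u⁻¹ = c⁻¹ := by
      intro c hc
      obtain ⟨y, hy, w, hw, rfl⟩ := hdec c hc
      have h1 : y * w = w * y := (mem_centralizer_iff.1 (hKC hw)) y hy
      calc u * (y * w) * u⁻¹ = (u * y * u⁻¹) * (u * w * u⁻¹) := by group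
        _ = y⁻¹ * w⁻¹ := by rw [hPinv y hy, hKinv w hw]
        _ = (y * w)⁻¹ := by rw [h1, mul_inv_rev]
    -- all elements of `H \ C` are involutions
    have hHC : ∀ x ∈ H, x ∉ C → orderOf x = 2 := by
      intro x hx hxC
      have h5 : u * x ∈ C := by
        have h6 := (mul_mem_iff_of_index_two hCidx (a := ⟨u, huH⟩) (b := ⟨x, hx⟩)).2
          (by
            constructor
            · intro h7; exact absurd h7 huC
            · intro h7; exact absurd h7 hxC)
        exact h6
      have h6 := hCinv _ h5
      have h7 : x * x = 1 := by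
        rw [mul_inv_rev, huinv] at h6
        have e1 : u * (u * x) * u = x * u := by
          rw [← mul_assoc, huu, one_mul]
        rw [e1] at h6
        have e2 := mul_right_cancel h6
        rw [eq_inv_iff_mul_eq_one] at e2
        exact e2
      apply orderOf_eq_prime
      · rw [pow_two, h7]
      · rintro rfl
        exact hxC (one_mem _)
    -- counting
    have hIcard : {x : G | orderOf x = 2}.ncard = 45 := by
      have h1 : {x : G | orderOf x = 2} = {x : G | IsConj z x} := by
        ext x
        constructor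
        · intro hx
          exact SylowEight.isConj_of_card_sylow_eight hG h8 h16 z x hz2 hx
        · intro hx
          obtain ⟨c, hc⟩ := isConj_iff.1 hx
          show orderOf x = 2
          rw [← hc, ← hz2]
          exact MulEquiv.orderOf_eq (MulAut.conj c) z
      have h2 := Simple168.card_isConj_mul_card_centralizer z
      rw [← hZdef, hZH, hN, h] at h2
      rw [h1]
      show Nat.card {x : G // IsConj z x} = 45
      omega
    have hzHC : z ∉ ((H : Set G) \ (C : Set G)) := fun h0 => h0.2 (hKC hzK)
    have hScard : (insert z ((H : Set G) \ (C : Set G))).ncard = 45 := by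
      rw [Set.ncard_insert_of_notMem hzHC, Set.ncard_sdiff hCH]
      have e1 : (H : Set G).ncard = 88 := hN
      have e2 : (C : Set G).ncard = 44 := hC
      rw [e1, e2]
    have hSI : insert z ((H : Set G) \ (C : Set G)) ⊆ {x : G | orderOf x = 2} := by
      rintro x (hx | ⟨hx1, hx2⟩)
      · rw [hx]
        exact hz2
      · exact hHC x hx1 hx2
    have hSeq : insert z ((H : Set G) \ (C : Set G)) = {x : G | orderOf x = 2} :=
      Set.eq_of_subset_of_ncard_le hSI (by rw [hIcard, hScard])
    have hcl : normalClosure ({z} : Set G) ≤ H := by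
      rw [normalClosure, closure_le]
      intro x hx
      rw [Group.mem_conjugatesOfSet_iff] at hx
      obtain ⟨a, ha, hax⟩ := hx
      have ha' : a = z := ha
      rw [ha'] at hax
      obtain ⟨c, hc⟩ := isConj_iff.1 hax
      have hx2 : x ∈ {x : G | orderOf x = 2} := by
        show orderOf x = 2
        rw [← hc, ← hz2]
        exact MulEquiv.orderOf_eq (MulAut.conj c) z
      rw [← hSeq] at hx2
      rcases hx2 with h1 | ⟨h1, -⟩
      · rw [h1]
        exact hCH (hKC hzK)
      · exact h1
    rcases Subgroup.Normal.eq_bot_or_eq_top (H := normalClosure ({z} : Set G)) inferInstance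
      with h1 | h1
    · have h2 : z ∈ normalClosure ({z} : Set G) := subset_normalClosure rfl
      rw [h1] at h2
      exact hz1 (mem_bot.1 h2)
    · rw [h1, top_le_iff] at hcl
      rw [hcl, Nat.card_congr Subgroup.topEquiv.toEquiv, h] at hN
      omega
  -- the sign
  have : Fintype (Sylow 11 G) := Fintype.ofFinite _
  have hs1 : Equiv.Perm.sign (MulAction.toPermHom G (Sylow 11 G) k) = -1 := by
    apply sign_eq_neg_one _ _ P _ _ 11 (by decide)
    · rw [← Nat.card_eq_fintype_card, hn]
    · rw [← map_pow, show 4 = orderOf k by rw [hk4], pow_orderOf_eq_one, map_one]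
    · show k • P = P
      rw [Sylow.smul_eq_iff_mem_normalizer]
      exact hCH (hKC hkK)
    · intro Q hQ
      rw [← map_pow, hk2] at hQ
      have hQ' : z • Q = Q := hQ
      rw [Sylow.smul_eq_iff_mem_normalizer] at hQ'
      exact huniq Q hQ'
  have hs2 := DegreePPlusOne.sign_toPerm_eq_one (by rw [h]; norm_num) (X := Sylow 11 G) k
  rw [hs1] at hs2
  exact absurd hs2 (by decide)

theorem not_simple_3960 {G : Type*} [Group G] [Finite G] [IsSimpleGroup G]
    (h : Nat.card G = 3960) : False := by
  have hG : ¬ IsMulCommutative G := Embed.not_comm_of_card_not_prime (by rw [h]; norm_num)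
  have hp : Fact (Nat.Prime 11) := ⟨by norm_num⟩
  obtain ⟨P⟩ : Nonempty (Sylow 11 G) := inferInstance
  have h11 : 11 ∣ Nat.card G := by rw [h]; norm_num
  have h121 : ¬ 11 ^ 2 ∣ Nat.card G := by rw [h]; norm_num
  have hP := PrimeLocal.card_of_not_sq_dvd h11 h121 P
  obtain ⟨e, K, hL⟩ := PrimeLocal.exists_local hG h11 h121 P
  obtain ⟨o, ho, ho'⟩ := hL.card_sylow hG (by norm_num) hP
  have hcard := hL.card_eq
  rw [h, ho] at hcard
  have hcard' : (1 + 11 * o) * (e * Nat.card K) = 360 := by
    have h1 : 11 * ((1 + 11 * o) * (e * Nat.card K)) = 11 * 360 := by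
      rw [← show 3960 = 11 * 360 by norm_num, hcard]
      ring
    exact Nat.eq_of_mul_eq_mul_left (by norm_num) h1
  have he1 := hL.one_lt
  have he2 := hL.dvd_pred
  have he3 : e ≤ 10 := Nat.le_of_dvd (by norm_num) he2
  have hm1 : 0 < e * Nat.card K := Nat.mul_pos (by omega) Nat.card_pos
  have hole : o ≤ 32 := by
    by_contra hcon
    push Not at hcon
    have h1 : (1 + 11 * 33) * 1 ≤ (1 + 11 * o) * (e * Nat.card K) :=
      Nat.mul_le_mul (by omega) hm1
    omega
  have hcases : (o = 0 ∨ o = 1) ∨ (o = 4 ∧ e * Nat.card K = 8) := by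
    generalize e * Nat.card K = m at *
    clear ho ho' hcard
    interval_cases o <;> omega
  rcases hcases with (h0 | h1) | ⟨h4, h8⟩
  · rw [h0] at ho'
    rcases ho' with h1 | h1
    · rw [Nat.factorial_zero] at h1
      have := Nat.dvd_one.1 h1
      omega
    · omega
  · rw [h1] at ho hcard'
    have h2 := hL.dvd_of_card_sylow_succ hG (by norm_num) hP (by rw [ho])
    have h3 : e * Nat.card K = 30 := by omega
    rw [h3] at h2
    revert h2
    norm_num
  · have he : e = 2 ∧ Nat.card K = 4 := by
      have h1 : e = 2 := by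
        interval_cases e
        · rfl
        all_goals omega
      rw [h1] at h8
      exact ⟨h1, by omega⟩
    obtain ⟨he, hK⟩ := he
    apply aux h hG P K (by rw [ho, h4]) hp
    · rw [show ((P : Subgroup G) : Set G) = (P : Set G) from rfl, hL.card_normalizer, he, hK]
    · rw [show ((P : Subgroup G) : Set G) = (P : Set G) from rfl, hL.card_centralizer, hK]
    · exact hK
    · intro x
      rw [hL.mem_iff x, hK]
      exact Iff.rfl

end main

end Cfsg.Agent.SmallSimple.Order3960
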