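import Mathlib
import Cfsg.Agent.S0713
import Cfsg.Agent.SmallSimple.Embed

/-! Index bounds for simple groups from Jordan's theorem on primitive groups containing a `p`-cycle. -/

set_option autoImplicit false

namespace Cfsg.Agent.SmallSimple.IndexJordan

open MulAction
open scoped Nat

theorem isPreprimitive_quotient {G : Type*} [Group G] {M : Subgroup G} (hM : IsCoatom M) :
    IsPreprimitive G (G ⧸ M) := by
  have : Nontrivial (G ⧸ M) := by
    by_contra h
    rw [not_nontrivial_iff_subsingleton, QuotientGroup.subsingleton_iff] at h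
    exact hM.1 h
  rw [← isCoatom_stabilizer_iff_preprimitive G ((1 : G) : G ⧸ M), stabilizer_quotient]
  exact hM

theorem isPreprimitive_range (G X : Type*) [Group G] [MulAction G X] [IsPreprimitive G X] :
    IsPreprimitive (toPermHom G X).range X := by
  let f : X →ₑ[(toPermHom G X).rangeRestrict] X := ⟨id, fun g x => rfl⟩
  exact IsPreprimitive.of_surjective (f := f) Function.surjective_id

theorem toPermHom_injective {G : Type*} [Group G] [IsSimpleGroup G] {M : Subgroup G} (hM : M ≠ ⊤) :
    Function.Injective (toPermHom G (G ⧸ M)) := by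
  rw [← MonoidHom.ker_eq_bot_iff, ← Subgroup.normalCore_eq_ker]
  rcases IsSimpleGroup.eq_bot_or_eq_top_of_normal M.normalCore inferInstance with h | h
  · exact h
  · exact absurd (top_le_iff.1 (h ▸ M.normalCore_le)) hM

/-- A finite simple nonabelian group of order less than `10!/2` and divisible by `p²`, `p ≥ 5`, has no proper subgroup
of index less than `3p`. -/
theorem three_mul_le_index {G : Type*} [Group G] [Finite G] [IsSimpleGroup G] (hG : ¬ IsMulCommutative G)
    (hsmall : Nat.card G < 1814400) (p : ℕ) [hp : Fact p.Prime] (hp5 : 5 ≤ p) (hdvd : p ^ 2 ∣ Nat.card G)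
    (H : Subgroup G) (hH : H ≠ ⊤) : 3 * p ≤ H.index := by
  classical
  by_contra hlt
  push Not at hlt
  obtain ⟨M, hM, hHM⟩ := (eq_top_or_exists_le_coatom H).resolve_left hH
  have hMle : M.index ≤ H.index :=
    Nat.le_of_dvd (Nat.pos_of_ne_zero Subgroup.index_ne_zero_of_finite) (Subgroup.index_dvd_of_le hHM)
  have hM3 : M.index < 3 * p := lt_of_le_of_lt hMle hlt
  have hfac := Embed.two_mul_card_dvd_factorial_index hG M hM.1
  have hpf : p ^ 2 ∣ M.index ! := hdvd.trans ((Dvd.intro_left 2 rfl).trans hfac)
  -- p-adic valuation of the factorial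
  have hval : (M.index !).factorization p = M.index / p := by
    rw [Nat.factorization_factorial hp.out (b := 2)]
    · simp
    · apply Nat.log_lt_of_lt_pow
      · exact Subgroup.index_ne_zero_of_finite
      · nlinarith
  have h2 : 2 ≤ M.index / p := by
    rw [← hval]
    exact (hp.out.pow_dvd_iff_le_factorization (Nat.factorial_ne_zero _)).1 hpf
  have hle3 : M.index / p < 3 := by
    rw [Nat.div_lt_iff_lt_mul hp.out.pos]; exact hM3
  have hval2 : (M.index !).factorization p = 2 := by omega
  have h2p : 2 * p ≤ M.index := by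
    rw [Nat.le_div_iff_mul_le hp.out.pos] at h2
    exact h2
  let X := G ⧸ M
  have hX : Nat.card X = M.index := rfl
  have : Fintype X := Fintype.ofFinite X
  have hXf : Fintype.card X = M.index := by rw [← hX, Nat.card_eq_fintype_card]
  let f : G →* Equiv.Perm X := toPermHom G X
  have hf : Function.Injective f := toPermHom_injective hM.1
  have hprim : IsPreprimitive G X := isPreprimitive_quotient hM
  have hprim' : IsPreprimitive f.range X := isPreprimitive_range G X
  -- a Sylow p-subgroup of the image is a Sylow p-subgroup of the symmetric group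
  have hcardperm : Nat.card (Equiv.Perm X) = M.index ! := by rw [Nat.card_perm, hX]
  let P : Sylow p G := default
  have hPcard : Nat.card P = p ^ 2 := by
    rw [P.card_eq_multiplicity]
    congr 1
    apply le_antisymm
    · rw [← hval2]
      exact (Nat.factorization_le_iff_dvd (Nat.card_pos.ne') (Nat.factorial_ne_zero _)).2
        ((Dvd.intro_left 2 rfl).trans hfac) p
    · exact (hp.out.pow_dvd_iff_le_factorization (Nat.card_pos.ne')).1 hdvd
  have hPm : Nat.card ((P : Subgroup G).map f) = p ^ (Nat.card (Equiv.Perm X)).factorization p := by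
    rw [hcardperm, hval2, ← hPcard]
    exact (Nat.card_congr ((P : Subgroup G).equivMapOfInjective f hf).toEquiv).symm
  let Q : Sylow p (Equiv.Perm X) := Sylow.ofCard _ hPm
  -- a p-cycle
  obtain ⟨c, hc, hcs⟩ : ∃ c : Equiv.Perm X, c.IsCycle ∧ c.support.card = p := by
    obtain ⟨c, hc⟩ := (Equiv.Perm.exists_with_cycleType_iff X (m := {p})).2
      ⟨by rw [Multiset.sum_singleton, hXf]; omega, by
        intro a ha
        rw [Multiset.mem_singleton] at ha
        omega⟩
    refine ⟨c, ?_, ?_⟩
    · rw [← Equiv.Perm.card_cycleType_eq_one, hc, Multiset.card_singleton]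
    · rw [← Equiv.Perm.sum_cycleType, hc, Multiset.sum_singleton]
  have hcP : IsPGroup p (Subgroup.zpowers c) := by
    apply IsPGroup.of_card (n := 1)
    rw [Nat.card_zpowers, hc.orderOf, hcs, pow_one]
  obtain ⟨R, hR⟩ := hcP.exists_le_sylow
  obtain ⟨σ, hσ⟩ := exists_smul_eq (Equiv.Perm X) R Q
  have hmem : σ * c * σ⁻¹ ∈ f.range := by
    have h1 : c ∈ R := hR (Subgroup.mem_zpowers c)
    have h3 : σ * c * σ⁻¹ ∈ (σ • R : Sylow p (Equiv.Perm X)) := by
      rw [Sylow.smul_def]
      exact Subgroup.smul_mem_pointwise_smul c (MulAut.conj σ) (R : Subgroup (Equiv.Perm X)) h1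
    rw [hσ] at h3
    obtain ⟨g, _, hg⟩ := h3
    exact ⟨g, hg⟩
  have hJ := Cfsg.Agent.S0713.result f.range hprim' hp.out (by rw [hXf]; omega) (by rw [hXf]; omega)
    (g := σ * c * σ⁻¹) hc.conj (by rw [Equiv.Perm.card_support_conj]; exact hcs) hmem
  have hcardle := Subgroup.card_le_of_le hJ
  have h10 : 10 ≤ M.index := by omega
  have h4 : Nat.card f.range = Nat.card G := (Nat.card_congr (MonoidHom.ofInjective hf).toEquiv).symm
  rw [h4] at hcardle
  have : Nontrivial X := by
    rw [← Fintype.one_lt_card_iff_nontrivial, hXf]; omega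
  have h5 : 2 * Nat.card (alternatingGroup X) = Nat.card (Equiv.Perm X) := two_mul_nat_card_alternatingGroup
  rw [hcardperm] at h5
  have h6 : 10 ! ≤ M.index ! := Nat.factorial_le h10
  have h7 : 10 ! = 3628800 := by decide
  omega

end Cfsg.Agent.SmallSimple.IndexJordan
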