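import Mathlib
import Cfsg.Agent.SmallSimple.IndexJordan
import Cfsg.Agent.SmallSimple.SylowInter
import Cfsg.Agent.SmallSimple.PSqQR
import Cfsg.Agent.Transfer.ResidualComplement

/-! Simple groups whose order is exactly divisible by `25` and the number of Sylow 5-subgroups is not `1` mod `25`:
the centralizer of the intersection of two Sylow 5-subgroups. Used for the orders 4800 and 5400. -/

set_option autoImplicit false

namespace Cfsg.Agent.SmallSimple.FiveSq

open Subgroup

instance fact_five : Fact (Nat.Prime 5) := ⟨by norm_num⟩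
instance fact_two : Fact (Nat.Prime 2) := ⟨by norm_num⟩

/-- A group of order 75 has a normal Sylow 5-subgroup. -/
theorem card_sylow_of_card_75 {C : Type*} [Group C] [Finite C] (h : Nat.card C = 75) :
    Nat.card (Sylow 5 C) = 1 := by
  have h1 : Nat.card (Sylow 5 C) ∣ 3 :=
    PSqQR.card_sylow_dvd_of_card_eq (k := 2) (by rw [h]; norm_num) (by norm_num)
  have h2 := card_sylow_modEq_one 5 C
  rcases (Nat.dvd_prime Nat.prime_three).1 h1 with h3 | h3
  · exact h3
  · rw [h3] at h2
    exact absurd h2 (by decide)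

/-- A group of order 150 has a normal Sylow 5-subgroup. -/
theorem card_sylow_of_card_150 {C : Type*} [Group C] [Finite C] (h : Nat.card C = 150) :
    Nat.card (Sylow 5 C) = 1 := by
  have hmin : (Nat.card C).minFac = 2 := by rw [h]; norm_num
  let P : Sylow 2 C := default
  have hP2 : Nat.card P = 2 ^ 1 := PSqQR.card_sylow_of_card_eq (m := 75) (by rw [h]; norm_num) (by norm_num) P
  have hPc : IsCyclic P := isCyclic_of_prime_card (p := 2) (by rw [hP2, pow_one])
  have hK := IsCyclic.isComplement' hmin hPc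
  set K := (MonoidHom.transferSylow P (hPc.normalizer_le_centralizer hmin)).ker with hKdef
  have hKi : K.index = 2 := by rw [hK.symm.index_eq_card, hP2, pow_one]
  have hKn : K.Normal := MonoidHom.normal_ker _
  have hKc : Nat.card K = 75 := by
    have := K.card_mul_index
    rw [hKi, h] at this; omega
  have hle : ∀ Q : Sylow 5 C, (Q : Subgroup C) ≤ K := by
    intro Q x hx
    have h1 : orderOf (QuotientGroup.mk x : C ⧸ K) ∣ 2 := by
      rw [← hKi, Subgroup.index_eq_card]; exact orderOf_dvd_natCard _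
    obtain ⟨k, hk⟩ := Q.isPGroup' ⟨x, hx⟩
    have hk' : x ^ 5 ^ k = 1 := congrArg Subtype.val hk
    have h2 : orderOf (QuotientGroup.mk x : C ⧸ K) ∣ 5 ^ k := by
      apply orderOf_dvd_of_pow_eq_one
      rw [← QuotientGroup.mk_pow, hk', QuotientGroup.mk_one]
    have h3 : Nat.Coprime 2 (5 ^ k) := Nat.Coprime.pow_right k (by norm_num)
    have h4 : orderOf (QuotientGroup.mk x : C ⧸ K) = 1 := Nat.eq_one_of_dvd_coprimes h3 h1 h2
    rw [orderOf_eq_one_iff, QuotientGroup.eq_one_iff] at h4
    exact h4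
  have hs : Subsingleton (Sylow 5 K) := (Nat.card_eq_one_iff_unique.1 (card_sylow_of_card_75 hKc)).1
  rw [Nat.card_eq_one_iff_unique]
  refine ⟨⟨fun Q R => ?_⟩, inferInstance⟩
  exact Sylow.subtype_injective (hP := hle Q) (hQ := hle R) (Subsingleton.elim _ _)

theorem card_inf_mul_relIndex {G : Type*} [Group G] (H K : Subgroup G) :
    Nat.card (H ⊓ K : Subgroup G) * H.relIndex K = Nat.card K := by
  have h1 := Subgroup.card_mul_index (H.subgroupOf K)
  have h2 := Nat.card_congr ((H.subgroupOf K).equivMapOfInjective K.subtype K.subtype_injective).toEquiv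
  rw [Subgroup.subgroupOf_map_subtype] at h2
  rw [← h2]
  exact h1

variable {G : Type*} [Group G] [Finite G]

/-- Two distinct Sylow 5-subgroups do not lie in a subgroup of order 150. -/
theorem card_ne_150 {P R : Sylow 5 G} (hPR : P ≠ R) {I : Subgroup G} (hP : (P : Subgroup G) ≤ I)
    (hR : (R : Subgroup G) ≤ I) : Nat.card I ≠ 150 := by
  intro h
  have hs : Subsingleton (Sylow 5 I) := (Nat.card_eq_one_iff_unique.1 (card_sylow_of_card_150 h)).1
  exact hPR (Sylow.subtype_injective (hP := hP) (hQ := hR) (Subsingleton.elim _ _))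

omit [Finite G] in
theorem card_sylow_ne_one_of_le {P R : Sylow 5 G} (hPR : P ≠ R) {I : Subgroup G} (hP : (P : Subgroup G) ≤ I)
    (hR : (R : Subgroup G) ≤ I) : Nat.card (Sylow 5 I) ≠ 1 := by
  intro h
  have hs : Subsingleton (Sylow 5 I) := (Nat.card_eq_one_iff_unique.1 h).1
  exact hPR (Sylow.subtype_injective (hP := hP) (hQ := hR) (Subsingleton.elim _ _))

/-- In a subgroup of order 300 containing two Sylow 5-subgroups, Sylow normalizers have order 50. -/
theorem card_normalizer_inf {P R : Sylow 5 G} (hPR : P ≠ R) {C : Subgroup G} (hC : Nat.card C = 300)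
    (hP : (P : Subgroup G) ≤ C) (hR : (R : Subgroup G) ≤ C) (Q : Sylow 5 G) (hQ : (Q : Subgroup G) ≤ C) :
    Nat.card (normalizer ((Q : Subgroup G) : Set G) ⊓ C : Subgroup G) = 50 := by
  have h1 : Nat.card (Sylow 5 C) ≠ 1 := card_sylow_ne_one_of_le hPR hP hR
  have h2 : Nat.card (Sylow 5 C) ∣ 12 :=
    PSqQR.card_sylow_dvd_of_card_eq (k := 2) (by rw [hC]; norm_num) (by norm_num)
  have h3 := card_sylow_modEq_one 5 C
  have h4 : Nat.card (Sylow 5 C) = 6 := by
    have : ∀ n ∈ Nat.divisors 12, n % 5 = 1 → n ≠ 1 → n = 6 := by decide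
    exact this _ (Nat.mem_divisors.2 ⟨h2, by norm_num⟩) h3 h1
  rw [(Q.subtype hQ).card_eq_index_normalizer] at h4
  have h5 : normalizer (((Q.subtype hQ : Sylow 5 C) : Subgroup C) : Set C) =
      (normalizer ((Q : Subgroup G) : Set G)).subgroupOf C := by
    rw [subgroupOf_normalizer_eq hQ]; rfl
  rw [← Subgroup.subgroupOf_map_subtype, ← h5]
  have h6 := Subgroup.card_mul_index (normalizer (((Q.subtype hQ : Sylow 5 C) : Subgroup C) : Set C))
  have h7 : (normalizer (((Q.subtype hQ : Sylow 5 C) : Subgroup C) : Set C)).index = 6 := h4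
  rw [h7, hC] at h6
  have h8 := Nat.card_congr ((normalizer (((Q.subtype hQ : Sylow 5 C) : Subgroup C) : Set C)).equivMapOfInjective
    C.subtype C.subtype_injective).toEquiv
  omega

/-- Local structure: if the number of Sylow 5-subgroups is not `1` mod `25`. -/
theorem exists_config [IsSimpleGroup G] (hG : ¬ IsMulCommutative G) (hsmall : Nat.card G < 1814400) {m : ℕ}
    (hm : Nat.card G = m * 5 ^ 2) (h5 : ¬ 5 ∣ m)
    (hdiv : ∀ t ∈ Nat.divisors m, 15 * t ≤ m → (∃ s ∈ Nat.divisors t, s % 5 = 1 ∧ s ≠ 1) → t = 6 ∨ t = 12)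
    (hn : ¬ Nat.card (Sylow 5 G) ≡ 1 [MOD 5 ^ 2]) (P : Sylow 5 G) :
    ∃ R : Sylow 5 G, P ≠ R ∧ Nat.card ((P : Subgroup G) ⊓ R : Subgroup G) = 5 ∧
      (P : Subgroup G) ≤ centralizer (((P : Subgroup G) ⊓ R : Subgroup G) : Set G) ∧
      (R : Subgroup G) ≤ centralizer (((P : Subgroup G) ⊓ R : Subgroup G) : Set G) ∧
      Nat.card (centralizer (((P : Subgroup G) ⊓ R : Subgroup G) : Set G)) = 300 := by
  have hm0 : m ≠ 0 := by
    rintro rfl
    exact h5 (dvd_zero 5)
  have hcard : ∀ Q : Sylow 5 G, Nat.card Q = 5 ^ 2 := fun Q => PSqQR.card_sylow_of_card_eq hm h5 Q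
  have hcomm : ∀ Q : Sylow 5 G, IsMulCommutative Q := fun Q =>
    IsPGroup.isMulCommutative_of_card_eq_prime_sq (hcard Q)
  obtain ⟨R, hPR, hR⟩ := SylowInter.exists_ne_pow_dvd_card_inf 5 2 2 hn P (hcard P)
  refine ⟨R, hPR, ?_⟩
  set D : Subgroup G := (P : Subgroup G) ⊓ R with hD
  have hDcard : Nat.card D = 5 := by
    have h1 : Nat.card D ∣ 5 ^ 2 := by
      rw [← hcard P]; exact Subgroup.card_dvd_of_le inf_le_left
    obtain ⟨k, hk2, hk⟩ := (Nat.dvd_prime_pow (by norm_num)).1 h1
    have h2 : k ≠ 0 := by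
      rintro rfl
      rw [pow_zero] at hk
      rw [hk] at hR
      exact absurd hR (by norm_num)
    have h3 : k ≠ 2 := by
      rintro rfl
      apply hPR
      have e1 : D = P := Subgroup.eq_of_le_of_card_ge inf_le_left (by rw [hk]; exact (hcard P).le)
      have e2 : D = R := Subgroup.eq_of_le_of_card_ge inf_le_right (by rw [hk]; exact (hcard R).le)
      exact Sylow.ext (e1.symm.trans e2)
    have h4 : k = 1 := by omega
    rw [hk, h4, pow_one]
  have hPC : ∀ Q : Sylow 5 G, D ≤ Q → (Q : Subgroup G) ≤ centralizer (D : Set G) := by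
    intro Q hDQ x hx
    rw [mem_centralizer_iff]
    intro d hd
    have := (hcomm Q).is_comm.comm ⟨d, hDQ hd⟩ ⟨x, hx⟩
    exact congrArg Subtype.val this
  have hPle := hPC P inf_le_left
  have hRle := hPC R inf_le_right
  refine ⟨hDcard, hPle, hRle, ?_⟩
  set C := centralizer (D : Set G) with hCdef
  -- order of `C`
  obtain ⟨t, ht⟩ : 5 ^ 2 ∣ Nat.card C := by
    rw [← hcard P]; exact Subgroup.card_dvd_of_le hPle
  have hCtop : C ≠ ⊤ := by
    intro htop
    have hDc : D ≤ center G := by
      intro d hd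
      rw [mem_center_iff]
      intro g
      have : g ∈ C := htop ▸ mem_top g
      rw [hCdef, mem_centralizer_iff] at this
      exact (this d hd).symm
    rcases IsSimpleGroup.eq_bot_or_eq_top_of_normal (center G) inferInstance with h | h
    · rw [h, le_bot_iff] at hDc
      rw [hDc, Subgroup.card_bot] at hDcard
      omega
    · apply hG
      refine ⟨⟨fun a b => ?_⟩⟩
      have : a ∈ center G := h ▸ mem_top a
      exact ((mem_center_iff.1 this) b).symm
  have hidx : C.index * t = m := by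
    have h1 := C.card_mul_index
    rw [ht, hm] at h1
    have : (C.index * t) * 5 ^ 2 = m * 5 ^ 2 := by rw [← h1]; ring
    exact Nat.eq_of_mul_eq_mul_right (by norm_num) this
  have h15 := IndexJordan.three_mul_le_index hG hsmall 5 (le_refl 5) (by rw [hm]; exact Dvd.intro_left m rfl) C hCtop
  have htd : t ∈ Nat.divisors m := Nat.mem_divisors.2 ⟨⟨C.index, by rw [mul_comm]; exact hidx.symm⟩, hm0⟩
  have ht5 : ¬ 5 ∣ t := fun h => h5 (h.trans (Nat.dvd_of_mem_divisors htd))
  have ht0 : t ≠ 0 := by rintro rfl; exact ht5 (dvd_zero 5)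
  have hs1 : Nat.card (Sylow 5 C) ≠ 1 := card_sylow_ne_one_of_le hPR hPle hRle
  have hs2 : Nat.card (Sylow 5 C) ∣ t :=
    PSqQR.card_sylow_dvd_of_card_eq (k := 2) (by rw [ht, mul_comm]) ht5
  have hs3 := card_sylow_modEq_one 5 C
  have h6 := hdiv t htd (by rw [← hidx]; exact Nat.mul_le_mul_right t h15)
    ⟨_, Nat.mem_divisors.2 ⟨hs2, ht0⟩, hs3, hs1⟩
  rcases h6 with h6 | h6
  · exfalso
    apply card_ne_150 hPR hPle hRle
    rw [ht, h6]
    norm_num
  · rw [ht, h6]
    norm_num

/-- In a simple group with abelian Sylow subgroup `P`, the centre of `N(P)` meets `P` trivially. -/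
theorem eq_one_of_normalizer_le [IsSimpleGroup G] (hG : ¬ IsMulCommutative G) {p : ℕ} [Fact p.Prime]
    (P : Sylow p G) [hP : IsMulCommutative P] {z : G} (hz : z ∈ P)
    (hzc : ∀ n ∈ normalizer ((P : Subgroup G) : Set G), n * z = z * n) : z = 1 := by
  apply Transfer.ResidualComplement.eq_one_of_mem_center_normalizer P ?_ z hz hzc
  intro f x
  rcases IsSimpleGroup.eq_bot_or_eq_top_of_normal f.ker inferInstance with h | h
  · exfalso
    apply hG
    refine ⟨⟨fun a b => ?_⟩⟩
    apply (MonoidHom.ker_eq_bot_iff f).1 h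
    rw [map_mul, map_mul]
    exact hP.is_comm.comm _ _
  · have : x ∈ f.ker := h ▸ mem_top x
    exact this

/-- A subgroup normalizing two distinct Sylow 5-subgroups of order 25 has order not divisible by 25. -/
theorem not_dvd_card_inf_normalizer {P R : Sylow 5 G} (hcard : ∀ Q : Sylow 5 G, Nat.card Q = 5 ^ 2) (hPR : P ≠ R) :
    ¬ 5 ^ 2 ∣ Nat.card (normalizer ((P : Subgroup G) : Set G) ⊓ normalizer ((R : Subgroup G) : Set G) : Subgroup G) := by
  intro hdvd
  obtain ⟨T, hT⟩ := Sylow.exists_subgroup_card_pow_prime 5 hdvd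
  have hT' : Nat.card (T.map (Subgroup.subtype _)) = 5 ^ 2 := by
    rw [← hT]
    exact (Nat.card_congr (T.equivMapOfInjective _ (Subgroup.subtype_injective _)).toEquiv).symm
  have hTp : IsPGroup 5 (T.map (Subgroup.subtype _)) := IsPGroup.of_card hT'
  have hle : ∀ Q : Sylow 5 G, T.map (Subgroup.subtype _) ≤ normalizer ((Q : Subgroup G) : Set G) →
      T.map (Subgroup.subtype _) = (Q : Subgroup G) := by
    intro Q hQ
    have h1 : T.map (Subgroup.subtype _) ⊓ normalizer ((Q : Subgroup G) : Set G) =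
      T.map (Subgroup.subtype _) ⊓ (Q : Subgroup G) := hTp.inf_normalizer_sylow Q
    rw [inf_eq_left.2 hQ] at h1
    apply Subgroup.eq_of_le_of_card_ge
    · rw [h1]; exact inf_le_right
    · rw [hT', hcard Q]
  have h2 : T.map (Subgroup.subtype _) ≤ normalizer ((P : Subgroup G) : Set G) ⊓
      normalizer ((R : Subgroup G) : Set G) := Subgroup.map_subtype_le T
  exact hPR (Sylow.ext ((hle P (h2.trans inf_le_left)).symm.trans (hle R (h2.trans inf_le_right))))

end Cfsg.Agent.SmallSimple.FiveSq
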