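import Mathlib
import Cfsg.Agent.SmallSimple.FiveSq

set_option autoImplicit false

namespace Cfsg.Agent.SmallSimple.Order4200

open Subgroup Cfsg.Agent.SmallSimple.FiveSq

/-- There is no simple group of order 4200. -/
theorem not_simple_4200 {G : Type*} [Group G] [Finite G] [IsSimpleGroup G] (h : Nat.card G = 4200) : False := by
  have hG : ¬ IsMulCommutative G := Embed.not_comm_of_card_not_prime (by rw [h]; norm_num)
  have hm : Nat.card G = 168 * 5 ^ 2 := by rw [h]; norm_num
  have hmod : ¬ Nat.card (Sylow 5 G) ≡ 1 [MOD 5 ^ 2] := by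
    have h1 : Nat.card (Sylow 5 G) ∣ 168 := PSqQR.card_sylow_dvd_of_card_eq hm (by norm_num)
    have h3 := Embed.five_le_card_sylow hG (p := 5) (by rw [h]; norm_num)
    have h5 : ∀ n ∈ Nat.divisors 168, 5 ≤ n → ¬ n ≡ 1 [MOD 5 ^ 2] := by decide
    exact h5 _ (Nat.mem_divisors.2 ⟨h1, by norm_num⟩) h3
  obtain ⟨R, hPR, hD5, hPC, hRC, hC⟩ := exists_config hG (by rw [h]; norm_num) hm (by norm_num)
    (by decide) hmod (default : Sylow 5 G)
  set P : Sylow 5 G := default with hP
  set C : Subgroup G := centralizer (((P : Subgroup G) ⊓ R : Subgroup G) : Set G) with hCdef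
  have h1 := C.card_mul_index
  rw [hC, h] at h1
  have hCtop : C ≠ ⊤ := by
    intro htop
    rw [htop, Subgroup.card_top, h] at hC
    omega
  have h15 := IndexJordan.three_mul_le_index hG (by rw [h]; norm_num) 5 (le_refl 5) (by rw [h]; norm_num) _ hCtop
  omega

end Cfsg.Agent.SmallSimple.Order4200
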