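import Mathlib
import Cfsg.Agent.SmallSimple.PrimeOrderData
import Cfsg.Agent.SmallSimple.SylowEight
import Cfsg.Agent.SmallSimple.Parity
import Cfsg.Agent.SmallSimple.RelSylow
import Cfsg.Agent.SmallSimple.SylowInter
import Cfsg.Agent.SmallSimple.SylowMaxInter
import Cfsg.Agent.SmallSimple.OrbitSign
import Cfsg.Agent.SmallSimple.Embed

/-!
There is no simple group of order 4536.
-/

set_option autoImplicit false

namespace Cfsg.Agent.SmallSimple.Order4536

open Subgroup MulAction
open Cfsg.Agent.SmallSimple.SylowPrime Cfsg.Agent.SmallSimple.SylowPrimeCount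
open Cfsg.Agent.SmallSimple.SylowPrimeInvol Cfsg.Agent.SmallSimple.PrimeOrderData

variable {G : Type*} [Group G] [Finite G] [IsSimpleGroup G]

theorem not_comm (h : Nat.card G = 4536) : ¬ IsMulCommutative G :=
  Embed.not_comm_of_card_not_prime (by rw [h]; norm_num)

theorem card_sylow_3 (h : Nat.card G = 4536) : Nat.card (Sylow 3 G) = 28 := by
  have f3 : Fact (Nat.Prime 3) := ⟨by norm_num⟩
  obtain ⟨P⟩ : Nonempty (Sylow 3 G) := inferInstance
  have h1 : Nat.card (Sylow 3 G) ∣ 56 :=
    card_sylow_dvd_of_card_eq P (k := 4) (m := 56) (by rw [h]; norm_num) (by norm_num)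
  have h2 : Nat.card (Sylow 3 G) % 3 = 1 := card_sylow_modEq_one 3 G
  have h3 := Embed.two_mul_card_dvd_factorial_card_sylow (not_comm h) (p := 3)
    (by rw [h]; norm_num)
  rw [h] at h3
  have key : ∀ n ∈ Nat.divisors 56, n % 3 = 1 → 2 * 4536 ∣ n.factorial → n = 28 := by
    decide +kernel
  exact key _ (Nat.mem_divisors.2 ⟨h1, by norm_num⟩) h2 h3

theorem card_P (h : Nat.card G = 4536) (P : Sylow 3 G) : Nat.card P = 81 := by
  have f3 : Fact (Nat.Prime 3) := ⟨by norm_num⟩
  have := card_sylow_of_card_eq P (k := 4) (m := 56) (by rw [h]; norm_num) (by norm_num)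
  rw [this]
  norm_num

theorem card_N (h : Nat.card G = 4536) (P : Sylow 3 G) :
    Nat.card (normalizer (P : Set G)) = 162 := by
  have f3 : Fact (Nat.Prime 3) := ⟨by norm_num⟩
  have := card_normalizer_mul P
  rw [card_sylow_3 h, h] at this
  omega

/-- An element of order 7 normalizes no Sylow 3-subgroup. -/
theorem seven_free (h : Nat.card G = 4536) {z : G} (hz : orderOf z = 7) (Q : Sylow 3 G) :
    z • Q ≠ Q := by
  intro hQ
  have h1 := Sylow.smul_eq_iff_mem_normalizer.1 hQ
  have h2 := Subgroup.orderOf_dvd_natCard _ h1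
  rw [hz, card_N h] at h2
  norm_num at h2

theorem fix_bounds (h : Nat.card G = 4536) {z y : G} (hz : orderOf z = 7)
    (hzy : y * z = z * y) (hy : y ≠ 1) :
    7 ∣ Nat.card (fixedBy (Sylow 3 G) y) ∧ Nat.card (fixedBy (Sylow 3 G) y) < 28 := by
  have f7 : Fact (Nat.Prime 7) := ⟨by norm_num⟩
  have f3 : Fact (Nat.Prime 3) := ⟨by norm_num⟩
  refine ⟨dvd_card_fixedBy hz hzy (seven_free h hz), ?_⟩
  have h1 := card_fixedBy_lt (G := G) (p := 3) (by rw [card_sylow_3 h]; norm_num) hy
  rwa [card_sylow_3 h] at h1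

/-- No involution commutes with an element of order 7. -/
theorem two_not (h : Nat.card G = 4536) {z y : G} (hz : orderOf z = 7)
    (hzy : y * z = z * y) (hy : orderOf y = 2) : False := by
  have f2 : Fact (Nat.Prime 2) := ⟨by norm_num⟩
  have hG := not_comm h
  have hy1 : y ≠ 1 := by
    rintro rfl
    rw [orderOf_one] at hy
    omega
  have hy2 : y ^ 2 = 1 := by rw [← hy]; exact pow_orderOf_eq_one y
  obtain ⟨h1, h2⟩ := fix_bounds h hz hzy hy1
  obtain ⟨k, hk⟩ := Parity.card_modEq_four (G := G) (X := Sylow 3 G) (by rw [h]; norm_num) y hy2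
  rw [card_sylow_3 h] at hk
  have h3 : Nat.card (fixedBy (Sylow 3 G) y) = Nat.card {x : Sylow 3 G // y • x = x} := rfl
  rw [← h3] at hk
  have h4 : Nat.card (fixedBy (Sylow 3 G) y) = 0 := by
    obtain ⟨j, hj⟩ := h1
    omega
  obtain ⟨R⟩ : Nonempty (Sylow 3 G) := inferInstance
  obtain ⟨t, ht⟩ := exists_prime_orderOf_dvd_card' (G := normalizer (R : Set G)) 2
    (by rw [card_N h]; norm_num)
  have ht' : orderOf (t : G) = 2 := by rw [Subgroup.orderOf_coe, ht]
  have hc := SylowEight.isConj_of_card_sylow_eight hG (by rw [h]; norm_num) (by rw [h]; norm_num)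
    (t : G) y ht' hy
  obtain ⟨g, hg⟩ := isConj_iff.1 hc
  have h5 : (t : G) • R = R := Sylow.smul_eq_iff_mem_normalizer.2 t.2
  have h6 : y • (g • R) = g • R := by
    rw [← hg, ← mul_smul, inv_mul_cancel_right, mul_smul, h5]
  have h7 : Nonempty (fixedBy (Sylow 3 G) y) := ⟨⟨g • R, h6⟩⟩
  have h8 : 0 < Nat.card (fixedBy (Sylow 3 G) y) := Nat.card_pos
  omega

theorem card_sylow_7 (h : Nat.card G = 4536) :
    Nat.card (Sylow 7 G) = 36 ∨ Nat.card (Sylow 7 G) = 162 := by
  have : Fact (Nat.Prime 7) := ⟨by norm_num⟩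
  obtain ⟨h1, h2, h3, h4⟩ := card_sylow_prop (G := G) (p := 7) (m := 648) (by rw [h])
    (by norm_num) (by norm_num)
  rw [h] at h4
  have key : ∀ n ∈ Nat.divisors 648, n % 7 = 1 → n ≠ 1 → n ≠ 8 → n = 36 ∨ n = 162 := by
    decide +kernel
  refine key _ (Nat.mem_divisors.2 ⟨h1, by norm_num⟩) h2 h3 ?_
  intro h8
  rw [h8] at h4
  revert h4
  decide +kernel

theorem card_fix_three (h : Nat.card G = 4536) {X : Type*} [MulAction G X] [Finite X] {y : G}
    (hy : orderOf y = 3) : Nat.card X ≡ Nat.card (fixedBy X y) [MOD 3] := by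
  have f3 : Fact (Nat.Prime 3) := ⟨by norm_num⟩
  have hp : IsPGroup 3 (zpowers y) := by
    apply IsPGroup.of_card (n := 1)
    rw [Nat.card_zpowers, hy, pow_one]
  have h1 := hp.card_modEq_card_fixedPoints X
  have h2 : fixedPoints (zpowers y) X = fixedBy X y := by
    ext x
    constructor
    · intro hx
      exact hx ⟨y, mem_zpowers y⟩
    · rintro hx ⟨g, hg⟩
      have : zpowers y ≤ stabilizer G x := by
        rw [zpowers_le]
        exact hx
      exact this hg
  rw [h2] at h1
  exact h1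

theorem fix_three (h : Nat.card G = 4536) {z y : G} (hz : orderOf z = 7)
    (hzy : y * z = z * y) (hy : orderOf y = 3) : Nat.card (fixedBy (Sylow 3 G) y) = 7 := by
  have hy1 : y ≠ 1 := by
    rintro rfl
    rw [orderOf_one] at hy
    omega
  obtain ⟨h1, h2⟩ := fix_bounds h hz hzy hy1
  have h3 : Nat.card (Sylow 3 G) % 3 = Nat.card (fixedBy (Sylow 3 G) y) % 3 :=
    card_fix_three h hy
  rw [card_sylow_3 h] at h3
  omega

theorem centralizer_not_sixty_three (h : Nat.card G = 4536) {z : G} (hz : orderOf z = 7)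
    (hC : Nat.card (centralizer ({z} : Set G)) = 63) : False := by
  have f3 : Fact (Nat.Prime 3) := ⟨by norm_num⟩
  have f7 : Fact (Nat.Prime 7) := ⟨by norm_num⟩
  obtain ⟨K', hK'⟩ := Sylow.exists_subgroup_card_pow_prime (G := centralizer ({z} : Set G)) 3
    (n := 2) (by rw [hC]; norm_num)
  let K : Subgroup G := K'.map (Subgroup.subtype _)
  have hK : Nat.card K = 9 := by
    have : Nat.card K = Nat.card K' :=
      (Nat.card_congr (K'.equivMapOfInjective _ (Subgroup.subtype_injective _)).toEquiv).symm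
    rw [this, hK']; norm_num
  have hKc : ∀ x ∈ K, x * z = z * x := by
    rintro _ ⟨x, -, rfl⟩
    exact mem_centralizer_singleton_iff.1 x.2
  have hfaith : ∀ g : G, (∀ ω : Sylow 3 G, g • ω = ω) → g = 1 := by
    intro g hg
    by_contra hne
    obtain ⟨Q, hQ⟩ := exists_smul_ne (G := G) (p := 3) (by rw [card_sylow_3 h]; norm_num) hne
    exact hQ (hg Q)
  have hZ : Nat.card (zpowers z) = 7 := by rw [Nat.card_zpowers, hz]
  have hno : ∀ ω : Sylow 3 G, ¬ (∀ y ∈ zpowers z, y • ω = ω) := fun ω hω =>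
    seven_free h hz ω (hω z (mem_zpowers z))
  obtain ⟨o, ho1, ho2⟩ := OrbitSign.card_dvd_of_commute (Ω := Sylow 3 G) (not_comm h) hfaith
    (zpowers z) K (by rw [hZ]; decide) (by
      intro x hx y hy
      obtain ⟨k, rfl⟩ := mem_zpowers_iff.1 hy
      exact (Commute.zpow_right (hKc x hx) k)) (by rw [hK, hZ]; norm_num)
    (fun ω _ hω _ => absurd hω (hno ω))
    (by
      intro ω _ y hy hyω
      by_contra hne
      have hy7 : orderOf y = 7 := by
        have h1 : orderOf y ∣ 7 := by
          rw [← hZ]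
          exact Subgroup.orderOf_dvd_natCard _ hy
        rcases (Nat.dvd_prime (by norm_num)).1 h1 with h2 | h2
        · exact absurd (orderOf_eq_one_iff.1 h2) hne
        · exact h2
      exact seven_free h hy7 ω hyω)
  have h0 : Nat.card {ω : Sylow 3 G // ∀ y ∈ zpowers z, y • ω = ω} = 0 := by
    have : IsEmpty {ω : Sylow 3 G // ∀ y ∈ zpowers z, y • ω = ω} := ⟨fun ω => hno ω.1 ω.2⟩
    exact Nat.card_of_isEmpty
  rw [h0, hZ, card_sylow_3 h] at ho1
  have ho : o = 4 := by omega
  subst ho
  rw [hK] at ho2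
  revert ho2
  decide

/-- The centralizer and normalizer of an element of order 7. -/
theorem data_seven (h : Nat.card G = 4536) {z : G} (hz : orderOf z = 7) :
    Nat.card (centralizer ({z} : Set G)) = 21 ∧
      Nat.card (normalizer ((zpowers z : Subgroup G) : Set G)) = 126 := by
  have f7 : Fact (Nat.Prime 7) := ⟨by norm_num⟩
  have f2 : Fact (Nat.Prime 2) := ⟨by norm_num⟩
  obtain ⟨e, c, he1, he2, hc, hn, hs⟩ := exists_data (G := G) (p := 7) (m := 648) (by rw [h])
    (by norm_num) (by norm_num) z hz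
  have hc2 : ¬ 2 ∣ c := by
    intro hd
    obtain ⟨y, hy⟩ := exists_prime_orderOf_dvd_card' (G := centralizer ({z} : Set G)) 2
      (by rw [hc]; exact hd.mul_left 7)
    exact two_not h hz (mem_centralizer_singleton_iff.1 y.2) (by rw [Subgroup.orderOf_coe, hy])
  have he3 : e ≤ 6 := Nat.le_of_dvd (by norm_num) he1
  have hc63 : c ≠ 9 := by
    intro h9
    apply centralizer_not_sixty_three h hz
    rw [hc, h9]
  have hcp : 0 < c := by
    rcases Nat.eq_zero_or_pos c with h0 | h0
    · exact absurd (by rw [h0]; exact dvd_zero 2) hc2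
    · exact h0
  rcases card_sylow_7 h with h1 | h1
  · rw [h1] at hs
    have hce : c * e = 18 := by omega
    have h3 : c = 3 ∧ e = 6 := by
      interval_cases e
      · simp at he1
      · omega
      · omega
      · have : c = 6 := by omega
        omega
      · omega
      · omega
      · exact ⟨by omega, rfl⟩
    rw [hc, hn, h3.1, h3.2]
    norm_num
  · rw [h1] at hs
    have hce : c * e = 4 := by omega
    exfalso
    interval_cases e
    · omega
    · omega
    · omega
    · omega
    · have : c = 1 := by omega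
      norm_num at he1
    · omega
    · omega

theorem mem_smul_iff {g x : G} {P : Sylow 3 G} :
    x ∈ ((g • P : Sylow 3 G) : Subgroup G) ↔ g⁻¹ * x * g ∈ (P : Subgroup G) := by
  rw [Sylow.coe_subgroup_smul]
  constructor
  · rintro ⟨z, hz, hz'⟩
    have h4 : g * z * g⁻¹ = x := hz'
    have h5 : g⁻¹ * x * g = z := by rw [← h4]; group
    rw [h5]; exact hz
  · intro hx
    refine ⟨g⁻¹ * x * g, hx, ?_⟩
    change g * (g⁻¹ * x * g) * g⁻¹ = x
    group

/-- The elements of order 3 centralizing `z` lie in the group generated by any one of them. -/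
theorem mem_zpowers_y (h : Nat.card G = 4536) {z y : G} (hz : orderOf z = 7)
    (hzy : y * z = z * y) (hy : orderOf y = 3) {w : G} (hw : orderOf w = 3)
    (hwz : w * z = z * w) : w ∈ zpowers y := by
  have hcomm : Commute y z := hzy
  have h21 : orderOf (y * z) = 21 := by
    rw [hcomm.orderOf_mul_eq_mul_orderOf_of_coprime (by rw [hy, hz]; norm_num), hy, hz]
  have h1 : zpowers (y * z) = centralizer ({z} : Set G) := by
    apply Subgroup.eq_of_le_of_card_ge
    · rw [zpowers_le, mem_centralizer_singleton_iff]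
      exact (Commute.mul_left hcomm (Commute.refl z)).eq
    · rw [(data_seven h hz).1, Nat.card_zpowers, h21]
  have h2 : w ∈ zpowers (y * z) := by
    rw [h1, mem_centralizer_singleton_iff]
    exact hwz
  obtain ⟨k, hk⟩ := mem_zpowers_iff.1 h2
  have hw3 : w ^ 3 = 1 := by rw [← hw]; exact pow_orderOf_eq_one w
  have h3 : (y * z) ^ (k * 3) = 1 := by
    rw [zpow_mul, hk]
    exact_mod_cast hw3
  rw [← orderOf_dvd_iff_zpow_eq_one, h21] at h3
  have h4 : (7 : ℤ) ∣ k := by omega
  have h5 : z ^ k = 1 := by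
    rw [← orderOf_dvd_iff_zpow_eq_one, hz]
    exact_mod_cast h4
  rw [hcomm.mul_zpow, h5, mul_one] at hk
  exact mem_zpowers_iff.2 ⟨k, hk⟩

theorem normalizer_le (h : Nat.card G = 4536) {z y : G} (hz : orderOf z = 7)
    (hzy : y * z = z * y) (hy : orderOf y = 3) :
    normalizer ((zpowers z : Subgroup G) : Set G) ≤
      normalizer ((zpowers y : Subgroup G) : Set G) := by
  intro n hn
  apply mem_normalizer_fintype
  intro w hw
  have hn' : n⁻¹ * z * n ∈ zpowers z := by
    have := (mem_normalizer_iff''.1 hn z).1 (mem_zpowers z)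
    exact this
  obtain ⟨k, hk⟩ := mem_zpowers_iff.1 hn'
  obtain ⟨j, rfl⟩ := mem_zpowers_iff.1 hw
  have h1 : n * y * n⁻¹ ∈ zpowers y := by
    apply mem_zpowers_y h hz hzy hy
    · rw [← hy]
      exact (MulAut.conj n).orderOf_eq y
    · have h2 : y * (n⁻¹ * z * n) = (n⁻¹ * z * n) * y := by
        rw [← hk]
        exact Commute.zpow_right (show Commute y z from hzy) k
      calc n * y * n⁻¹ * z = n * (y * (n⁻¹ * z * n)) * n⁻¹ := by group
        _ = n * ((n⁻¹ * z * n) * y) * n⁻¹ := by rw [h2]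
        _ = z * (n * y * n⁻¹) := by group
  have h3 : n * y ^ j * n⁻¹ = (n * y * n⁻¹) ^ j := by rw [conj_zpow]
  rw [h3]
  exact (zpowers y).zpow_mem h1 j

omit [Finite G] in
theorem normalizer_ne_top (h : Nat.card G = 4536) {H : Subgroup G} (h1 : H ≠ ⊥) (h2 : H ≠ ⊤) :
    normalizer (H : Set G) ≠ ⊤ := by
  intro hT
  have hN : H.Normal := Subgroup.normalizer_eq_top_iff.1 hT
  rcases hN.eq_bot_or_eq_top with h3 | h3
  · exact h1 h3
  · exact h2 h3

theorem normalizer_eq (h : Nat.card G = 4536) {z y : G} (hz : orderOf z = 7)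
    (hzy : y * z = z * y) (hy : orderOf y = 3) :
    normalizer ((zpowers z : Subgroup G) : Set G) =
      normalizer ((zpowers y : Subgroup G) : Set G) := by
  have f7 : Fact (Nat.Prime 7) := ⟨by norm_num⟩
  have hle := normalizer_le h hz hzy hy
  obtain ⟨P, hP⟩ := exists_sylow_eq (G := G) (p := 7) (m := 648) (by rw [h]) (by norm_num) z hz
  have hPN : (P : Subgroup G) ≤ normalizer ((zpowers y : Subgroup G) : Set G) := by
    rw [hP]
    exact le_normalizer.trans hle
  have h1 := RelSylow.relIndex_modEq_one P _ hPN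
  rw [hP] at h1
  have h2 : (normalizer ((zpowers z : Subgroup G) : Set G)).relIndex
      (normalizer ((zpowers y : Subgroup G) : Set G)) * 126 =
        Nat.card (normalizer ((zpowers y : Subgroup G) : Set G)) := by
    rw [← (data_seven h hz).2]
    have := RelSylow.relIndex_mul_card_inf (normalizer ((zpowers z : Subgroup G) : Set G))
      (normalizer ((zpowers y : Subgroup G) : Set G))
    rwa [inf_eq_right.2 hle] at this
  set j := (normalizer ((zpowers z : Subgroup G) : Set G)).relIndex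
      (normalizer ((zpowers y : Subgroup G) : Set G)) with hj
  have h3 : j ∣ 36 := by
    have h4 := Subgroup.card_subgroup_dvd_card (normalizer ((zpowers y : Subgroup G) : Set G))
    rw [← h2, h] at h4
    have h5 : (4536 : ℕ) = 36 * 126 := by norm_num
    rw [h5] at h4
    exact Nat.dvd_of_mul_dvd_mul_right (by norm_num) h4
  have key : ∀ n ∈ Nat.divisors 36, n % 7 = 1 → n = 1 ∨ n = 36 := by decide +kernel
  rcases key j (Nat.mem_divisors.2 ⟨h3, by norm_num⟩) h1 with h4 | h4
  · apply le_antisymm hle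
    exact Subgroup.relIndex_eq_one.1 h4
  · exfalso
    rw [h4] at h2
    have h5 : normalizer ((zpowers y : Subgroup G) : Set G) = ⊤ := by
      apply Subgroup.eq_top_of_card_eq
      rw [← h2, h]
    refine normalizer_ne_top h (H := zpowers y) ?_ ?_ h5
    · rw [Ne, zpowers_eq_bot]
      rintro rfl
      rw [orderOf_one] at hy
      omega
    · intro h6
      have h7 : Nat.card (zpowers y) = 4536 := by rw [h6, ← h]; exact Subgroup.card_top
      rw [Nat.card_zpowers, hy] at h7
      omega

theorem card_NK (h : Nat.card G = 4536) {z y : G} (hz : orderOf z = 7)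
    (hzy : y * z = z * y) (hy : orderOf y = 3) :
    Nat.card (normalizer ((zpowers y : Subgroup G) : Set G)) = 126 := by
  rw [← normalizer_eq h hz hzy hy]
  exact (data_seven h hz).2

theorem three_pow_dvd {A : Subgroup G} (hA : IsPGroup 3 A) {n k : ℕ} (hd : Nat.card A ∣ 3 ^ k * n)
    (hn : ¬ 3 ∣ n) : Nat.card A ∣ 3 ^ k := by
  have f3 : Fact (Nat.Prime 3) := ⟨by norm_num⟩
  obtain ⟨m, hm⟩ := (IsPGroup.iff_card).1 hA
  rw [hm] at hd ⊢
  refine Nat.Coprime.dvd_of_dvd_mul_right ?_ hd
  apply Nat.Coprime.pow_left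
  exact (Nat.Prime.coprime_iff_not_dvd f3.out).2 hn

/-- The main configuration. -/
theorem inf_cases (h : Nat.card G = 4536) {R R' : Sylow 3 G} (hR : R ≠ R') {y : G}
    (hy : orderOf y = 3) (h1 : y ∈ (R : Subgroup G)) (h2 : y ∈ (R' : Subgroup G)) :
    Nat.card ((R : Subgroup G) ⊓ (R' : Subgroup G) : Subgroup G) = 3 ∨
    Nat.card ((R : Subgroup G) ⊓ (R' : Subgroup G) : Subgroup G) = 9 ∨
    Nat.card ((R : Subgroup G) ⊓ (R' : Subgroup G) : Subgroup G) = 27 := by
  have h3 : Nat.card ((R : Subgroup G) ⊓ (R' : Subgroup G) : Subgroup G) ∣ 81 := by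
    rw [← card_P h R]
    exact Subgroup.card_dvd_of_le inf_le_left
  have h4 : 3 ∣ Nat.card ((R : Subgroup G) ⊓ (R' : Subgroup G) : Subgroup G) := by
    have h5 := Subgroup.orderOf_dvd_natCard _ (mem_inf.2 ⟨h1, h2⟩)
    rwa [hy] at h5
  have h5 : Nat.card ((R : Subgroup G) ⊓ (R' : Subgroup G) : Subgroup G) ≠ 81 := by
    intro h6
    have h7 : (R : Subgroup G) ⊓ (R' : Subgroup G) = R := by
      apply Subgroup.eq_of_le_of_card_ge inf_le_left
      rw [h6]
      exact (card_P h R).le
    have h8 : (R : Subgroup G) ≤ R' := inf_eq_left.1 h7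
    exact hR (Sylow.ext (R.3 R'.2 h8).symm)
  have key : ∀ n ∈ Nat.divisors 81, 3 ∣ n → n ≠ 81 → n = 3 ∨ n = 9 ∨ n = 27 := by
    decide +kernel
  exact key _ (Nat.mem_divisors.2 ⟨h3, by norm_num⟩) h4 h5

theorem case27 (h : Nat.card G = 4536) {R R' : Sylow 3 G} (hR : R ≠ R') {z y : G}
    (hz : orderOf z = 7) (hzy : y * z = z * y)
    (hy : orderOf y = 3) (h1 : y ∈ (R : Subgroup G)) (h2 : y ∈ (R' : Subgroup G))
    (hD : Nat.card ((R : Subgroup G) ⊓ (R' : Subgroup G) : Subgroup G) = 27) : False := by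
  have f3 : Fact (Nat.Prime 3) := ⟨by norm_num⟩
  have f7 : Fact (Nat.Prime 7) := ⟨by norm_num⟩
  set D := (R : Subgroup G) ⊓ (R' : Subgroup G) with hDdef
  have hgen : ∀ Q : Sylow 3 G, D ≤ (Q : Subgroup G) → (Q : Subgroup G) ≤ normalizer (D : Set G) := by
    intro Q hQ
    have hlt : D < (Q : Subgroup G) := by
      refine lt_of_le_of_ne hQ ?_
      intro he
      have : Nat.card D = 81 := by rw [he]; exact card_P h Q
      omega
    have h3 := SylowMaxInter.lt_inf_normalizer Q.isPGroup' hlt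
    have h4 : Nat.card D < Nat.card ((Q : Subgroup G) ⊓ normalizer (D : Set G) : Subgroup G) := by
      refine lt_of_le_of_ne (Subgroup.card_le_of_le h3.le) ?_
      intro heq
      exact h3.ne (Subgroup.eq_of_le_of_card_ge h3.le heq.ge)
    have h5 : Nat.card ((Q : Subgroup G) ⊓ normalizer (D : Set G) : Subgroup G) ∣ 81 := by
      rw [← card_P h Q]
      exact Subgroup.card_dvd_of_le inf_le_left
    rw [hD] at h4
    have key : ∀ n ∈ Nat.divisors 81, 27 < n → n = 81 := by decide +kernel
    have h6 := key _ (Nat.mem_divisors.2 ⟨h5, by norm_num⟩) h4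
    have h7 : (Q : Subgroup G) ⊓ normalizer (D : Set G) = Q := by
      apply Subgroup.eq_of_le_of_card_ge inf_le_left
      rw [h6]
      exact (card_P h Q).le
    exact inf_eq_left.1 h7
  have hRM := hgen R inf_le_left
  have hRM' := hgen R' inf_le_right
  set M := normalizer (D : Set G) with hM
  have hMtop : M ≠ ⊤ := by
    apply normalizer_ne_top h
    · intro h3
      rw [h3, Subgroup.card_bot] at hD
      omega
    · intro h3
      rw [h3, Subgroup.card_top, h] at hD
      omega
  have hidx := Embed.two_mul_card_dvd_factorial_index (not_comm h) M hMtop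
  rw [h] at hidx
  have hcm := Subgroup.card_mul_index M
  rw [h] at hcm
  have h81 : 81 ∣ Nat.card M := by
    rw [← card_P h R]
    exact Subgroup.card_dvd_of_le hRM
  obtain ⟨k, hk⟩ := h81
  have hk56 : k * M.index = 56 := by
    rw [hk, mul_assoc] at hcm
    omega
  -- the number of Sylow 3-subgroups of M
  have hmod := RelSylow.relIndex_modEq_one R M hRM
  have hrel := RelSylow.relIndex_mul_card_inf (normalizer ((R : Subgroup G) : Set G)) M
  set n := (normalizer ((R : Subgroup G) : Set G)).relIndex M with hn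
  have hn1 : n ≠ 1 := by
    intro h3
    have h4 : M ≤ normalizer ((R : Subgroup G) : Set G) := Subgroup.relIndex_eq_one.1 h3
    have h5 : (R' : Subgroup G) ⊓ normalizer (R : Set G) = R' := by
      apply inf_eq_left.2
      exact hRM'.trans h4
    rw [R'.isPGroup'.inf_normalizer_sylow R] at h5
    have h6 : (R' : Subgroup G) ≤ R := inf_eq_left.1 h5
    exact hR (Sylow.ext (R'.3 R.2 h6))
  have hnk : n ∣ k := by
    have h3 : 81 ∣ Nat.card (M ⊓ normalizer ((R : Subgroup G) : Set G) : Subgroup G) := by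
      rw [← card_P h R]
      exact Subgroup.card_dvd_of_le (le_inf hRM le_normalizer)
    obtain ⟨l, hl⟩ := h3
    rw [hl, hk] at hrel
    refine ⟨l, ?_⟩
    have : 81 * (n * l) = 81 * k := by rw [← hrel]; ring
    omega
  have key : ∀ k ∈ Nat.divisors 56, ∀ n ∈ Nat.divisors k, n % 3 = 1 → n ≠ 1 →
      2 * 4536 ∣ (56 / k).factorial → k = 4 := by
    decide +kernel
  have hkd : k ∣ 56 := ⟨M.index, hk56.symm⟩
  have hk0 : k ≠ 0 := by
    rintro rfl
    omega
  have hk4 : k = 4 := by
    refine key k (Nat.mem_divisors.2 ⟨hkd, by norm_num⟩) n (Nat.mem_divisors.2 ⟨hnk, hk0⟩)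
      hmod hn1 ?_
    rw [← hk56, Nat.mul_div_cancel_left _ (Nat.pos_of_ne_zero hk0)]
    exact hidx
  subst hk4
  have hM14 : M.index = 14 := by omega
  have hX : Nat.card (G ⧸ M) = 14 := hM14
  have hzfree : ∀ x : G ⧸ M, z • x ≠ x := by
    intro x
    induction x using QuotientGroup.induction_on with
    | H g =>
      intro hx
      have h3 : g⁻¹ * z * g ∈ M := by
        have h4 : ((z * g : G) : G ⧸ M) = (g : G ⧸ M) := hx
        rw [QuotientGroup.eq] at h4
        have h5 : g⁻¹ * z * g = ((z * g)⁻¹ * g)⁻¹ := by group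
        rw [h5]
        exact M.inv_mem h4
      have h6 := Subgroup.orderOf_dvd_natCard _ h3
      have h7 : orderOf (g⁻¹ * z * g) = 7 := by
        rw [← hz]
        have := (MulAut.conj g⁻¹).orderOf_eq z
        simpa using this
      rw [h7, hk] at h6
      norm_num at h6
  have h7f : 7 ∣ Nat.card (fixedBy (G ⧸ M) y) := dvd_card_fixedBy hz hzy hzfree
  have h3f : Nat.card (G ⧸ M) % 3 = Nat.card (fixedBy (G ⧸ M) y) % 3 := card_fix_three h hy
  have hle : Nat.card (fixedBy (G ⧸ M) y) ≤ 14 := by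
    rw [← hX]
    exact Nat.card_le_card_of_injective (Subtype.val) Subtype.val_injective
  rw [hX] at h3f
  have hf14 : Nat.card (fixedBy (G ⧸ M) y) = 14 := by omega
  have hall : fixedBy (G ⧸ M) y = Set.univ := by
    apply Set.eq_of_subset_of_ncard_le (Set.subset_univ _)
    rw [Set.ncard_univ, hX, ← Nat.card_coe_set_eq, hf14]
  have hcore : y ∈ M.normalCore := by
    intro g
    have h3 : ((g⁻¹ : G) : G ⧸ M) ∈ fixedBy (G ⧸ M) y := by rw [hall]; trivial
    have h4 : ((y * g⁻¹ : G) : G ⧸ M) = ((g⁻¹ : G) : G ⧸ M) := h3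
    rw [QuotientGroup.eq] at h4
    have h5 : g * y * g⁻¹ = ((y * g⁻¹)⁻¹ * g⁻¹)⁻¹ := by group
    rw [h5]
    exact M.inv_mem h4
  have hbot : M.normalCore = ⊥ := by
    rcases (inferInstance : M.normalCore.Normal).eq_bot_or_eq_top with h3 | h3
    · exact h3
    · exfalso
      exact hMtop (top_le_iff.1 (h3 ▸ M.normalCore_le))
  rw [hbot, mem_bot] at hcore
  rw [hcore, orderOf_one] at hy
  omega

theorem case9 (h : Nat.card G = 4536) {R : Sylow 3 G} {z y : G}
    (hz : orderOf z = 7) (hzy : y * z = z * y)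
    (hy : orderOf y = 3) (h1 : y ∈ (R : Subgroup G)) (h2 : y ∈ ((z • R : Sylow 3 G) : Subgroup G))
    (hD : Nat.card ((R : Subgroup G) ⊓ ((z • R : Sylow 3 G) : Subgroup G) : Subgroup G) = 9) :
    False := by
  have f3 : Fact (Nat.Prime 3) := ⟨by norm_num⟩
  set D := (R : Subgroup G) ⊓ ((z • R : Sylow 3 G) : Subgroup G) with hDdef
  have hcomm : IsMulCommutative D :=
    IsPGroup.isMulCommutative_of_card_eq_prime_sq (p := 3) (by rw [hD]; norm_num)
  have hyD : y ∈ D := mem_inf.2 ⟨h1, h2⟩
  have hDN : D ≤ normalizer ((zpowers y : Subgroup G) : Set G) := by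
    intro d hd
    apply mem_normalizer_fintype
    intro w hw
    obtain ⟨j, rfl⟩ := mem_zpowers_iff.1 hw
    have h3 : d * y = y * d := by
      have := hcomm.is_comm.comm (⟨d, hd⟩ : D) ⟨y, hyD⟩
      exact congrArg Subtype.val this
    have h4 : d * y ^ j * d⁻¹ = y ^ j := by
      rw [(Commute.zpow_right (show Commute d y from h3) j).eq]
      group
    rw [h4]
    exact hw
  have heq : ∀ Q : Sylow 3 G, D ≤ (Q : Subgroup G) →
      (Q : Subgroup G) ⊓ normalizer ((zpowers y : Subgroup G) : Set G) = D := by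
    intro Q hQ
    symm
    apply Subgroup.eq_of_le_of_card_ge (le_inf hQ hDN)
    rw [hD]
    have h3 : Nat.card ((Q : Subgroup G) ⊓ normalizer ((zpowers y : Subgroup G) : Set G) :
        Subgroup G) ∣ 3 ^ 2 * 14 := by
      have : (3 ^ 2 * 14 : ℕ) = Nat.card (normalizer ((zpowers y : Subgroup G) : Set G)) := by
        rw [card_NK h hz hzy hy]; norm_num
      rw [this]
      exact Subgroup.card_dvd_of_le inf_le_right
    have h4 := three_pow_dvd (Q.isPGroup'.to_le (inf_le_left :
      (Q : Subgroup G) ⊓ normalizer ((zpowers y : Subgroup G) : Set G) ≤ Q)) h3 (by norm_num)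
    exact Nat.le_of_dvd (by norm_num) h4
  have hzN : z ∈ normalizer ((zpowers y : Subgroup G) : Set G) := by
    rw [← normalizer_eq h hz hzy hy]
    exact le_normalizer (mem_zpowers z)
  have hR := heq R inf_le_left
  have hR' := heq (z • R) inf_le_right
  have hzD : ∀ d ∈ D, z * d * z⁻¹ ∈ D := by
    intro d hd
    rw [← hR']
    refine mem_inf.2 ⟨?_, ?_⟩
    · rw [mem_smul_iff]
      have : z⁻¹ * (z * d * z⁻¹) * z = d := by group
      rw [this]
      exact (mem_inf.1 hd).1
    · exact mul_mem (mul_mem hzN (hDN hd)) (inv_mem hzN)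
  have hcent : D ≤ centralizer ({z} : Set G) := by
    intro d hd
    rw [mem_centralizer_singleton_iff]
    have h3 : z * d * z⁻¹ * d⁻¹ ∈ D := D.mul_mem (hzD d hd) (D.inv_mem hd)
    have h4 : z * d * z⁻¹ * d⁻¹ ∈ zpowers z := by
      have h5 : d ∈ normalizer ((zpowers z : Subgroup G) : Set G) := by
        rw [normalizer_eq h hz hzy hy]
        exact hDN hd
      have h6 : d * z⁻¹ * d⁻¹ ∈ zpowers z :=
        (mem_normalizer_iff.1 h5 z⁻¹).1 ((zpowers z).inv_mem (mem_zpowers z))
      have h7 : z * d * z⁻¹ * d⁻¹ = z * (d * z⁻¹ * d⁻¹) := by group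
      rw [h7]
      exact (zpowers z).mul_mem (mem_zpowers z) h6
    have h5 : z * d * z⁻¹ * d⁻¹ = 1 := by
      have h6 := Subgroup.orderOf_dvd_natCard _ h3
      have h7 := Subgroup.orderOf_dvd_natCard _ h4
      rw [hD] at h6
      rw [Nat.card_zpowers, hz] at h7
      have h8 := Nat.dvd_gcd h6 h7
      norm_num at h8
      exact h8
    have h6 : z * d * z⁻¹ = d := by
      rw [mul_inv_eq_one] at h5
      exact h5
    calc d * z = (z * d * z⁻¹) * z := by rw [h6]
      _ = z * d := by group
  have h3 := Subgroup.card_dvd_of_le hcent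
  rw [hD, (data_seven h hz).1] at h3
  norm_num at h3

theorem case3 (h : Nat.card G = 4536) {R R' : Sylow 3 G} (hR : R ≠ R') {z y : G}
    (hz : orderOf z = 7) (hzy : y * z = z * y)
    (hy : orderOf y = 3) (h1 : y ∈ (R : Subgroup G)) (h2 : y ∈ (R' : Subgroup G))
    (hD : Nat.card ((R : Subgroup G) ⊓ (R' : Subgroup G) : Subgroup G) = 3) : False := by
  classical
  have f3 : Fact (Nat.Prime 3) := ⟨by norm_num⟩
  have hDK : (R : Subgroup G) ⊓ (R' : Subgroup G) = zpowers y := by
    symm
    apply Subgroup.eq_of_le_of_card_ge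
    · rw [zpowers_le]
      exact mem_inf.2 ⟨h1, h2⟩
    · rw [hD, Nat.card_zpowers, hy]
  -- the orbit of `R'` under `R`
  have horb : Nat.card (orbit (R : Subgroup G) R') = 27 := by
    rw [SylowInter.card_orbit_sylow]
    have h3 := Subgroup.card_mul_index ((R' : Subgroup G).subgroupOf (R : Subgroup G))
    have h4 : Nat.card ((R' : Subgroup G).subgroupOf (R : Subgroup G)) =
        Nat.card ((R : Subgroup G) ⊓ (R' : Subgroup G) : Subgroup G) := by
      rw [← Subgroup.inf_subgroupOf_left]
      exact Nat.card_congr (Subgroup.subgroupOfEquivOfLe inf_le_left).toEquiv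
    have h5 := card_P h R
    have h5' : Nat.card (R : Subgroup G) = 81 := h5
    rw [h4, hD, h5'] at h3
    omega
  have hRfix : ∀ r : (R : Subgroup G), r • R = R := by
    intro r
    have h3 : r • R = (r : G) • R := rfl
    rw [h3, Sylow.smul_eq_iff_mem_normalizer]
    exact le_normalizer r.2
  have hRnot : R ∉ orbit (R : Subgroup G) R' := by
    rintro ⟨r, hr⟩
    have hr' : r • R' = R := hr
    apply hR
    have h3 : r⁻¹ • (r • R') = R' := inv_smul_smul r R'
    rw [hr', hRfix] at h3
    exact h3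
  have hcover : ∀ Q : Sylow 3 G, Q ≠ R → Q ∈ orbit (R : Subgroup G) R' := by
    have h3 : insert R (orbit (R : Subgroup G) R') = Set.univ := by
      apply Set.eq_of_subset_of_ncard_le (Set.subset_univ _)
      rw [Set.ncard_univ, card_sylow_3 h, Set.ncard_insert_of_notMem hRnot,
        ← Nat.card_coe_set_eq, horb]
    intro Q hQ
    have h4 : Q ∈ insert R (orbit (R : Subgroup G) R') := by rw [h3]; trivial
    rcases h4 with h5 | h5
    · exact absurd h5 hQ
    · exact h5
  set A := (R : Subgroup G) ⊓ normalizer ((zpowers y : Subgroup G) : Set G) with hA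
  have hyQ : ∀ Q : Sylow 3 G, y • Q = Q ↔ y ∈ (Q : Subgroup G) := by
    intro Q
    rw [Sylow.smul_eq_iff_mem_normalizer]
    constructor
    · intro h3
      have hp : IsPGroup 3 (zpowers y) := by
        apply IsPGroup.of_card (n := 1)
        rw [Nat.card_zpowers, hy, pow_one]
      have h4 : y ∈ zpowers y ⊓ normalizer (Q : Set G) := mem_inf.2 ⟨mem_zpowers y, h3⟩
      rw [hp.inf_normalizer_sylow Q] at h4
      exact (mem_inf.1 h4).2
    · intro h3
      exact le_normalizer h3
  have hset : fixedBy (Sylow 3 G) y = insert R (orbit A R') := by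
    ext Q
    rw [Set.mem_insert_iff, mem_fixedBy, hyQ]
    constructor
    · intro hyQ'
      by_cases hQ : Q = R
      · exact Or.inl hQ
      · right
        obtain ⟨r, hr⟩ := hcover Q hQ
        have hr' : (r : G) • R' = Q := hr
        -- r normalizes K
        have hrK : (r : G)⁻¹ * y * r ∈ zpowers y := by
          rw [← hDK]
          refine mem_inf.2 ⟨?_, ?_⟩
          · exact mul_mem (mul_mem (inv_mem r.2) h1) r.2
          · rw [← hr'] at hyQ'
            exact mem_smul_iff.1 hyQ'
        have hrN : (r : G)⁻¹ ∈ normalizer ((zpowers y : Subgroup G) : Set G) := by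
          apply mem_normalizer_fintype
          intro w hw
          obtain ⟨j, rfl⟩ := mem_zpowers_iff.1 hw
          have h3 : (r : G)⁻¹ * y ^ j * ((r : G)⁻¹)⁻¹ = ((r : G)⁻¹ * y * ((r : G)⁻¹)⁻¹) ^ j := by
            rw [conj_zpow]
          rw [h3, inv_inv]
          exact (zpowers y).zpow_mem hrK j
        refine ⟨⟨r, mem_inf.2 ⟨r.2, ?_⟩⟩, hr'⟩
        have := inv_mem hrN
        rwa [inv_inv] at this
    · rintro (rfl | ⟨a, ha⟩)
      · exact h1
      · have ha' : (a : G) • R' = Q := ha
        rw [← ha', mem_smul_iff]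
        have h3 : (a : G)⁻¹ * y * a ∈ zpowers y :=
          (mem_normalizer_iff''.1 (mem_inf.1 a.2).2 y).1 (mem_zpowers y)
        have h4 : zpowers y ≤ R' := by rw [← hDK]; exact inf_le_right
        exact h4 h3
  have hnot : R ∉ orbit A R' := by
    rintro ⟨a, ha⟩
    apply hRnot
    exact ⟨⟨a, (mem_inf.1 a.2).1⟩, ha⟩
  have hcard : Nat.card (orbit A R') = 6 := by
    have h3 := fix_three h hz hzy hy
    rw [Nat.card_coe_set_eq, hset, Set.ncard_insert_of_notMem hnot] at h3
    rw [Nat.card_coe_set_eq]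
    omega
  have hdvd : 6 ∣ Nat.card A := by
    rw [← hcard]
    have h3 := Nat.card_congr (MulAction.orbitProdStabilizerEquivGroup A R')
    rw [Nat.card_prod] at h3
    exact ⟨_, h3.symm⟩
  have h81 : Nat.card A ∣ 81 := by
    rw [← card_P h R]
    exact Subgroup.card_dvd_of_le inf_le_left
  have h3 := hdvd.trans h81
  norm_num at h3

theorem not_simple_4536 {G : Type*} [Group G] [Finite G] [IsSimpleGroup G]
    (h : Nat.card G = 4536) : False := by
  have f3 : Fact (Nat.Prime 3) := ⟨by norm_num⟩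
  have f7 : Fact (Nat.Prime 7) := ⟨by norm_num⟩
  obtain ⟨z, hz⟩ := exists_prime_orderOf_dvd_card' (G := G) 7 (by rw [h]; norm_num)
  obtain ⟨y', hy'⟩ := exists_prime_orderOf_dvd_card' (G := centralizer ({z} : Set G)) 3
    (by rw [(data_seven h hz).1]; norm_num)
  obtain ⟨y, hy, hzy⟩ : ∃ y : G, orderOf y = 3 ∧ y * z = z * y :=
    ⟨y', by rw [Subgroup.orderOf_coe, hy'], mem_centralizer_singleton_iff.1 y'.2⟩
  have hp : IsPGroup 3 (zpowers y) := by
    apply IsPGroup.of_card (n := 1)
    rw [Nat.card_zpowers, hy, pow_one]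
  obtain ⟨R, hR⟩ := hp.exists_le_sylow
  have h1 : y ∈ (R : Subgroup G) := hR (mem_zpowers y)
  have hne : R ≠ z • R := fun h => seven_free ‹_› hz R h.symm
  have h2 : y ∈ ((z • R : Sylow 3 G) : Subgroup G) := by
    rw [mem_smul_iff]
    have : z⁻¹ * y * z = y := by
      rw [mul_assoc, hzy, inv_mul_cancel_left]
    rw [this]
    exact h1
  rcases inf_cases h hne hy h1 h2 with h3 | h3 | h3
  · exact case3 h hne hz hzy hy h1 h2 h3
  · exact case9 h hz hzy hy h1 h2 h3
  · exact case27 h hne hz hzy hy h1 h2 h3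

end Cfsg.Agent.SmallSimple.Order4536
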