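import Mathlib
import Cfsg.Agent.SmallSimple.SylowEight
import Cfsg.Agent.SmallSimple.BurnsideNC

set_option autoImplicit false

/-! Simple groups with Sylow 3-subgroups of order 9: some element of the normalizer inverts. -/

namespace Cfsg.Agent.SmallSimple.SylowNine

open Subgroup

/-- In a group of order 3, everything is `1`, `x` or `x⁻¹`. -/
theorem eq_of_card_three {S : Type*} [Group S] [Finite S] (L : Subgroup S) (hL : Nat.card L = 3)
    {x y : S} (hx : x ∈ L) (hx1 : x ≠ 1) (hy : y ∈ L) : y = 1 ∨ y = x ∨ y = x⁻¹ := by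
  have hx3 : orderOf x = 3 := by
    have h1 := orderOf_dvd_natCard (⟨x, hx⟩ : L)
    rw [hL, Subgroup.orderOf_mk] at h1
    rcases (Nat.dvd_prime Nat.prime_three).1 h1 with h2 | h2
    · exact absurd (orderOf_eq_one_iff.1 h2) hx1
    · exact h2
  have hz : zpowers x = L := by
    apply Subgroup.eq_of_le_of_card_ge ((zpowers_le).2 hx)
    rw [hL, Nat.card_zpowers, hx3]
  rw [← hz, mem_zpowers_iff] at hy
  obtain ⟨j, rfl⟩ := hy
  rw [← zpow_mod_orderOf, hx3]
  have h1 : 0 ≤ j % 3 := Int.emod_nonneg _ (by norm_num)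
  have h2 : j % 3 < 3 := Int.emod_lt_of_pos _ (by norm_num)
  have h3 : ((3 : ℕ) : ℤ) = 3 := rfl
  rw [h3]
  interval_cases hj : j % 3
  · left; simp
  · right; left; simp
  · right; right
    rw [eq_inv_iff_mul_eq_one]
    have h5 : x ^ (2 : ℤ) = x ^ 2 := zpow_ofNat x 2
    rw [h5, ← pow_succ, show 2 + 1 = orderOf x by rw [hx3], pow_orderOf_eq_one]

/-- A `2`-group of automorphisms of an abelian group of order 9 without common fixed points
contains the inversion. -/
theorem exists_inversion {S : Type*} [Group S] [Finite S] (hS : Nat.card S = 9)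
    (hcomm : ∀ x y : S, x * y = y * x) (A : Subgroup (MulAut S)) (hA : IsPGroup 2 A)
    (hfix : ∀ x : S, (∀ a ∈ A, a x = x) → x = 1) : ∃ a ∈ A, ∀ x : S, a x = x⁻¹ := by
  -- the group `A` is nontrivial
  have hAnt : Nontrivial A := by
    rw [Subgroup.nontrivial_iff_ne_bot]
    rintro rfl
    have h1 : Nontrivial S := by
      rw [← Finite.one_lt_card_iff_nontrivial, hS]
      norm_num
    obtain ⟨x, hx⟩ := exists_ne (1 : S)
    apply hx
    apply hfix
    intro a ha
    rw [mem_bot.1 ha]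
    rfl
  have hcnt : Nontrivial (center A) := hA.center_nontrivial
  -- a central involution
  obtain ⟨z, hzA, hz2, hz1, hzc⟩ : ∃ z ∈ A, z * z = 1 ∧ z ≠ 1 ∧ ∀ a ∈ A, a * z = z * a := by
    have h1 : 2 ∣ Nat.card (center A) := by
      obtain ⟨n, hn0, hn⟩ := (hA.to_subgroup (center A)).nontrivial_iff_card.1 hcnt
      rw [hn]
      exact dvd_pow_self 2 hn0.ne'
    obtain ⟨z, hz⟩ := exists_prime_orderOf_dvd_card' 2 h1
    refine ⟨z.1.1, z.1.2, ?_, ?_, ?_⟩
    · have h2 : z ^ 2 = 1 := by rw [← hz, pow_orderOf_eq_one]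
      rw [pow_two] at h2
      exact congrArg (fun w : center A => ((w : A) : MulAut S)) h2
    · intro h2
      have h3 : z = 1 := Subtype.ext (Subtype.ext h2)
      rw [h3] at hz
      simp at hz
    · intro a ha
      exact congrArg Subtype.val ((mem_center_iff.1 z.2) ⟨a, ha⟩)
  have hzz : ∀ x : S, z (z x) = x := by
    intro x
    have h1 : (z * z) x = x := by rw [hz2]; rfl
    exact h1
  have hsq : ∀ x : S, x * x = 1 → x = 1 := by
    intro x hx
    have h1 : orderOf x ∣ 2 := orderOf_dvd_of_pow_eq_one (by rw [pow_two, hx])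
    have h2 : orderOf x ∣ 9 := hS ▸ orderOf_dvd_natCard x
    have h3 : orderOf x ∣ 1 := by
      have := Nat.dvd_gcd h1 h2
      simpa using this
    exact orderOf_eq_one_iff.1 (Nat.dvd_one.1 h3)
  have hpow9 : ∀ x : S, x ^ 9 = 1 := by
    intro x
    rw [← hS]
    exact pow_card_eq_one'
  -- the two eigenspaces
  let Sp : Subgroup S :=
    { carrier := {x | z x = x}
      one_mem' := map_one z
      mul_mem' := by
        intro a b ha hb
        show z (a * b) = a * b
        rw [map_mul, show z a = a from ha, show z b = b from hb]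
      inv_mem' := by
        intro a ha
        show z a⁻¹ = a⁻¹
        rw [map_inv, show z a = a from ha] }
  let Sm : Subgroup S :=
    { carrier := {x | z x = x⁻¹}
      one_mem' := by
        show z 1 = 1⁻¹
        rw [map_one, inv_one]
      mul_mem' := by
        intro a b ha hb
        show z (a * b) = (a * b)⁻¹
        rw [map_mul, show z a = a⁻¹ from ha, show z b = b⁻¹ from hb, mul_inv_rev, hcomm]
      inv_mem' := by
        intro a ha
        show z a⁻¹ = a⁻¹⁻¹
        rw [map_inv, show z a = a⁻¹ from ha] }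
  have hSp : ∀ x, x ∈ Sp ↔ z x = x := fun x => Iff.rfl
  have hSm : ∀ x, x ∈ Sm ↔ z x = x⁻¹ := fun x => Iff.rfl
  have hdec : ∀ x : S, ∃ p ∈ Sp, ∃ m ∈ Sm, x = p * m := by
    intro x
    refine ⟨(x * z x) ^ 5, Sp.pow_mem ?_ 5, (x * (z x)⁻¹) ^ 5, Sm.pow_mem ?_ 5, ?_⟩
    · rw [hSp, map_mul, hzz, hcomm]
    · rw [hSm, map_mul, map_inv, hzz, mul_inv_rev, inv_inv]
    · have hc1 : Commute (x * z x) (x * (z x)⁻¹) := hcomm _ _
      rw [← hc1.mul_pow]
      have e1 : x * z x * (x * (z x)⁻¹) = x ^ 2 := by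
        rw [hcomm x (z x), mul_assoc, ← mul_assoc x x, hcomm (x * x) (z x)⁻¹, ← mul_assoc,
          mul_inv_cancel, one_mul, pow_two]
      rw [e1, ← pow_mul, show 2 * 5 = 9 + 1 by norm_num, pow_add, hpow9, one_mul, pow_one]
  have hcardcases : ∀ L : Subgroup S, L = ⊥ ∨ Nat.card L = 3 ∨ L = ⊤ := by
    intro L
    have h1 : Nat.card L ∣ 3 ^ 2 := by
      have := Subgroup.card_subgroup_dvd_card L
      rw [hS] at this
      exact this
    obtain ⟨j, hj, hj'⟩ := (Nat.dvd_prime_pow Nat.prime_three).1 h1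
    interval_cases j
    · left
      exact Subgroup.card_eq_one.1 hj'
    · right; left
      exact hj'
    · right; right
      apply Subgroup.eq_top_of_card_eq
      rw [hj', hS]
      norm_num
  by_cases hSp0 : Sp = ⊥
  · -- `z` is the inversion
    refine ⟨z, hzA, fun x => ?_⟩
    have h1 : x * z x ∈ Sp := by
      rw [hSp, map_mul, hzz, hcomm]
    rw [hSp0, mem_bot] at h1
    exact eq_inv_of_mul_eq_one_right h1
  have hSptop : Sp ≠ ⊤ := by
    intro h1
    apply hz1
    ext x
    have h2 : x ∈ Sp := by rw [h1]; exact mem_top x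
    exact (hSp x).1 h2
  have hSp3 : Nat.card Sp = 3 := by
    rcases hcardcases Sp with h1 | h1 | h1
    · exact absurd h1 hSp0
    · exact h1
    · exact absurd h1 hSptop
  have hSmbot : Sm ≠ ⊥ := by
    intro h1
    apply hSptop
    rw [eq_top_iff]
    intro x _
    obtain ⟨p, hp, m, hm, rfl⟩ := hdec x
    rw [h1, mem_bot] at hm
    rw [hm, mul_one]
    exact hp
  have hSmtop : Sm ≠ ⊤ := by
    intro h1
    apply hSp0
    rw [eq_bot_iff]
    intro x hx
    have h2 : x ∈ Sm := by rw [h1]; exact mem_top x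
    rw [hSp] at hx
    rw [hSm, hx] at h2
    rw [mem_bot]
    exact hsq x (by nth_rewrite 1 [h2]; exact inv_mul_cancel x)
  have hSm3 : Nat.card Sm = 3 := by
    rcases hcardcases Sm with h1 | h1 | h1
    · exact absurd h1 hSmbot
    · exact h1
    · exact absurd h1 hSmtop
  obtain ⟨⟨x, hx⟩, hx0⟩ := (Subgroup.ne_bot_iff_exists_ne_one (H := Sp)).1 hSp0
  have hx1 : x ≠ 1 := fun h => hx0 (Subtype.ext h)
  obtain ⟨⟨y, hy⟩, hy0⟩ := (Subgroup.ne_bot_iff_exists_ne_one (H := Sm)).1 hSmbot
  have hy1 : y ≠ 1 := fun h => hy0 (Subtype.ext h)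
  -- an element moving `x`
  obtain ⟨a, haA, hax⟩ : ∃ a ∈ A, a x ≠ x := by
    by_contra hcon
    push Not at hcon
    exact hx1 (hfix x hcon)
  have haz : ∀ w : S, a (z w) = z (a w) := by
    intro w
    have h1 : (a * z) w = (z * a) w := by rw [hzc a haA]
    exact h1
  have hax' : a x = x⁻¹ := by
    have h1 : a x ∈ Sp := by
      rw [hSp, ← haz, (hSp x).1 hx]
    rcases eq_of_card_three Sp hSp3 hx hx1 h1 with h2 | h2 | h2
    · exact absurd ((map_eq_one_iff a a.injective).1 h2) hx1
    · exact absurd h2 hax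
    · exact h2
  have hay : a y = y ∨ a y = y⁻¹ := by
    have h1 : a y ∈ Sm := by
      rw [hSm, ← haz, (hSm y).1 hy, map_inv]
    rcases eq_of_card_three Sm hSm3 hy hy1 h1 with h2 | h2 | h2
    · exact absurd ((map_eq_one_iff a a.injective).1 h2) hy1
    · left; exact h2
    · right; exact h2
  -- an automorphism inverting `x` and `y` inverts everything
  have hfinal : ∀ b : MulAut S, b x = x⁻¹ → b y = y⁻¹ → ∀ w, b w = w⁻¹ := by
    intro b hbx hby w
    obtain ⟨p, hp, m, hm, rfl⟩ := hdec w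
    have h1 : b p = p⁻¹ := by
      rcases eq_of_card_three Sp hSp3 hx hx1 hp with h2 | h2 | h2 <;> rw [h2]
      · simp
      · exact hbx
      · rw [map_inv, hbx]
    have h2 : b m = m⁻¹ := by
      rcases eq_of_card_three Sm hSm3 hy hy1 hm with h2 | h2 | h2 <;> rw [h2]
      · simp
      · exact hby
      · rw [map_inv, hby]
    rw [map_mul, h1, h2, mul_inv_rev, hcomm]
  rcases hay with hay | hay
  · refine ⟨a * z, A.mul_mem haA hzA, hfinal _ ?_ ?_⟩
    · show a (z x) = x⁻¹
      rw [(hSp x).1 hx, hax']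
    · show a (z y) = y⁻¹
      rw [(hSm y).1 hy, map_inv, hay]
  · exact ⟨a, haA, hfinal a hax' hay⟩

/-- In a nonabelian simple group with Sylow `3`-subgroup `S` of order 9, some element normalizing
`S` inverts `S`. -/
theorem exists_inverting {G : Type*} [Group G] [Finite G] [IsSimpleGroup G]
    (hG : ¬ IsMulCommutative G) (S : Sylow 3 G) (hS : Nat.card (S : Subgroup G) = 9) :
    ∃ n ∈ normalizer ((S : Subgroup G) : Set G), ∀ s ∈ (S : Subgroup G), n * s * n⁻¹ = s⁻¹ := by
  have hS2 : Nat.card (S : Subgroup G) = 3 ^ 2 := hS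
  have hcommS : IsMulCommutative (S : Subgroup G) :=
    IsPGroup.isMulCommutative_of_card_eq_prime_sq hS2
  have hcomm : ∀ x ∈ (S : Subgroup G), ∀ y ∈ (S : Subgroup G), x * y = y * x :=
    fun x hx y hy => congrArg Subtype.val (hcommS.is_comm.comm (⟨x, hx⟩ : (S : Subgroup G)) ⟨y, hy⟩)
  let A : Subgroup (MulAut (S : Subgroup G)) := (S : Subgroup G).normalizerMonoidHom.range
  have hAcard : Nat.card A =
      (centralizer ((S : Subgroup G) : Set G)).relIndex (normalizer ((S : Subgroup G) : Set G)) := by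
    rw [← Subgroup.index_ker, normalizerMonoidHom_ker]
    rfl
  have hA : IsPGroup 2 A := by
    have h1 : Nat.card A ∣ 48 := by
      have h2 : Nat.card A ∣ Nat.card (MulAut (S : Subgroup G)) :=
        Subgroup.card_subgroup_dvd_card A
      have h3 := BurnsideNC.card_mulAut_dvd_of_card_eq_sq (p := 3) hS2
      have h4 := h2.trans h3
      norm_num at h4
      exact h4
    have h2 : ¬ 3 ∣ Nat.card A := by
      rw [hAcard]
      have h3 := BurnsideNC.coprime_relIndex S hcommS
      exact (Nat.Prime.coprime_iff_not_dvd Nat.prime_three).1 h3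
    have h3 : Nat.card A ∣ 2 ^ 4 := by
      have h4 : (Nat.card A).Coprime 3 := ((Nat.Prime.coprime_iff_not_dvd Nat.prime_three).2 h2).symm
      have h5 : Nat.card A ∣ 3 * 2 ^ 4 := by
        rw [show 3 * 2 ^ 4 = 48 by norm_num]
        exact h1
      exact h4.dvd_of_dvd_mul_left h5
    obtain ⟨j, -, hj⟩ := (Nat.dvd_prime_pow Nat.prime_two).1 h3
    exact IsPGroup.of_card hj
  have hfix : ∀ x : (S : Subgroup G), (∀ a ∈ A, a x = x) → x = 1 := by
    intro x hx
    apply Subtype.ext
    apply SylowEight.eq_one_of_forall_normalizer hG S hcomm x.1 x.2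
    intro n hn
    have h1 := hx _ ⟨⟨n, hn⟩, rfl⟩
    have h2 : n * (x : G) * n⁻¹ = x := congrArg Subtype.val h1
    exact mul_inv_eq_iff_eq_mul.1 h2
  obtain ⟨a, ⟨n, rfl⟩, ha⟩ := exists_inversion hS
    (fun x y => Subtype.ext (hcomm x.1 x.2 y.1 y.2)) A hA hfix
  exact ⟨n, n.2, fun s hs => congrArg Subtype.val (ha ⟨s, hs⟩)⟩

end Cfsg.Agent.SmallSimple.SylowNine
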