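import Mathlib
import Cfsg.Agent.SmallSimple.SylowNine
import Cfsg.Agent.SmallSimple.SylFiveReduce
import Cfsg.Agent.SmallSimple.PrimeLocal

set_option autoImplicit false

/-! There is no simple group of order 4680. -/

namespace Cfsg.Agent.SmallSimple.Order4680

open Subgroup

theorem not_simple_4680 {G : Type*} [Group G] [Finite G] [IsSimpleGroup G]
    (h : Nat.card G = 4680) : False := by
  have hG : ¬ IsMulCommutative G := Embed.not_comm_of_card_not_prime (by rw [h]; norm_num)
  have hp : Fact (Nat.Prime 13) := ⟨by norm_num⟩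
  obtain ⟨P⟩ : Nonempty (Sylow 13 G) := inferInstance
  have h13 : 13 ∣ Nat.card G := by rw [h]; norm_num
  have h169 : ¬ 13 ^ 2 ∣ Nat.card G := by rw [h]; norm_num
  have hP := PrimeLocal.card_of_not_sq_dvd h13 h169 P
  obtain ⟨e, K, hL⟩ := PrimeLocal.exists_local hG h13 h169 P
  obtain ⟨o, ho, ho'⟩ := hL.card_sylow hG (by norm_num) hP
  have hcard := hL.card_eq
  rw [h, ho] at hcard
  have hcard' : (1 + 13 * o) * (e * Nat.card K) = 360 := by
    have h1 : 13 * ((1 + 13 * o) * (e * Nat.card K)) = 13 * 360 := by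
      rw [← show 4680 = 13 * 360 by norm_num, hcard]
      ring
    exact Nat.eq_of_mul_eq_mul_left (by norm_num) h1
  have he1 := hL.one_lt
  have he2 := hL.dvd_pred
  have he3 : e ≤ 12 := Nat.le_of_dvd (by norm_num) he2
  have hm1 : 0 < e * Nat.card K := Nat.mul_pos (by omega) Nat.card_pos
  have hole : o ≤ 27 := by
    by_contra hcon
    push Not at hcon
    have h1 : (1 + 13 * 28) * 1 ≤ (1 + 13 * o) * (e * Nat.card K) :=
      Nat.mul_le_mul (by omega) hm1
    omega
  have hcases : o = 0 ∨ (o = 3 ∧ e * Nat.card K = 9) := by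
    generalize e * Nat.card K = m at *
    clear ho ho' hcard
    interval_cases o <;> omega
  rcases hcases with h0 | ⟨h3, h9⟩
  · rw [h0] at ho'
    rcases ho' with h1 | h1
    · rw [Nat.factorial_zero] at h1
      have := Nat.dvd_one.1 h1
      omega
    · omega
  have he : e = 3 ∧ Nat.card K = 3 := by
    have h1 : e = 3 := by
      interval_cases e <;> omega
    rw [h1] at h9
    exact ⟨h1, by omega⟩
  obtain ⟨he, hK⟩ := he
  have hn : Nat.card (Sylow 13 G) = 40 := by rw [ho, h3]
  have hN : Nat.card (normalizer ((P : Subgroup G) : Set G)) = 117 := by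
    have := hL.card_normalizer
    rw [he, hK] at this
    exact this
  have hPcard : Nat.card (P : Subgroup G) = 13 := hP
  have hNK : normalizer ((P : Subgroup G) : Set G) ≤ normalizer (K : Set G) := hL.normalizer_le
  have hPC : (P : Subgroup G) ≤ centralizer (K : Set G) := by
    intro y hy
    rw [mem_centralizer_iff]
    intro x hx
    exact hL.comm x hx y hy
  have hCN : centralizer (K : Set G) ≤ normalizer (K : Set G) := centralizer_le_normalizer _
  have hKbot : K ≠ ⊥ := by
    rintro rfl
    simp at hK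
  have hNKtop : normalizer (K : Set G) ≠ ⊤ := by
    intro h0
    rw [normalizer_eq_top_iff] at h0
    rcases h0.eq_bot_or_eq_top with h1 | h1
    · exact hKbot h1
    · rw [h1, Nat.card_congr Subgroup.topEquiv.toEquiv, h] at hK
      omega
  -- `N(K) = N(P)`
  have hNKcard : Nat.card (normalizer (K : Set G)) = 117 := by
    have h1 : Nat.card (Sylow 13 (normalizer (K : Set G))) =
        (normalizer ((P : Subgroup G) : Set G)).relIndex (normalizer (K : Set G)) :=
      SylFiveReduce.card_sylow_subgroup P _ (hPC.trans hCN)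
    have h2 : (normalizer ((P : Subgroup G) : Set G)).relIndex (normalizer (K : Set G)) *
        (normalizer (K : Set G)).index = 40 := by
      rw [relIndex_mul_index hNK, ← hn]
      exact P.card_eq_index_normalizer.symm
    have h3 : (normalizer ((P : Subgroup G) : Set G)).relIndex (normalizer (K : Set G))
        ≡ 1 [MOD 13] := by
      rw [← h1]
      exact card_sylow_modEq_one 13 _
    have h4 : (normalizer ((P : Subgroup G) : Set G)).relIndex (normalizer (K : Set G)) ∣ 40 :=
      ⟨_, h2.symm⟩
    have h5 : (normalizer ((P : Subgroup G) : Set G)).relIndex (normalizer (K : Set G)) = 1 ∨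
        (normalizer ((P : Subgroup G) : Set G)).relIndex (normalizer (K : Set G)) = 40 := by
      have h6 := Nat.le_of_dvd (by norm_num) h4
      revert h3 h4
      unfold Nat.ModEq
      generalize (normalizer ((P : Subgroup G) : Set G)).relIndex (normalizer (K : Set G)) = m at *
      interval_cases m <;> decide
    rcases h5 with h5 | h5
    · have h6 : normalizer (K : Set G) = normalizer ((P : Subgroup G) : Set G) :=
        le_antisymm (relIndex_eq_one.1 h5) hNK
      rw [h6, hN]
    · exfalso
      rw [h5] at h2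
      exact hNKtop (index_eq_one.1 (by omega))
  -- a Sylow 3-subgroup containing `K`
  have hK3 : IsPGroup 3 K := IsPGroup.of_card (n := 1) (by rw [hK, pow_one])
  obtain ⟨S, hKS⟩ := hK3.exists_le_sylow
  have hS : Nat.card (S : Subgroup G) = 9 :=
    Simple168.card_sylow_of_eq 3 2 520 (by rw [h]; norm_num) (by norm_num) S
  have hcommS : IsMulCommutative (S : Subgroup G) :=
    IsPGroup.isMulCommutative_of_card_eq_prime_sq (p := 3) hS
  have hSC : (S : Subgroup G) ≤ centralizer (K : Set G) := by
    intro s hs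
    rw [mem_centralizer_iff]
    intro x hx
    exact congrArg Subtype.val
      (hcommS.is_comm.comm (⟨x, hKS hx⟩ : (S : Subgroup G)) ⟨s, hs⟩)
  have hCK : normalizer (K : Set G) = centralizer (K : Set G) := by
    symm
    apply Subgroup.eq_of_le_of_card_ge hCN
    rw [hNKcard]
    have h1 := Subgroup.card_dvd_of_le hPC
    have h2 := Subgroup.card_dvd_of_le hSC
    rw [hPcard] at h1
    rw [hS] at h2
    have h3 : 13 * 9 ∣ Nat.card (centralizer (K : Set G)) :=
      Nat.Coprime.mul_dvd_of_dvd_of_dvd (by norm_num) h1 h2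
    exact Nat.le_of_dvd Nat.card_pos h3
  obtain ⟨n, -, hn'⟩ := SylowNine.exists_inverting hG S hS
  have hnK : n ∈ normalizer (K : Set G) := by
    rw [mem_normalizer_iff_map_conj_eq]
    have h1 : K.map (MulAut.conj n).toMonoidHom ≤ K := by
      rintro _ ⟨x, hx, rfl⟩
      show n * x * n⁻¹ ∈ K
      rw [hn' x (hKS hx)]
      exact K.inv_mem hx
    apply Subgroup.eq_of_le_of_card_ge h1
    exact le_of_eq (Nat.card_congr (K.equivMapOfInjective _ (MulAut.conj n).injective).toEquiv)
  rw [hCK, mem_centralizer_iff] at hnK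
  obtain ⟨⟨x, hx⟩, hx0⟩ := (Subgroup.ne_bot_iff_exists_ne_one (H := K)).1 hKbot
  have hx1 : x ≠ 1 := fun h => hx0 (Subtype.ext h)
  have h1 := hnK x hx
  have h2 := hn' x (hKS hx)
  rw [← h1, mul_inv_cancel_right] at h2
  have h4 : orderOf x ∣ 2 := orderOf_dvd_of_pow_eq_one (by
    rw [pow_two]
    nth_rewrite 1 [h2]
    exact inv_mul_cancel x)
  have h5 : orderOf x ∣ 3 := by
    have := orderOf_dvd_natCard (⟨x, hx⟩ : K)
    rwa [hK, Subgroup.orderOf_mk] at this
  have h6 : orderOf x ∣ 1 := by
    have := Nat.dvd_gcd h4 h5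
    simpa using this
  exact hx1 (orderOf_eq_one_iff.1 (Nat.dvd_one.1 h6))

end Cfsg.Agent.SmallSimple.Order4680
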