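import Mathlib
import Cfsg.Agent.SmallSimple.FiveSq

set_option autoImplicit false

namespace Cfsg.Agent.SmallSimple.Order4800

open Subgroup Cfsg.Agent.SmallSimple.FiveSq

/-- There is no simple group of order 4800. -/
theorem not_simple_4800 {G : Type*} [Group G] [Finite G] [IsSimpleGroup G] (h : Nat.card G = 4800) : False := by
  have hG : ¬ IsMulCommutative G := Embed.not_comm_of_card_not_prime (by rw [h]; norm_num)
  have hm : Nat.card G = 192 * 5 ^ 2 := by rw [h]; norm_num
  have hcard : ∀ Q : Sylow 5 G, Nat.card Q = 5 ^ 2 := fun Q => PSqQR.card_sylow_of_card_eq hm (by norm_num) Q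
  have hcomm : ∀ Q : Sylow 5 G, IsMulCommutative Q := fun Q =>
    IsPGroup.isMulCommutative_of_card_eq_prime_sq (hcard Q)
  -- number of Sylow 5-subgroups
  have hn : Nat.card (Sylow 5 G) = 16 ∨ Nat.card (Sylow 5 G) = 96 := by
    have h1 : Nat.card (Sylow 5 G) ∣ 192 := PSqQR.card_sylow_dvd_of_card_eq hm (by norm_num)
    have h2 := card_sylow_modEq_one 5 G
    have h3 := Embed.five_le_card_sylow hG (p := 5) (by rw [h]; norm_num)
    have h4 := Embed.two_mul_card_dvd_factorial_card_sylow hG (p := 5) (by rw [h]; norm_num)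
    have h5 : ∀ n ∈ Nat.divisors 192, n % 5 = 1 → 5 ≤ n → n = 6 ∨ n = 16 ∨ n = 96 := by decide
    rcases h5 _ (Nat.mem_divisors.2 ⟨h1, by norm_num⟩) h2 h3 with h6 | h6 | h6
    · exfalso
      rw [h6, h] at h4
      have : Nat.factorial 6 = 720 := rfl
      rw [this] at h4
      omega
    · exact Or.inl h6
    · exact Or.inr h6
  have hmod : ¬ Nat.card (Sylow 5 G) ≡ 1 [MOD 5 ^ 2] := by
    rcases hn with hn | hn <;> rw [hn] <;> decide
  obtain ⟨R, hPR, hD5, hPC, hRC, hC⟩ := exists_config hG (by rw [h]; norm_num) hm (by norm_num)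
    (by decide) hmod (default : Sylow 5 G)
  set P : Sylow 5 G := default with hP
  set D : Subgroup G := (P : Subgroup G) ⊓ R with hD
  set C : Subgroup G := centralizer (D : Set G) with hCdef
  have h50 := card_normalizer_inf hPR hC hPC hRC P hPC
  have hNP := Subgroup.card_mul_index (normalizer ((P : Subgroup G) : Set G))
  have hidxP : ∀ Q : Sylow 5 G, Nat.card (Sylow 5 G) = (normalizer ((Q : Subgroup G) : Set G)).index :=
    fun Q => Q.card_eq_index_normalizer
  rw [← hidxP P, h] at hNP
  rcases hn with hn | hn
  · -- 16 Sylow subgroups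
    have hCN : C ≤ normalizer (D : Set G) := Subgroup.centralizer_le_normalizer _
    have hNtop : normalizer (D : Set G) ≠ ⊤ := by
      intro htop
      have hDn : D.Normal := normalizer_eq_top_iff.1 htop
      rcases IsSimpleGroup.eq_bot_or_eq_top_of_normal D hDn with h1 | h1
      · rw [h1, Subgroup.card_bot] at hD5; omega
      · rw [h1, Subgroup.card_top, h] at hD5; omega
    have h15 := IndexJordan.three_mul_le_index hG (by rw [h]; norm_num) 5 (le_refl 5) (by rw [h]; norm_num) _ hNtop
    have hCi : C.index = 16 := by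
      have := C.card_mul_index
      rw [hC, h] at this; omega
    have hNi : (normalizer (D : Set G)).index = 16 := by
      have h1 := Subgroup.index_dvd_of_le hCN
      rw [hCi] at h1
      have h2 := Nat.le_of_dvd (by norm_num) h1
      have h3 : (normalizer (D : Set G)).index = 15 ∨ (normalizer (D : Set G)).index = 16 := by omega
      rcases h3 with h3 | h3
      · rw [h3] at h1; exact absurd h1 (by norm_num)
      · exact h3
    have hNC : normalizer (D : Set G) = C := by
      symm
      apply Subgroup.eq_of_le_of_card_ge hCN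
      have := (normalizer (D : Set G)).card_mul_index
      rw [hNi, h] at this
      rw [hC]; omega
    set S0 : Subgroup G := normalizer ((R : Subgroup G) : Set G) ⊓ normalizer ((P : Subgroup G) : Set G) with hS0
    have hS0C : S0 ≤ C := by
      rw [← hNC]
      intro x hx
      obtain ⟨hxR, hxP⟩ := Subgroup.mem_inf.1 hx
      rw [mem_normalizer_iff] at hxR hxP ⊢
      intro g
      show g ∈ D ↔ x * g * x⁻¹ ∈ D
      rw [hD, Subgroup.mem_inf, Subgroup.mem_inf]
      exact and_congr (hxP g) (hxR g)
    have hS050 : Nat.card S0 ∣ 50 := by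
      rw [← h50]
      exact Subgroup.card_dvd_of_le (le_inf inf_le_right hS0C)
    have hS025 := not_dvd_card_inf_normalizer hcard hPR.symm
    have hS010 : Nat.card S0 ≤ 10 := by
      have : ∀ n ∈ Nat.divisors 50, ¬ 5 ^ 2 ∣ n → n ≤ 10 := by decide
      exact this _ (Nat.mem_divisors.2 ⟨hS050, by norm_num⟩) hS025
    have hrel := card_inf_mul_relIndex (normalizer ((R : Subgroup G) : Set G)) (normalizer ((P : Subgroup G) : Set G))
    have hrel2 : (normalizer ((R : Subgroup G) : Set G)).relIndex (normalizer ((P : Subgroup G) : Set G)) ≤ 16 := by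
      rw [← hn, hidxP R, ← Subgroup.relIndex_top_right]
      apply Subgroup.relIndex_le_of_le_right le_top
      rw [Subgroup.relIndex_top_right]
      exact Subgroup.index_ne_zero_of_finite
    rw [hn] at hNP
    have h300 : Nat.card (normalizer ((P : Subgroup G) : Set G)) = 300 := by omega
    rw [h300] at hrel
    have : Nat.card S0 * (normalizer ((R : Subgroup G) : Set G)).relIndex (normalizer ((P : Subgroup G) : Set G)) ≤ 10 * 16 :=
      Nat.mul_le_mul hS010 hrel2
    have hrel' : Nat.card S0 * (normalizer ((R : Subgroup G) : Set G)).relIndex (normalizer ((P : Subgroup G) : Set G)) = 300 := hrel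
    omega
  · -- 96 Sylow subgroups
    rw [hn] at hNP
    have hN50 : Nat.card (normalizer ((P : Subgroup G) : Set G)) = 50 := by omega
    have hNPC : normalizer ((P : Subgroup G) : Set G) ≤ C := by
      have : normalizer ((P : Subgroup G) : Set G) ⊓ C = normalizer ((P : Subgroup G) : Set G) :=
        Subgroup.eq_of_le_of_card_ge inf_le_left (by rw [hN50, h50])
      rw [← this]; exact inf_le_right
    have hDne : ∃ d ∈ D, d ≠ 1 := by
      by_contra hcon
      push Not at hcon
      have : D = ⊥ := (Subgroup.eq_bot_iff_forall D).2 hcon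
      rw [this, Subgroup.card_bot] at hD5
      omega
    obtain ⟨d, hd, hd1⟩ := hDne
    apply hd1
    have := hcomm P
    apply eq_one_of_normalizer_le hG P (Subgroup.mem_inf.1 hd).1
    intro n hn'
    have h1 := hNPC hn'
    rw [hCdef, mem_centralizer_iff] at h1
    exact (h1 d hd).symm

end Cfsg.Agent.SmallSimple.Order4800
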