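import Mathlib
import Cfsg.Agent.SmallSimple.SieveTools
import Cfsg.Agent.SmallSimple.RelSylow
import Cfsg.Agent.SmallSimple.SylowMaxInter
import Cfsg.Agent.SmallSimple.PrimeOrderData

/-!
# There is no simple group of order 4928
-/

set_option autoImplicit false
set_option linter.unusedSectionVars false

namespace Cfsg.Agent.SmallSimple.Order4928

open Subgroup Cfsg.Agent.SmallSimple.PrimeLocal

/-- There are distinct Sylow `p`-subgroups whose intersection has maximal order. -/
theorem exists_max {G : Type*} [Group G] [Finite G] {p : ℕ} [Fact p.Prime] (P Q : Sylow p G)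
    (hPQ : P ≠ Q) : ∃ P₀ Q₀ : Sylow p G, P₀ ≠ Q₀ ∧
      (∀ P' Q' : Sylow p G, P' ≠ Q' → Nat.card ↥((P' : Subgroup G) ⊓ (Q' : Subgroup G)) ≤
        Nat.card ↥((P₀ : Subgroup G) ⊓ (Q₀ : Subgroup G))) := by
  have : Finite {x : Sylow p G × Sylow p G // x.1 ≠ x.2} := Subtype.finite
  have : Nonempty {x : Sylow p G × Sylow p G // x.1 ≠ x.2} := ⟨⟨(P, Q), hPQ⟩⟩
  obtain ⟨x, hx⟩ := Finite.exists_max (fun x : {x : Sylow p G × Sylow p G // x.1 ≠ x.2} =>
    Nat.card ↥((x.1.1 : Subgroup G) ⊓ (x.1.2 : Subgroup G)))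
  exact ⟨x.1.1, x.1.2, x.2, fun P' Q' h => hx ⟨(P', Q'), h⟩⟩

theorem not_simple_4928 {G : Type*} [Group G] [Finite G] [IsSimpleGroup G]
    (h : Nat.card G = 4928) : False := by
  classical
  have hG : ¬ IsMulCommutative G := Embed.not_comm_of_card_not_prime (by rw [h]; norm_num)
  have f2 : Fact (Nat.Prime 2) := ⟨by norm_num⟩
  have f11 : Fact (Nat.Prime 11) := ⟨by norm_num⟩
  -- `p = 11`
  have k11 : ∀ P : Sylow 11 G, Nat.card P = 11 ∧ Nat.card (normalizer (P : Set G)) = 88 ∧
      ∃ K, IsLocal 11 P 2 K ∧ Nat.card K = 4 := by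
    intro P
    have hP : Nat.card P = 11 := card_of_not_sq_dvd (by rw [h]; norm_num) (by rw [h]; norm_num) P
    have hn1 := SylowPrimeInvol.card_sylow_dvd_of_card_eq P (k := 1) (m := 448)
      (by rw [h]; norm_num) (by norm_num)
    have hn2 := card_sylow_modEq_one 11 G
    obtain ⟨e, K, hL⟩ := exists_local hG (p := 11) (by rw [h]; norm_num) (by rw [h]; norm_num) P
    have hc : ∀ n ∈ Nat.divisors 448, n % 11 = 1 → n = 1 ∨ n = 56 := by decide +kernel
    have hcard := hL.card_eq
    rw [h] at hcard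
    have he := hL.dvd_pred
    have he1 := hL.one_lt
    have he10 : e ≤ 10 := Nat.le_of_dvd (by norm_num) he
    have he2 : e = 2 ∨ e = 5 ∨ e = 10 := by interval_cases e <;> simp_all
    rcases hc _ (Nat.mem_divisors.2 ⟨hn1, by norm_num⟩) hn2 with h1 | h1
    · have := Embed.five_le_card_sylow hG (p := 11) (by rw [h]; norm_num)
      omega
    · rw [h1] at hcard
      have h2 : e = 2 ∧ Nat.card K = 4 := by
        rcases he2 with h2 | h2 | h2 <;> rw [h2] at hcard <;> omega
      obtain ⟨h2, h3⟩ := h2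
      subst h2
      refine ⟨hP, ?_, K, hL, h3⟩
      rw [hL.card_normalizer, h3]
  -- no proper subgroup of index `7, 11, 14, 22`
  have i22 : ∀ H : Subgroup G, H.index ≠ 22 := by
    intro H hH
    obtain ⟨hP, _, K, hK, hK4⟩ := k11 default
    have hHtop : H ≠ ⊤ := by
      rintro rfl
      rw [Subgroup.index_top] at hH; omega
    have hHc : Nat.card H = 224 := by
      have := H.card_mul_index
      rw [hH, h] at this; omega
    have := hK.dvd_of_index hG (by norm_num) hP H hHtop (by rw [hHc]; norm_num)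
      (m := 22) (o := 2) hH (by norm_num)
    rw [hK4] at this
    simp [Nat.factorial] at this
  have i11 : ∀ H : Subgroup G, H.index ≠ 11 := by
    intro H hH
    obtain ⟨hP, _, K, hK, hK4⟩ := k11 default
    have hHtop : H ≠ ⊤ := by
      rintro rfl
      rw [Subgroup.index_top] at hH; omega
    have := hK.dvd_of_index_succ hG (by norm_num) hP H hHtop (Or.inl hH)
    rw [hK4] at this
    norm_num at this
  have i7 : ∀ H : Subgroup G, H.index ≠ 7 := by
    intro H hH
    have hHtop : H ≠ ⊤ := by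
      rintro rfl
      rw [Subgroup.index_top] at hH; omega
    have := Embed.two_mul_card_dvd_factorial_index hG H hHtop
    rw [hH, h] at this
    have h7 : Nat.factorial 7 = 5040 := rfl
    rw [h7] at this
    norm_num at this
  have i14 : ∀ H : Subgroup G, H.index ≠ 14 := by
    intro H hH
    have hHc : Nat.card H = 352 := by
      have := H.card_mul_index
      rw [hH, h] at this; omega
    obtain ⟨z, hz⟩ := exists_prime_orderOf_dvd_card' (G := H) 11 (by rw [hHc]; norm_num)
    have hz' : orderOf (z : G) = 11 := by rw [orderOf_coe, hz]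
    obtain ⟨P, hP⟩ := PrimeOrderData.exists_sylow_eq (p := 11) (m := 448) (by rw [h]) (by norm_num)
      (z : G) hz'
    have hPH : (P : Subgroup G) ≤ H := by
      rw [hP, zpowers_le]; exact z.2
    have h3 := RelSylow.relIndex_modEq_one P H hPH
    have h4 := RelSylow.relIndex_mul_card_inf (normalizer ((P : Subgroup G) : Set G)) H
    have h5 : (P : Subgroup G) ≤ (H ⊓ normalizer ((P : Subgroup G) : Set G) : Subgroup G) :=
      le_inf hPH le_normalizer
    have h6 := Subgroup.card_dvd_of_le h5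
    have h7 : Nat.card (P : Subgroup G) = 11 := (k11 P).1
    rw [h7] at h6
    obtain ⟨y, hy⟩ := h6
    rw [hy, hHc] at h4
    have h8 : (normalizer ((P : Subgroup G) : Set G)).relIndex H ∣ 32 := ⟨y, by
      have : (normalizer ((P : Subgroup G) : Set G)).relIndex H * (11 * y) =
        11 * ((normalizer ((P : Subgroup G) : Set G)).relIndex H * y) := by ring
      omega⟩
    have h9 : ∀ n ∈ Nat.divisors 32, n % 11 = 1 → n = 1 := by decide +kernel
    have h10 := h9 _ (Nat.mem_divisors.2 ⟨h8, by norm_num⟩) h3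
    have h11 := Subgroup.card_dvd_of_le (relIndex_eq_one.1 h10)
    have h12 : Nat.card (normalizer (P : Set G)) = 88 := (k11 P).2.1
    rw [hHc] at h11
    have h13 : (352 : ℕ) ∣ 88 := h12 ▸ h11
    norm_num at h13
  -- Sylow 2-subgroups
  have hS : ∀ P : Sylow 2 G, Nat.card P = 2 ^ 6 := fun P =>
    SylowPrimeInvol.card_sylow_of_card_eq P (k := 6) (m := 77) (by rw [h]; norm_num) (by norm_num)
  have hmod : ¬ Nat.card (Sylow 2 G) ≡ 1 [MOD 2 ^ 3] := by
    intro hmod
    have hn1 := SylowPrimeInvol.card_sylow_dvd_of_card_eq (default : Sylow 2 G) (k := 6) (m := 77)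
      (by rw [h]; norm_num) (by norm_num)
    have hc : ∀ n ∈ Nat.divisors 77, n % 8 = 1 → n = 1 := by decide +kernel
    have h1 := hc _ (Nat.mem_divisors.2 ⟨hn1, by norm_num⟩) hmod
    have := Embed.five_le_card_sylow hG (p := 2) (by rw [h]; norm_num)
    omega
  obtain ⟨Q₁, hQ₁, hdvd⟩ := SylowInter.exists_ne_pow_dvd_card_inf 2 3 6 hmod (default : Sylow 2 G)
    (hS _)
  obtain ⟨P, Q, hPQ, hmax⟩ := exists_max (default : Sylow 2 G) Q₁ hQ₁
  have hge : 16 ≤ Nat.card ↥((P : Subgroup G) ⊓ (Q : Subgroup G)) := by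
    refine le_trans ?_ (hmax _ _ hQ₁)
    exact Nat.le_of_dvd Nat.card_pos (by simpa using hdvd)
  have hmain := (SylowMaxInter.main P Q hPQ hmax).1
  have hlt := SylowMaxInter.card_lt_card_inf_normalizer P Q hPQ
  set D : Subgroup G := (P : Subgroup G) ⊓ (Q : Subgroup G) with hD
  set N : Subgroup G := normalizer (D : Set G) with hN
  -- `32 ∣ |N|`
  have h32 : 32 ∣ Nat.card N := by
    have h1 : Nat.card ((P : Subgroup G) ⊓ N : Subgroup G) ∣ 2 ^ 6 := by
      rw [← hS P]
      exact Subgroup.card_dvd_of_le inf_le_left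
    obtain ⟨j, hj, hj'⟩ := (Nat.dvd_prime_pow Nat.prime_two).1 h1
    have h2 : 5 ≤ j := by
      by_contra hcon
      have h3 : 2 ^ j ≤ 2 ^ 4 := Nat.pow_le_pow_right (by norm_num) (by omega)
      rw [← hj'] at h3
      have : (2 : ℕ) ^ 4 = 16 := by norm_num
      omega
    have h3 : 2 ^ 5 ∣ Nat.card ((P : Subgroup G) ⊓ N : Subgroup G) := by
      rw [hj']; exact Nat.pow_dvd_pow 2 h2
    exact (by simpa using h3 : 32 ∣ Nat.card ((P : Subgroup G) ⊓ N : Subgroup G)).trans
      (Subgroup.card_dvd_of_le inf_le_right)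
  have hNtop : N ≠ ⊤ := by
    intro htop
    have hn : D.Normal := normalizer_eq_top_iff.1 htop
    rcases hn.eq_bot_or_eq_top with h1 | h1
    · rw [h1, Subgroup.card_bot] at hge
      omega
    · have hPtop : (P : Subgroup G) = ⊤ := top_le_iff.1 (h1 ▸ inf_le_left)
      have h2 : Nat.card (P : Subgroup G) = 2 ^ 6 := hS P
      rw [hPtop, Subgroup.card_top, h] at h2
      norm_num at h2
  have h5 := Embed.five_le_index hG N hNtop
  have hmul := N.card_mul_index
  obtain ⟨t, ht⟩ := h32
  rw [h, ht] at hmul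
  have ht' : N.index ∣ 154 := ⟨t, by
    have : 32 * t * N.index = 32 * (N.index * t) := by ring
    omega⟩
  have hc : ∀ n ∈ Nat.divisors 154, 5 ≤ n → n = 7 ∨ n = 11 ∨ n = 14 ∨ n = 22 ∨ n = 77 ∨ n = 154 := by
    decide +kernel
  have h2grp : ∀ k, Nat.card N = 2 ^ k → False := by
    intro k hk
    have h1 : IsPGroup 2 N := IsPGroup.of_card hk
    have h2 : Subsingleton (Sylow 2 N) := by
      refine ⟨fun S T => ?_⟩
      have h3 : ∀ S : Sylow 2 N, (S : Subgroup N) = ⊤ := by
        intro S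
        symm
        exact S.3 (h1.to_subgroup ⊤) le_top
      exact Sylow.ext ((h3 S).trans (h3 T).symm)
    have h3 : Nat.card (Sylow 2 N) ≤ 1 := Finite.card_le_one_iff_subsingleton.2 h2
    have h4 : 1 < Nat.card (Sylow 2 N) := hmain
    omega
  rcases hc _ (Nat.mem_divisors.2 ⟨ht', by norm_num⟩) h5 with h6 | h6 | h6 | h6 | h6 | h6
  · exact i7 _ h6
  · exact i11 _ h6
  · exact i14 _ h6
  · exact i22 _ h6
  · rw [h6] at hmul
    exact h2grp 6 (by rw [ht]; omega)
  · rw [h6] at hmul
    exact h2grp 5 (by rw [ht]; omega)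

end Cfsg.Agent.SmallSimple.Order4928
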