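import Mathlib
import Cfsg.Agent.S0675
import Cfsg.Agent.SmallSimple.SylowCount
import Cfsg.Agent.SmallSimple.SylowInter

/-!
Subgroups of prime index in a simple group (Burnside's prime degree theorem) and subgroups
obtained from Sylow intersections.
-/

set_option autoImplicit false

namespace Cfsg.Agent.SmallSimple.PrimeIndex

open Subgroup

/-- A simple group (not of prime order) with a subgroup of prime index `q` has order divisible by
`q * (q - 1)`. -/
theorem mul_pred_dvd_card {G : Type*} [Group G] [Finite G] [IsSimpleGroup G]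
    (hG : ¬ (Nat.card G).Prime) (H : Subgroup G) (hp : (H.index).Prime) :
    H.index * (H.index - 1) ∣ Nat.card G := by
  classical
  have : Fintype (G ⧸ H) := Fintype.ofFinite _
  have hH : H ≠ ⊤ := by
    rintro rfl
    rw [index_top] at hp
    exact Nat.not_prime_one hp
  have hker : (MulAction.toPermHom G (G ⧸ H)).ker = ⊥ := by
    rcases Subgroup.Normal.eq_bot_or_eq_top (H := (MulAction.toPermHom G (G ⧸ H)).ker)
      inferInstance with h | h
    · exact h
    · exfalso
      apply hH
      rw [← Subgroup.normalCore_eq_ker] at h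
      exact top_le_iff.1 (h ▸ Subgroup.normalCore_le H)
  have hinj : Function.Injective (MulAction.toPermHom G (G ⧸ H)) :=
    (MonoidHom.ker_eq_bot_iff _).1 hker
  set K := (MulAction.toPermHom G (G ⧸ H)).range with hK
  let e : G ≃* K := MonoidHom.ofInjective hinj
  have htrans : MulAction.IsPretransitive K (G ⧸ H) := by
    refine ⟨fun a b => ?_⟩
    obtain ⟨g, hg⟩ := MulAction.exists_smul_eq G a b
    exact ⟨e g, hg⟩
  have hcard : Fintype.card (G ⧸ H) = H.index := by
    rw [← Nat.card_eq_fintype_card]; rfl
  rcases Cfsg.Agent.S0675.result (by rw [hcard]; exact hp) K with h | h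
  · exfalso
    have hsol : Group.IsSolvable G :=
      Group.isSolvable_of_isSolvable_injective (f := e.toMonoidHom) e.injective
    apply hG
    have hcomm : ∀ a b : G, a * b = b * a := IsSimpleGroup.comm_iff_isSolvable.2 hsol
    let inst : CommGroup G := { (inferInstance : Group G) with mul_comm := hcomm }
    exact IsSimpleGroup.prime_card (α := G)
  · have h3 : Nat.card (Fin 2 ↪ (G ⧸ H)) ∣ Nat.card K := by
      have hp2 := hp.two_le
      have hne : Nonempty (Fin 2 ↪ (G ⧸ H)) := by
        apply Function.Embedding.nonempty_of_card_le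
        rw [hcard, Fintype.card_fin]
        exact hp2
      obtain ⟨x⟩ := hne
      have h4 := @MulAction.index_stabilizer_of_transitive K _ _ _ x h
      rw [← h4]
      exact Subgroup.index_dvd_card _
    rw [Nat.card_congr e.toEquiv]
    rw [Nat.card_eq_fintype_card, Fintype.card_embedding_eq, hcard, Fintype.card_fin] at h3
    have h5 : H.index.descFactorial 2 = H.index * (H.index - 1) := by
      rw [Nat.descFactorial_succ, Nat.descFactorial_one, mul_comm]
    rwa [h5] at h3

/-- In a simple group with `p ^ 2 ∣ |G|` in which the number of Sylow `p`-subgroups is not `1`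
modulo `p ^ 2` there is a proper subgroup containing a Sylow `p`-subgroup and having a number
`m > 1` of Sylow `p`-subgroups. -/
theorem exists_subgroup_of_not_modEq {G : Type*} [Group G] [Finite G] [IsSimpleGroup G] {p : ℕ}
    [hp : Fact p.Prime] (h2 : p ^ 2 ∣ Nat.card G)
    (h : ¬ Nat.card (Sylow p G) ≡ 1 [MOD p ^ 2]) :
    ∃ (P Q : Sylow p G), P ≠ Q ∧ (P : Subgroup G) ≤ normalizer ((P ⊓ Q : Subgroup G) : Set G) ∧
      (Q : Subgroup G) ≤ normalizer ((P ⊓ Q : Subgroup G) : Set G) ∧
      normalizer ((P ⊓ Q : Subgroup G) : Set G) ≠ ⊤ ∧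
      Nat.card ((P : Subgroup G) ⊓ (Q : Subgroup G) : Subgroup G) * p = Nat.card (P : Subgroup G) ∧
      ∃ m, 1 < m ∧ m ≡ 1 [MOD p] ∧
        m * (normalizer ((P ⊓ Q : Subgroup G) : Set G)).index ∣ (P : Subgroup G).index := by
  obtain ⟨P⟩ : Nonempty (Sylow p G) := inferInstance
  obtain ⟨Q, hPQ, hQ⟩ := Cfsg.Agent.SmallSimple.SylowInter.exists_ne_index_le p 2 h P
  have hp1 := hp.out.one_lt
  have hcardPQ : Nat.card (P : Subgroup G) = Nat.card (Q : Subgroup G) :=
    Nat.card_congr (P.equiv Q).toEquiv
  set D : Subgroup G := (P : Subgroup G) ⊓ (Q : Subgroup G) with hD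
  -- index of D in P is p
  have hidx : ((Q : Subgroup G).subgroupOf (P : Subgroup G)).index = p := by
    obtain ⟨n, hn⟩ := P.isPGroup'.index ((Q : Subgroup G).subgroupOf (P : Subgroup G))
    have hn0 : n ≠ 0 := by
      rintro rfl
      rw [pow_zero] at hn
      have h3 : (P : Subgroup G) ≤ Q := by
        rw [← subgroupOf_eq_top, ← index_eq_one, hn]
      apply hPQ
      apply Sylow.ext
      exact Subgroup.eq_of_le_of_card_ge h3 hcardPQ.ge
    have hn1 : n ≤ 1 := by
      rw [hn] at hQ
      have := (Nat.pow_le_pow_iff_right hp1).1 hQ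
      simpa using this
    have : n = 1 := by omega
    rw [hn, this, pow_one]
  have hmul : Nat.card D * p = Nat.card (P : Subgroup G) := by
    have h3 := Subgroup.card_mul_index ((Q : Subgroup G).subgroupOf (P : Subgroup G))
    rw [hidx, ← Subgroup.inf_subgroupOf_left] at h3
    rw [← h3]
    congr 1
    exact (Nat.card_congr (Subgroup.subgroupOfEquivOfLe inf_le_left).toEquiv).symm
  have hmulQ : Nat.card D * p = Nat.card (Q : Subgroup G) := by rw [hmul, hcardPQ]
  -- a subgroup of index p in a p-group is normal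
  have key : ∀ R : Sylow p G, D ≤ R → Nat.card D * p = Nat.card (R : Subgroup G) →
      (R : Subgroup G) ≤ normalizer (D : Set G) := by
    intro R hDR hc
    have h3 : (D.subgroupOf (R : Subgroup G)).index = p := by
      have h4 := Subgroup.card_mul_index (D.subgroupOf (R : Subgroup G))
      rw [Nat.card_congr (Subgroup.subgroupOfEquivOfLe hDR).toEquiv, ← hc] at h4
      exact Nat.eq_of_mul_eq_mul_left Nat.card_pos h4
    have h5 : (D.subgroupOf (R : Subgroup G)).Normal := by
      apply Subgroup.normal_of_index_eq_minFac_card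
      rw [h3]
      obtain ⟨n, hn⟩ := (IsPGroup.iff_card).1 R.isPGroup'
      have hn0 : n ≠ 0 := by
        rintro rfl
        have h6 : Nat.card D * p = 1 := by rw [hc, hn, pow_zero]
        have := Nat.eq_one_of_mul_eq_one_left h6
        omega
      rw [hn, hp.out.pow_minFac hn0]
    exact Subgroup.le_normalizer_of_normal_subgroupOf hDR
  have hPN : (P : Subgroup G) ≤ normalizer (D : Set G) := key P inf_le_left hmul
  have hQN : (Q : Subgroup G) ≤ normalizer (D : Set G) := key Q inf_le_right hmulQ
  have hsq : p ^ 2 ∣ Nat.card (P : Subgroup G) := P.pow_dvd_card_of_pow_dvd_card h2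
  have hNtop : normalizer (D : Set G) ≠ ⊤ := by
    intro h3
    rcases (normalizer_eq_top_iff.1 h3).eq_bot_or_eq_top with h4 | h4
    · rw [h4, card_bot, one_mul] at hmul
      rw [← hmul] at hsq
      have := Nat.le_of_dvd hp.out.pos hsq
      nlinarith
    · have h5 : (P : Subgroup G) = ⊤ := top_le_iff.1 (h4 ▸ inf_le_left)
      have h6 : (Q : Subgroup G) = ⊤ := top_le_iff.1 (h4 ▸ inf_le_right)
      exact hPQ (Sylow.ext (h5.trans h6.symm))
  refine ⟨P, Q, hPQ, hPN, hQN, hNtop, hmul, ?_⟩
  -- the number of Sylow subgroups of the normalizer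
  set N := normalizer (D : Set G) with hN
  refine ⟨Nat.card (Sylow p N), ?_, card_sylow_modEq_one p N, ?_⟩
  · rw [Finite.one_lt_card_iff_nontrivial]
    refine ⟨⟨P.subtype hPN, Q.subtype hQN, ?_⟩⟩
    intro h3
    exact hPQ (Sylow.subtype_injective h3)
  · rw [← relIndex_mul_index hPN]
    exact Nat.mul_dvd_mul_right ((P.subtype hPN).card_dvd_index) _

end Cfsg.Agent.SmallSimple.PrimeIndex
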