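import Mathlib
import Cfsg.Agent.SmallSimple.PrimeIndex
import Cfsg.Agent.SmallSimple.PSqQR

set_option autoImplicit false

namespace Cfsg.Agent.SmallSimple.Order4960

open Subgroup Cfsg.Agent.SmallSimple.SylowCount

theorem dvd_aux (n : ℕ) (h : n ∣ 155) : n = 1 ∨ n = 5 ∨ n = 31 ∨ n = 155 := by
  have key : ∀ n ∈ Nat.divisors 155, n = 1 ∨ n = 5 ∨ n = 31 ∨ n = 155 := by decide +kernel
  exact key n (Nat.mem_divisors.2 ⟨h, by norm_num⟩)

/-- There is no simple group of order 4960 = 2^5 * 5 * 31. -/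
theorem not_simple_4960 {G : Type*} [Group G] [Finite G] [IsSimpleGroup G]
    (h : Nat.card G = 4960) : False := by
  have hp : Fact (Nat.Prime 2) := ⟨Nat.prime_two⟩
  have hG' : Nat.card G = 155 * 2 ^ 5 := by rw [h]; norm_num
  have hnp : ¬ (Nat.card G).Prime := by rw [h]; norm_num
  have hdvd : 2 ∣ Nat.card G := by rw [h]; norm_num
  have hne : Nat.card G ≠ 2 := by rw [h]; norm_num
  -- a subgroup of index 31 gives a contradiction
  have h31 : ∀ H : Subgroup G, H.index ≠ 31 := by
    intro H hH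
    have h1 := PrimeIndex.mul_pred_dvd_card hnp H (by rw [hH]; norm_num)
    rw [hH, h] at h1
    revert h1
    decide
  have h5 : ∀ H : Subgroup G, H ≠ ⊤ → H.index ≠ 5 := by
    intro H hH hH5
    have h1 := card_dvd_factorial_index H hH
    rw [hH5, h] at h1
    revert h1
    decide
  have hn := Cfsg.Agent.SmallSimple.PSqQR.card_sylow_dvd_of_card_eq hG' (by norm_num)
  have hn1 := card_sylow_ne_one hdvd hne
  obtain ⟨R⟩ : Nonempty (Sylow 2 G) := inferInstance
  rcases dvd_aux _ hn with h1 | h1 | h1 | h1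
  · exact hn1 h1
  · have h2 := R.card_eq_index_normalizer
    rw [h1] at h2
    refine h5 _ ?_ h2.symm
    intro h3
    rw [h3, index_top] at h2
    omega
  · have h2 := R.card_eq_index_normalizer
    rw [h1] at h2
    exact h31 _ h2.symm
  · have hmod : ¬ Nat.card (Sylow 2 G) ≡ 1 [MOD 2 ^ 2] := by
      rw [h1]; decide
    obtain ⟨P, Q, -, -, -, hNtop, -, m, hm1, -, hm2⟩ :=
      PrimeIndex.exists_subgroup_of_not_modEq (by rw [h]; norm_num) hmod
    rw [Cfsg.Agent.SmallSimple.PSqQR.index_sylow_of_card_eq hG' (by norm_num) P] at hm2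
    set N := normalizer ((P ⊓ Q : Subgroup G) : Set G) with hN
    rcases dvd_aux _ (dvd_trans (Dvd.intro_left _ rfl) hm2) with h2 | h2 | h2 | h2
    · exact hNtop (index_eq_one.1 h2)
    · exact h5 _ hNtop h2
    · exact h31 _ h2
    · rw [h2] at hm2
      have := Nat.le_of_dvd (by norm_num) hm2
      omega

end Cfsg.Agent.SmallSimple.Order4960
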