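import Mathlib
import Cfsg.Agent.SmallSimple.PrimeLocal
import Cfsg.Agent.SmallSimple.PSqQR
import Cfsg.Agent.SmallSimple.FiveSq

set_option autoImplicit false

namespace Cfsg.Agent.SmallSimple.Order5148

open Subgroup Cfsg.Agent.SmallSimple.PrimeLocal

theorem exists_mem_of_dvd_lcm {p : ℕ} (hp : p.Prime) (s : Multiset ℕ) (h : p ∣ s.lcm) : ∃ n ∈ s, p ∣ n := by
  induction s using Multiset.induction_on with
  | empty =>
    rw [Multiset.lcm_zero] at h
    exact absurd (Nat.dvd_one.1 h) hp.ne_one
  | cons a s ih =>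
    rw [Multiset.lcm_cons] at h
    have h1 : p ∣ a * s.lcm := h.trans (Nat.lcm_dvd_mul a s.lcm)
    rcases hp.dvd_mul.1 h1 with h2 | h2
    · exact ⟨a, Multiset.mem_cons_self a s, h2⟩
    · obtain ⟨n, hn, hpn⟩ := ih h2
      exact ⟨n, Multiset.mem_cons_of_mem hn, hpn⟩

/-- A permutation whose order is divisible by two distinct primes `p` and `q` moves at least
`min (p + q) (p q)` points. -/
theorem le_card_of_dvd_orderOf {α : Type*} [Fintype α] [DecidableEq α] (σ : Equiv.Perm α) {p q : ℕ}
    (hp : p.Prime) (hq : q.Prime) (hpq : p ≠ q) (h1 : p ∣ orderOf σ) (h2 : q ∣ orderOf σ) :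
    p + q ≤ Fintype.card α ∨ p * q ≤ Fintype.card α := by
  rw [← Equiv.Perm.lcm_cycleType] at h1 h2
  obtain ⟨n, hn, hpn⟩ := exists_mem_of_dvd_lcm hp _ h1
  obtain ⟨m, hm, hqm⟩ := exists_mem_of_dvd_lcm hq _ h2
  have hsum : σ.cycleType.sum ≤ Fintype.card α := by
    rw [Equiv.Perm.sum_cycleType]
    exact Finset.card_le_univ _
  have hn2 := Equiv.Perm.two_le_of_mem_cycleType hn
  have hm2 := Equiv.Perm.two_le_of_mem_cycleType hm
  by_cases hnm : n = m
  · subst hnm
    right
    have h3 : p * q ∣ n := Nat.Coprime.mul_dvd_of_dvd_of_dvd ((Nat.coprime_primes hp hq).2 hpq) hpn hqm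
    exact (Nat.le_of_dvd (by omega) h3).trans ((Multiset.single_le_sum (fun _ _ => Nat.zero_le _) n hn).trans hsum)
  · left
    have h3 : p ≤ n := Nat.le_of_dvd (by omega) hpn
    have h4 : q ≤ m := Nat.le_of_dvd (by omega) hqm
    obtain ⟨t, ht⟩ := Multiset.exists_cons_of_mem hn
    rw [ht] at hm hsum
    have h5 : m ∈ t := (Multiset.mem_cons.1 hm).resolve_left (fun h => hnm h.symm)
    rw [Multiset.sum_cons] at hsum
    have h6 := Multiset.single_le_sum (fun _ _ => Nat.zero_le _) m h5
    omega

/-- There is no simple group of order 5148. -/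
theorem not_simple_5148 {G : Type*} [Group G] [Finite G] [IsSimpleGroup G] (h : Nat.card G = 5148) : False := by
  classical
  have hG : ¬ IsMulCommutative G := Embed.not_comm_of_card_not_prime (by rw [h]; norm_num)
  have hp : Fact (Nat.Prime 11) := ⟨by norm_num⟩
  have hm : Nat.card G = 468 * 11 ^ 1 := by rw [h]; norm_num
  have hm3 : Nat.card G = 572 * 3 ^ 2 := by rw [h]; norm_num
  let P : Sylow 11 G := default
  have hP : Nat.card P = 11 := card_of_not_sq_dvd (by rw [h]; norm_num) (by rw [h]; norm_num) P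
  obtain ⟨e, K, hL⟩ := exists_local hG (p := 11) (by rw [h]; norm_num) (by rw [h]; norm_num) P
  have hcard := hL.card_eq
  have hn : Nat.card (Sylow 11 G) = 12 ∨ Nat.card (Sylow 11 G) = 78 := by
    have h1 : Nat.card (Sylow 11 G) ∣ 468 := PSqQR.card_sylow_dvd_of_card_eq hm (by norm_num)
    have h2 := card_sylow_modEq_one 11 G
    have h3 := Embed.five_le_card_sylow hG (p := 11) (by rw [h]; norm_num)
    have h5 : ∀ n ∈ Nat.divisors 468, n % 11 = 1 → 5 ≤ n → n = 12 ∨ n = 78 := by decide +kernel
    exact h5 _ (Nat.mem_divisors.2 ⟨h1, by norm_num⟩) h2 h3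
  have hek : Nat.card K = 3 := by
    rcases hn with hn | hn
    · exfalso
      have h1 := hL.dvd_of_card_sylow_succ hG (by norm_num) hP hn
      rw [hn, h] at hcard
      have h2 : e * Nat.card K = 39 := by
        have : 12 * (11 * e * Nat.card K) = 132 * (e * Nat.card K) := by ring
        omega
      rw [h2] at h1
      exact absurd h1 (by norm_num)
    · rw [hn, h] at hcard
      have h2 : e * Nat.card K = 6 := by
        have : 78 * (11 * e * Nat.card K) = 858 * (e * Nat.card K) := by ring
        omega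
      have h3 := hL.one_lt
      have h4 : e ∣ 10 := hL.dvd_pred
      have h5 : e ∣ 6 := Dvd.intro _ h2
      have h6 : e ∣ 2 := by
        have := Nat.dvd_gcd h4 h5
        norm_num at this
        exact this
      have h7 : e = 2 := by
        have := Nat.le_of_dvd (by norm_num) h6
        omega
      rw [h7] at h2
      omega
  have hp3 : Fact (Nat.Prime 3) := ⟨by norm_num⟩
  -- the centralizer of K
  set H : Subgroup G := centralizer (K : Set G) with hH
  have hPH : (P : Subgroup G) ≤ H := by
    intro y hy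
    rw [hH, mem_centralizer_iff]
    intro x hx
    exact hL.comm x hx y hy
  have hKH : K ≤ H := by
    intro y hy
    rw [hH, mem_centralizer_iff]
    intro x hx
    exact comm_of_card_prime (by norm_num) K hek x hx y hy
  have h11 : 11 ∣ Nat.card H := by
    have := Subgroup.card_dvd_of_le hPH
    rwa [show Nat.card (P : Subgroup G) = 11 from hP] at this
  have h9 : 9 ∣ Nat.card H := by
    have hKp : IsPGroup 3 K := IsPGroup.of_card (n := 1) (by rw [hek]; norm_num)
    obtain ⟨S, hS⟩ := hKp.exists_le_sylow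
    have hSc : Nat.card S = 3 ^ 2 := PSqQR.card_sylow_of_card_eq hm3 (by norm_num) S
    have hScomm : IsMulCommutative S := IsPGroup.isMulCommutative_of_card_eq_prime_sq hSc
    have hSH : (S : Subgroup G) ≤ H := by
      intro y hy
      rw [hH, mem_centralizer_iff]
      intro x hx
      exact congrArg Subtype.val (hScomm.is_comm.comm (⟨x, hS hx⟩ : S) ⟨y, hy⟩)
    have := Subgroup.card_dvd_of_le hSH
    rwa [show Nat.card (S : Subgroup G) = 9 from hSc] at this
  -- Sylow normalizer in H
  have hNdvd : Nat.card (normalizer ((P : Subgroup G) : Set G) ⊓ H : Subgroup G) ∣ 66 := by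
    have h1 := Subgroup.card_dvd_of_le (inf_le_left : normalizer ((P : Subgroup G) : Set G) ⊓ H ≤ _)
    have h2 := hL.card_normalizer
    have h3 : Nat.card (normalizer ((P : Subgroup G) : Set G)) = 11 * e * Nat.card K := h2
    rw [h3] at h1
    have he2 : e = 2 := by
      have h4 : e ∣ 10 := hL.dvd_pred
      have h5 := hL.one_lt
      rw [hek, h] at hcard
      rcases hn with hn | hn
      · rw [hn] at hcard
        have : e = 13 := by omega
        rw [this] at h4
        exact absurd h4 (by norm_num)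
      · rw [hn] at hcard
        omega
    rw [he2, hek] at h1
    exact h1
  have hN33 : 33 ∣ Nat.card (normalizer ((P : Subgroup G) : Set G) ⊓ H : Subgroup G) := by
    have h1 : (P : Subgroup G) ≤ normalizer ((P : Subgroup G) : Set G) ⊓ H :=
      le_inf Subgroup.le_normalizer hPH
    have h2 : K ≤ normalizer ((P : Subgroup G) : Set G) ⊓ H :=
      le_inf (hL.le_centralizer.trans (Subgroup.centralizer_le_normalizer _)) hKH
    have h3 := Subgroup.card_dvd_of_le h1
    have h4 := Subgroup.card_dvd_of_le h2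
    rw [show Nat.card (P : Subgroup G) = 11 from hP] at h3
    rw [hek] at h4
    exact (by norm_num : Nat.Coprime 11 3).mul_dvd_of_dvd_of_dvd h3 h4
  have hr := card_sylow_modEq_one 11 H
  have hrN : Nat.card (Sylow 11 H) * Nat.card (normalizer ((P : Subgroup G) : Set G) ⊓ H : Subgroup G) = Nat.card H := by
    rw [(P.subtype hPH).card_eq_index_normalizer]
    have h5 : normalizer (((P.subtype hPH : Sylow 11 H) : Subgroup H) : Set H) =
        (normalizer ((P : Subgroup G) : Set G)).subgroupOf H := by
      rw [subgroupOf_normalizer_eq hPH]; rfl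
    rw [← Subgroup.subgroupOf_map_subtype, ← h5]
    have h6 := Subgroup.card_mul_index (normalizer (((P.subtype hPH : Sylow 11 H) : Subgroup H) : Set H))
    have h8 := Nat.card_congr ((normalizer (((P.subtype hPH : Sylow 11 H) : Subgroup H) : Set H)).equivMapOfInjective
      H.subtype H.subtype_injective).toEquiv
    rw [← h8, mul_comm]
    exact h6
  have hHdvd : Nat.card H ∣ 5148 := by rw [← h]; exact H.card_subgroup_dvd_card
  have hHcard : Nat.card H = 396 ∨ Nat.card H = 2574 ∨ Nat.card H = 5148 := by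
    have key : ∀ n ∈ Nat.divisors 5148, 9 ∣ n → ∀ y ∈ Nat.divisors 66, 33 ∣ y → y ∣ n → (n / y) % 11 = 1 →
      n = 396 ∨ n = 2574 ∨ n = 5148 := by decide +kernel
    refine key _ (Nat.mem_divisors.2 ⟨hHdvd, by norm_num⟩) h9 _ (Nat.mem_divisors.2 ⟨hNdvd, by norm_num⟩) hN33 ?_ ?_
    · exact Dvd.intro_left _ hrN
    · rw [← hrN, Nat.mul_div_cancel _ Nat.card_pos]
      exact hr
  have hKbot : K ≠ ⊥ := by
    intro h1
    rw [h1, Subgroup.card_bot] at hek
    omega
  have hHtop : H ≠ ⊤ := by
    intro htop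
    have hKn : K.Normal := by
      refine ⟨fun x hx g => ?_⟩
      have h1 : g ∈ H := htop ▸ Subgroup.mem_top g
      rw [hH, mem_centralizer_iff] at h1
      rw [← h1 x hx, mul_inv_cancel_right]
      exact hx
    rcases IsSimpleGroup.eq_bot_or_eq_top_of_normal K hKn with h1 | h1
    · exact hKbot h1
    · rw [h1, Subgroup.card_top, h] at hek
      omega
  have hidx5 := Embed.five_le_index hG H hHtop
  have hHidx := H.card_mul_index
  have h13 : H.index = 13 := by
    rw [h] at hHidx
    rcases hHcard with h1 | h1 | h1 <;> rw [h1] at hHidx <;> omega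
  -- an element of order 33 acting on 13 points
  obtain ⟨x, hx⟩ : ∃ x : G, x ∈ (P : Subgroup G) ∧ orderOf x = 11 := by
    obtain ⟨x, hx⟩ := exists_prime_orderOf_dvd_card' (G := P) 11 (by rw [hP])
    exact ⟨x, x.2, by rw [Subgroup.orderOf_coe, hx]⟩
  obtain ⟨d, hd⟩ : ∃ x : G, x ∈ K ∧ orderOf x = 3 := by
    obtain ⟨x, hx⟩ := exists_prime_orderOf_dvd_card' (G := K) 3 (by rw [hek])
    exact ⟨x, x.2, by rw [Subgroup.orderOf_coe, hx]⟩
  have hcomm : Commute d x := hL.comm d hd.1 x hx.1
  have hord : orderOf (d * x) = 33 := by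
    rw [hcomm.orderOf_mul_eq_mul_orderOf_of_coprime (by rw [hx.2, hd.2]; norm_num), hx.2, hd.2]
  have : Fintype (G ⧸ H) := Fintype.ofFinite _
  have hinj : Function.Injective (MulAction.toPermHom G (G ⧸ H)) := by
    rw [injective_iff_map_eq_one]
    intro g hg
    apply faithful_quotient H hHtop g
    intro ω
    have := congrArg (fun σ : Equiv.Perm (G ⧸ H) => σ ω) hg
    exact this
  have hord' : orderOf (MulAction.toPermHom G (G ⧸ H) (d * x)) = 33 := by
    rw [orderOf_injective _ hinj, hord]
  have hc := le_card_of_dvd_orderOf (MulAction.toPermHom G (G ⧸ H) (d * x)) (p := 11) (q := 3)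
    (by norm_num) (by norm_num) (by norm_num) (by rw [hord']; norm_num) (by rw [hord']; norm_num)
  have hcc : Fintype.card (G ⧸ H) = 13 := by
    rw [← Nat.card_eq_fintype_card, ← h13]; rfl
  rw [hcc] at hc
  omega

end Cfsg.Agent.SmallSimple.Order5148
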