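import Mathlib
import Cfsg.Agent.SmallSimple.FiveSq

set_option autoImplicit false

namespace Cfsg.Agent.SmallSimple.Order5400

open Subgroup Cfsg.Agent.SmallSimple.FiveSq MulAction

/-- There is no simple group of order 5400. -/
theorem not_simple_5400 {G : Type*} [Group G] [Finite G] [IsSimpleGroup G] (h : Nat.card G = 5400) : False := by
  classical
  have hG : ¬ IsMulCommutative G := Embed.not_comm_of_card_not_prime (by rw [h]; norm_num)
  have hm : Nat.card G = 216 * 5 ^ 2 := by rw [h]; norm_num
  have hcard : ∀ Q : Sylow 5 G, Nat.card Q = 5 ^ 2 := fun Q => PSqQR.card_sylow_of_card_eq hm (by norm_num) Q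
  have hcomm : ∀ Q : Sylow 5 G, IsMulCommutative Q := fun Q =>
    IsPGroup.isMulCommutative_of_card_eq_prime_sq (hcard Q)
  have hidxP : ∀ Q : Sylow 5 G, Nat.card (Sylow 5 G) = (normalizer ((Q : Subgroup G) : Set G)).index :=
    fun Q => Q.card_eq_index_normalizer
  -- number of Sylow 5-subgroups
  have hn : Nat.card (Sylow 5 G) = 36 := by
    have h1 : Nat.card (Sylow 5 G) ∣ 216 := PSqQR.card_sylow_dvd_of_card_eq hm (by norm_num)
    have h2 := card_sylow_modEq_one 5 G
    have h3 := Embed.five_le_card_sylow hG (p := 5) (by rw [h]; norm_num)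
    have h4 := Embed.two_mul_card_dvd_factorial_card_sylow hG (p := 5) (by rw [h]; norm_num)
    have h5 : ∀ n ∈ Nat.divisors 216, n % 5 = 1 → 5 ≤ n → n = 6 ∨ n = 36 ∨ n = 216 := by decide
    rcases h5 _ (Nat.mem_divisors.2 ⟨h1, by norm_num⟩) h2 h3 with h6 | h6 | h6
    · exfalso
      rw [h6, h] at h4
      have : Nat.factorial 6 = 720 := rfl
      rw [this] at h4
      omega
    · exact h6
    · exfalso
      let P : Sylow 5 G := default
      have h7 := hidxP P
      rw [h6] at h7
      have h8 := (normalizer ((P : Subgroup G) : Set G)).card_mul_index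
      rw [← h7, h] at h8
      have h9 : normalizer ((P : Subgroup G) : Set G) = P := by
        symm
        apply Subgroup.eq_of_le_of_card_ge le_normalizer
        rw [hcard P]; omega
      have hPne : ∃ z ∈ P, z ≠ 1 := by
        by_contra hcon
        push Not at hcon
        have h10 : (P : Subgroup G) = ⊥ := (Subgroup.eq_bot_iff_forall _).2 hcon
        have h11 := hcard P
        rw [h10, Subgroup.card_bot] at h11
        omega
      obtain ⟨z, hz, hz1⟩ := hPne
      apply hz1
      have := hcomm P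
      apply eq_one_of_normalizer_le hG P hz
      intro n hn'
      rw [h9] at hn'
      exact congrArg Subtype.val ((hcomm P).is_comm.comm ⟨n, hn'⟩ ⟨z, hz⟩)
  obtain ⟨R, hPR, hD5, hPC, hRC, hC⟩ := exists_config hG (by rw [h]; norm_num) hm (by norm_num)
    (by decide) (by rw [hn]; decide) (default : Sylow 5 G)
  set P : Sylow 5 G := default with hP
  set D : Subgroup G := (P : Subgroup G) ⊓ R with hD
  set C : Subgroup G := centralizer (D : Set G) with hCdef
  have hCi : C.index = 18 := by
    have := C.card_mul_index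
    rw [hC, h] at this; omega
  -- `C` is maximal
  have hCmax : IsCoatom C := by
    refine ⟨?_, fun K hK => ?_⟩
    · intro htop
      rw [htop, Subgroup.index_top] at hCi
      omega
    · by_contra hKt
      have h15 := IndexJordan.three_mul_le_index hG (by rw [h]; norm_num) 5 (le_refl 5) (by rw [h]; norm_num) _ hKt
      have h1 := Subgroup.index_dvd_of_le hK.le
      rw [hCi] at h1
      have h2 : ∀ n ∈ Nat.divisors 18, 3 * 5 ≤ n → n = 18 := by decide
      have h3 := h2 _ (Nat.mem_divisors.2 ⟨h1, by norm_num⟩) h15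
      apply hK.ne
      apply Subgroup.eq_of_le_of_card_ge hK.le
      have h4 := K.card_mul_index
      rw [h3, h] at h4
      rw [hC]; omega
  have hCnotnormal : ¬ C.Normal := by
    intro hn'
    rcases IsSimpleGroup.eq_bot_or_eq_top_of_normal C hn' with h1 | h1
    · rw [h1, Subgroup.card_bot] at hC; omega
    · exact hCmax.1 h1
  have hCN : normalizer (C : Set G) = C := by
    by_contra hne
    have h1 : C < normalizer (C : Set G) := lt_of_le_of_ne le_normalizer (Ne.symm hne)
    exact hCnotnormal (normalizer_eq_top_iff.1 (hCmax.2 _ h1))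
  let X := G ⧸ C
  have hX : Nat.card X = 18 := hCi
  have : Fintype X := Fintype.ofFinite X
  have hXf : Fintype.card X = 18 := by rw [← hX, Nat.card_eq_fintype_card]
  let x0 : X := ((1 : G) : G ⧸ C)
  -- a point fixed by all of `C` is the base point
  have hfixC : ∀ x : X, (∀ c ∈ C, c • x = x) → x = x0 := by
    intro x
    induction x using QuotientGroup.induction_on with
    | H g =>
      intro hg
      have h1 : ∀ c ∈ C, g⁻¹ * c * g ∈ C := by
        intro c hc
        have h2 := hg c hc
        have h3 : ((c * g : G) : G ⧸ C) = (g : G ⧸ C) := h2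
        rw [QuotientGroup.eq] at h3
        have h4 := inv_mem h3
        have h5 : ((c * g)⁻¹ * g)⁻¹ = g⁻¹ * c * g := by group
        rwa [h5] at h4
      have h2 : g⁻¹ ∈ normalizer (C : Set G) := by
        apply mem_normalizer_fintype
        intro n hn'
        rw [inv_inv]
        exact h1 n hn'
      rw [hCN] at h2
      exact (QuotientGroup.eq.2 (by simpa using h2 : g⁻¹ * 1 ∈ C))
  -- two distinct Sylow subgroups of `C` have only the base point as common fixed point
  have hfix2 : ∀ Q Q' : Sylow 5 G, Q ≠ Q' → (Q : Subgroup G) ≤ C → (Q' : Subgroup G) ≤ C →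
      ∀ x : X, (∀ q ∈ Q, q • x = x) → (∀ q ∈ Q', q • x = x) → x = x0 := by
    intro Q Q' hQQ hQ hQ' x hx hx'
    apply hfixC
    let I : Subgroup G := C ⊓ stabilizer G x
    have hQI : (Q : Subgroup G) ≤ I := le_inf hQ (fun q hq => hx q hq)
    have hQI' : (Q' : Subgroup G) ≤ I := le_inf hQ' (fun q hq => hx' q hq)
    have h150 := card_ne_150 hQQ hQI hQI'
    have hs1 := card_sylow_ne_one_of_le hQQ hQI hQI'
    obtain ⟨t, ht⟩ : 5 ^ 2 ∣ Nat.card I := by
      rw [← hcard Q]; exact Subgroup.card_dvd_of_le hQI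
    have ht12 : t ∣ 12 := by
      have h1 : Nat.card I ∣ 300 := by rw [← hC]; exact Subgroup.card_dvd_of_le inf_le_left
      rw [ht] at h1
      exact (Nat.mul_dvd_mul_iff_left (by norm_num : 0 < 5 ^ 2)).1 h1
    have ht5 : ¬ 5 ∣ t := fun h5 => absurd (h5.trans ht12) (by norm_num)
    have ht0 : t ≠ 0 := by rintro rfl; exact ht5 (dvd_zero 5)
    have hs2 : Nat.card (Sylow 5 I) ∣ t :=
      PSqQR.card_sylow_dvd_of_card_eq (k := 2) (by rw [ht, mul_comm]) ht5
    have hs3 := card_sylow_modEq_one 5 I
    have h6 : ∀ t ∈ Nat.divisors 12, (∃ s ∈ Nat.divisors t, s % 5 = 1 ∧ s ≠ 1) → t = 6 ∨ t = 12 := by decide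
    have hI : Nat.card I = 300 := by
      rcases h6 t (Nat.mem_divisors.2 ⟨ht12, by norm_num⟩) ⟨_, Nat.mem_divisors.2 ⟨hs2, ht0⟩, hs3, hs1⟩ with h7 | h7
      · exfalso
        apply h150
        rw [ht, h7]; norm_num
      · rw [ht, h7]; norm_num
    have hIC : I = C := Subgroup.eq_of_le_of_card_ge inf_le_left (by rw [hC, hI])
    intro c hc
    have : c ∈ I := hIC ▸ hc
    exact (Subgroup.mem_inf.1 this).2
  -- Sylow subgroups of `C`
  have hn6 : Nat.card (Sylow 5 C) = 6 := by
    have h1 : Nat.card (Sylow 5 C) ≠ 1 := card_sylow_ne_one_of_le hPR hPC hRC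
    have h2 : Nat.card (Sylow 5 C) ∣ 12 :=
      PSqQR.card_sylow_dvd_of_card_eq (k := 2) (by rw [hC]; norm_num) (by norm_num)
    have h3 := card_sylow_modEq_one 5 C
    have : ∀ n ∈ Nat.divisors 12, n % 5 = 1 → n ≠ 1 → n = 6 := by decide
    exact this _ (Nat.mem_divisors.2 ⟨h2, by norm_num⟩) h3 h1
  have : Fintype (Sylow 5 C) := Fintype.ofFinite _
  -- lifting Sylow subgroups of `C` to Sylow subgroups of `G`
  have hlift : ∀ Q : Sylow 5 C, ∃ Q' : Sylow 5 G, (Q' : Subgroup G) = (Q : Subgroup C).map C.subtype := by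
    intro Q
    have h1 : Nat.card Q = 5 ^ 2 := PSqQR.card_sylow_of_card_eq (m := 12) (by rw [hC]; norm_num) (by norm_num) Q
    have h2 : Nat.card ((Q : Subgroup C).map C.subtype) = 5 ^ 2 := by
      rw [← h1]
      exact (Nat.card_congr ((Q : Subgroup C).equivMapOfInjective _ C.subtype_injective).toEquiv).symm
    have h3 : (Nat.card G).factorization 5 = 2 := by
      have h4 := P.card_eq_multiplicity
      rw [hcard P] at h4
      exact (Nat.pow_right_injective (by norm_num : 2 ≤ 5) h4).symm
    exact ⟨Sylow.ofCard _ (by rw [h3]; exact h2), rfl⟩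
  choose L hL using hlift
  have hLC : ∀ Q, (L Q : Subgroup G) ≤ C := fun Q => by rw [hL]; exact Subgroup.map_subtype_le _
  have hLinj : Function.Injective L := by
    intro Q Q' hQQ
    have h1 : (Q : Subgroup C).map C.subtype = (Q' : Subgroup C).map C.subtype := by
      rw [← hL, ← hL, hQQ]
    exact Sylow.ext (Subgroup.map_injective C.subtype_injective h1)
  let A : Sylow 5 C → Finset X := fun Q => Finset.univ.filter (fun x => x ≠ x0 ∧ ∀ q ∈ L Q, q • x = x)
  have hA2 : ∀ Q, 2 ≤ (A Q).card := by
    intro Q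
    have h1 := (L Q).isPGroup'.card_modEq_card_fixedPoints X
    rw [hX] at h1
    have h2 : (A Q) = (Finset.univ.filter (fun x : X => ∀ q ∈ L Q, q • x = x)).erase x0 := by
      ext x
      simp [A]
    have h3 : Nat.card (fixedPoints (L Q) X) = (Finset.univ.filter (fun x : X => ∀ q ∈ L Q, q • x = x)).card := by
      rw [← Set.ncard_coe_finset, ← Nat.card_coe_set_eq]
      apply Nat.card_congr
      apply Equiv.setCongr
      ext x
      simp only [mem_fixedPoints, Finset.coe_filter, Finset.mem_univ, true_and, Set.mem_ofPred_eq]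
      exact ⟨fun hx q hq => hx ⟨q, hq⟩, fun hx q => hx q.1 q.2⟩
    have h4 : x0 ∈ Finset.univ.filter (fun x : X => ∀ q ∈ L Q, q • x = x) := by
      rw [Finset.mem_filter]
      refine ⟨Finset.mem_univ _, fun q hq => ?_⟩
      show ((q * 1 : G) : G ⧸ C) = ((1 : G) : G ⧸ C)
      rw [QuotientGroup.eq]
      simpa using hLC Q hq
    rw [h2, Finset.card_erase_of_mem h4, ← h3]
    rw [Nat.ModEq] at h1
    omega
  have hdisj : ∀ Q ∈ (Finset.univ : Finset (Sylow 5 C)), ∀ Q' ∈ (Finset.univ : Finset (Sylow 5 C)), Q ≠ Q' →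
      Disjoint (A Q) (A Q') := by
    intro Q _ Q' _ hQQ
    rw [Finset.disjoint_left]
    intro x hx hx'
    simp only [A, Finset.mem_filter, Finset.mem_univ, true_and] at hx hx'
    exact hx.1 (hfix2 (L Q) (L Q') (fun e => hQQ (hLinj e)) (hLC Q) (hLC Q') x hx.2 hx'.2)
  have hcardA : 12 ≤ ((Finset.univ : Finset (Sylow 5 C)).biUnion A).card := by
    rw [Finset.card_biUnion hdisj]
    calc 12 = ∑ _Q : Sylow 5 C, 2 := by
          rw [Finset.sum_const, Finset.card_univ, ← Nat.card_eq_fintype_card, hn6]; rfl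
      _ ≤ _ := Finset.sum_le_sum (fun Q _ => hA2 Q)
  -- an element of `D`
  have hDne : ∃ d ∈ D, d ≠ 1 := by
    by_contra hcon
    push Not at hcon
    have : D = ⊥ := (Subgroup.eq_bot_iff_forall D).2 hcon
    rw [this, Subgroup.card_bot] at hD5
    omega
  obtain ⟨d, hd, hd1⟩ := hDne
  have hd5 : orderOf d = 5 := by
    have h1 : orderOf d ∣ 5 := by
      have := orderOf_dvd_natCard (⟨d, hd⟩ : D)
      rwa [hD5, Subgroup.orderOf_mk] at this
    rcases (Nat.dvd_prime (by norm_num)).1 h1 with h2 | h2
    · exact absurd (orderOf_eq_one_iff.1 h2) hd1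
    · exact h2
  let f : G →* Equiv.Perm X := toPermHom G X
  have hf : Function.Injective f := IndexJordan.toPermHom_injective hCmax.1
  have hprim : IsPreprimitive G X := IndexJordan.isPreprimitive_quotient hCmax
  have hprim' : IsPreprimitive f.range X := IndexJordan.isPreprimitive_range G X
  -- `D ≤ L Q` for every `Q`, as `D` is central in `C`
  have hDL : ∀ Q : Sylow 5 C, d ∈ L Q := by
    intro Q
    have hDp : IsPGroup 5 D := IsPGroup.of_card (n := 1) (by rw [hD5, pow_one])
    have h1 : D ⊓ normalizer ((L Q : Subgroup G) : Set G) = D ⊓ (L Q : Subgroup G) :=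
      hDp.inf_normalizer_sylow (L Q)
    have h2 : D ≤ normalizer ((L Q : Subgroup G) : Set G) := by
      refine le_trans ?_ (Subgroup.centralizer_le_normalizer _)
      intro x hx
      rw [mem_centralizer_iff]
      intro y hy
      have h3 : y ∈ C := hLC Q hy
      rw [hCdef, mem_centralizer_iff] at h3
      exact (h3 x hx).symm
    have h3 : d ∈ D ⊓ normalizer ((L Q : Subgroup G) : Set G) := Subgroup.mem_inf.2 ⟨hd, h2 hd⟩
    rw [h1] at h3
    exact (Subgroup.mem_inf.1 h3).2
  have hfixd : 13 ≤ (Finset.univ.filter (fun x : X => d • x = x)).card := by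
    have h1 : insert x0 ((Finset.univ : Finset (Sylow 5 C)).biUnion A) ⊆
        Finset.univ.filter (fun x : X => d • x = x) := by
      intro x hx
      rw [Finset.mem_filter]
      refine ⟨Finset.mem_univ _, ?_⟩
      rw [Finset.mem_insert] at hx
      rcases hx with rfl | hx
      · show ((d * 1 : G) : G ⧸ C) = ((1 : G) : G ⧸ C)
        rw [QuotientGroup.eq]
        have hdC : d ∈ C := hPC (Subgroup.mem_inf.1 hd).1
        simpa using hdC
      · rw [Finset.mem_biUnion] at hx
        obtain ⟨Q, _, hx⟩ := hx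
        simp only [A, Finset.mem_filter, Finset.mem_univ, true_and] at hx
        exact hx.2 d (hDL Q)
    have h2 := Finset.card_le_card h1
    rw [Finset.card_insert_of_notMem] at h2
    · omega
    · intro hx
      rw [Finset.mem_biUnion] at hx
      obtain ⟨Q, _, hx⟩ := hx
      simp only [A, Finset.mem_filter, Finset.mem_univ, true_and] at hx
      exact hx.1 rfl
  have hsupp : (f d).support.card ≤ 5 := by
    have h1 : (f d).support = (Finset.univ.filter (fun x : X => d • x = x))ᶜ := by
      ext x
      simp [f]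
    rw [h1, Finset.card_compl, hXf]
    omega
  have hfd5 : orderOf (f d) = 5 := by rw [orderOf_injective f hf, hd5]
  have hcyc : (f d).IsCycle := Equiv.Perm.isCycle_of_prime_order (by rw [hfd5]; norm_num) (by rw [hfd5]; omega)
  have hsupp5 : (f d).support.card = 5 := by rw [← hcyc.orderOf, hfd5]
  have hJ := Cfsg.Agent.S0713.result f.range hprim' (p := 5) (by norm_num) (by rw [hXf]; norm_num)
    (by rw [hXf]; norm_num) hcyc hsupp5 ⟨d, rfl⟩
  have hcardle := Subgroup.card_le_of_le hJ
  have h4 : Nat.card f.range = Nat.card G := (Nat.card_congr (MonoidHom.ofInjective hf).toEquiv).symm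
  rw [h4, h] at hcardle
  have : Nontrivial X := by
    rw [← Fintype.one_lt_card_iff_nontrivial, hXf]; omega
  have h5 : 2 * Nat.card (alternatingGroup X) = Nat.card (Equiv.Perm X) := two_mul_nat_card_alternatingGroup
  rw [Nat.card_perm, hX] at h5
  have h6 : Nat.factorial 8 ≤ Nat.factorial 18 := Nat.factorial_le (by norm_num)
  have h7 : Nat.factorial 8 = 40320 := by decide
  omega

end Cfsg.Agent.SmallSimple.Order5400
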