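import Mathlib
import Cfsg.Agent.SmallSimple.SieveTools
import Cfsg.Agent.SmallSimple.RelSylow
import Cfsg.Agent.SmallSimple.ElementCount
import Cfsg.Agent.SmallSimple.InvolFour

/-!
# There is no simple group of order 5460
-/

set_option autoImplicit false
set_option linter.unusedSectionVars false

namespace Cfsg.Agent.SmallSimple.Order5460

open Subgroup Cfsg.Agent.SmallSimple.PrimeLocal

variable {G : Type*} [Group G] [Finite G]

/-- `n_p` divides `m` and is `1` mod `p`. -/
theorem card_sylow_mem {p m : ℕ} [hp : Fact p.Prime] (h : Nat.card G = p * m) (hm : ¬ p ∣ m)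
    (P : Sylow p G) :
    Nat.card P = p ∧ Nat.card (Sylow p G) ∣ m ∧ Nat.card (Sylow p G) % p = 1 := by
  have h1 : Nat.card G = m * p ^ 1 := by rw [h, pow_one, mul_comm]
  refine ⟨?_, ?_, ?_⟩
  · have := SylowPrimeInvol.card_sylow_of_card_eq P (k := 1) (m := m) (by rw [h, pow_one]) hm
    rwa [pow_one] at this
  · exact SylowPrimeInvol.card_sylow_dvd_of_card_eq P (k := 1) (m := m) (by rw [h, pow_one]) hm
  · have := card_sylow_modEq_one p G
    rw [Nat.ModEq, Nat.mod_eq_of_lt hp.out.one_lt] at this
    exact this

theorem not_simple_5460 {G : Type*} [Group G] [Finite G] [IsSimpleGroup G]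
    (h : Nat.card G = 5460) : False := by
  classical
  have hG : ¬ IsMulCommutative G := Embed.not_comm_of_card_not_prime (by rw [h]; norm_num)
  have f2 : Fact (Nat.Prime 2) := ⟨by norm_num⟩
  have f5 : Fact (Nat.Prime 5) := ⟨by norm_num⟩
  have f7 : Fact (Nat.Prime 7) := ⟨by norm_num⟩
  have f13 : Fact (Nat.Prime 13) := ⟨by norm_num⟩
  -- p = 13
  have k13 : ∀ P : Sylow 13 G, Nat.card (Sylow 13 G) = 105 ∧
      ∃ K, IsLocal 13 P 2 K ∧ Nat.card K = 2 := by
    intro P
    obtain ⟨hP, hn1, hn2⟩ := card_sylow_mem (p := 13) (m := 420) (by rw [h]) (by norm_num) P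
    obtain ⟨e, K, hL⟩ := exists_local hG (p := 13) (by rw [h]; norm_num) (by rw [h]; norm_num) P
    have hc : ∀ n ∈ Nat.divisors 420, n % 13 = 1 → n = 1 ∨ n = 14 ∨ n = 105 := by decide +kernel
    have hcard := hL.card_eq
    rw [h] at hcard
    have he := hL.dvd_pred
    have he1 := hL.one_lt
    rcases hc _ (Nat.mem_divisors.2 ⟨hn1, by norm_num⟩) hn2 with h1 | h1 | h1
    · exact absurd h1 (by
        have := Embed.five_le_card_sylow hG (p := 13) (by rw [h]; norm_num)
        omega)
    · exfalso
      have h2 := hL.dvd_of_card_sylow_succ hG (by norm_num) hP (by rw [h1])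
      rw [h1] at hcard
      have h3 : e * Nat.card K = 30 := by
        have : 14 * (13 * e * Nat.card K) = 182 * (e * Nat.card K) := by ring
        omega
      rw [h3] at h2
      norm_num at h2
    · refine ⟨h1, ?_⟩
      rw [h1] at hcard
      have h3 : e * Nat.card K = 4 := by
        have : 105 * (13 * e * Nat.card K) = 1365 * (e * Nat.card K) := by ring
        omega
      have h4 : e ∣ 4 := ⟨_, h3.symm⟩
      have h5 : e ≤ 4 := Nat.le_of_dvd (by norm_num) h4
      have h6 : e = 2 ∨ e = 4 := by interval_cases e <;> simp_all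
      rcases h6 with h6 | h6
      · subst h6
        exact ⟨K, hL, by omega⟩
      · exfalso
        have h7 : Nat.card K = 1 := by rw [h6] at h3; omega
        apply SieveTools.IsLocal.not_odd hG hP hL (by rw [h6]; norm_num)
        rw [h1, h7]; norm_num
  have hP13 : ∀ P : Sylow 13 G, Nat.card P = 13 := fun P =>
    (card_sylow_mem (p := 13) (m := 420) (by rw [h]) (by norm_num) P).1
  -- subgroups of index 26 and 6
  have hno26 : ∀ H : Subgroup G, H.index ≠ 26 := by
    intro H hH
    obtain ⟨K, hK, hK2⟩ := (k13 default).2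
    have hHtop : H ≠ ⊤ := by
      rintro rfl
      rw [Subgroup.index_top] at hH; omega
    have hHc : Nat.card H = 210 := by
      have := H.card_mul_index
      rw [hH, h] at this; omega
    have := hK.dvd_of_index hG (by norm_num) (hP13 _) H hHtop (by rw [hHc]; norm_num)
      (m := 26) (o := 2) hH (by norm_num)
    rw [hK2] at this
    simp [Nat.factorial] at this
  -- p = 5
  have k5 : ∀ P : Sylow 5 G, (Nat.card (Sylow 5 G) = 91 ∧
      ∃ K, IsLocal 5 P 2 K ∧ Nat.card K = 6) ∨ (Nat.card (Sylow 5 G) = 546 ∧
      ∃ K, IsLocal 5 P 2 K ∧ Nat.card K = 1) := by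
    intro P
    obtain ⟨hP, hn1, hn2⟩ := card_sylow_mem (p := 5) (m := 1092) (by rw [h]) (by norm_num) P
    obtain ⟨e, K, hL⟩ := exists_local hG (p := 5) (by rw [h]; norm_num) (by rw [h]; norm_num) P
    have hc : ∀ n ∈ Nat.divisors 1092, n % 5 = 1 → n = 1 ∨ n = 6 ∨ n = 21 ∨ n = 26 ∨ n = 91 ∨
      n = 156 ∨ n = 546 := by decide +kernel
    have hcard := hL.card_eq
    rw [h] at hcard
    have he := hL.dvd_pred
    have he1 := hL.one_lt
    have he4 : e ≤ 4 := Nat.le_of_dvd (by norm_num) he
    have he2 : e = 2 ∨ e = 4 := by interval_cases e <;> simp_all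
    obtain ⟨o, ho1, ho2⟩ := hL.card_sylow hG (by norm_num) hP
    rcases hc _ (Nat.mem_divisors.2 ⟨hn1, by norm_num⟩) hn2 with h1 | h1 | h1 | h1 | h1 | h1 | h1
    · have := Embed.five_le_card_sylow hG (p := 5) (by rw [h]; norm_num)
      omega
    · exfalso
      have h2 := hL.dvd_of_card_sylow_succ hG (by norm_num) hP (by rw [h1])
      rw [h1] at hcard
      have h3 : e * Nat.card K = 182 := by
        have : 6 * (5 * e * Nat.card K) = 30 * (e * Nat.card K) := by ring
        omega
      rw [h3] at h2
      norm_num at h2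
    · exfalso
      rw [h1] at hcard ho1
      have ho : o = 4 := by omega
      rw [ho] at ho2
      rcases he2 with h2 | h2 <;> rw [h2] at hcard
      · have h3 : Nat.card K = 26 := by omega
        rw [h3] at ho2
        simp [Nat.factorial] at ho2
      · have h3 : Nat.card K = 13 := by omega
        rw [h3] at ho2
        simp [Nat.factorial] at ho2
    · exfalso
      rw [h1] at hcard ho1
      have ho : o = 5 := by omega
      rw [ho] at ho2
      rcases he2 with h2 | h2 <;> rw [h2] at hcard
      · have h3 : Nat.card K = 21 := by omega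
        rw [h3] at ho2
        simp [Nat.factorial] at ho2
      · omega
    · left
      refine ⟨h1, ?_⟩
      rw [h1] at hcard
      rcases he2 with h2 | h2
      · subst h2
        exact ⟨K, hL, by omega⟩
      · exfalso
        have h7 : Nat.card K = 3 := by rw [h2] at hcard; omega
        apply SieveTools.IsLocal.not_odd hG hP hL (by rw [h2]; norm_num)
        rw [h1, h7]; norm_num
    · exfalso
      rw [h1] at hcard
      rcases he2 with h2 | h2 <;> rw [h2] at hcard <;> omega
    · right
      refine ⟨h1, ?_⟩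
      rw [h1] at hcard
      rcases he2 with h2 | h2
      · subst h2
        exact ⟨K, hL, by omega⟩
      · rw [h2] at hcard
        omega
  have hP5 : ∀ P : Sylow 5 G, Nat.card P = 5 := fun P =>
    (card_sylow_mem (p := 5) (m := 1092) (by rw [h]) (by norm_num) P).1
  -- p = 7
  have k7 : ∀ P : Sylow 7 G, Nat.card (Sylow 7 G) = 260 ∧
      ∃ K, IsLocal 7 P 3 K ∧ Nat.card K = 1 := by
    intro P
    obtain ⟨hP, hn1, hn2⟩ := card_sylow_mem (p := 7) (m := 780) (by rw [h]) (by norm_num) P
    obtain ⟨e, K, hL⟩ := exists_local hG (p := 7) (by rw [h]; norm_num) (by rw [h]; norm_num) P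
    have hc : ∀ n ∈ Nat.divisors 780, n % 7 = 1 → n = 1 ∨ n = 15 ∨ n = 78 ∨ n = 260 := by
      decide +kernel
    have hcard := hL.card_eq
    rw [h] at hcard
    have he := hL.dvd_pred
    have he1 := hL.one_lt
    have he6 : e ≤ 6 := Nat.le_of_dvd (by norm_num) he
    have he2 : e = 2 ∨ e = 3 ∨ e = 6 := by interval_cases e <;> simp_all
    obtain ⟨o, ho1, ho2⟩ := hL.card_sylow hG (by norm_num) hP
    rcases hc _ (Nat.mem_divisors.2 ⟨hn1, by norm_num⟩) hn2 with h1 | h1 | h1 | h1
    · have := Embed.five_le_card_sylow hG (p := 7) (by rw [h]; norm_num)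
      omega
    · exfalso
      rw [h1] at hcard ho1
      have ho : o = 2 := by omega
      rw [ho] at ho2
      rcases he2 with h2 | h2 | h2 <;> rw [h2] at hcard
      · have h3 : Nat.card K = 26 := by omega
        rw [h3] at ho2
        simp [Nat.factorial] at ho2
      · omega
      · omega
    · exfalso
      rw [h1] at hcard
      have h3 : e = 2 ∧ Nat.card K = 5 := by
        rcases he2 with h2 | h2 | h2 <;> rw [h2] at hcard <;> omega
      -- `K` is a Sylow `5`-subgroup
      let Q : Sylow 5 G := Sylow.ofCard K (by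
        have h4 := (default : Sylow 5 G).card_eq_multiplicity
        rw [hP5] at h4
        rw [h3.2, ← h4])
      have hQ : (Q : Subgroup G) = K := rfl
      have h4 := hL.normalizer_le
      have h5 : (normalizer (Q : Set G)).index ∣ (normalizer (P : Set G)).index :=
        Subgroup.index_dvd_of_le h4
      rw [← P.card_eq_index_normalizer, ← Q.card_eq_index_normalizer, h1] at h5
      rcases k5 Q with ⟨h6, _⟩ | ⟨h6, _⟩ <;> rw [h6] at h5 <;> norm_num at h5
    · refine ⟨h1, ?_⟩
      rw [h1] at hcard
      rcases he2 with h2 | h2 | h2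
      · rw [h2] at hcard; omega
      · subst h2
        exact ⟨K, hL, by omega⟩
      · rw [h2] at hcard; omega
  have hP7 : ∀ P : Sylow 7 G, Nat.card P = 7 := fun P =>
    (card_sylow_mem (p := 7) (m := 780) (by rw [h]) (by norm_num) P).1
  -- the centralizer of an involution has order 52
  obtain ⟨u, hu, huC⟩ : ∃ u : G, orderOf u = 2 ∧ Nat.card (centralizer ({u} : Set G)) = 52 := by
    let P : Sylow 13 G := default
    obtain ⟨h1, K, hK, hK2⟩ := k13 P
    obtain ⟨u, hu⟩ := exists_prime_orderOf_dvd_card' (G := K) 2 (by rw [hK2])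
    have hu' : orderOf (u : G) = 2 := by rw [orderOf_coe, hu]
    refine ⟨u, hu', ?_⟩
    set C := centralizer ({(u : G)} : Set G) with hC
    have hKu : K = zpowers (u : G) := by
      symm
      apply Subgroup.eq_of_le_of_card_ge
      · rw [zpowers_le]; exact u.2
      · rw [hK2, Nat.card_zpowers, hu']
    have hNC : normalizer (P : Set G) ≤ C := by
      intro n hn
      have h2 := hK.normalizer_le hn
      rw [hC, mem_centralizer_singleton_iff]
      have h3 : n * u * n⁻¹ ∈ K := (mem_normalizer_iff.1 h2 _).1 u.2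
      have h4 : n * u * n⁻¹ ≠ 1 := by
        intro h4
        have h5 : (u : G) = n⁻¹ * (n * u * n⁻¹) * n := by group
        rw [h4] at h5
        have h6 : (u : G) = 1 := by rw [h5]; group
        rw [h6, orderOf_one] at hu'
        omega
      have h5 : ∀ y ∈ K, y ≠ 1 → y = u := by
        intro y hy hy1
        have h6 : Nat.card K = 2 := hK2
        have h7 : (⟨y, hy⟩ : K) ≠ 1 := fun h => hy1 (congrArg Subtype.val h)
        have h8 : u ≠ 1 := by
          rintro rfl
          rw [orderOf_one] at hu; omega
        have h9 := (Nat.card_eq_two_iff' (1 : K)).1 hK2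
        have : (⟨y, hy⟩ : K) = u := h9.unique h7 h8
        exact congrArg Subtype.val this
      have h6 := h5 _ h3 h4
      calc n * u = (n * u * n⁻¹) * n := by group
        _ = u * n := by rw [h6]
    have hPC : (P : Subgroup G) ≤ C := le_trans le_normalizer hNC
    have h2 := RelSylow.card_sylow_eq_relIndex P C hPC
    have h3 := RelSylow.relIndex_modEq_one P C hPC
    have h4 := RelSylow.relIndex_mul_card_inf (normalizer ((P : Subgroup G) : Set G)) C
    have h5 : (C ⊓ normalizer ((P : Subgroup G) : Set G) : Subgroup G) =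
      normalizer ((P : Subgroup G) : Set G) := inf_eq_right.2 hNC
    have h6 : Nat.card (normalizer ((P : Subgroup G) : Set G)) = 52 := by
      have := hK.card_normalizer
      rw [hK2] at this
      exact this
    rw [h5, h6] at h4
    have h7 : Nat.card C ∣ 5460 := h ▸ Subgroup.card_subgroup_dvd_card C
    rw [← h4] at h7
    have h8 : (normalizer ((P : Subgroup G) : Set G)).relIndex C ∣ 105 := by
      have : (5460 : ℕ) = 105 * 52 := by norm_num
      rw [this] at h7
      exact Nat.dvd_of_mul_dvd_mul_right (by norm_num) h7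
    have h9 : ∀ n ∈ Nat.divisors 105, n % 13 = 1 → n = 1 ∨ n = 105 := by decide +kernel
    rcases h9 _ (Nat.mem_divisors.2 ⟨h8, by norm_num⟩) h3 with h10 | h10
    · rw [h10] at h4
      rw [← h4]
    · exfalso
      rw [h10] at h4
      have h11 : C = ⊤ := by
        apply Subgroup.eq_top_of_card_eq
        rw [← h4, h]
      have h12 : (u : G) ∈ center G := by
        rw [mem_center_iff]
        intro g
        have : g ∈ C := h11 ▸ Subgroup.mem_top g
        rw [hC, mem_centralizer_singleton_iff] at this
        exact this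
      rcases (inferInstance : (center G).Normal).eq_bot_or_eq_top with h13 | h13
      · rw [h13, Subgroup.mem_bot] at h12
        rw [h12, orderOf_one] at hu'
        omega
      · apply hG
        exact ⟨⟨fun a b => ((mem_center_iff.1 (h13 ▸ Subgroup.mem_top a : a ∈ center G)) b).symm⟩⟩
  have hinv : ∀ v : G, orderOf v = 2 → Nat.card (centralizer ({v} : Set G)) = 52 := by
    intro v hv
    obtain ⟨g, hg⟩ := InvolFour.isConj hG (by rw [h]; norm_num) hu hv
    rw [← hg, InvolFour.card_centralizer_conj, huC]
  -- hence `n_5 = 546`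
  have k5' : ∀ P : Sylow 5 G, Nat.card (Sylow 5 G) = 546 ∧
      ∃ K, IsLocal 5 P 2 K ∧ Nat.card K = 1 := by
    intro P
    rcases k5 P with ⟨h1, K, hK, hK6⟩ | h1
    · exfalso
      obtain ⟨v, hv⟩ := exists_prime_orderOf_dvd_card' (G := K) 2 (by rw [hK6]; norm_num)
      have hv' : orderOf (v : G) = 2 := by rw [orderOf_coe, hv]
      have h2 : (P : Subgroup G) ≤ centralizer ({(v : G)} : Set G) := by
        intro y hy
        rw [mem_centralizer_singleton_iff]
        exact (hK.comm _ v.2 y hy).symm
      have h3 := Subgroup.card_dvd_of_le h2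
      rw [hinv _ hv', hP5 P] at h3
      norm_num at h3
    · exact h1
  -- counting elements
  have c13 := ElementCount.card_le (G := G) (p := 13) (c := 2) hP13 (fun P => by
    obtain ⟨_, K, hK, hK2⟩ := k13 P
    rw [hK.card_centralizer, hK2])
  have c7 := ElementCount.card_le (G := G) (p := 7) (c := 1) hP7 (fun P => by
    obtain ⟨_, K, hK, hK2⟩ := k7 P
    rw [hK.card_centralizer, hK2])
  have c5 := ElementCount.card_le (G := G) (p := 5) (c := 1) hP5 (fun P => by
    obtain ⟨_, K, hK, hK2⟩ := k5' P
    rw [hK.card_centralizer, hK2])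
  rw [(k13 default).1] at c13
  rw [(k7 default).1] at c7
  rw [(k5' default).1] at c5
  have := ElementCount.three_le G 2 (13 * 2) 1 (7 * 1) 1 (5 * 1) (by norm_num) (by norm_num)
    (by norm_num)
  omega

end Cfsg.Agent.SmallSimple.Order5460
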