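import Mathlib
import Cfsg.Agent.SmallSimple.LocalData
import Cfsg.Agent.SmallSimple.IndexJordan

/-!
# Some orders between 3641 and 6232 which are not orders of simple groups
-/

set_option autoImplicit false

namespace Cfsg.Agent.SmallSimple.OrdersA

open Subgroup Cfsg.Agent.SmallSimple.PrimeLocal Cfsg.Agent.SmallSimple.Sieve
  Cfsg.Agent.SmallSimple.LocalData

variable {G : Type*} [Group G] [Finite G] [IsSimpleGroup G]

/-- Local data for a group of given order, in list form. -/
theorem data_cases {n : ℕ} (hn : Nat.card G = n) (hG : ¬ IsMulCommutative G) (p : ℕ)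
    (hp : p.Prime) (hp2 : p ≠ 2) (h1 : p ∣ n) (h2 : ¬ p ^ 2 ∣ n) (L : List (ℕ × ℕ × ℕ))
    (hL : candList n p = L) :
    ∃ d e k : ℕ, Data G p e k ∧ Nat.card (Sylow p G) = d ∧ (d, e, k) ∈ L := by
  subst hn
  obtain ⟨e, k, h3, h4⟩ := exists_data hG hp hp2 h1 h2
  exact ⟨_, e, k, h3, rfl, hL ▸ h4⟩

theorem syl_cases {n : ℕ} (hn : Nat.card G = n) (hG : ¬ IsMulCommutative G) (p a : ℕ)
    (hp : p.Prime) (ha : a ≠ 0) (h1 : p ^ a ∣ n) (h2 : ¬ p ^ (a + 1) ∣ n) (L : List ℕ)
    (hL : sylList n p a = L) : Nat.card (Sylow p G) ∈ L := by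
  subst hn
  exact hL ▸ mem_sylList hG hp ha h1 h2

theorem not_comm {n : ℕ} (hn : Nat.card G = n) (h : ¬ n.Prime) : ¬ IsMulCommutative G :=
  Embed.not_comm_of_card_not_prime (hn ▸ h)

theorem not_simple_3696 (h : Nat.card G = 3696) : False := by
  have hG := not_comm h (by norm_num)
  obtain ⟨d, e, k, h1, h2, h3⟩ := data_cases h hG 11 (by norm_num) (by norm_num) (by norm_num)
    (by norm_num) [(56, 2, 3)] (by decide +kernel)
  obtain ⟨d', e', k', h1', h2', h3'⟩ := data_cases h hG 3 (by norm_num) (by norm_num) (by norm_num)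
    (by norm_num) [(22, 2, 28), (88, 2, 7), (154, 2, 4), (616, 2, 1)] (by decide +kernel)
  simp only [List.mem_cons, Prod.mk.injEq, List.mem_nil_iff, or_false] at h3 h3'
  obtain ⟨rfl, rfl, rfl⟩ := h3
  have h4 := h1.dvd_of_dvd h1' (by norm_num) (by norm_num)
  rcases h3' with h | h | h | h <;> (obtain ⟨rfl, rfl, rfl⟩ := h; omega)

theorem not_simple_3780 (h : Nat.card G = 3780) : False := by
  have hG := not_comm h (by norm_num)
  obtain ⟨d, e, k, h1, h2, h3⟩ := data_cases h hG 7 (by norm_num) (by norm_num) (by norm_num)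
    (by norm_num) [(36, 3, 5)] (by decide +kernel)
  obtain ⟨d', e', k', h1', h2', h3'⟩ := data_cases h hG 5 (by norm_num) (by norm_num) (by norm_num)
    (by norm_num) [(126, 2, 3)] (by decide +kernel)
  simp only [List.mem_cons, Prod.mk.injEq, List.mem_nil_iff, or_false] at h3 h3'
  obtain ⟨rfl, rfl, rfl⟩ := h3
  obtain ⟨rfl, rfl, rfl⟩ := h3'
  have h4 := h1.dvd_of_dvd h1' (by norm_num) (by norm_num)
  omega

theorem not_simple_4400 (h : Nat.card G = 4400) : False := by
  have hG := not_comm h (by norm_num)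
  obtain ⟨d, e, k, h1, h2, h3⟩ := data_cases h hG 11 (by norm_num) (by norm_num) (by norm_num)
    (by norm_num) [(100, 2, 2)] (by decide +kernel)
  have h4 := syl_cases h hG 5 2 (by norm_num) (by norm_num) (by norm_num) (by norm_num) [11]
    (by decide +kernel)
  simp only [List.mem_cons, Prod.mk.injEq, List.mem_nil_iff, or_false] at h3 h4
  obtain ⟨rfl, rfl, rfl⟩ := h3
  have h5 := h1.dvd_of_card_sylow (q := 5) (o := 1) hG (by norm_num) (by norm_num)
    (by rw [h]; norm_num) (by rw [h4])
  rcases h5 with h5 | ⟨_, h5⟩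
  · norm_num [Nat.factorial] at h5
  · omega

theorem not_simple_4620 (h : Nat.card G = 4620) : False := by
  have hG := not_comm h (by norm_num)
  obtain ⟨d, e, k, h1, h2, h3⟩ := data_cases h hG 11 (by norm_num) (by norm_num) (by norm_num)
    (by norm_num) [(210, 2, 1)] (by decide +kernel)
  obtain ⟨d', e', k', h1', h2', h3'⟩ := data_cases h hG 7 (by norm_num) (by norm_num) (by norm_num)
    (by norm_num) [(330, 2, 1)] (by decide +kernel)
  obtain ⟨d'', e'', k'', h1'', h2'', h3''⟩ := data_cases h hG 5 (by norm_num) (by norm_num)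
    (by norm_num) (by norm_num) [(66, 2, 7), (231, 2, 2)] (by decide +kernel)
  simp only [List.mem_cons, Prod.mk.injEq, List.mem_nil_iff, or_false] at h3 h3' h3''
  obtain ⟨rfl, rfl, rfl⟩ := h3
  obtain ⟨rfl, rfl, rfl⟩ := h3'
  rcases h3'' with h3'' | h3''
  · obtain ⟨rfl, rfl, rfl⟩ := h3''
    have h4 := h1''.dvd_of_dvd h1' (by norm_num) (by norm_num)
    omega
  · obtain ⟨rfl, rfl, rfl⟩ := h3''
    have h5 := card_add_add_lt (G := G) 11 7 5 (by norm_num) (by norm_num) (by norm_num)
      (by norm_num) (by norm_num) (by norm_num)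
    rw [h1.card_orderOf_eq, h1'.card_orderOf_eq, h1''.card_orderOf_eq, h2, h2', h2'', h] at h5
    omega

theorem not_simple_5376 (h : Nat.card G = 5376) : False := by
  have hG := not_comm h (by norm_num)
  obtain ⟨d, e, k, h1, h2, h3⟩ := data_cases h hG 7 (by norm_num) (by norm_num) (by norm_num)
    (by norm_num) [(64, 2, 6), (64, 3, 4), (64, 6, 2)] (by decide +kernel)
  have h4 := syl_cases h hG 2 8 (by norm_num) (by norm_num) (by norm_num) (by norm_num) [21]
    (by decide +kernel)
  simp only [List.mem_cons, Prod.mk.injEq, List.mem_nil_iff, or_false] at h3 h4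
  have h5 := h1.dvd_of_card_sylow (q := 2) (o := 3) hG (by norm_num) (by norm_num)
    (by rw [h]; norm_num) (by rw [h4])
  rcases h5 with h5 | ⟨h5, _⟩
  · have h6 : (3 : ℕ).factorial = 6 := rfl
    rw [h6] at h5
    rcases h3 with h | h | h <;> (obtain ⟨rfl, rfl, rfl⟩ := h; omega)
  · omega

theorem not_simple_5600 (h : Nat.card G = 5600) : False := by
  have hG := not_comm h (by norm_num)
  have : Fact (Nat.Prime 5) := ⟨by norm_num⟩
  have h4 := syl_cases h hG 5 2 (by norm_num) (by norm_num) (by norm_num) (by norm_num) [16, 56]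
    (by decide +kernel)
  simp only [List.mem_cons, List.mem_nil_iff, or_false] at h4
  obtain ⟨P, Q, t, h5, h6, h7, h8, h9, h10, h11, h12, h13⟩ := exists_inter' hG (p := 5) (a := 2)
    (by norm_num) le_rfl (by rw [h]; norm_num) (by rw [h]; norm_num) (by
      rcases h4 with h4 | h4 <;> rw [h4] <;> decide)
  rw [h, show interList 5600 5 2 = [16] by decide +kernel, List.mem_singleton] at h13
  subst h13
  rw [h] at h12
  have h14 := IndexJordan.three_mul_le_index hG (by rw [h]; norm_num) 5 (by norm_num)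
    (by rw [h]; norm_num) _ h10
  omega

theorem not_simple_5880 (h : Nat.card G = 5880) : False := by
  have hG := not_comm h (by norm_num)
  have : Fact (Nat.Prime 7) := ⟨by norm_num⟩
  have h4 := syl_cases h hG 7 2 (by norm_num) (by norm_num) (by norm_num) (by norm_num) [15]
    (by decide +kernel)
  simp only [List.mem_cons, List.mem_nil_iff, or_false] at h4
  have h14 := IndexJordan.three_mul_le_index hG (by rw [h]; norm_num) 7 (by norm_num)
    (by rw [h]; norm_num) _
    (Embed.normalizer_sylow_ne_top hG (by rw [h]; norm_num) (default : Sylow 7 G))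
  have h15 := (default : Sylow 7 G).card_eq_index_normalizer
  rw [h4] at h15
  have h16 : (normalizer (((default : Sylow 7 G) : Subgroup G) : Set G)).index = 15 := h15.symm
  omega

theorem not_simple_5104 (h : Nat.card G = 5104) : False := by
  have hG := not_comm h (by norm_num)
  have : Fact (Nat.Prime 2) := ⟨Nat.prime_two⟩
  obtain ⟨d, e, k, h1, h2, h3⟩ := data_cases h hG 11 (by norm_num) (by norm_num) (by norm_num)
    (by norm_num) [(232, 2, 1)] (by decide +kernel)
  simp only [List.mem_cons, Prod.mk.injEq, List.mem_nil_iff, or_false] at h3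
  obtain ⟨rfl, rfl, rfl⟩ := h3
  -- no subgroup of order 176
  have key : ∀ M : Subgroup G, Nat.card M ≠ 176 := by
    intro M hM
    obtain ⟨r, y, h4, h5, h6, h7⟩ := h1.subgroup_count M (by rw [hM]; norm_num)
    rw [hM] at h4
    have h8 : y = 11 ∨ y = 22 := by
      obtain ⟨z, rfl⟩ := h6
      have h9 : z ∣ 2 := by
        have h10 : 11 * z ∣ 11 * 2 := h7
        exact Nat.dvd_of_mul_dvd_mul_left (by norm_num) h10
      rcases (Nat.dvd_prime Nat.prime_two).1 h9 with h10 | h10 <;> subst h10 <;> simp
    rcases h8 with rfl | rfl <;> omega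
  have h4 := syl_cases h hG 2 4 (by norm_num) (by norm_num) (by norm_num) (by norm_num) [29, 319]
    (by decide +kernel)
  simp only [List.mem_cons, List.mem_nil_iff, or_false] at h4
  rcases h4 with h4 | h4
  · apply key (normalizer ((default : Sylow 2 G) : Set G))
    have h5 := BurnsideNC.card_sylow_mul_card_normalizer (default : Sylow 2 G)
    rw [h4, h] at h5
    omega
  · obtain ⟨P, Q, t, h5, h6, h7, h8, h9, h10, h11, h12, h13⟩ := exists_inter' hG (p := 2) (a := 4)
      (by norm_num) (by norm_num) (by rw [h]; norm_num) (by rw [h]; norm_num) (by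
        rw [h4]; decide)
    rw [h, show interList 5104 2 4 = [11] by decide +kernel, List.mem_singleton] at h13
    subst h13
    exact key _ (h11.trans (by norm_num))

end Cfsg.Agent.SmallSimple.OrdersA
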