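import Mathlib
import Cfsg.Agent.SmallSimple.OrdersA
import Cfsg.Agent.SmallSimple.SylowMaxInter

/-!
# There is no simple group of order 5940
-/

set_option autoImplicit false
set_option linter.unusedSectionVars false

namespace Cfsg.Agent.SmallSimple.Order5940

open Subgroup Cfsg.Agent.SmallSimple.PrimeLocal Cfsg.Agent.SmallSimple.Sieve
  Cfsg.Agent.SmallSimple.LocalData Cfsg.Agent.SmallSimple.OrdersA

variable {G : Type*} [Group G] [Finite G]

/-- If `q ∣ k_p`, `q^2 ∤ k_p` and a group of order `k_p` has only one Sylow `q`-subgroup for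
numerical reasons, then `N(P)` normalizes a subgroup `L ≤ C(P)` of order `q`. -/
theorem exists_normalized {p e k q : ℕ} (h : Data G p e k) (P : Sylow p G) (hq : q.Prime)
    (hqk : q ∣ k) (hqk2 : ¬ q ^ 2 ∣ k) (huniq : ∀ r, r ∣ k / q → r % q = 1 → r = 1) :
    ∃ L : Subgroup G, Nat.card L = q ∧ L ≤ centralizer (P : Set G) ∧
      normalizer (P : Set G) ≤ normalizer (L : Set G) := by
  have : Fact p.Prime := ⟨h.prime⟩
  have hq : Fact q.Prime := ⟨hq⟩
  obtain ⟨K, hK, rfl⟩ := h.loc P
  let R : Sylow q K := default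
  have hRc : Nat.card R = q := card_of_not_sq_dvd hqk hqk2 R
  have hRc' : Nat.card (R : Subgroup K) = q := hRc
  have h1 : Nat.card (Sylow q K) ∣ Nat.card K / q := by
    have h3 := R.card_dvd_index
    have h4 := (R : Subgroup K).card_mul_index
    rw [hRc'] at h4
    rwa [← h4, Nat.mul_div_cancel_left _ hq.out.pos]
  have h2 : Nat.card (Sylow q K) = 1 := by
    apply huniq _ h1
    exact mod_eq_one_of_modEq hq.out.one_lt (card_sylow_modEq_one q K)
  have hsub : Subsingleton (Sylow q K) := (Nat.card_eq_one_iff_unique.1 h2).1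
  have hchar : (R : Subgroup K).Characteristic := R.characteristic_of_subsingleton
  refine ⟨(R : Subgroup K).map K.subtype, ?_, ?_, ?_⟩
  · rw [Nat.card_congr ((R : Subgroup K).equivMapOfInjective _ K.subtype_injective).symm.toEquiv]
    exact hRc
  · rintro x ⟨y, _, rfl⟩
    exact hK.le_centralizer y.2
  · refine hK.normalizer_le.trans ?_
    intro g hg
    rw [mem_normalizer_iff]
    have key : ∀ g ∈ normalizer (K : Set G), ∀ x, x ∈ (R : Subgroup K).map K.subtype →
        g * x * g⁻¹ ∈ (R : Subgroup K).map K.subtype := by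
      rintro g hg x ⟨y, hy, rfl⟩
      let φ : MulAut K := K.normalizerMonoidHom ⟨g, hg⟩
      have h4 : φ y ∈ (R : Subgroup K) := by
        have h5 := hchar.fixed φ
        have h6 : y ∈ (R : Subgroup K).comap φ.toMonoidHom := by rw [h5]; exact hy
        exact h6
      exact ⟨φ y, h4, rfl⟩
    intro x
    constructor
    · exact key g hg x
    · intro h4
      have := key g⁻¹ (inv_mem hg) _ h4
      simpa [mul_assoc] using this

/-- Normalizers of non-Sylow `q`-subgroups grow. -/
theorem sq_dvd_card_normalizer {q : ℕ} (hq : q.Prime) (L : Subgroup G) (hL : Nat.card L = q)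
    (h2 : q ^ 2 ∣ Nat.card G) : q ^ 2 ∣ Nat.card (normalizer (L : Set G)) := by
  have : Fact q.Prime := ⟨hq⟩
  obtain ⟨Q, hQ⟩ := IsPGroup.exists_le_sylow (IsPGroup.of_card (n := 1) (by rw [hL, pow_one]) :
    IsPGroup q L)
  have h3 : q ^ 2 ∣ Nat.card (Q : Subgroup G) := by
    change q ^ 2 ∣ Nat.card Q
    rw [Q.card_eq_multiplicity]
    exact pow_dvd_pow _ ((hq.pow_dvd_iff_le_factorization Nat.card_pos.ne').1 h2)
  have h4 : L < (Q : Subgroup G) := by
    refine lt_of_le_of_ne hQ ?_
    intro heq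
    rw [← heq, hL] at h3
    have := Nat.le_of_dvd hq.pos h3
    have := hq.one_lt
    nlinarith
  have h5 := SylowMaxInter.lt_inf_normalizer Q.isPGroup' h4
  have h6 : IsPGroup q ((Q : Subgroup G) ⊓ normalizer (L : Set G) : Subgroup G) :=
    Q.isPGroup'.to_le inf_le_left
  obtain ⟨j, hj⟩ := h6.exists_card_eq
  have h7 : 2 ≤ j := by
    by_contra hcon
    have h8 := Subgroup.card_le_of_le h5.le
    have h9 : Nat.card L ≠ Nat.card ((Q : Subgroup G) ⊓ normalizer (L : Set G) : Subgroup G) :=
      fun h => h5.ne (Subgroup.eq_of_le_of_card_ge h5.le h.ge)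
    have h10 : j = 0 ∨ j = 1 := by omega
    rcases h10 with rfl | rfl
    · rw [hj, hL, pow_zero] at h8
      have := hq.one_lt
      omega
    · rw [hj, hL, pow_one] at h9
      exact h9 rfl
  have h8 : q ^ 2 ∣ Nat.card ((Q : Subgroup G) ⊓ normalizer (L : Set G) : Subgroup G) := by
    rw [hj]
    exact pow_dvd_pow _ h7
  exact h8.trans (Subgroup.card_dvd_of_le inf_le_right)

theorem not_simple_5940 [IsSimpleGroup G] (h : Nat.card G = 5940) : False := by
  have hG := not_comm h (by norm_num)
  obtain ⟨d, e, k, h1, h2, h3⟩ := data_cases h hG 11 (by norm_num) (by norm_num) (by norm_num)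
    (by norm_num) [(45, 2, 6)] (by decide +kernel)
  simp only [List.mem_cons, Prod.mk.injEq, List.mem_nil_iff, or_false] at h3
  obtain ⟨rfl, rfl, rfl⟩ := h3
  obtain ⟨L, hL1, _, hL3⟩ := exists_normalized h1 default (q := 3) (by norm_num) (by norm_num)
    (by norm_num) (by
      intro r hr hr3
      have : r ≤ 2 := Nat.le_of_dvd (by norm_num) hr
      omega)
  obtain ⟨r, hr1, hr2⟩ := h1.subgroup_count_of_le _ default hL3
  have h4 := sq_dvd_card_normalizer (by norm_num) L hL1 (by rw [h]; norm_num)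
  have h5 := (normalizer (L : Set G)).card_subgroup_dvd_card
  rw [h, hr1] at h5
  have h6 : r ∣ 45 := by
    have : 11 * 2 * 6 * r ∣ 11 * 2 * 6 * 45 := h5
    exact Nat.dvd_of_mul_dvd_mul_left (by norm_num) this
  have h7 : r ≤ 45 := Nat.le_of_dvd (by norm_num) h6
  rw [hr1] at h4
  have h8 : r = 45 := by
    interval_cases r <;> first | rfl | omega
  subst h8
  have h9 : normalizer (L : Set G) = ⊤ := Subgroup.eq_top_of_card_eq _ (by rw [hr1, h])
  have hn : L.Normal := normalizer_eq_top_iff.1 h9
  rcases hn.eq_bot_or_eq_top with h10 | h10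
  · rw [h10, Subgroup.card_bot] at hL1
    omega
  · rw [h10, Subgroup.card_top, h] at hL1
    omega

end Cfsg.Agent.SmallSimple.Order5940
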