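import Cfsg.Agent.SmallSimple.Sieve

/-!
# Orders of non-abelian simple groups between 3641 and 6232 surviving the sieve
-/

set_option autoImplicit false

namespace Cfsg.Agent.SmallSimple.SieveRange

open Cfsg.Agent.SmallSimple.Sieve

theorem check1 : ((List.range 1300).all fun i => autoDead (3641 + i) ||
    [3648, 3696, 3744, 3780, 3960, 4032, 4080, 4200, 4320, 4400, 4536, 4620, 4680, 4800,
      4928].any (Nat.beq (3641 + i))) = true := by
  decide +kernel

theorem check2 : ((List.range 1292).all fun i => autoDead (4941 + i) ||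
    [4960, 5040, 5104, 5148, 5184, 5376, 5400, 5460, 5472, 5600, 5616, 5724, 5760, 5880,
      5940, 6048, 6072].any (Nat.beq (4941 + i))) = true := by
  decide +kernel

/-- The orders surviving the sieve. -/
theorem survivors {G : Type*} [Group G] [Finite G] [IsSimpleGroup G] (hG : ¬ IsMulCommutative G)
    (h1 : 3640 < Nat.card G) (h2 : Nat.card G ≤ 6232) :
    Nat.card G ∈ [3648, 3696, 3744, 3780, 3960, 4032, 4080, 4200, 4320, 4400, 4536, 4620, 4680,
      4800, 4928] ∨
    Nat.card G ∈ [4960, 5040, 5104, 5148, 5184, 5376, 5400, 5460, 5472, 5600, 5616, 5724, 5760,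
      5880, 5940, 6048, 6072] := by
  by_cases h : Nat.card G ≤ 4940
  · exact Or.inl (mem_of_range hG 3641 1300 _ check1 (by omega) (by omega) (by omega))
  · exact Or.inr (mem_of_range hG 4941 1292 _ check2 (by omega) (by omega) (by omega))

end Cfsg.Agent.SmallSimple.SieveRange
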