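import Cfsg.Agent.S1230
import Cfsg.Agent.SmallSimple.SelfCentPrime

set_option autoImplicit false

/-!
The end of Brauer's theorem (S0996), case `e = 2`: a finite group of order `p (p-1) (p-2)` with a
self-centralizing element of order `p` and an involution whose centralizer is elementary abelian
of order `p - 1` and consists of conjugates of that involution is `PSL(2, p-1)`.
-/

namespace Cfsg.Agent.SmallSimple.BrauerEnd

open Subgroup

/-- A normal subgroup of order prime to `p` in a group with self-centralizing element of order `p`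
has order `≡ 1 (mod p)`. -/
theorem card_normal_modEq_one {G : Type*} [Group G] [Finite G] {p : ℕ} [hp : Fact p.Prime] (z : G)
    (hz : orderOf z = p) (hC : centralizer ({z} : Set G) = zpowers z) (K : Subgroup G) [K.Normal]
    (hK : ¬ p ∣ Nat.card K) : Nat.card K ≡ 1 [MOD p] := by
  let φ : zpowers z →* MulAut K := (MulAut.conjNormal).comp (zpowers z).subtype
  let _ : MulAction (zpowers z) K := MulAction.compHom K φ
  have hPG : IsPGroup p (zpowers z) := by
    apply IsPGroup.of_card (n := 1)
    rw [Nat.card_zpowers, hz, pow_one]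
  have h := hPG.card_modEq_card_fixedPoints K
  refine h.trans ?_
  have h1 : Nat.card (MulAction.fixedPoints (zpowers z) K) = 1 := by
    rw [Nat.card_eq_one_iff_unique]
    refine ⟨⟨?_⟩, ⟨⟨1, fun g => ?_⟩⟩⟩
    · have key : ∀ a : MulAction.fixedPoints (zpowers z) K, a.1 = 1 := by
        rintro ⟨a, ha⟩
        have h2 := ha ⟨z, mem_zpowers z⟩
        have h3 : z * (a : G) * z⁻¹ = a := congrArg Subtype.val h2
        have h4 : (a : G) ∈ zpowers z := by
          rw [← hC, mem_centralizer_iff]
          intro g hg
          rw [Set.mem_singleton_iff] at hg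
          subst hg
          exact mul_inv_eq_iff_eq_mul.1 h3
        by_contra hne
        have hne' : (a : G) ≠ 1 := fun h => hne (Subtype.ext h)
        have h5 : orderOf (a : G) = p := by
          have h6 := orderOf_dvd_of_mem_zpowers h4
          rw [hz] at h6
          rcases (Nat.dvd_prime hp.out).1 h6 with h7 | h7
          · exact absurd (orderOf_eq_one_iff.1 h7) hne'
          · exact h7
        apply hK
        rw [← h5, Subgroup.orderOf_coe]
        exact orderOf_dvd_natCard a
      intro a b
      exact Subtype.ext ((key a).trans (key b).symm)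
    · exact map_one (φ g)
  rw [h1]

/-- Case `e = 2` of Brauer's theorem. -/
theorem psl_of_e_eq_two {G : Type*} [Group G] [Finite G] {p : ℕ} [hp : Fact p.Prime] (hp3 : 3 < p)
    (hcard : Nat.card G = p * (p - 1) * (p - 2)) (z : G) (hz : orderOf z = p)
    (hC : centralizer ({z} : Set G) = zpowers z) (i : G) (hi : orderOf i = 2)
    (hCi : Nat.card (centralizer ({i} : Set G)) = p - 1)
    (hsq : ∀ c ∈ centralizer ({i} : Set G), c ^ 2 = 1)
    (hconj : ∀ c ∈ centralizer ({i} : Set G), c ≠ 1 → IsConj i c) :
    ∃ (m : ℕ) (F : Type) (_ : Field F) (_ : Fintype F), Fintype.card F = 2 ^ m ∧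
      p = 2 ^ m + 1 ∧ 3 < p ∧
      Nonempty (G ≃* Matrix.ProjectiveSpecialLinearGroup (Fin 2) F) := by
  have hpodd : Odd p := hp.out.odd_of_ne_two (by omega)
  have h2G : IsPGroup 2 (centralizer ({i} : Set G)) := by
    intro c
    exact ⟨1, Subtype.ext (hsq c c.2)⟩
  obtain ⟨m, hm⟩ := IsPGroup.iff_card.1 h2G
  rw [hCi] at hm
  have hpm : p = 2 ^ m + 1 := by omega
  obtain ⟨T, hT⟩ := h2G.exists_le_sylow
  have hcardT : Nat.card (T : Subgroup G) = p - 1 := by
    obtain ⟨k, hk⟩ := IsPGroup.iff_card.1 T.isPGroup'
    have h1 : p - 1 ∣ Nat.card (T : Subgroup G) := by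
      rw [← hCi]
      exact card_dvd_of_le hT
    have h2 : Nat.card (T : Subgroup G) ∣ p * (p - 1) * (p - 2) := by
      rw [← hcard]
      exact card_subgroup_dvd_card _
    rw [hk] at h1 h2 ⊢
    have h3 : (2 ^ k).Coprime (p * (p - 2)) := by
      apply Nat.Coprime.pow_left
      rw [Nat.coprime_two_left]
      have hpodd' := hpodd
      obtain ⟨r, hr⟩ := hpodd
      exact hpodd'.mul ⟨r - 1, by omega⟩
    have h4 : 2 ^ k ∣ p - 1 := by
      apply h3.dvd_of_dvd_mul_left
      have : p * (p - 2) * (p - 1) = p * (p - 1) * (p - 2) := by ring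
      rw [this]
      exact h2
    exact Nat.dvd_antisymm h4 h1
  have hTeq : centralizer ({i} : Set G) = (T : Subgroup G) :=
    Subgroup.eq_of_le_of_card_ge hT (by rw [hcardT, hCi])
  -- all involutions are conjugate to `i`
  have hall : ∀ j : G, orderOf j = 2 → IsConj i j := by
    intro j hj
    have hj2 : IsPGroup 2 (zpowers j) := by
      apply IsPGroup.of_card (n := 1)
      rw [Nat.card_zpowers, hj, pow_one]
    obtain ⟨S, hS⟩ := hj2.exists_le_sylow
    obtain ⟨g, hg⟩ := MulAction.exists_smul_eq G S T
    have h1 : g * j * g⁻¹ ∈ centralizer ({i} : Set G) := by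
      rw [hTeq, ← hg, Sylow.coe_subgroup_smul]
      exact Subgroup.mem_map_of_mem (MulDistribMulAction.toMonoidEnd (MulAut G) G (MulAut.conj g))
        (hS (mem_zpowers j))
    have h2 : g * j * g⁻¹ ≠ 1 := by
      intro h
      rw [conj_eq_one_iff] at h
      rw [h, orderOf_one] at hj
      omega
    have h3 := hconj _ h1 h2
    exact h3.trans (isConj_iff.2 ⟨g⁻¹, by group⟩)
  have hinv : ∀ j : G, orderOf j = 2 → IsMulCommutative (centralizer ({j} : Set G)) ∧
      ∀ c ∈ centralizer ({j} : Set G), c ^ 2 = 1 := by
    intro j hj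
    have hsqj : ∀ c ∈ centralizer ({j} : Set G), c ^ 2 = 1 := by
      intro c hc
      obtain ⟨g, hg⟩ := isConj_iff.1 (hall j hj)
      have h1 : g⁻¹ * c * g ∈ centralizer ({i} : Set G) := by
        rw [mem_centralizer_iff] at hc ⊢
        intro a ha
        rw [Set.mem_singleton_iff] at ha
        subst ha
        have h2 := hc j rfl
        rw [← hg] at h2
        have h3 : a * (g⁻¹ * c * g) = g⁻¹ * (g * a * g⁻¹ * c) * g := by group
        rw [h3, h2]
        group
      have h2 := hsq _ h1
      have h3 : c ^ 2 = g * (g⁻¹ * c * g) ^ 2 * g⁻¹ := by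
        rw [pow_two, pow_two]
        group
      rw [h3, h2]
      group
    refine ⟨⟨⟨fun a b => ?_⟩⟩, hsqj⟩
    have ha : a * a = 1 := by
      have := hsqj a a.2
      rw [pow_two] at this
      exact Subtype.ext this
    have hb : b * b = 1 := by
      have := hsqj b b.2
      rw [pow_two] at this
      exact Subtype.ext this
    have hab : (a * b) * (a * b) = 1 := by
      have := hsqj (a * b : centralizer ({j} : Set G)) (a * b).2
      rw [pow_two] at this
      exact Subtype.ext this
    calc a * b = (b * b) * (a * b) * (a * a) := by rw [hb, ha]; group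
      _ = b * (b * a * (b * a)) * a := by group
      _ = b * a := by
        have : b * a * (b * a) = 1 := by
          have h5 : b * a * (b * a) = a⁻¹ * ((a * b) * (a * b)) * a := by group
          rw [h5, hab]; group
        rw [this]; group
  obtain ⟨F, hF1, hF2, hF3, hF4⟩ := Cfsg.Agent.S1230.result T (by
      intro hcyc
      obtain ⟨⟨g, hg⟩, hgen⟩ := hcyc.exists_generator
      have h1 : Nat.card (T : Subgroup G) = orderOf g := by
        rw [← Nat.card_zpowers]
        rw [← orderOf_eq_card_of_forall_mem_zpowers hgen, ← Subgroup.orderOf_coe, Nat.card_zpowers]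
      have h2 : orderOf g ∣ 2 := orderOf_dvd_of_pow_eq_one (hsq g (by rw [hTeq]; exact hg))
      rw [← h1, hcardT] at h2
      have h3 := Nat.le_of_dvd (by norm_num) h2
      have h4 : p = 3 := by omega
      omega) (by
      intro hnorm
      have h1 : ¬ p ∣ Nat.card (T : Subgroup G) := by
        rw [hcardT]
        intro h
        have := Nat.le_of_dvd (by omega) h
        omega
      have h2 := card_normal_modEq_one z hz hC (T : Subgroup G) h1
      rw [hcardT] at h2
      have h3 : (p - 1) % p = 1 % p := h2
      rw [Nat.mod_eq_of_lt (by omega), Nat.mod_eq_of_lt (by omega)] at h3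
      omega) hinv
  refine ⟨m, F, hF1, hF2, ?_, hpm, hp3, hF4⟩
  rw [hF3, hcardT, hm]

end Cfsg.Agent.SmallSimple.BrauerEnd
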