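import Mathlib

/-!
Arithmetic for groups with a self-centralizing Sylow `p`-subgroup of order `p` and
`1 + n p` Sylow `p`-subgroups, `2 n < p + 3` (Brauer 1943, Brauer-Reynolds 1958).
-/

set_option autoImplicit false

namespace Cfsg.Agent.SmallSimple.BrauerTypesArith

/-- The divisor lemma: a divisor `D ≡ 1 (mod p)` of `(p - 1)(1 + n p)`. -/
theorem master {p n D s : ℕ} (hp : 2 ≤ p) (hn : 2 * n < p + 3) (hD : D % p = 1)
    (h : D * s = (p - 1) * (1 + n * p)) : D = 1 ∨ D = 1 + n * p := by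
  obtain ⟨q, rfl⟩ : ∃ q, p = q + 1 := ⟨p - 1, by omega⟩
  have hq : 1 ≤ q := by omega
  have hqq : q + 1 - 1 = q := by omega
  rw [hqq] at h
  obtain ⟨u, hu⟩ : ∃ u, D = u * (q + 1) + 1 := by
    refine ⟨D / (q + 1), ?_⟩
    have := Nat.mod_add_div D (q + 1)
    rw [hD] at this
    rw [Nat.mul_comm (D / (q + 1)) (q + 1)]
    omega
  -- s + 1 is divisible by p
  have hs : (q + 1) ∣ (s + 1) := by
    have h1 : ((q + 1 : ℕ) : ℤ) ∣ ((s + 1 : ℕ) : ℤ) := by
      have h2 : (D : ℤ) * s = q * (1 + n * (q + 1)) := by exact_mod_cast h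
      have h3 : (D : ℤ) = u * (q + 1) + 1 := by exact_mod_cast hu
      rw [h3] at h2
      refine ⟨1 + q * n - u * s, ?_⟩
      push_cast
      linarith
    exact_mod_cast h1
  obtain ⟨v, hv⟩ := hs
  have hv0 : 1 ≤ v := by
    rcases Nat.eq_zero_or_pos v with h0 | h0
    · rw [h0] at hv; omega
    · exact h0
  -- main identity in ℤ
  have hmain : (q : ℤ) * (n - u * v) = (u + 1) * (v - 1) := by
    have h2 : (D : ℤ) * s = q * (1 + n * (q + 1)) := by exact_mod_cast h
    have h3 : (D : ℤ) = u * (q + 1) + 1 := by exact_mod_cast hu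
    have h4 : (s : ℤ) = (q + 1) * v - 1 := by
      have : ((s + 1 : ℕ) : ℤ) = (((q + 1) * v : ℕ) : ℤ) := by exact_mod_cast hv
      push_cast at this
      linarith
    rw [h3, h4] at h2
    have h5 : ((q : ℤ) + 1) * ((q : ℤ) * (n - u * v) - (u + 1) * (v - 1)) = 0 := by
      linarith [h2]
    have h6 : ((q : ℤ) + 1) ≠ 0 := by positivity
    have h7 := (mul_eq_zero.mp h5).resolve_left h6
    linarith
  rcases Nat.eq_zero_or_pos u with h0 | hu1
  · left; rw [hu, h0]; omega
  right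
  rcases Nat.lt_or_ge 1 v with hv2 | hv2
  · exfalso
    have hpos : 0 < (q : ℤ) * (n - u * v) := by
      rw [hmain]
      have : (1 : ℤ) < v := by exact_mod_cast hv2
      have h1 : (0 : ℤ) < (v : ℤ) - 1 := by linarith
      positivity
    have hh : 0 < (n : ℤ) - u * v := by
      have hq0 : (0 : ℤ) < q := by exact_mod_cast hq
      exact (pos_iff_pos_of_mul_pos hpos).mp hq0
    have hu1' : (1 : ℤ) ≤ u := by exact_mod_cast hu1
    have hv2' : (1 : ℤ) ≤ (v : ℤ) - 1 := by
      have : (2 : ℤ) ≤ v := by exact_mod_cast hv2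
      linarith
    have hn' : 2 * (n : ℤ) < q + 1 + 3 := by exact_mod_cast hn
    have hq' : (1 : ℤ) ≤ q := by exact_mod_cast hq
    -- 2 n = 2 u v + 2 h
    have e1 : (u : ℤ) * v = u + u * (v - 1) := by ring
    have e2 : 0 ≤ ((u : ℤ) - 1) * (v - 1) := mul_nonneg (by linarith) (by linarith)
    have e3 : 0 ≤ ((q : ℤ)) * ((n : ℤ) - u * v - 1) := mul_nonneg (by linarith) (by linarith)
    nlinarith
  · have hv1 : v = 1 := by omega
    subst hv1
    have h1 : (q : ℤ) * (n - u) = 0 := by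
      have := hmain
      push_cast at this
      linarith [this]
    have hq0 : (q : ℤ) ≠ 0 := by
      have : (1 : ℤ) ≤ q := by exact_mod_cast hq
      linarith
    have h2 := (mul_eq_zero.mp h1).resolve_left hq0
    have h3 : (n : ℤ) = u := by linarith
    have h4 : n = u := by exact_mod_cast h3
    rw [hu, h4]; ring

variable {p n e t : ℕ}

/-- Degrees `≡ 1 (mod p)`. -/
theorem deg_pos {d : ℕ} (hp : 2 ≤ p) (hn : 2 * n < p + 3) (het : e * t = p - 1)
    (hd : d % p = 1) (hdvd : d ∣ e * (1 + n * p)) : d = 1 ∨ d = 1 + n * p := by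
  obtain ⟨s, hs⟩ := hdvd
  refine master (s := s * t) hp hn hd ?_
  rw [← mul_assoc, ← hs, ← het]; ring

theorem mod_of_mul {a b : ℕ} (hp : 2 ≤ p) (ha : (a + 1) % p = 0) (hab : (a * b + 1) % p = 0) :
    b % p = 1 := by
  have h1 : p ∣ a + 1 := Nat.dvd_of_mod_eq_zero ha
  have h2 : p ∣ a * b + 1 := Nat.dvd_of_mod_eq_zero hab
  have h3 : (p : ℤ) ∣ (b : ℤ) - 1 := by
    have h1' : (p : ℤ) ∣ (a : ℤ) + 1 := by exact_mod_cast h1
    have h2' : (p : ℤ) ∣ (a : ℤ) * b + 1 := by exact_mod_cast h2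
    have : (b : ℤ) - 1 = ((a : ℤ) + 1) * b - ((a : ℤ) * b + 1) := by ring
    rw [this]
    exact dvd_sub (h1'.mul_right _) h2'
  have h4 : (b : ℤ) % p = 1 % p :=
    Int.emod_eq_emod_iff_emod_sub_eq_zero.mpr (Int.emod_eq_zero_of_dvd h3)
  have h5 : (1 : ℤ) % p = 1 := Int.emod_eq_of_lt (by norm_num) (by exact_mod_cast hp)
  rw [h5] at h4
  exact_mod_cast h4

theorem prod_mod (hp : 2 ≤ p) : ((p - 1) * (1 + n * p) + 1) % p = 0 := by
  obtain ⟨q, rfl⟩ : ∃ q, p = q + 1 := ⟨p - 1, by omega⟩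
  have : q + 1 - 1 = q := by omega
  rw [this]
  have h : q * (1 + n * (q + 1)) + 1 = (q + 1) * (1 + q * n) := by ring
  rw [h]
  exact Nat.mul_mod_right _ _

theorem not_big (hp : 2 ≤ p) (hn1 : 1 ≤ n) (he : 1 ≤ e)
    (hsq : (e * (1 + n * p)) * (e * (1 + n * p)) ≤ p * e * (1 + n * p)) : False := by
  have h1 : 0 < e * (1 + n * p) := by positivity
  have h2 : e * (1 + n * p) ≤ p := by
    apply Nat.le_of_mul_le_mul_right _ h1
    calc (e * (1 + n * p)) * (e * (1 + n * p)) ≤ p * e * (1 + n * p) := hsq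
      _ = p * (e * (1 + n * p)) := by ring
  have h3 : p < 1 + n * p := by nlinarith
  have h4 : 1 + n * p ≤ e * (1 + n * p) := Nat.le_mul_of_pos_left _ he
  omega

/-- Degrees `≡ -1 (mod p)`. -/
theorem deg_neg {d : ℕ} (hp : 2 ≤ p) (hn : 2 * n < p + 3) (hn1 : 1 ≤ n) (he : 1 ≤ e)
    (het : e * t = p - 1)
    (hd : (d + 1) % p = 0) (hdvd : d ∣ e * (1 + n * p)) (hsq : d * d ≤ p * e * (1 + n * p)) :
    d = p - 1 := by
  obtain ⟨s, hs⟩ := hdvd
  have hprod : d * (s * t) = (p - 1) * (1 + n * p) := by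
    rw [← mul_assoc, ← hs, ← het]; ring
  have hmod : (s * t) % p = 1 := by
    apply mod_of_mul hp hd
    rw [hprod]
    exact prod_mod hp
  rcases master (D := s * t) (s := d) hp hn hmod (by rw [mul_comm, hprod]) with h | h
  · exfalso
    have hs1 : s = 1 := Nat.eq_one_of_mul_eq_one_right h
    rw [hs1, mul_one] at hs
    rw [← hs] at hsq
    exact not_big hp hn1 he hsq
  · rw [h] at hprod
    have h1 : 0 < 1 + n * p := by positivity
    exact Nat.eq_of_mul_eq_mul_right h1 hprod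

/-- Exceptional degree, positive sign. -/
theorem exc_pos {c m : ℕ} (hp : 2 ≤ p) (hn : 2 * n < p + 3) (hn1 : 1 ≤ n) (he : 1 ≤ e)
    (het : e * t = p - 1)
    (hc : c = p * m + e) (hdvd : c ∣ e * (1 + n * p)) (hsq : c * c ≤ p * e * (1 + n * p)) :
    c = e ∧ m = 0 := by
  obtain ⟨s, hs⟩ := hdvd
  have hprod : (c * t) * s = (p - 1) * (1 + n * p) := by
    rw [← het]
    calc (c * t) * s = (c * s) * t := by ring
      _ = (e * (1 + n * p)) * t := by rw [← hs]
      _ = _ := by ring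
  have hct : (c * t + 1) % p = 0 := by
    rw [hc]
    have : (p * m + e) * t + 1 = p * (m * t + 1) := by
      have : e * t + 1 = p := by omega
      calc (p * m + e) * t + 1 = p * m * t + (e * t + 1) := by ring
        _ = p * m * t + p := by rw [this]
        _ = _ := by ring
    rw [this]; exact Nat.mul_mod_right _ _
  have hmod : s % p = 1 := by
    apply mod_of_mul hp hct
    rw [hprod]
    exact prod_mod hp
  rcases master (D := s) (s := c * t) hp hn hmod (by rw [mul_comm, hprod]) with h | h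
  · exfalso
    rw [h, mul_one] at hs
    rw [← hs] at hsq
    exact not_big hp hn1 he hsq
  · rw [h] at hs
    have h1 : 0 < 1 + n * p := by positivity
    have h2 := Nat.eq_of_mul_eq_mul_right h1 hs
    refine ⟨h2.symm, ?_⟩
    have h3 : p * m = 0 := by omega
    rcases Nat.mul_eq_zero.mp h3 with h4 | h4
    · omega
    · exact h4

/-- Exceptional degree, negative sign. -/
theorem exc_neg {c m : ℕ} (hp : 2 ≤ p) (hn : 2 * n < p + 3)
    (het : e * t = p - 1) (hc1 : c ≠ 1)
    (hc : c + e = p * m) (hdvd : c ∣ e * (1 + n * p)) :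
    c * t = 1 + n * p ∧ m * t = n + 1 := by
  obtain ⟨s, hs⟩ := hdvd
  have hprod : (c * t) * s = (p - 1) * (1 + n * p) := by
    rw [← het]
    calc (c * t) * s = (c * s) * t := by ring
      _ = (e * (1 + n * p)) * t := by rw [← hs]
      _ = _ := by ring
  have hct0 : c * t + p = p * (m * t) + 1 := by
    have h1 : (c + e) * t = p * m * t := by rw [hc]
    have h2 : c * t + e * t = p * (m * t) := by rw [← add_mul, h1]; ring
    omega
  have hct : (c * t) % p = 1 := by
    have h1 : (c * t + p) % p = (p * (m * t) + 1) % p := by rw [hct0]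
    rw [Nat.add_mod_right, Nat.mul_add_mod] at h1
    rw [h1]
    exact Nat.mod_eq_of_lt (by omega)
  rcases master (D := c * t) (s := s) hp hn hct hprod with h | h
  · exfalso
    exact hc1 (Nat.eq_one_of_mul_eq_one_right h)
  · refine ⟨h, ?_⟩
    rw [h] at hct0
    have h1 : p * (m * t) = p * (n + 1) := by
      have : 1 + n * p + p = p * (n + 1) + 1 := by ring
      omega
    exact Nat.eq_of_mul_eq_mul_left (by omega) h1

/-- Case 2: exceptional degree `e`. -/
theorem case_two {x y : ℤ} {p n e : ℤ} (hp : 2 ≤ p) (hxy : x + y + 1 = e)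
    (hrel : 1 + x * (1 + n * p) - y * (p - 1) = e) :
    x * (n + 1) = e - 1 := by
  have hy : y = e - 1 - x := by linarith
  rw [hy] at hrel
  have h1 : p * (x * (n + 1) - (e - 1)) = 0 := by linarith [hrel]
  have h2 : p ≠ 0 := by linarith
  have := (mul_eq_zero.mp h1).resolve_left h2
  linarith

theorem case_two_sum {x y s : ℤ} {p n e t : ℤ} (hp : 2 ≤ p) (hxy : x + y + 1 = e)
    (het : e * t = p - 1)
    (hx : x * (n + 1) = e - 1)
    (hsum : 1 + x * (1 + n * p) ^ 2 + y * (p - 1) ^ 2 + t * e ^ 2 + p ^ 2 * s =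
      p * e * (1 + n * p)) : s = n := by
  have hy : y = x * n := by linarith
  have h1 : t * e ^ 2 = e * (p - 1) := by rw [← het]; ring
  rw [h1, hy] at hsum
  have he : e = 1 + x * (n + 1) := by linarith
  rw [he] at hsum
  have h2 : p ^ 2 * (s - n) = 0 := by linarith [hsum]
  have h3 : p ^ 2 ≠ 0 := by positivity
  have := (mul_eq_zero.mp h2).resolve_left h3
  linarith

/-- Case 1: exceptional degree `(1 + n p)/t`. -/
theorem case_one {x y c : ℤ} {p n e t : ℤ} (hp : 2 ≤ p) (hxy : x + y + 1 = e)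
    (het : e * t = p - 1) (hc : c * t = 1 + n * p)
    (hrel : 1 + x * (1 + n * p) - y * (p - 1) = - c) :
    (n + 1) * (t * x + 1) = t * (e - 1) := by
  have hy : y = e - 1 - x := by linarith
  rw [hy] at hrel
  have h0 : t * (1 + x * (1 + n * p) - (e - 1 - x) * (p - 1)) = - (c * t) := by rw [hrel]; ring
  rw [hc] at h0
  have h1 : p * ((n + 1) * (t * x + 1) - t * (e - 1)) = 0 := by
    have e1 : t * (1 + x * (1 + n * p) - (e - 1 - x) * (p - 1)) =
      t + t * x * (1 + n * p) - (e * t) * (p - 1) + t * (p - 1) + t * x * (p - 1) := by ring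
    rw [e1, het] at h0
    have e2 : p * ((n + 1) * (t * x + 1) - t * (e - 1)) =
      p * ((n + 1) * (t * x + 1)) - p * (e * t) + p * t := by ring
    rw [e2, het]
    linarith [h0]
  have h2 : p ≠ 0 := by linarith
  have := (mul_eq_zero.mp h1).resolve_left h2
  linarith

theorem case_one_sum {x y c s : ℤ} {p n e t : ℤ} (hp : 2 ≤ p) (ht : 1 ≤ t)
    (hxy : x + y + 1 = e)
    (het : e * t = p - 1) (hc : c * t = 1 + n * p)
    (hx : (n + 1) * (t * x + 1) = t * (e - 1))
    (hsum : 1 + x * (1 + n * p) ^ 2 + y * (p - 1) ^ 2 + t * c ^ 2 + p ^ 2 * s =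
      p * e * (1 + n * p)) : s = n := by
  have hy : y = e - 1 - x := by linarith
  have h0 : t * (1 + x * (1 + n * p) ^ 2 + y * (p - 1) ^ 2 + t * c ^ 2 + p ^ 2 * s) =
      t * (p * e * (1 + n * p)) := by rw [hsum]
  rw [hy] at h0
  have e0 : t * (1 + x * (1 + n * p) ^ 2 + (e - 1 - x) * (p - 1) ^ 2 + t * c ^ 2 + p ^ 2 * s) =
      t + t * x * ((1 + n * p) ^ 2 - (p - 1) ^ 2) + (e * t) * (p - 1) ^ 2 - t * (p - 1) ^ 2 +
        (c * t) ^ 2 + t * p ^ 2 * s := by ring
  have e1 : t * (p * e * (1 + n * p)) = (e * t) * (p * (1 + n * p)) := by ring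
  rw [e0, e1, het, hc] at h0
  have e2 : (1 + n * p) ^ 2 - (p - 1) ^ 2 = p * (n + 1) * (2 + (n - 1) * p) := by ring
  have e3 : t * x * (p * (n + 1) * (2 + (n - 1) * p)) =
      ((n + 1) * (t * x + 1)) * (p * (2 + (n - 1) * p)) - (n + 1) * (p * (2 + (n - 1) * p)) := by
    ring
  have e4 : t * (e - 1) = p - 1 - t := by rw [mul_sub, mul_comm t e, het]; ring
  rw [e2, e3, hx, e4] at h0
  have h2 : t * p ^ 2 * (s - n) = 0 := by linarith [h0]
  have h3 : t * p ^ 2 ≠ 0 := by
    have : (0 : ℤ) < t := by linarith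
    positivity
  have := (mul_eq_zero.mp h2).resolve_left h3
  linarith

/-- C3: the product `Θ conj Θ`. -/
theorem c_three {p n e t M F : ℤ} (hn : 1 ≤ n) (he : 2 ≤ e) (ht : 2 ≤ t) (het : e * t = p - 1)
    (hM : 0 ≤ M) (hF : 0 ≤ F)
    (h1 : e - 1 = (n + 1) * M + F) (h2 : 1 + M * (1 + n * p) + p * F ≤ e ^ 2) :
    n = 1 ∧ t = 2 := by
  have hp : p = e * t + 1 := by linarith
  subst hp
  -- M (e - n (p-1-e)) ≥ F (p - 1 - e)
  have h3 : F * (e * t - e) ≤ M * (e - n * (e * t - e)) := by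
    have : (e - 1) * (e + 1) = ((n + 1) * M + F) * (e + 1) := by rw [h1]
    nlinarith
  have h4 : 0 ≤ F * (e * t - e) := by
    apply mul_nonneg hF
    nlinarith
  have hM1 : 1 ≤ M := by
    by_contra hcon
    have hM0 : M = 0 := by omega
    rw [hM0] at h1 h3
    have hF1 : F = e - 1 := by linarith
    rw [hF1] at h3
    have : 0 < (e - 1) * (e * t - e) := by
      apply mul_pos (by linarith)
      nlinarith
    linarith
  have h5 : 0 ≤ e - n * (e * t - e) := by
    by_contra hcon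
    push Not at hcon
    have : M * (e - n * (e * t - e)) < 0 := mul_neg_of_pos_of_neg (by linarith) hcon
    linarith
  have h6 : n * (t - 1) ≤ 1 := by
    have h7 : e * (n * (t - 1)) ≤ e * 1 := by nlinarith
    exact le_of_mul_le_mul_left h7 (by linarith)
  constructor
  · nlinarith
  · nlinarith

end Cfsg.Agent.SmallSimple.BrauerTypesArith
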