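import Mathlib
import Cfsg.Prelude.Def_Characters
import Cfsg.Agent.Characters.Core
import Cfsg.Agent.Characters.Linear
import Cfsg.Agent.OddOrderCharacters.IndRes
import Cfsg.Agent.S0135
import Cfsg.Agent.S0145

/-!
Degrees and multiplicities of the trivial character in restrictions (natural numbers), the
permutation character on the cosets of a subgroup.
-/

set_option autoImplicit false
open Cfsg
open scoped ComplexConjugate

namespace Cfsg.Agent.SmallSimple.BrauerTypesBasic

open Cfsg.Agent.Characters.Core Cfsg.Agent.OddOrderCharacters.IndRes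

universe u
variable {G : Type u} [Group G]

/-- degree of an irreducible character -/
noncomputable def deg (χ : IrrCharacter G) : ℕ := Classical.choose (isIrr_apply_one χ.2)

theorem deg_pos (χ : IrrCharacter G) : 0 < deg χ :=
  (Classical.choose_spec (isIrr_apply_one χ.2)).1

theorem deg_spec (χ : IrrCharacter G) : (χ : G → ℂ) 1 = deg χ :=
  (Classical.choose_spec (isIrr_apply_one χ.2)).2

theorem deg_dvd [Finite G] (χ : IrrCharacter G) : deg χ ∣ Nat.card G := by
  obtain ⟨χ, hχ⟩ := χ
  have hd := deg_spec ⟨χ, hχ⟩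
  obtain ⟨n, ρ, hρ, rfl⟩ := hχ
  have h5 := Cfsg.Agent.S0135.result ρ
  simp only at hd
  rw [Representation.char_one] at hd
  have h6 : Module.finrank ℂ (Fin n → ℂ) = deg ⟨ρ.character, ⟨n, ρ, hρ, rfl⟩⟩ := by
    exact_mod_cast hd
  rwa [h6] at h5

/-- The trivial character. -/
def triv (G : Type u) [Group G] : IrrCharacter G := ⟨1, isIrr_one⟩

theorem triv_apply (g : G) : (triv G : G → ℂ) g = 1 := rfl

theorem deg_triv : deg (triv G) = 1 := by
  have h := deg_spec (triv G)
  rw [triv_apply] at h
  exact_mod_cast h.symm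

theorem eq_triv_of_deg (hperf : ∀ f : G →* ℂˣ, f = 1) (χ : IrrCharacter G) (h : deg χ = 1) :
    χ = triv G := by
  obtain ⟨f, hf⟩ := Cfsg.Agent.Characters.Linear.exists_hom_of_isIrrCharacter χ.2
    (by rw [deg_spec, h, Nat.cast_one])
  apply Subtype.ext
  funext g
  rw [triv_apply, hf, hperf f]
  simp

theorem card_ne (H : Subgroup G) [Finite H] : (Nat.card H : ℂ) ≠ 0 := by
  exact_mod_cast Nat.card_pos.ne'

theorem exists_mult (H : Subgroup G) [Fintype H] {ψ : G → ℂ} (hψ : IsCharacter G ψ) :
    ∃ m : ℕ, ∑ h : H, ψ h = Nat.card H * m := by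
  obtain ⟨m, hm⟩ := classInner_isNat (isCharacter_res H hψ) isCharacter_one
  refine ⟨m, ?_⟩
  rw [classInner_def] at hm
  rw [← hm, mul_inv_cancel_left₀ (card_ne H)]
  refine Finset.sum_congr rfl fun h _ => ?_
  simp [res_apply]

/-- multiplicity of the trivial character in the restriction to `H` -/
noncomputable def mult (H : Subgroup G) [Fintype H] (χ : IrrCharacter G) : ℕ :=
  Classical.choose (exists_mult H (isIrr_isCharacter χ.2))

theorem mult_spec (H : Subgroup G) [Fintype H] (χ : IrrCharacter G) :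
    ∑ h : H, (χ : G → ℂ) h = Nat.card H * mult H χ :=
  Classical.choose_spec (exists_mult H (isIrr_isCharacter χ.2))

theorem mult_triv (H : Subgroup G) [Fintype H] : mult H (triv G) = 1 := by
  have h := mult_spec H (triv G)
  simp only [triv_apply, Finset.sum_const, Finset.card_univ, nsmul_eq_mul, mul_one] at h
  rw [← Nat.card_eq_fintype_card] at h
  have h2 : (Nat.card H : ℂ) * 1 = Nat.card H * mult H (triv G) := by rw [mul_one]; exact h
  have h3 := mul_left_cancel₀ (card_ne H) h2
  exact_mod_cast h3.symm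

theorem mult_mono [Finite G] {K H : Subgroup G} (hKH : K ≤ H) [Fintype K] [Fintype H]
    (χ : IrrCharacter G) : mult H χ ≤ mult K χ := by
  classical
  have := finite_irr (G := H)
  have := Fintype.ofFinite (IrrCharacter H)
  obtain ⟨c, hc⟩ := isCharacter_iff.1 (isCharacter_res H (isIrr_isCharacter χ.2))
  have ha : mult H χ = c (triv H) := by
    have h1 := classInner_sum_nsmul_irr c (triv H)
    rw [← hc] at h1
    have h2 : classInner (res H (χ : G → ℂ)) (triv H : H → ℂ) = mult H χ := by
      rw [classInner_def]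
      have h3 : ∑ g : H, res H (χ : G → ℂ) g * conj ((triv H : H → ℂ) g) =
          Nat.card H * mult H χ := by
        rw [← mult_spec]
        refine Finset.sum_congr rfl fun h _ => ?_
        rw [triv_apply, map_one, mul_one, res_apply]
      rw [h3, inv_mul_cancel_left₀ (card_ne H)]
    rw [h2] at h1
    exact_mod_cast h1
  have hm : ∀ φ : IrrCharacter H, ∃ m : ℕ,
      ∑ k : K, (φ : H → ℂ) (Subgroup.inclusion hKH k) = Nat.card K * m := by
    intro φ
    have h1 := isCharacter_comp (Subgroup.inclusion hKH) (isIrr_isCharacter φ.2)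
    obtain ⟨m, hm⟩ := classInner_isNat h1 isCharacter_one
    refine ⟨m, ?_⟩
    rw [classInner_def] at hm
    rw [← hm, mul_inv_cancel_left₀ (card_ne K)]
    refine Finset.sum_congr rfl fun h _ => ?_
    simp
  choose m hm using hm
  have hm1 : m (triv H) = 1 := by
    have h := hm (triv H)
    simp only [triv_apply, Finset.sum_const, Finset.card_univ, nsmul_eq_mul, mul_one] at h
    rw [← Nat.card_eq_fintype_card] at h
    have h2 : (Nat.card K : ℂ) * 1 = Nat.card K * m (triv H) := by rw [mul_one]; exact h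
    have h3 := mul_left_cancel₀ (card_ne K) h2
    exact_mod_cast h3.symm
  have hb : mult K χ = ∑ φ, c φ * m φ := by
    have h1 : ∑ k : K, (χ : G → ℂ) k = Nat.card K * ((∑ φ, c φ * m φ : ℕ) : ℂ) := by
      have h2 : ∀ k : K, (χ : G → ℂ) k = ∑ φ, (c φ : ℂ) * (φ : H → ℂ) (Subgroup.inclusion hKH k) := by
        intro k
        have h3 := congrFun hc (Subgroup.inclusion hKH k)
        rw [res_apply] at h3
        rw [Finset.sum_apply] at h3
        rw [show (χ : G → ℂ) k = (χ : G → ℂ) (Subgroup.inclusion hKH k : G) from rfl, h3]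
        refine Finset.sum_congr rfl fun φ _ => ?_
        rw [Pi.smul_apply, nsmul_eq_mul]
      rw [Finset.sum_congr rfl fun k _ => h2 k, Finset.sum_comm]
      push_cast
      rw [Finset.mul_sum]
      refine Finset.sum_congr rfl fun φ _ => ?_
      rw [← Finset.mul_sum, hm φ]
      ring
    rw [mult_spec] at h1
    have h3 := mul_left_cancel₀ (card_ne K) h1
    exact_mod_cast h3
  rw [ha, hb]
  calc c (triv H) = c (triv H) * m (triv H) := by rw [hm1, mul_one]
    _ ≤ ∑ φ, c φ * m φ :=
      Finset.single_le_sum (f := fun φ => c φ * m φ) (fun _ _ => Nat.zero_le _) (Finset.mem_univ _)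

/-- Sums of a combination over a subgroup. -/
theorem sum_comb (H : Subgroup G) [Fintype H] [Fintype (IrrCharacter G)] {ψ : G → ℂ}
    {c : IrrCharacter G → ℕ} (hc : ψ = ∑ χ : IrrCharacter G, c χ • (χ : G → ℂ)) :
    ∑ h : H, ψ h = Nat.card H * ((∑ χ, c χ * mult H χ : ℕ) : ℂ) := by
  have h2 : ∀ k : H, ψ k = ∑ χ, (c χ : ℂ) * (χ : G → ℂ) k := by
    intro k
    rw [hc, Finset.sum_apply]
    refine Finset.sum_congr rfl fun φ _ => ?_
    rw [Pi.smul_apply, nsmul_eq_mul]
  rw [Finset.sum_congr rfl fun k _ => h2 k, Finset.sum_comm]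
  push_cast
  rw [Finset.mul_sum]
  refine Finset.sum_congr rfl fun φ _ => ?_
  rw [← Finset.mul_sum, mult_spec]
  ring

/-- Value at one of a combination. -/
theorem one_comb [Fintype (IrrCharacter G)] {ψ : G → ℂ}
    {c : IrrCharacter G → ℕ} (hc : ψ = ∑ χ : IrrCharacter G, c χ • (χ : G → ℂ)) :
    ψ 1 = ((∑ χ, c χ * deg χ : ℕ) : ℂ) := by
  rw [hc, Finset.sum_apply]
  push_cast
  refine Finset.sum_congr rfl fun φ _ => ?_
  rw [Pi.smul_apply, nsmul_eq_mul, deg_spec]

theorem coeff_triv [Fintype G] [Fintype (IrrCharacter G)] {ψ : G → ℂ}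
    {c : IrrCharacter G → ℕ} (hc : ψ = ∑ χ : IrrCharacter G, c χ • (χ : G → ℂ)) :
    classInner ψ 1 = c (triv G) := by
  have h1 := classInner_sum_nsmul_irr c (triv G)
  rw [← hc] at h1
  exact h1

theorem norm_comb [Fintype G] [Fintype (IrrCharacter G)] {ψ : G → ℂ}
    {c : IrrCharacter G → ℕ} (hc : ψ = ∑ χ : IrrCharacter G, c χ • (χ : G → ℂ)) :
    classInner ψ ψ = ((∑ χ, c χ ^ 2 : ℕ) : ℂ) := by
  have h1 := classInner_sum_smul_sum_smul (fun χ : IrrCharacter G => (c χ : ℂ))
    (fun χ : IrrCharacter G => (c χ : ℂ))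
  simp only [Nat.cast_smul_eq_nsmul] at h1
  rw [← hc] at h1
  rw [h1]
  push_cast
  refine Finset.sum_congr rfl fun φ _ => ?_
  rw [Complex.conj_natCast, sq]

/-- The sum of the squares of the degrees. -/
theorem sum_deg_sq [Finite G] [Fintype (IrrCharacter G)] :
    ∑ χ : IrrCharacter G, deg χ ^ 2 = Nat.card G := by
  classical
  have := Fintype.ofFinite G
  have h := Cfsg.Agent.S0145.sum_irr_mul_conj (1 : G) 1
  rw [if_pos (IsConj.refl _)] at h
  have h3 : Subgroup.centralizer ({(1 : G)} : Set G) = ⊤ := by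
    rw [Subgroup.centralizer_eq_top_iff_subset]
    intro y hy
    rw [Set.mem_singleton_iff] at hy
    rw [hy]
    exact one_mem _
  rw [h3, Subgroup.card_top] at h
  have h4 : ∑ χ : IrrCharacter G, (χ : G → ℂ) 1 * conj ((χ : G → ℂ) 1) =
      ((∑ χ : IrrCharacter G, deg χ ^ 2 : ℕ) : ℂ) := by
    push_cast
    refine Finset.sum_congr rfl fun χ _ => ?_
    rw [deg_spec, Complex.conj_natCast, sq]
  rw [h4] at h
  exact_mod_cast h

/-! ### permutation character -/

section perm
variable [Fintype G] (N : Subgroup G)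

/-- The permutation character on the cosets of `N`. -/
noncomputable def perm : G → ℂ := indFun N 1

theorem perm_isCharacter : IsCharacter G (perm N) := isCharacter_indFun N isCharacter_one

theorem perm_one : perm N 1 = N.index := by
  rw [perm, indFun_apply_one]; simp

open scoped Classical in
theorem perm_apply (g : G) :
    (Nat.card N : ℂ) * perm N g = ((Finset.univ.filter (fun x : G => x⁻¹ * g * x ∈ N)).card : ℂ) := by
  rw [perm, indFun_def, mul_inv_cancel_left₀ (card_ne N), Finset.card_filter]
  push_cast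
  refine Finset.sum_congr rfl fun x _ => ?_
  split_ifs with h
  · rw [extendByZero_of_mem N _ h]; rfl
  · rw [extendByZero_of_notMem N _ h]

/-- coefficients of the permutation character -/
theorem perm_coeff [Fintype N] [Fintype (IrrCharacter G)] {c : IrrCharacter G → ℕ}
    (hc : perm N = ∑ χ : IrrCharacter G, c χ • (χ : G → ℂ)) (χ : IrrCharacter G) :
    c χ = mult N χ := by
  have h1 := classInner_sum_nsmul_irr c χ
  rw [← hc] at h1
  have h2 : classInner (perm N) (χ : G → ℂ) = mult N χ := by
    rw [perm, classInner_res_symm N isCharacter_one (isIrr_isCharacter χ.2), classInner_def]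
    have h3 : ∑ g : N, res N (χ : G → ℂ) g * conj ((1 : N → ℂ) g) = Nat.card N * mult N χ := by
      rw [← mult_spec]
      refine Finset.sum_congr rfl fun h _ => ?_
      simp [res_apply]
    rw [h3, inv_mul_cancel_left₀ (card_ne N)]
  rw [h2] at h1
  exact_mod_cast h1.symm

open scoped Classical in
/-- The norm of the permutation character. -/
theorem perm_norm [Fintype N] :
    (Nat.card N : ℂ) ^ 2 * classInner (perm N) (perm N) =
      ((∑ x : G, (Finset.univ.filter (fun g : N => x⁻¹ * (g : G) * x ∈ N)).card : ℕ) : ℂ) := by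
  have h1 : classInner (perm N) (perm N) = classInner (res N (perm N)) 1 := by
    conv_lhs => rw [perm]
    exact classInner_res_symm N isCharacter_one (perm_isCharacter N)
  rw [h1, classInner_def, sq, mul_assoc, mul_inv_cancel_left₀ (card_ne N), Finset.mul_sum]
  have h2 : ∀ g : N, (Nat.card N : ℂ) * (res N (perm N) g * conj ((1 : N → ℂ) g)) =
      ∑ x : G, if x⁻¹ * (g : G) * x ∈ N then (1 : ℂ) else 0 := by
    intro g
    rw [Pi.one_apply, map_one, mul_one, res_apply, perm_apply, Finset.card_filter]
    push_cast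
    rfl
  rw [Finset.sum_congr rfl fun g _ => h2 g, Finset.sum_comm]
  push_cast
  refine Finset.sum_congr rfl fun x _ => ?_
  rw [Finset.card_filter]
  push_cast
  rfl

end perm

end Cfsg.Agent.SmallSimple.BrauerTypesBasic
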