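import Mathlib
import Cfsg.Prelude.Def_Characters
import Cfsg.Agent.Characters.Core
import Cfsg.Agent.SmallSimple.BrauerTypesArith
import Cfsg.Agent.SmallSimple.BrauerTypesBasic
import Cfsg.Agent.SmallSimple.BrauerTypes

/-!
The characters half of Brauer's theorem S0996, main part.
-/

set_option autoImplicit false
set_option linter.unusedSectionVars false
open Cfsg
open scoped ComplexConjugate

namespace Cfsg.Agent.SmallSimple.BrauerTypesMain

open Cfsg.Agent.Characters.Core Cfsg.Agent.SmallSimple.BrauerTypesBasic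
  Cfsg.Agent.SmallSimple.BrauerTypesArith Cfsg.Agent.SmallSimple.BrauerTypes

universe u

variable {G : Type u} [Group G] [Finite G] {p n e t : ℕ} {P N : Subgroup G} [Fintype P] [Fintype N]

section sets
variable (D : BData p P e t)

open scoped Classical in
/-- nonexceptional, positive, nontrivial -/
noncomputable def setA : Finset (IrrCharacter G) :=
  (D.NE.erase (triv G)).filter (fun χ => D.ε χ = 1)

open scoped Classical in
/-- nonexceptional, negative -/
noncomputable def setB : Finset (IrrCharacter G) :=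
  (D.NE.erase (triv G)).filter (fun χ => ¬ D.ε χ = 1)

open scoped Classical in
/-- characters vanishing on `P` minus `1` -/
noncomputable def setR [Fintype (IrrCharacter G)] : Finset (IrrCharacter G) :=
  (D.NE ∪ D.X)ᶜ

theorem sum_NE {M : Type*} [AddCommMonoid M] (f : IrrCharacter G → M) :
    ∑ χ ∈ D.NE, f χ = f (triv G) + (∑ χ ∈ setA D, f χ + ∑ χ ∈ setB D, f χ) := by
  classical
  rw [← Finset.add_sum_erase _ _ D.one_mem.1]
  congr 1
  exact (Finset.sum_filter_add_sum_filter_not _ _ _).symm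

theorem sum_all {M : Type*} [AddCommMonoid M] [Fintype (IrrCharacter G)]
    (f : IrrCharacter G → M) :
    ∑ χ, f χ = f (triv G) + (∑ χ ∈ setA D, f χ + ∑ χ ∈ setB D, f χ) + ∑ χ ∈ D.X, f χ +
      ∑ χ ∈ setR D, f χ := by
  classical
  rw [← Finset.sum_add_sum_compl (D.NE ∪ D.X), Finset.sum_union D.disj, sum_NE]
  rfl

end sets

variable (H : Hyp p n e t P N) (D : BData p P e t)
include H D

theorem card_AB : (setA D).card + (setB D).card + 1 = e := by
  have h := sum_NE D (fun _ => 1)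
  simp only [Finset.sum_const, smul_eq_mul, mul_one] at h
  rw [D.card_NE] at h
  omega

theorem mem_A {χ : IrrCharacter G} (h : χ ∈ setA D) : deg χ = 1 + n * p ∧ mult P χ = n + 1 := by
  classical
  simp only [setA, Finset.mem_filter, Finset.mem_erase] at h
  rcases NE_pos H D h.1.2 h.2 with h1 | h1
  · exact absurd h1.1 h.1.1
  · exact h1

theorem mem_B {χ : IrrCharacter G} (h : χ ∈ setB D) :
    deg χ = p - 1 ∧ mult P χ = 0 ∧ D.ε χ = -1 := by
  classical
  simp only [setB, Finset.mem_filter, Finset.mem_erase] at h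
  have hε : D.ε χ = -1 := (D.ε_eq χ h.1.2).resolve_left h.2
  exact ⟨(NE_neg H D h.1.2 hε).1, (NE_neg H D h.1.2 hε).2, hε⟩

theorem eps_A {χ : IrrCharacter G} (h : χ ∈ setA D) : D.ε χ = 1 := by
  classical
  simp only [setA, Finset.mem_filter] at h
  exact h.2

theorem mem_R [Fintype (IrrCharacter G)] {χ : IrrCharacter G} (h : χ ∈ setR D) :
    p * mult P χ = deg χ := by
  classical
  simp only [setR, Finset.mem_compl, Finset.mem_union, not_or] at h
  exact m0_rest H D h.1 h.2

theorem exists_X : ∃ Θ, Θ ∈ D.X := by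
  have h := t_pos H D
  rw [← D.card_X] at h
  exact Finset.card_pos.mp h

theorem p_cast : ((p - 1 : ℕ) : ℤ) = p - 1 := by
  have := H.prime.two_le
  push_cast [Nat.cast_sub (show 1 ≤ p by omega)]
  ring

/-- the relation on degrees -/
theorem relation {Θ : IrrCharacter G} (hΘ : Θ ∈ D.X) :
    (1 : ℤ) + (setA D).card * (1 + n * p) - (setB D).card * (p - 1) = D.d * deg Θ := by
  have h1 := D.rel Θ hΘ 1 (by
    rw [orderOf_one]
    intro h
    have := Nat.le_of_dvd (by norm_num) h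
    have := H.prime.two_le
    omega)
  simp only [deg_spec] at h1
  have h2 : ∑ χ ∈ D.NE, D.ε χ * (deg χ : ℤ) = D.d * deg Θ := by
    exact_mod_cast h1
  rw [sum_NE, deg_triv, D.one_mem.2] at h2
  have hA : ∑ χ ∈ setA D, D.ε χ * (deg χ : ℤ) = (setA D).card * (1 + n * p) := by
    rw [Finset.sum_congr rfl (g := fun _ => ((1 : ℤ) + n * p))]
    · rw [Finset.sum_const, nsmul_eq_mul]
    · intro χ hχ
      rw [eps_A H D hχ, (mem_A H D hχ).1]; push_cast; ring
  have hB : ∑ χ ∈ setB D, D.ε χ * (deg χ : ℤ) = - ((setB D).card * (p - 1)) := by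
    rw [Finset.sum_congr rfl (g := fun _ => (-((p : ℤ) - 1)))]
    · rw [Finset.sum_const, nsmul_eq_mul]; ring
    · intro χ hχ
      rw [(mem_B H D hχ).2.2, (mem_B H D hχ).1, p_cast H D]; ring
  rw [hA, hB] at h2
  push_cast at h2
  linarith

theorem sum_squares [Fintype (IrrCharacter G)] {c : ℕ} (hc : ∀ Θ ∈ D.X, deg Θ = c) :
    (1 : ℤ) + (setA D).card * (1 + n * p) ^ 2 + (setB D).card * (p - 1) ^ 2 + t * c ^ 2 +
      p ^ 2 * (∑ χ ∈ setR D, (mult P χ) ^ 2 : ℕ) = p * e * (1 + n * p) := by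
  have h1 := sum_deg_sq (G := G)
  rw [H.cardG, sum_all D] at h1
  have hA : ∑ χ ∈ setA D, deg χ ^ 2 = (setA D).card * (1 + n * p) ^ 2 := by
    rw [Finset.sum_congr rfl (g := fun _ => (1 + n * p) ^ 2)]
    · rw [Finset.sum_const, smul_eq_mul]
    · intro χ hχ
      rw [(mem_A H D hχ).1]
  have hB : ∑ χ ∈ setB D, deg χ ^ 2 = (setB D).card * (p - 1) ^ 2 := by
    rw [Finset.sum_congr rfl (g := fun _ => (p - 1) ^ 2)]
    · rw [Finset.sum_const, smul_eq_mul]
    · intro χ hχ
      rw [(mem_B H D hχ).1]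
  have hX : ∑ χ ∈ D.X, deg χ ^ 2 = t * c ^ 2 := by
    rw [Finset.sum_congr rfl (g := fun _ => c ^ 2)]
    · rw [Finset.sum_const, smul_eq_mul, D.card_X]
    · intro χ hχ
      rw [hc χ hχ]
  have hR : ∑ χ ∈ setR D, deg χ ^ 2 = p ^ 2 * (∑ χ ∈ setR D, (mult P χ) ^ 2 : ℕ) := by
    rw [Finset.mul_sum]
    refine Finset.sum_congr rfl fun χ hχ => ?_
    rw [← mem_R H D hχ]; ring
  rw [hA, hB, hX, hR, deg_triv] at h1
  have h2 : ((1 ^ 2 + ((setA D).card * (1 + n * p) ^ 2 + (setB D).card * (p - 1) ^ 2) + t * c ^ 2 +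
      p ^ 2 * (∑ χ ∈ setR D, (mult P χ) ^ 2) : ℕ) : ℤ) = ((p * e * (1 + n * p) : ℕ) : ℤ) := by
    exact_mod_cast h1
  push_cast at h2
  rw [p_cast H D] at h2
  push_cast
  linarith

/-- The structure of the degrees: cases. -/
theorem cases [Fintype (IrrCharacter G)] :
    (∑ χ ∈ setR D, (mult P χ) ^ 2 = n) ∧
    ((D.d = 1 ∧ ((setA D).card : ℤ) * (n + 1) = e - 1) ∨
     (D.d = -1 ∧ (∃ k : ℕ, k * t = n + 1) ∧
        ((n : ℤ) + 1) * (t * (setA D).card + 1) = t * (e - 1))) := by
  obtain ⟨Θ, hΘ⟩ := exists_X H D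
  have hrel := relation H D hΘ
  have hAB : ((setA D).card : ℤ) + (setB D).card + 1 = e := by exact_mod_cast card_AB H D
  have hp : (2 : ℤ) ≤ p := by exact_mod_cast H.prime.two_le
  have het : (e : ℤ) * t = p - 1 := by
    rw [← p_cast H D, ← H.het]; push_cast; ring
  have ht : (1 : ℤ) ≤ t := by exact_mod_cast t_pos H D
  rcases D.d_eq with hd | hd
  · have hc : ∀ Θ ∈ D.X, deg Θ = e := fun Θ hΘ => (X_pos H D hd hΘ).1
    rw [hd, hc Θ hΘ, one_mul] at hrel
    have h1 := case_two hp hAB hrel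
    have h2 := case_two_sum hp hAB het h1 (sum_squares H D hc)
    refine ⟨by exact_mod_cast h2, Or.inl ⟨hd, h1⟩⟩
  · have hc : ∀ Θ' ∈ D.X, deg Θ' = deg Θ := by
      intro Θ' hΘ'
      have h1 := (X_neg H D hd hΘ').1
      have h2 := (X_neg H D hd hΘ).1
      exact Nat.eq_of_mul_eq_mul_right (t_pos H D) (h1.trans h2.symm)
    have hct : (deg Θ : ℤ) * t = 1 + n * p := by exact_mod_cast (X_neg H D hd hΘ).1
    rw [hd, neg_one_mul] at hrel
    have h1 := case_one hp hAB het hct hrel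
    have h2 := case_one_sum hp ht hAB het hct h1 (sum_squares H D hc)
    refine ⟨by exact_mod_cast h2, Or.inr ⟨hd, ⟨mult P Θ, (X_neg H D hd hΘ).2⟩, h1⟩⟩

/-! ### The permutation character -/

omit [Fintype P] in
theorem index_N : N.index = 1 + n * p := by
  have h := N.card_mul_index
  rw [H.cardN, H.cardG] at h
  have hp := H.prime.pos
  have he := H.he
  exact Nat.eq_of_mul_eq_mul_left (Nat.mul_pos hp (by omega)) h

theorem perm_P [Fintype G] {y : G} (hy : y ∈ P) (hy1 : y ≠ 1) : perm N y = 1 := by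
  classical
  have h := perm_apply N y
  have hf : (Finset.univ.filter (fun x : G => x⁻¹ * y * x ∈ N)) =
      Finset.univ.filter (fun x : G => x ∈ N) := by
    ext x
    simp only [Finset.mem_filter, Finset.mem_univ, true_and]
    constructor
    · exact H.ti y hy hy1 x
    · intro hx
      exact N.mul_mem (N.mul_mem (N.inv_mem hx) (H.le hy)) hx
  have hcard : (Finset.univ.filter (fun x : G => x ∈ N)).card = Nat.card N := by
    rw [Nat.card_eq_fintype_card, Fintype.card_subtype]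
  rw [hf, hcard] at h
  have h2 : (Nat.card N : ℂ) * perm N y = Nat.card N * 1 := by rw [mul_one]; exact h
  exact mul_left_cancel₀ (card_ne N) h2

/-- The coefficients of the permutation character. -/
theorem perm_coeffs [Fintype G] [Fintype (IrrCharacter G)] {c : IrrCharacter G → ℕ}
    (hc : perm N = ∑ χ : IrrCharacter G, c χ • (χ : G → ℂ)) : ∑ χ, c χ ^ 2 = n + 1 := by
  classical
  have hle : ∀ χ, c χ ≤ mult P χ := by
    intro χ
    rw [perm_coeff N hc χ]
    exact mult_mono H.le χ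
  have htriv : c (triv G) = 1 := by rw [perm_coeff N hc, mult_triv]
  have hp2 := H.prime.two_le
  -- first equation
  have h1 : ∑ χ, c χ * mult P χ = n + 1 := by
    have h := sum_comb P hc
    rw [sum_const_off (c := 1) H.cardP (fun x hx hx1 => perm_P H D hx hx1), perm_one,
      index_N H D, H.cardP] at h
    have h2 : ((p * (n + 1) : ℕ) : ℂ) = ((p * ∑ χ, c χ * mult P χ : ℕ) : ℂ) := by
      rw [Nat.cast_mul p (∑ χ, c χ * mult P χ), ← h]; push_cast; ring
    have h3 : p * (n + 1) = p * ∑ χ, c χ * mult P χ := by exact_mod_cast h2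
    exact (Nat.eq_of_mul_eq_mul_left (by omega) h3).symm
  have h2 : ∑ χ, c χ * deg χ = 1 + n * p := by
    have h := one_comb hc
    rw [perm_one, index_N H D] at h
    exact_mod_cast h.symm
  rw [sum_all D, htriv, mult_triv] at h1
  rw [sum_all D, htriv, deg_triv] at h2
  have hA1 : ∑ χ ∈ setA D, c χ * mult P χ = (∑ χ ∈ setA D, c χ) * (n + 1) := by
    rw [Finset.sum_mul]
    exact Finset.sum_congr rfl fun χ hχ => by rw [(mem_A H D hχ).2]
  have hA2 : ∑ χ ∈ setA D, c χ * deg χ = (∑ χ ∈ setA D, c χ) * (1 + n * p) := by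
    rw [Finset.sum_mul]
    exact Finset.sum_congr rfl fun χ hχ => by rw [(mem_A H D hχ).1]
  have hB0 : ∀ χ ∈ setB D, c χ = 0 := by
    intro χ hχ
    have := hle χ
    rw [(mem_B H D hχ).2.1] at this
    omega
  have hB1 : ∑ χ ∈ setB D, c χ * mult P χ = 0 :=
    Finset.sum_eq_zero fun χ hχ => by rw [hB0 χ hχ, zero_mul]
  have hB2 : ∑ χ ∈ setB D, c χ * deg χ = 0 :=
    Finset.sum_eq_zero fun χ hχ => by rw [hB0 χ hχ, zero_mul]
  have hR2 : ∑ χ ∈ setR D, c χ * deg χ = p * ∑ χ ∈ setR D, c χ * mult P χ := by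
    rw [Finset.mul_sum]
    exact Finset.sum_congr rfl fun χ hχ => by rw [← mem_R H D hχ]; ring
  have hX : (p : ℤ) * (∑ χ ∈ D.X, c χ * mult P χ : ℕ) - (∑ χ ∈ D.X, c χ * deg χ : ℕ) =
      - (D.d * e * (∑ χ ∈ D.X, c χ : ℕ)) := by
    push_cast
    rw [Finset.mul_sum, Finset.mul_sum, ← Finset.sum_sub_distrib, ← Finset.sum_neg_distrib]
    refine Finset.sum_congr rfl fun χ hχ => ?_
    have := m0_X H D hχ
    linear_combination (c χ : ℤ) * this
  rw [hA1, hB1] at h1
  rw [hA2, hB2, hR2] at h2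
  -- combine
  have hkey : ((p : ℤ) - 1) * (∑ χ ∈ setA D, c χ : ℕ) =
      D.d * e * (∑ χ ∈ D.X, c χ : ℕ) := by
    have h1' : ((1 * 1 + ((∑ χ ∈ setA D, c χ) * (n + 1) + 0) + ∑ χ ∈ D.X, c χ * mult P χ +
        ∑ χ ∈ setR D, c χ * mult P χ : ℕ) : ℤ) = ((n + 1 : ℕ) : ℤ) := by exact_mod_cast h1
    have h2' : ((1 * 1 + ((∑ χ ∈ setA D, c χ) * (1 + n * p) + 0) + ∑ χ ∈ D.X, c χ * deg χ +
        p * ∑ χ ∈ setR D, c χ * mult P χ : ℕ) : ℤ) = ((1 + n * p : ℕ) : ℤ) := by exact_mod_cast h2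
    push_cast at h1' h2' hX ⊢
    linear_combination (p : ℤ) * h1' - h2' - hX
  have hX0 : ∑ χ ∈ D.X, c χ = 0 := by
    rcases D.d_eq with hd | hd
    · refine Finset.sum_eq_zero fun χ hχ => ?_
      have := hle χ
      rw [(X_pos H D hd hχ).2] at this
      omega
    · rw [hd] at hkey
      by_contra hne
      have h3 : (1 : ℤ) ≤ (∑ χ ∈ D.X, c χ : ℕ) := by
        have : 1 ≤ ∑ χ ∈ D.X, c χ := Nat.one_le_iff_ne_zero.mpr hne
        exact_mod_cast this
      have h4 : (0 : ℤ) ≤ (∑ χ ∈ setA D, c χ : ℕ) := by positivity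
      have h5 : (2 : ℤ) ≤ p := by exact_mod_cast hp2
      have h6 : (2 : ℤ) ≤ e := by exact_mod_cast H.he
      have h7 : 0 ≤ ((p : ℤ) - 1) * (∑ χ ∈ setA D, c χ : ℕ) := mul_nonneg (by linarith) h4
      nlinarith
  have hA0 : ∑ χ ∈ setA D, c χ = 0 := by
    rw [hX0] at hkey
    simp only [Nat.cast_zero, mul_zero] at hkey
    have h5 : (2 : ℤ) ≤ p := by exact_mod_cast hp2
    have := (mul_eq_zero.mp hkey).resolve_left (by linarith)
    exact_mod_cast this
  have hX0' : ∀ χ ∈ D.X, c χ = 0 := Finset.sum_eq_zero_iff.mp hX0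
  have hA0' : ∀ χ ∈ setA D, c χ = 0 := Finset.sum_eq_zero_iff.mp hA0
  have hR : ∑ χ ∈ setR D, c χ * mult P χ = n := by
    have hXX : ∑ χ ∈ D.X, c χ * mult P χ = 0 :=
      Finset.sum_eq_zero fun χ hχ => by rw [hX0' χ hχ, zero_mul]
    rw [hA0, hXX] at h1
    omega
  have hsq := (cases H D).1
  have heq : ∀ χ ∈ setR D, c χ * mult P χ = mult P χ ^ 2 := by
    refine (Finset.sum_eq_sum_iff_of_le ?_).mp (hR.trans hsq.symm)
    intro χ _
    rw [sq]
    exact Nat.mul_le_mul_right _ (hle χ)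
  have hceq : ∀ χ ∈ setR D, c χ ^ 2 = mult P χ ^ 2 := by
    intro χ hχ
    have hpos : 0 < mult P χ := by
      rcases Nat.eq_zero_or_pos (mult P χ) with h | h
      · have h3 := mem_R H D hχ
        have h4 := deg_pos χ
        rw [h] at h3
        omega
      · exact h
    have h3 := heq χ hχ
    rw [sq] at h3
    rw [Nat.eq_of_mul_eq_mul_right hpos h3]
  rw [sum_all D, htriv]
  have e1 : ∑ χ ∈ setA D, c χ ^ 2 = 0 :=
    Finset.sum_eq_zero fun χ hχ => by rw [hA0' χ hχ]; rfl
  have e2 : ∑ χ ∈ setB D, c χ ^ 2 = 0 :=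
    Finset.sum_eq_zero fun χ hχ => by rw [hB0 χ hχ]; rfl
  have e3 : ∑ χ ∈ D.X, c χ ^ 2 = 0 :=
    Finset.sum_eq_zero fun χ hχ => by rw [hX0' χ hχ]; rfl
  have e4 : ∑ χ ∈ setR D, c χ ^ 2 = n := by
    rw [← hsq]
    exact Finset.sum_congr rfl hceq
  rw [e1, e2, e3, e4]
  omega

open scoped Classical in
/-- sizes of the intersections `N ∩ N^x` -/
theorem inter_le {x : G} (hx : x ∉ N) :
    (Finset.univ.filter (fun g : N => x⁻¹ * (g : G) * x ∈ N)).card ≤ e := by
  let K : Subgroup N := (N.comap (MulAut.conj x⁻¹).toMonoidHom).subgroupOf N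
  have hK : ∀ g : N, g ∈ K ↔ x⁻¹ * (g : G) * x ∈ N := by
    intro g
    simp [K, Subgroup.mem_subgroupOf, Subgroup.mem_comap]
  have hcard : (Finset.univ.filter (fun g : N => x⁻¹ * (g : G) * x ∈ N)).card = Nat.card K := by
    rw [← Fintype.card_subtype, ← Nat.card_eq_fintype_card]
    exact Nat.card_congr (Equiv.subtypeEquivRight fun g => (hK g).symm)
  rw [hcard]
  have hdvd : Nat.card K ∣ p * e := by
    rw [← H.cardN]; exact Subgroup.card_subgroup_dvd_card K
  have hnd : ¬ p ∣ Nat.card K := by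
    intro h
    have := Fact.mk H.prime
    obtain ⟨g, hg⟩ := exists_prime_orderOf_dvd_card' p h
    have hg1 : orderOf ((g : N) : G) = p := by
      rw [Subgroup.orderOf_coe, Subgroup.orderOf_coe, hg]
    have hgP := H.memP _ (g : N).2 hg1
    have hgne : ((g : N) : G) ≠ 1 := by
      intro h1
      rw [h1, orderOf_one] at hg1
      exact H.prime.one_lt.ne hg1
    exact hx (H.ti _ hgP hgne x ((hK g.1).mp g.2))
  have h1 : Nat.card K ∣ e :=
    Nat.Coprime.dvd_of_dvd_mul_left ((Nat.Prime.coprime_iff_not_dvd H.prime).mpr hnd).symm hdvd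
  have he := H.he
  exact Nat.le_of_dvd (by omega) h1

open scoped Classical in
theorem inter_eq {x : G} (hx : x ∉ N) :
    (Finset.univ.filter (fun g : N => x⁻¹ * (g : G) * x ∈ N)).card = e := by
  have := Fintype.ofFinite G
  have := finite_irr (G := G)
  have := Fintype.ofFinite (IrrCharacter G)
  obtain ⟨c, hc⟩ := isCharacter_iff.1 (perm_isCharacter N)
  have h1 := perm_coeffs H D hc
  have h2 := perm_norm N
  rw [norm_comb hc, h1] at h2
  have h3 : Nat.card N ^ 2 * (n + 1) =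
      ∑ x : G, (Finset.univ.filter (fun g : N => x⁻¹ * (g : G) * x ∈ N)).card := by
    exact_mod_cast h2
  rw [← Finset.sum_filter_add_sum_filter_not Finset.univ (fun x : G => x ∈ N)] at h3
  have h4 : ∑ x with x ∈ N, (Finset.univ.filter (fun g : N => x⁻¹ * (g : G) * x ∈ N)).card =
      Nat.card N * Nat.card N := by
    have : ∀ x ∈ Finset.univ.filter (fun x : G => x ∈ N),
        (Finset.univ.filter (fun g : N => x⁻¹ * (g : G) * x ∈ N)).card = Nat.card N := by
      intro x hx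
      rw [Finset.mem_filter] at hx
      rw [Finset.filter_true_of_mem, Finset.card_univ, Nat.card_eq_fintype_card]
      intro g _
      exact N.mul_mem (N.mul_mem (N.inv_mem hx.2) g.2) hx.2
    rw [Finset.sum_congr rfl this, Finset.sum_const, smul_eq_mul]
    congr 1
    rw [Nat.card_eq_fintype_card, Fintype.card_subtype]
  rw [h4] at h3
  have hnot : (Finset.univ.filter (fun x : G => ¬ x ∈ N)).card = Nat.card N * (n * p) := by
    have h5 := Finset.card_filter_add_card_filter_not (s := (Finset.univ : Finset G)) (fun x : G => x ∈ N)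
    have h6 : (Finset.univ.filter (fun x : G => x ∈ N)).card = Nat.card N := by
      rw [Nat.card_eq_fintype_card, Fintype.card_subtype]
    rw [h6, Finset.card_univ, ← Nat.card_eq_fintype_card, H.cardG, ← H.cardN] at h5
    have : Nat.card N * (1 + n * p) = Nat.card N + Nat.card N * (n * p) := by ring
    omega
  have hsum : ∑ x with ¬ x ∈ N, (Finset.univ.filter (fun g : N => x⁻¹ * (g : G) * x ∈ N)).card =
      ∑ x : G with ¬ x ∈ N, e := by
    rw [Finset.sum_const, smul_eq_mul, hnot]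
    have e1 : Nat.card N ^ 2 * (n + 1) = Nat.card N * Nat.card N + Nat.card N * Nat.card N * n := by
      ring
    have e2 : Nat.card N * (n * p) * e = Nat.card N * Nat.card N * n := by
      conv_rhs => rw [mul_assoc, H.cardN]
      rw [H.cardN]; ring
    omega
  have := (Finset.sum_eq_sum_iff_of_le (fun x hx => inter_le H D (Finset.mem_filter.mp hx).2)).mp
    hsum x (by simp [hx])
  exact this

end Cfsg.Agent.SmallSimple.BrauerTypesMain
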