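import Mathlib
import Cfsg.Agent.SmallSimple.PSL2Recog

set_option autoImplicit false

/-!
# Recognition of PSL(2,p) among perfect groups
-/

namespace Cfsg.Agent.SmallSimple.PSL2Perfect

open OnePoint

/-- A perfect group with a faithful 2-transitive action whose point stabiliser is solvable is
simple. -/
theorem isSimpleGroup_of_two_transitive {G X : Type*} [Group G] [Nontrivial G]
    [MulAction G X] [FaithfulSMul G X] (hperf : commutator G = ⊤)
    (h2 : MulAction.IsMultiplyPretransitive G X 2) (a : X)
    (hs : Group.IsSolvable (MulAction.stabilizer G a)) : IsSimpleGroup G := by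
  have hprim : MulAction.IsPreprimitive G X := MulAction.isPreprimitive_of_is_two_pretransitive h2
  have hq : MulAction.IsQuasiPreprimitive G X := MulAction.IsPreprimitive.isQuasiPreprimitive
  refine ⟨fun N hN => ?_⟩
  by_cases hfix : MulAction.fixedPoints N X = Set.univ
  · left
    rw [Subgroup.eq_bot_iff_forall]
    intro g hg
    apply FaithfulSMul.eq_of_smul_eq_smul (α := X)
    intro x
    rw [one_smul]
    have hx : x ∈ MulAction.fixedPoints N X := by rw [hfix]; trivial
    exact hx ⟨g, hg⟩
  · right
    have htr : MulAction.IsPretransitive N X := hq.isPretransitive_of_normal hfix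
    -- the stabiliser maps onto the quotient
    have hsurj : Function.Surjective
        ((QuotientGroup.mk' N).comp (MulAction.stabilizer G a).subtype) := by
      intro q
      obtain ⟨g, rfl⟩ := QuotientGroup.mk'_surjective N q
      obtain ⟨n, hn⟩ := MulAction.exists_smul_eq N (g • a) a
      have hng : (n : G) * g ∈ MulAction.stabilizer G a := by
        rw [MulAction.mem_stabilizer_iff, mul_smul]
        exact hn
      refine ⟨⟨(n : G) * g, hng⟩, ?_⟩
      change (QuotientGroup.mk' N) ((n : G) * g) = (QuotientGroup.mk' N) g
      rw [map_mul]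
      have : (QuotientGroup.mk' N) (n : G) = 1 := by
        rw [QuotientGroup.mk'_apply, QuotientGroup.eq_one_iff]
        exact n.2
      rw [this, one_mul]
    have hsol : Group.IsSolvable (G ⧸ N) := Group.isSolvable_of_surjective hsurj
    by_contra hne
    have hnt : Nontrivial (G ⧸ N) := QuotientGroup.nontrivial_iff.2 hne
    have hlt := Group.IsSolvable.commutator_lt_top_of_nontrivial (G ⧸ N)
    apply hlt.ne
    have h1 : Subgroup.map (QuotientGroup.mk' N) (commutator G) = commutator (G ⧸ N) := by
      rw [commutator_def, commutator_def, Subgroup.map_commutator,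
        Subgroup.map_top_of_surjective _ (QuotientGroup.mk'_surjective N)]
    rw [← h1, hperf, Subgroup.map_top_of_surjective _ (QuotientGroup.mk'_surjective N)]

/-- The normaliser of a self-centralising cyclic subgroup is solvable. -/
theorem isSolvable_normalizer {G : Type*} [Group G] (P : Subgroup G) [IsCyclic P]
    (hC : Subgroup.centralizer (P : Set G) ≤ P) :
    Group.IsSolvable (Subgroup.normalizer (P : Set G)) := by
  have h1 : Group.IsSolvable (MulAut P) :=
    Group.isSolvable_of_isSolvable_injective (f := (IsCyclic.mulAutMulEquiv P).toMonoidHom)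
      (IsCyclic.mulAutMulEquiv P).injective
  have h0 : Group.IsSolvable P := by
    apply Group.isSolvable_of_comm
    intro a b
    exact (IsCyclic.isMulCommutative (α := P)).is_comm.comm a b
  refine Group.isSolvable_of_ker_le_range (Subgroup.inclusion Subgroup.le_normalizer)
    P.normalizerMonoidHom ?_
  intro g hg
  rw [Subgroup.normalizerMonoidHom_ker, Subgroup.mem_subgroupOf] at hg
  exact ⟨⟨g.1, hC hg⟩, rfl⟩

/-- A perfect group of order `p (p^2 - 1) / 2` with a self-centralising element of order `p` and
with `p + 1` Sylow `p`-subgroups is simple. -/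
theorem isSimpleGroup_of_perfect_card {p : ℕ} [Fact p.Prime] (hp : p ≠ 2) {G : Type*} [Group G]
    [Finite G] (hperf : commutator G = ⊤) {z : G} (hz : orderOf z = p)
    (hC : Subgroup.centralizer ({z} : Set G) = Subgroup.zpowers z)
    (hcard : Nat.card G * 2 = (p + 1) * p * (p - 1))
    (hsyl : Nat.card (Sylow p G) = p + 1) : IsSimpleGroup G := by
  have hpp : p.Prime := Fact.out
  have hp3 : 3 ≤ p := by
    have := hpp.two_le
    omega
  have hz1 : z ≠ 1 := by
    rintro rfl
    rw [orderOf_one] at hz
    omega
  have hnt : Nontrivial G := ⟨z, 1, hz1⟩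
  have hPp : IsPGroup p (Subgroup.zpowers z) := by
    apply IsPGroup.of_card (n := 1)
    rw [Nat.card_zpowers, hz, pow_one]
  obtain ⟨P, hP⟩ := hPp.exists_le_sylow
  have hPcard : Nat.card P = p := by
    rw [Sylow.card_eq_multiplicity]
    have h1 : (Nat.card G * 2).factorization p = ((p + 1) * p * (p - 1)).factorization p := by
      rw [hcard]
    rw [Nat.factorization_mul Nat.card_pos.ne' (by norm_num),
      Nat.factorization_mul (by positivity) (by omega),
      Nat.factorization_mul (by omega) hpp.ne_zero, Finsupp.add_apply, Finsupp.add_apply,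
      Finsupp.add_apply, hpp.factorization_self,
      Nat.factorization_eq_zero_of_not_dvd (n := 2) (p := p)
        (by
          intro h
          have := Nat.le_of_dvd (by norm_num) h
          omega),
      Nat.factorization_eq_zero_of_not_dvd (n := p + 1) (p := p)
        (by
          intro h
          have := (Nat.dvd_add_right (dvd_refl p)).1 h
          have := Nat.le_of_dvd (by norm_num) this
          omega),
      Nat.factorization_eq_zero_of_not_dvd (n := p - 1) (p := p)
        (by
          intro h
          have := Nat.le_of_dvd (by omega) h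
          omega)] at h1
    rw [show (Nat.card G).factorization p = 1 by omega, pow_one]
  have hPeq : Subgroup.zpowers z = P := by
    apply Subgroup.eq_of_le_of_card_ge hP
    rw [hPcard, Nat.card_zpowers, hz]
  have hcent : Subgroup.centralizer ((P : Subgroup G) : Set G) ≤ P := by
    intro g hg
    rw [← hPeq, ← hC]
    rw [Subgroup.mem_centralizer_singleton_iff]
    rw [Subgroup.mem_centralizer_iff] at hg
    exact (hg z (hP (Subgroup.mem_zpowers z))).symm
  have hPcyc : IsCyclic (P : Subgroup G) := by
    rw [← hPeq]; infer_instance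
  -- fixed points of `z`
  have hfix : ∀ Q : Sylow p G, z • Q = Q → Q = P := by
    intro Q hQ
    have h1 : z ∈ Subgroup.normalizer ((Q : Subgroup G) : Set G) :=
      Sylow.smul_eq_iff_mem_normalizer.1 hQ
    have h2 : Subgroup.zpowers z ≤ (Q : Subgroup G) := by
      have h3 := hPp.inf_normalizer_sylow Q
      have h4 : Subgroup.zpowers z ≤ Subgroup.normalizer ((Q : Subgroup G) : Set G) := by
        rw [Subgroup.zpowers_le]; exact h1
      exact (le_inf le_rfl h4).trans (h3.le.trans inf_le_right)
    rw [hPeq] at h2
    have h5 : Nat.card Q = Nat.card P := by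
      rw [Sylow.card_eq_multiplicity, Sylow.card_eq_multiplicity]
    have h6 : (P : Subgroup G) = Q := Subgroup.eq_of_le_of_card_ge h2 h5.le
    exact Sylow.ext h6.symm
  have hsylnt : Nontrivial (Sylow p G) := by
    rw [← Finite.one_lt_card_iff_nontrivial, hsyl]; omega
  -- faithfulness
  have hfaith : FaithfulSMul G (Sylow p G) := by
    constructor
    intro g h hgh
    set K := (MulAction.toPermHom G (Sylow p G)).ker with hK
    have hKmem : ∀ k, k ∈ K ↔ ∀ Q : Sylow p G, k • Q = Q := by
      intro k
      rw [hK, MonoidHom.mem_ker]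
      constructor
      · intro h Q
        have := DFunLike.congr_fun h Q
        exact this
      · intro h
        ext Q : 1
        exact h Q
    have hKbot : ∀ k ∈ K, k = 1 := by
      have hint : ∀ k ∈ K, k ∈ (P : Subgroup G) → k = 1 := by
        intro k hkK hkP
        by_contra hk1
        have hzk : z ∈ Subgroup.zpowers k := by
          have h1 : orderOf k = p := by
            have h2 : orderOf k ∣ p := by
              rw [← hPcard]
              have := orderOf_dvd_natCard (⟨k, hkP⟩ : (P : Subgroup G))
              rwa [Subgroup.orderOf_mk] at this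
            rcases (Nat.dvd_prime hpp).1 h2 with h3 | h3
            · exact (hk1 (orderOf_eq_one_iff.1 h3)).elim
            · exact h3
          have h4 : Subgroup.zpowers k = P := by
            apply Subgroup.eq_of_le_of_card_ge
            · rw [Subgroup.zpowers_le]; exact hkP
            · rw [hPcard, Nat.card_zpowers, h1]
          rw [h4]
          exact hP (Subgroup.mem_zpowers z)
        have hzK : z ∈ K := (Subgroup.zpowers_le.2 hkK) hzk
        have hall : ∀ Q : Sylow p G, Q = P := fun Q => hfix Q ((hKmem z).1 hzK Q)
        obtain ⟨Q, hQ⟩ := exists_ne P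
        exact hQ (hall Q)
      intro k hk
      have h1 : k * z * k⁻¹ * z⁻¹ ∈ K := by
        have h2 : z * k⁻¹ * z⁻¹ ∈ K := by
          have hKn : K.Normal := by rw [hK]; infer_instance
          exact hKn.conj_mem _ (inv_mem hk) z
        have h3 := mul_mem hk h2
        have h4 : k * (z * k⁻¹ * z⁻¹) = k * z * k⁻¹ * z⁻¹ := by group
        rwa [h4] at h3
      have h2 : k * z * k⁻¹ * z⁻¹ ∈ (P : Subgroup G) := by
        have h3 : k ∈ Subgroup.normalizer ((P : Subgroup G) : Set G) :=
          Sylow.smul_eq_iff_mem_normalizer.1 ((hKmem k).1 hk P)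
        have h4 : k * z * k⁻¹ ∈ (P : Subgroup G) :=
          (Subgroup.mem_normalizer_iff.1 h3 z).1 (hP (Subgroup.mem_zpowers z))
        exact mul_mem h4 (inv_mem (hP (Subgroup.mem_zpowers z)))
      have h3 := hint _ h1 h2
      have h4 : k ∈ Subgroup.centralizer ({z} : Set G) := by
        rw [Subgroup.mem_centralizer_singleton_iff]
        have h5 : k * z * k⁻¹ = z := by
          rw [mul_inv_eq_one] at h3
          exact h3
        exact mul_inv_eq_iff_eq_mul.1 h5
      rw [hC, hPeq] at h4
      exact hint k hk h4
    have hgk : g * h⁻¹ ∈ K := by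
      rw [hKmem]
      intro Q
      rw [mul_smul, hgh, smul_inv_smul]
    exact mul_inv_eq_one.1 (hKbot _ hgk)
  -- transitivity of `zpowers z` on the other Sylow subgroups
  have htransP : ∀ Q R : Sylow p G, Q ≠ P → R ≠ P → ∃ g : G, g • P = P ∧ g • Q = R := by
    intro Q R hQ hR
    have hPfix : ∀ g : Subgroup.zpowers z, (g : G) • P = P := by
      intro g
      rw [Sylow.smul_eq_iff_mem_normalizer]
      apply Subgroup.le_normalizer
      rw [← hPeq]
      exact g.2
    have horb : Nat.card (MulAction.orbit (Subgroup.zpowers z) Q) = p := by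
      have h1 : Nat.card (MulAction.orbit (Subgroup.zpowers z) Q) ∣ p := by
        have h0 := MulAction.index_stabilizer (Subgroup.zpowers z) Q
        rw [← Nat.card_coe_set_eq] at h0
        rw [← h0]
        have h00 := (MulAction.stabilizer (Subgroup.zpowers z) Q).index_dvd_card
        rwa [Nat.card_zpowers, hz] at h00
      rcases (Nat.dvd_prime hpp).1 h1 with h2 | h2
      · exfalso
        apply hQ
        apply hfix
        have h3 : (MulAction.orbit (Subgroup.zpowers z) Q).Subsingleton := by
          rw [← Set.subsingleton_coe]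
          exact (Nat.card_eq_one_iff_unique.1 h2).1
        exact h3 ⟨⟨z, Subgroup.mem_zpowers z⟩, rfl⟩ (MulAction.mem_orbit_self Q)
      · exact h2
    have hsub : MulAction.orbit (Subgroup.zpowers z) Q ⊆ ({P}ᶜ : Set (Sylow p G)) := by
      rintro _ ⟨g, rfl⟩ h
      apply hQ
      have h' : (g : G) • Q = P := h
      have := hPfix g
      rw [← h'] at this
      have h4 := MulAction.injective (g : G) this
      rw [h4] at h'
      exact h'
    have hcompl : ({P}ᶜ : Set (Sylow p G)).ncard = p := by
      rw [Set.ncard_compl, Set.ncard_singleton, hsyl]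
      omega
    have heq : MulAction.orbit (Subgroup.zpowers z) Q = ({P}ᶜ : Set (Sylow p G)) := by
      apply Set.eq_of_subset_of_ncard_le hsub
      rw [hcompl]
      rw [Nat.card_coe_set_eq] at horb
      rw [horb]
    have hRmem : R ∈ MulAction.orbit (Subgroup.zpowers z) Q := by
      rw [heq]; exact hR
    obtain ⟨g, hg⟩ := hRmem
    exact ⟨g, hPfix g, hg⟩
  have h2 : MulAction.IsMultiplyPretransitive G (Sylow p G) 2 := by
    rw [MulAction.is_two_pretransitive_iff]
    intro a b c d hab hcd
    obtain ⟨g1, hg1⟩ := MulAction.exists_smul_eq G a P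
    obtain ⟨g2, hg2⟩ := MulAction.exists_smul_eq G c P
    have hb : g1 • b ≠ P := by
      intro h
      rw [← hg1] at h
      exact hab (MulAction.injective g1 h).symm
    have hd : g2 • d ≠ P := by
      intro h
      rw [← hg2] at h
      exact hcd (MulAction.injective g2 h).symm
    obtain ⟨k, hk1, hk2⟩ := htransP _ _ hb hd
    refine ⟨g2⁻¹ * k * g1, ?_, ?_⟩
    · rw [mul_smul, mul_smul, hg1, hk1, inv_smul_eq_iff, hg2]
    · rw [mul_smul, mul_smul, hk2, inv_smul_smul]
  have hsol : Group.IsSolvable (MulAction.stabilizer G P) := by
    rw [Sylow.stabilizer_eq_normalizer]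
    exact isSolvable_normalizer (P : Subgroup G) hcent
  exact isSimpleGroup_of_two_transitive hperf h2 P hsol

/-- A perfect group of order `p (p^2 - 1) / 2` with a self-centralising element of order `p` and
with `p + 1` Sylow `p`-subgroups is isomorphic to `PSL(2,p)`. -/
theorem psl2_of_perfect_card {p : ℕ} [Fact p.Prime] (hp : p ≠ 2) {G : Type*} [Group G]
    [Finite G] (hperf : commutator G = ⊤) {z : G} (hz : orderOf z = p)
    (hC : Subgroup.centralizer ({z} : Set G) = Subgroup.zpowers z)
    (hcard : Nat.card G * 2 = (p + 1) * p * (p - 1))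
    (hsyl : Nat.card (Sylow p G) = p + 1) {F : Type*} [Field F] [Fintype F]
    (hF : Fintype.card F = p) :
    Nonempty (G ≃* Matrix.ProjectiveSpecialLinearGroup (Fin 2) F) := by
  have := isSimpleGroup_of_perfect_card hp hperf hz hC hcard hsyl
  exact PSL2Recog.psl2_of_simple_card hp hcard hsyl hF

end Cfsg.Agent.SmallSimple.PSL2Perfect
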