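import Mathlib

/-!
Group-theoretic part of Brauer's theorem on groups with a self-centralising Sylow subgroup of
prime order: the geometry of the two-point stabilisers in the action on the Sylow subgroups,
when all of them have the maximal possible order `e = |N(P) : P|`.
-/

set_option autoImplicit false

namespace Cfsg.Agent.SmallSimple.SylowGeometry

open MulAction Subgroup
open scoped Pointwise

variable {G : Type*} [Group G]

/-- The two-point stabiliser `N(P) ∩ N(Q)`. -/
def E {p : ℕ} (P Q : Sylow p G) : Subgroup G := stabilizer G P ⊓ stabilizer G Q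

theorem mem_E {p : ℕ} {P Q : Sylow p G} {g : G} : g ∈ E P Q ↔ g • P = P ∧ g • Q = Q := Iff.rfl

theorem E_comm {p : ℕ} (P Q : Sylow p G) : E P Q = E Q P := inf_comm _ _

/-- The standing hypotheses: Sylow `p`-subgroups of order `p`, self-centralising, `1 + n p` of
them, `|N(P)| = p e`, and all `N(P) ∩ N(Q)`, `P ≠ Q`, of order `e`. -/
structure Geom (p e n : ℕ) (G : Type*) [Group G] : Prop where
  card_sylow : ∀ P : Sylow p G, Nat.card P = p
  cent : ∀ P : Sylow p G, centralizer (P : Set G) = P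
  card_num : Nat.card (Sylow p G) = 1 + n * p
  card_stab : ∀ P : Sylow p G, Nat.card (stabilizer G P) = p * e
  card_E : ∀ P Q : Sylow p G, P ≠ Q → Nat.card (E P Q) = e

section basic

variable {p : ℕ}

theorem mem_stabilizer_of_mem {P : Sylow p G} {x : G} (hx : x ∈ P) : x • P = P :=
  Sylow.smul_eq_iff_mem_normalizer.2 (le_normalizer hx)

theorem conj_mem {P : Sylow p G} {g x : G} (hg : g • P = P) (hx : x ∈ P) : g * x * g⁻¹ ∈ P := by
  have h := Sylow.smul_eq_iff_mem_normalizer.1 hg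
  exact (Subgroup.mem_set_normalizer_iff.1 h x).1 hx

theorem smul_mem_iff (P : Sylow p G) (g x : G) : x ∈ g • P ↔ g⁻¹ * x * g ∈ P := by
  have h : x ∈ (g • P : Sylow p G) ↔ x ∈ MulAut.conj g • (P : Subgroup G) := Iff.rfl
  rw [h, Subgroup.mem_pointwise_smul_iff_inv_smul_mem, ← map_inv, MulAut.smul_def,
    MulAut.conj_apply, inv_inv]
  exact Iff.rfl

theorem mem_E_smul (P Q : Sylow p G) (g x : G) :
    x ∈ E (g • P) (g • Q) ↔ g⁻¹ * x * g ∈ E P Q := by
  rw [mem_E, mem_E]
  constructor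
  · rintro ⟨h1, h2⟩
    constructor
    · rw [mul_smul, mul_smul, h1, inv_smul_smul]
    · rw [mul_smul, mul_smul, h2, inv_smul_smul]
  · rintro ⟨h1, h2⟩
    constructor
    · rw [mul_smul, mul_smul] at h1
      rw [← smul_left_cancel_iff g⁻¹, h1, inv_smul_smul]
    · rw [mul_smul, mul_smul] at h2
      rw [← smul_left_cancel_iff g⁻¹, h2, inv_smul_smul]

end basic

variable {p e n : ℕ} [hp : Fact p.Prime]

namespace Geom

/-- Distinct Sylow subgroups intersect trivially. -/
theorem eq_of_mem (h : Geom p e n G) {P Q : Sylow p G} {x : G} (hx : x ≠ 1)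
    (hxP : x ∈ P) (hxQ : x ∈ Q) : P = Q := by
  have key : ∀ R : Sylow p G, x ∈ R → zpowers x = (R : Subgroup G) := by
    intro R hR
    have hle : zpowers x ≤ (R : Subgroup G) := by rwa [zpowers_le]
    have hfin : Finite R := Nat.finite_of_card_ne_zero (by rw [h.card_sylow]; exact hp.out.ne_zero)
    refine Subgroup.eq_of_le_of_card_ge hle ?_
    have hd : Nat.card (zpowers x) ∣ Nat.card R := Subgroup.card_dvd_of_le hle
    rw [h.card_sylow] at hd
    rcases (Nat.dvd_prime hp.out).1 hd with h1 | h1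
    · exfalso
      rw [Nat.card_zpowers, orderOf_eq_one_iff] at h1
      exact hx h1
    · rw [h1]
      exact le_of_eq (h.card_sylow R)
  exact Sylow.ext ((key P hxP).symm.trans (key Q hxQ))

/-- An element of `P` normalising `Q ≠ P` is trivial. -/
theorem eq_one_of_mem_stabilizer (h : Geom p e n G) {P Q : Sylow p G} (hPQ : P ≠ Q) {x : G}
    (hxP : x ∈ P) (hxQ : x • Q = Q) : x = 1 := by
  by_contra hx
  apply hPQ
  refine h.eq_of_mem hx hxP ?_
  have h1 : (P : Subgroup G) ⊓ normalizer (Q : Set G) = (P : Subgroup G) ⊓ (Q : Subgroup G) :=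
    IsPGroup.inf_normalizer_sylow P.isPGroup' Q
  have h2 : x ∈ (P : Subgroup G) ⊓ normalizer (Q : Set G) :=
    ⟨hxP, Sylow.smul_eq_iff_mem_normalizer.1 hxQ⟩
  rw [h1] at h2
  exact h2.2

/-- The centraliser of a nontrivial element of `P` is `P`. -/
theorem mem_of_commute (h : Geom p e n G) {P : Sylow p G} {x y : G} (hx : x ≠ 1)
    (hxP : x ∈ P) (hxy : x * y = y * x) : y ∈ P := by
  have hle : zpowers x ≤ (P : Subgroup G) := by rwa [zpowers_le]
  have hfin : Finite P := Nat.finite_of_card_ne_zero (by rw [h.card_sylow]; exact hp.out.ne_zero)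
  have heq : zpowers x = (P : Subgroup G) := by
    refine Subgroup.eq_of_le_of_card_ge hle ?_
    have hd : Nat.card (zpowers x) ∣ Nat.card P := Subgroup.card_dvd_of_le hle
    rw [h.card_sylow] at hd
    rcases (Nat.dvd_prime hp.out).1 hd with h1 | h1
    · exfalso
      rw [Nat.card_zpowers, orderOf_eq_one_iff] at h1
      exact hx h1
    · rw [h1]
      exact le_of_eq (h.card_sylow P)
  have h1 : y ∈ centralizer (P : Set G) := by
    rw [Subgroup.mem_centralizer_iff]
    intro g hg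
    have hg' : g ∈ zpowers x := heq ▸ hg
    obtain ⟨k, rfl⟩ := Subgroup.mem_zpowers_iff.1 hg'
    exact (Commute.zpow_left (show Commute x y from hxy) k).eq
  rw [h.cent] at h1
  exact h1

/-- For `a, b ∈ N(P)`, the commutator lies in `P`. -/
theorem commutator_mem (h : Geom p e n G) {P : Sylow p G} {a b : G} (ha : a • P = P)
    (hb : b • P = P) : a * b * a⁻¹ * b⁻¹ ∈ P := by
  have hcyc : IsCyclic P := isCyclic_of_prime_card (h.card_sylow P)
  -- conjugation acts as powers
  have hpow : ∀ g : G, g • P = P → ∃ k : ℤ, ∀ x ∈ P, g * x * g⁻¹ = x ^ k := by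
    intro g hg
    obtain ⟨z, hz⟩ := hcyc.exists_generator
    have hz' : g * z * g⁻¹ ∈ P := conj_mem hg z.2
    obtain ⟨k, hk⟩ := Subgroup.mem_zpowers_iff.1 (hz ⟨_, hz'⟩)
    refine ⟨k, fun x hx => ?_⟩
    obtain ⟨m, hm⟩ := Subgroup.mem_zpowers_iff.1 (hz ⟨x, hx⟩)
    have hm' : (z : G) ^ m = x := by
      have := congrArg Subtype.val hm
      simpa using this
    have hk' : (z : G) ^ k = g * z * g⁻¹ := by
      have := congrArg Subtype.val hk
      simpa using this
    rw [← hm', ← conj_zpow, ← hk', ← zpow_mul, ← zpow_mul, mul_comm]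
  obtain ⟨k, hk⟩ := hpow a ha
  obtain ⟨l, hl⟩ := hpow b hb
  have hainv : a⁻¹ • P = P := by rw [inv_smul_eq_iff, ha]
  have hbinv : b⁻¹ • P = P := by rw [inv_smul_eq_iff, hb]
  have h1 : a * b * a⁻¹ * b⁻¹ ∈ centralizer (P : Set G) := by
    rw [Subgroup.mem_centralizer_iff]
    intro x hx
    -- a b x = (x^l)^k a b; b a x = x^(k l) b a
    have h2 : a * b * x * (a * b)⁻¹ = b * a * x * (b * a)⁻¹ := by
      have e1 : a * b * x * (a * b)⁻¹ = a * (b * x * b⁻¹) * a⁻¹ := by group
      have e2 : b * a * x * (b * a)⁻¹ = b * (a * x * a⁻¹) * b⁻¹ := by group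
      rw [e1, e2, hl x hx, hk x hx, hk _ (zpow_mem hx _), hl _ (zpow_mem hx _), ← zpow_mul,
        ← zpow_mul, mul_comm]
    -- replace x by (b a)⁻¹ x (b a)
    have hx' : (b * a)⁻¹ * x * (b * a) ∈ P := by
      have hba : (b * a)⁻¹ • P = P := by
        rw [mul_inv_rev, mul_smul, hbinv, hainv]
      have := conj_mem hba hx
      simpa using this
    have h3 : ∀ y ∈ P, a * b * y * (a * b)⁻¹ = b * a * y * (b * a)⁻¹ := by
      intro y hy
      have e1 : a * b * y * (a * b)⁻¹ = a * (b * y * b⁻¹) * a⁻¹ := by group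
      have e2 : b * a * y * (b * a)⁻¹ = b * (a * y * a⁻¹) * b⁻¹ := by group
      rw [e1, e2, hl y hy, hk y hy, hk _ (zpow_mem hy _), hl _ (zpow_mem hy _), ← zpow_mul,
        ← zpow_mul, mul_comm]
    have h4 := h3 _ hx'
    have e3 : b * a * ((b * a)⁻¹ * x * (b * a)) * (b * a)⁻¹ = x := by group
    have e4 : a * b * ((b * a)⁻¹ * x * (b * a)) * (a * b)⁻¹ =
        (a * b * a⁻¹ * b⁻¹) * x * (a * b * a⁻¹ * b⁻¹)⁻¹ := by group
    rw [e3, e4] at h4
    exact (mul_inv_eq_iff_eq_mul.1 h4).symm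
  rw [h.cent] at h1
  exact h1

/-- The two-point stabilisers are commutative. -/
theorem E_comm' (h : Geom p e n G) {P Q : Sylow p G} (hPQ : P ≠ Q) {a b : G} (ha : a ∈ E P Q)
    (hb : b ∈ E P Q) : a * b = b * a := by
  have h1 := h.commutator_mem ha.1 hb.1
  have h2 : a * b * a⁻¹ * b⁻¹ ∈ E P Q :=
    mul_mem (mul_mem (mul_mem ha hb) (inv_mem ha)) (inv_mem hb)
  have h3 := h.eq_one_of_mem_stabilizer hPQ h1 h2.2
  have h4 : a * b * a⁻¹ = b := mul_inv_eq_one.1 h3
  rw [mul_inv_eq_iff_eq_mul] at h4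
  exact h4

/-- The two-point stabilisers are cyclic. -/
theorem isCyclic_E (h : Geom p e n G) {P Q : Sylow p G} (hPQ : P ≠ Q) : IsCyclic (E P Q) := by
  have hcyc : IsCyclic P := isCyclic_of_prime_card (h.card_sylow P)
  have hfin : Finite P := Nat.finite_of_card_ne_zero (by rw [h.card_sylow]; exact hp.out.ne_zero)
  have e1 : MulAut P ≃* (ZMod (Nat.card P))ˣ := hcyc.mulAutMulEquiv _
  have hcyc2 : IsCyclic (MulAut P) := by
    have h1 : Nat.card P = p := h.card_sylow P
    rw [h1] at e1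
    exact isCyclic_of_injective e1.toMonoidHom e1.injective
  have hle : E P Q ≤ normalizer (P : Set G) := fun x hx =>
    Sylow.smul_eq_iff_mem_normalizer.1 hx.1
  let f : E P Q →* MulAut P := (P : Subgroup G).normalizerMonoidHom.comp (Subgroup.inclusion hle)
  refine isCyclic_of_injective f ?_
  rw [injective_iff_map_eq_one]
  intro x hx
  have h1 : (Subgroup.inclusion hle x) ∈ (P : Subgroup G).normalizerMonoidHom.ker := hx
  rw [Subgroup.normalizerMonoidHom_ker, Subgroup.mem_subgroupOf] at h1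
  have h2 : (x : G) ∈ centralizer (P : Set G) := h1
  rw [h.cent] at h2
  exact Subtype.ext (h.eq_one_of_mem_stabilizer hPQ h2 x.2.2)

variable [Finite G]

/-- If a nontrivial element of `N(P) ∩ N(Q)` fixes `R` then `N(P) ∩ N(Q) = N(P) ∩ N(R)`. -/
theorem E_eq_of_mem (h : Geom p e n G) {P Q R : Sylow p G} (hPQ : P ≠ Q) (hPR : P ≠ R) {x : G}
    (hx : x ≠ 1) (hxE : x ∈ E P Q) (hxR : x • R = R) : E P Q = E P R := by
  -- the subgroup `D` of elements of `N(P)` commuting with `x`
  let D : Subgroup G := stabilizer G P ⊓ centralizer {x}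
  have hD : ∀ y, y ∈ D ↔ y • P = P ∧ y * x = x * y := by
    intro y
    constructor
    · rintro ⟨h1, h2⟩
      exact ⟨h1, (Subgroup.mem_centralizer_singleton_iff.1 h2)⟩
    · rintro ⟨h1, h2⟩
      exact ⟨h1, Subgroup.mem_centralizer_singleton_iff.2 h2⟩
  have hdisj : Disjoint (P : Subgroup G) D := by
    rw [Subgroup.disjoint_def]
    intro y hyP hyD
    by_contra hy
    have h1 := ((hD y).1 hyD).2
    have h2 : x ∈ P := h.mem_of_commute hy hyP h1
    exact hx (h.eq_one_of_mem_stabilizer hPQ h2 hxE.2)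
  have hcardD : Nat.card D ≤ e := by
    have hinj := Subgroup.mul_injective_of_disjoint hdisj
    have hmem : ∀ y : ↥(P : Subgroup G) × ↥D, (y.1 : G) * (y.2 : G) ∈ stabilizer G P := fun y =>
      mul_mem (mem_stabilizer_of_mem y.1.2) y.2.2.1
    have h1 : Nat.card (↥(P : Subgroup G) × ↥D) ≤ Nat.card (stabilizer G P) :=
      Nat.card_le_card_of_injective (fun y => (⟨_, hmem y⟩ : stabilizer G P))
        (fun a b hab => hinj (congrArg Subtype.val hab))
    rw [Nat.card_prod, h.card_stab] at h1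
    have h2 : Nat.card (P : Subgroup G) = p := h.card_sylow P
    rw [h2] at h1
    exact Nat.le_of_mul_le_mul_left h1 hp.out.pos
  have hx2 : x ∈ E P R := ⟨hxE.1, hxR⟩
  have hle1 : E P Q ≤ D := fun y hy => (hD y).2 ⟨hy.1, h.E_comm' hPQ hy hxE⟩
  have hle2 : E P R ≤ D := fun y hy => (hD y).2 ⟨hy.1, h.E_comm' hPR hy hx2⟩
  have h1 : E P Q = D := Subgroup.eq_of_le_of_card_ge hle1 (by rw [h.card_E _ _ hPQ]; exact hcardD)
  have h2 : E P R = D := Subgroup.eq_of_le_of_card_ge hle2 (by rw [h.card_E _ _ hPR]; exact hcardD)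
  rw [h1, h2]

/-- If `1 < e`, no nontrivial element of `P` normalises `N(P) ∩ N(Q)`. -/
theorem eq_one_of_normalize (h : Geom p e n G) (he : 1 < e) {P Q : Sylow p G} (hPQ : P ≠ Q)
    {y : G} (hyP : y ∈ P) (hy : ∀ x ∈ E P Q, y * x * y⁻¹ ∈ E P Q) : y = 1 := by
  have hnt : Nontrivial (E P Q) := by
    rw [← Finite.one_lt_card_iff_nontrivial, h.card_E _ _ hPQ]
    exact he
  obtain ⟨⟨x, hxE⟩, hx⟩ := exists_ne (1 : E P Q)
  have hx1 : x ≠ 1 := fun h0 => hx (Subtype.ext h0)
  have h1 : y * x * y⁻¹ * x⁻¹ ∈ E P Q := mul_mem (hy x hxE) (inv_mem hxE)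
  have h2 : y * x * y⁻¹ * x⁻¹ ∈ P := by
    have h3 : x * y⁻¹ * x⁻¹ ∈ P := conj_mem hxE.1 (inv_mem hyP)
    have h4 : y * x * y⁻¹ * x⁻¹ = y * (x * y⁻¹ * x⁻¹) := by group
    rw [h4]
    exact mul_mem hyP h3
  have h5 := h.eq_one_of_mem_stabilizer hPQ h2 h1.2
  by_contra hy1
  have h6 : y * x = x * y := by
    have h7 : y * x * y⁻¹ = x := mul_inv_eq_one.1 h5
    rwa [mul_inv_eq_iff_eq_mul] at h7
  have h8 : x ∈ P := h.mem_of_commute hy1 hyP h6
  exact hx1 (h.eq_one_of_mem_stabilizer hPQ h8 hxE.2)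

/-- Every element of `N(P)` outside `P` is conjugate under `P` into `N(P) ∩ N(Q)`. -/
theorem exists_conj_mem_E (h : Geom p e n G) (he : 1 < e) {P Q : Sylow p G} (hPQ : P ≠ Q)
    {g : G} (hg : g • P = P) (hgP : g ∉ P) : ∃ y ∈ P, g ∈ E P (y • Q) := by
  classical
  let A := ↥(P : Subgroup G) × {x : G // x ∈ E P Q ∧ x ≠ 1}
  let B := {x : G // x • P = P ∧ x ∉ P}
  have hmem : ∀ a : A, ((a.1 : G) * a.2.1 * (a.1 : G)⁻¹) • P = P ∧
      (a.1 : G) * a.2.1 * (a.1 : G)⁻¹ ∉ P := by
    rintro ⟨⟨y, hy⟩, ⟨x, hx, hx1⟩⟩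
    have hyP : y • P = P := mem_stabilizer_of_mem hy
    refine ⟨?_, ?_⟩
    · show (y * x * y⁻¹) • P = P
      rw [mul_smul, mul_smul, inv_smul_eq_iff.2 hyP.symm, hx.1, hyP]
    · intro hc
      have h1 : y⁻¹ * (y * x * y⁻¹) * y ∈ P := mul_mem (mul_mem (inv_mem hy) hc) hy
      have h2 : y⁻¹ * (y * x * y⁻¹) * y = x := by group
      rw [h2] at h1
      exact hx1 (h.eq_one_of_mem_stabilizer hPQ h1 hx.2)
  let φ : A → B := fun a => ⟨_, hmem a⟩
  have hφ : Function.Injective φ := by
    rintro ⟨⟨y, hy⟩, ⟨x, hx, hx1⟩⟩ ⟨⟨y', hy'⟩, ⟨x', hx', hx1'⟩⟩ hab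
    have h0 : y * x * y⁻¹ = y' * x' * y'⁻¹ := congrArg Subtype.val hab
    -- conjugating back by `y`
    set u := y⁻¹ * y' with hu
    have huP : u ∈ P := mul_mem (inv_mem hy) hy'
    have hxx : x = u * x' * u⁻¹ := by
      have : y⁻¹ * (y * x * y⁻¹) * y = y⁻¹ * (y' * x' * y'⁻¹) * y := by rw [h0]
      calc x = y⁻¹ * (y * x * y⁻¹) * y := by group
        _ = y⁻¹ * (y' * x' * y'⁻¹) * y := this
        _ = u * x' * u⁻¹ := by rw [hu]; group
    -- so x lies in `E P Q` and in `E P (u • Q)`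
    have huPP : u • P = P := mem_stabilizer_of_mem huP
    have hxu : x ∈ E (u • P) (u • Q) := by
      rw [mem_E_smul, hxx]
      have : u⁻¹ * (u * x' * u⁻¹) * u = x' := by group
      rw [this]
      exact hx'
    have hPuQ : P ≠ u • Q := by
      intro hc
      apply hPQ
      rw [← smul_left_cancel_iff u, huPP]
      exact hc
    have heq : E P Q = E P (u • Q) := h.E_eq_of_mem hPQ hPuQ hx1 hx hxu.2
    have hu1 : u = 1 := by
      apply h.eq_one_of_normalize he hPQ huP
      intro z hz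
      rw [heq]
      have : u * z * u⁻¹ ∈ E (u • P) (u • Q) := by
        rw [mem_E_smul]
        have : u⁻¹ * (u * z * u⁻¹) * u = z := by group
        rw [this]
        exact hz
      rwa [huPP] at this
    have hyy : y = y' := by
      rw [hu, inv_mul_eq_one] at hu1
      exact hu1
    have hxx' : x = x' := by
      rw [hu1] at hxx
      simpa using hxx
    subst hyy
    subst hxx'
    rfl
  have hcardE : Nat.card {x : G // x ∈ E P Q ∧ x ≠ 1} = e - 1 := by
    have h1 : Nat.card (E P Q) = e := h.card_E _ _ hPQ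
    have e2 : {x : G // x ∈ E P Q ∧ x ≠ 1} ≃ {x : E P Q // x ≠ 1} :=
      { toFun := fun x => ⟨⟨x.1, x.2.1⟩, fun hc => x.2.2 (congrArg Subtype.val hc)⟩
        invFun := fun x => ⟨x.1.1, x.1.2, fun hc => x.2 (Subtype.ext hc)⟩
        left_inv := fun x => rfl
        right_inv := fun x => rfl }
    rw [Nat.card_congr e2]
    have := Fintype.ofFinite (E P Q)
    rw [Nat.card_eq_fintype_card, Fintype.card_subtype_compl, Fintype.card_subtype_eq,
      ← Nat.card_eq_fintype_card, h1]
  have hcardA : Nat.card A = p * (e - 1) := by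
    show Nat.card (↥(P : Subgroup G) × {x : G // x ∈ E P Q ∧ x ≠ 1}) = _
    rw [Nat.card_prod, hcardE]
    congr 1
    exact h.card_sylow P
  have hcardB : Nat.card B = p * e - p := by
    have hle : (P : Subgroup G) ≤ stabilizer G P := fun x hx => mem_stabilizer_of_mem hx
    have e2 : B ≃ {x : stabilizer G P // ¬ (x : G) ∈ P} :=
      { toFun := fun x => ⟨⟨x.1, x.2.1⟩, x.2.2⟩
        invFun := fun x => ⟨x.1.1, x.1.2, x.2⟩
        left_inv := fun x => rfl
        right_inv := fun x => rfl }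
    have e3 : {x : stabilizer G P // (x : G) ∈ P} ≃ (P : Subgroup G) :=
      { toFun := fun x => ⟨x.1.1, x.2⟩
        invFun := fun x => ⟨⟨x.1, hle x.2⟩, x.2⟩
        left_inv := fun x => rfl
        right_inv := fun x => rfl }
    rw [Nat.card_congr e2]
    have := Fintype.ofFinite (stabilizer G P)
    rw [Nat.card_eq_fintype_card, Fintype.card_subtype_compl, ← Nat.card_eq_fintype_card,
      ← Nat.card_eq_fintype_card, Nat.card_congr e3, h.card_stab]
    congr 1
    exact h.card_sylow P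
  have hcardle : Nat.card B ≤ Nat.card A := by
    rw [hcardA, hcardB, Nat.mul_sub, mul_one]
  have hsurj : Function.Surjective φ := by
    have hbij := (Nat.bijective_iff_injective_and_card φ).2
      ⟨hφ, le_antisymm (Nat.card_le_card_of_injective φ hφ) hcardle⟩
    exact hbij.2
  obtain ⟨⟨⟨y, hy⟩, ⟨x, hx, hx1⟩⟩, hyx⟩ := hsurj ⟨g, hg, hgP⟩
  have h0 : y * x * y⁻¹ = g := congrArg Subtype.val hyx
  refine ⟨y, hy, ?_⟩
  have hyP : y • P = P := mem_stabilizer_of_mem hy
  have : g ∈ E (y • P) (y • Q) := by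
    rw [mem_E_smul, ← h0]
    have : y⁻¹ * (y * x * y⁻¹) * y = x := by group
    rw [this]
    exact hx
  rwa [hyP] at this

omit [Finite G] hp in
theorem mem_E_smul_right {P : Sylow p G} {y : G} (hy : y • P = P) (Q : Sylow p G) (x : G) :
    x ∈ E P (y • Q) ↔ y⁻¹ * x * y ∈ E P Q := by
  have h := mem_E_smul P Q y x
  rwa [hy] at h

omit hp in
theorem exists_ne_one (h : Geom p e n G) (he : 1 < e) {P Q : Sylow p G} (hPQ : P ≠ Q) :
    ∃ x ∈ E P Q, x ≠ 1 := by
  have hnt : Nontrivial (E P Q) := by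
    rw [← Finite.one_lt_card_iff_nontrivial, h.card_E _ _ hPQ]
    exact he
  obtain ⟨⟨x, hxE⟩, hx⟩ := exists_ne (1 : E P Q)
  exact ⟨x, hxE, fun h0 => hx (Subtype.ext h0)⟩

omit [Finite G] hp in
theorem ne_smul {P Q : Sylow p G} (hPQ : P ≠ Q) {y : G} (hy : y • P = P) : P ≠ y • Q := by
  intro hc
  apply hPQ
  rw [← smul_left_cancel_iff y, hy]
  exact hc

/-- The two-point stabilisers `N(P) ∩ N(R)` are conjugate under `P`. -/
theorem exists_E_eq (h : Geom p e n G) (he : 1 < e) {P Q R : Sylow p G} (hPQ : P ≠ Q)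
    (hPR : P ≠ R) : ∃ y ∈ P, E P R = E P (y • Q) := by
  obtain ⟨x, hxE, hx⟩ := h.exists_ne_one he hPR
  have hxP : x ∉ P := fun hc => hx (h.eq_one_of_mem_stabilizer hPR hc hxE.2)
  obtain ⟨y, hy, hxy⟩ := h.exists_conj_mem_E he hPQ hxE.1 hxP
  refine ⟨y, hy, ?_⟩
  exact h.E_eq_of_mem hPR (ne_smul hPQ (mem_stabilizer_of_mem hy)) hx hxE hxy.2

theorem card_fibre (h : Geom p e n G) (he : 1 < e) {P Q : Sylow p G} (hPQ : P ≠ Q) :
    Nat.card {R : Sylow p G // P ≠ R ∧ E P R = E P Q} = n := by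
  classical
  have hfinS : Finite (Sylow p G) := inferInstance
  let F := {R : Sylow p G // P ≠ R ∧ E P R = E P Q}
  let A := ↥(P : Subgroup G) × F
  let B := {R : Sylow p G // P ≠ R}
  let φ : A → B := fun a => ⟨(a.1 : G) • a.2.1, ne_smul a.2.2.1 (mem_stabilizer_of_mem a.1.2)⟩
  have hφ : Function.Bijective φ := by
    constructor
    · rintro ⟨⟨y, hy⟩, ⟨R, hR, hRE⟩⟩ ⟨⟨y', hy'⟩, ⟨R', hR', hRE'⟩⟩ hab
      have h0 : y • R = y' • R' := congrArg Subtype.val hab
      set u := y⁻¹ * y' with hu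
      have huP : u ∈ P := mul_mem (inv_mem hy) hy'
      have hR0 : R = u • R' := by
        rw [hu, mul_smul, ← h0, inv_smul_smul]
      have hu1 : u = 1 := by
        apply h.eq_one_of_normalize he hPQ huP
        intro z hz
        rw [← hRE, hR0, mem_E_smul_right (mem_stabilizer_of_mem huP), hRE']
        have : u⁻¹ * (u * z * u⁻¹) * u = z := by group
        rw [this]
        exact hz
      have hyy : y = y' := by
        rw [hu, inv_mul_eq_one] at hu1
        exact hu1
      have hRR : R = R' := by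
        rw [hu1, one_smul] at hR0
        exact hR0
      subst hyy
      subst hRR
      rfl
    · rintro ⟨R, hR⟩
      obtain ⟨y, hy, hyE⟩ := h.exists_E_eq he hPQ hR
      have hyP : y • P = P := mem_stabilizer_of_mem hy
      have hyP' : y⁻¹ • P = P := mem_stabilizer_of_mem (inv_mem hy)
      refine ⟨⟨⟨y, hy⟩, ⟨y⁻¹ • R, ne_smul hR hyP', ?_⟩⟩, ?_⟩
      · ext x
        rw [mem_E_smul_right hyP', hyE, mem_E_smul_right hyP]
        have : y⁻¹ * (y⁻¹⁻¹ * x * y⁻¹) * y = x := by group
        rw [this]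
      · apply Subtype.ext
        show y • y⁻¹ • R = R
        exact smul_inv_smul y R
  have h1 := Nat.card_eq_of_bijective φ hφ
  have h2 : Nat.card A = p * Nat.card F := by
    show Nat.card (↥(P : Subgroup G) × F) = _
    rw [Nat.card_prod]
    congr 1
    exact h.card_sylow P
  have h3 : Nat.card B = n * p := by
    have h4 : Nat.card B = Nat.card {R : Sylow p G // ¬ R = P} :=
      Nat.card_congr (Equiv.subtypeEquivRight (fun R => ⟨fun h h' => h h'.symm,
        fun h h' => h h'.symm⟩))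
    rw [h4]
    have := Fintype.ofFinite (Sylow p G)
    rw [Nat.card_eq_fintype_card, Fintype.card_subtype_compl, Fintype.card_subtype_eq,
      ← Nat.card_eq_fintype_card, h.card_num]
    omega
  rw [h2, h3, mul_comm n p] at h1
  exact Nat.eq_of_mul_eq_mul_left hp.out.pos h1

/-- A nontrivial element of `N(P) ∩ N(Q)` fixing `R` forces `N(P) ∩ N(Q)` to fix `R`. -/
theorem smul_eq_of_mem (h : Geom p e n G) {P Q R : Sylow p G} (hPQ : P ≠ Q) {x : G}
    (hx : x ≠ 1) (hxE : x ∈ E P Q) (hxR : x • R = R) {z : G} (hz : z ∈ E P Q) : z • R = R := by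
  by_cases hPR : P = R
  · rw [← hPR]
    exact hz.1
  · have := h.E_eq_of_mem hPQ hPR hx hxE hxR
    rw [this] at hz
    exact hz.2

/-- For two distinct fixed points `R, S` of a nontrivial element of `N(P) ∩ N(Q)`, the stabiliser
of `R` and `S` is `N(P) ∩ N(Q)`. -/
theorem E_eq_of_fixed (h : Geom p e n G) {P Q R S : Sylow p G} (hPQ : P ≠ Q) (hRS : R ≠ S)
    {x : G} (hx : x ≠ 1) (hxE : x ∈ E P Q) (hxR : x • R = R) (hxS : x • S = S) :
    E R S = E P Q := by
  symm
  refine Subgroup.eq_of_le_of_card_ge ?_ ?_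
  · intro z hz
    exact ⟨h.smul_eq_of_mem hPQ hx hxE hxR hz, h.smul_eq_of_mem hPQ hx hxE hxS hz⟩
  · rw [h.card_E _ _ hPQ, h.card_E _ _ hRS]

/-- A nontrivial element of `N(P) ∩ N(Q)` fixes exactly `n + 1` Sylow subgroups. -/
theorem card_fixed (h : Geom p e n G) (he : 1 < e) {P Q : Sylow p G} (hPQ : P ≠ Q) {x : G}
    (hx : x ≠ 1) (hxE : x ∈ E P Q) : Nat.card {R : Sylow p G // x • R = R} = n + 1 := by
  classical
  have hfinS : Finite (Sylow p G) := inferInstance
  have h1 := h.card_fibre he hPQ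
  have e1 : {R : Sylow p G // x • R = R} ≃ Option {R : Sylow p G // P ≠ R ∧ E P R = E P Q} :=
    { toFun := fun R => if hR : P = R.1 then none else
        some ⟨R.1, hR, (h.E_eq_of_mem hPQ hR hx hxE R.2).symm⟩
      invFun := fun o => match o with
        | none => ⟨P, hxE.1⟩
        | some R => ⟨R.1, by
            have h2 : x ∈ E P R.1 := by rw [R.2.2]; exact hxE
            exact h2.2⟩
      left_inv := by
        rintro ⟨R, hR⟩
        by_cases hPR : P = R
        · simp [hPR]
        · simp [hPR]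
      right_inv := by
        rintro (_ | ⟨R, hR, hRE⟩)
        · simp
        · simp [hR] }
  rw [Nat.card_congr e1, Finite.card_option, h1]

/-- `N(P) = P (N(P) ∩ N(Q))`. -/
theorem exists_mul_eq (h : Geom p e n G) {P Q : Sylow p G} (hPQ : P ≠ Q) {g : G}
    (hg : g • P = P) : ∃ y ∈ P, ∃ x ∈ E P Q, g = y * x := by
  have hdisj : Disjoint (P : Subgroup G) (E P Q) := by
    rw [Subgroup.disjoint_def]
    intro y hyP hyE
    exact h.eq_one_of_mem_stabilizer hPQ hyP hyE.2
  have hinj := Subgroup.mul_injective_of_disjoint hdisj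
  have hmem : ∀ y : ↥(P : Subgroup G) × ↥(E P Q), (y.1 : G) * (y.2 : G) ∈ stabilizer G P :=
    fun y => mul_mem (mem_stabilizer_of_mem y.1.2) y.2.2.1
  let φ : ↥(P : Subgroup G) × ↥(E P Q) → stabilizer G P := fun y => ⟨_, hmem y⟩
  have hφ : Function.Injective φ := fun a b hab => hinj (congrArg Subtype.val hab)
  have hbij : Function.Bijective φ := by
    refine (Nat.bijective_iff_injective_and_card φ).2 ⟨hφ, ?_⟩
    rw [Nat.card_prod, h.card_stab, h.card_E _ _ hPQ]
    congr 1
    exact h.card_sylow P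
  obtain ⟨⟨y, x⟩, hyx⟩ := hbij.2 ⟨g, hg⟩
  exact ⟨y, y.2, x, x.2, (congrArg Subtype.val hyx).symm⟩

omit [Finite G] hp in
theorem mem_normalizer_E_iff {P Q : Sylow p G} {g : G} :
    g ∈ normalizer (E P Q : Set G) ↔ E (g • P) (g • Q) = E P Q := by
  rw [Subgroup.mem_set_normalizer_iff']
  constructor
  · intro hg
    ext x
    rw [mem_E_smul]
    have h1 := hg (g⁻¹ * x)
    have h2 : g * (g⁻¹ * x) = x := by group
    rw [h2] at h1
    exact h1
  · intro hg x
    have h1 : g * x ∈ E (g • P) (g • Q) ↔ g * x ∈ E P Q := by rw [hg]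
    rw [mem_E_smul] at h1
    have h2 : g⁻¹ * (g * x) * g = x * g := by group
    rw [h2] at h1
    exact h1

/-- The centraliser of a nontrivial element of `N(P) ∩ N(Q)` normalises `N(P) ∩ N(Q)`. -/
theorem mem_normalizer_of_commute (h : Geom p e n G) {P Q : Sylow p G} (hPQ : P ≠ Q) {x g : G}
    (hx : x ≠ 1) (hxE : x ∈ E P Q) (hg : x * g = g * x) : g ∈ normalizer (E P Q : Set G) := by
  rw [mem_normalizer_E_iff]
  have hPQ' : g • P ≠ g • Q := fun hc => hPQ (smul_left_cancel g hc)
  refine h.E_eq_of_fixed hPQ hPQ' hx hxE ?_ ?_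
  · rw [← mul_smul, hg, mul_smul, hxE.1]
  · rw [← mul_smul, hg, mul_smul, hxE.2]

/-- An element of `N(P)` normalising `N(P) ∩ N(Q)` lies in it. -/
theorem mem_E_of_mem_normalizer (h : Geom p e n G) (he : 1 < e) {P Q : Sylow p G} (hPQ : P ≠ Q)
    {g : G} (hg : g ∈ normalizer (E P Q : Set G)) (hgP : g • P = P) : g ∈ E P Q := by
  obtain ⟨y, hy, x, hx, rfl⟩ := h.exists_mul_eq hPQ hgP
  have hyN : y ∈ normalizer (E P Q : Set G) := by
    have h1 : x⁻¹ ∈ normalizer (E P Q : Set G) := Subgroup.le_normalizer (inv_mem hx)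
    have h2 := mul_mem hg h1
    rwa [mul_assoc, mul_inv_cancel, mul_one] at h2
  have hy1 : y = 1 := by
    apply h.eq_one_of_normalize he hPQ hy
    intro z hz
    exact (Subgroup.mem_set_normalizer_iff.1 hyN z).1 hz
  rw [hy1, one_mul]
  exact hx

/-- The normaliser of `N(P) ∩ N(Q)` is transitive on its fixed points. -/
theorem exists_mem_normalizer_smul_eq (h : Geom p e n G) (he : 1 < e) {P Q R : Sylow p G}
    (hPQ : P ≠ Q) {x : G} (hx : x ≠ 1) (hxE : x ∈ E P Q) (hxR : x • R = R) :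
    ∃ g ∈ normalizer (E P Q : Set G), g • P = R := by
  obtain ⟨g, hg⟩ := MulAction.exists_smul_eq G P R
  by_cases hPR : P = R
  · exact ⟨1, one_mem _, by rw [one_smul, hPR]⟩
  have hRP : R ≠ P := fun hc => hPR hc.symm
  have hERP : E R P = E P Q := h.E_eq_of_fixed hPQ hRP hx hxE hxR hxE.1
  have hRgQ : R ≠ g • Q := by
    intro hc
    apply hPQ
    apply smul_left_cancel g
    rw [hg, hc]
  obtain ⟨y, hy, hyE⟩ := h.exists_E_eq he hRgQ hRP
  have hyR : y • R = R := mem_stabilizer_of_mem hy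
  refine ⟨y * g, ?_, ?_⟩
  · rw [mem_normalizer_E_iff, mul_smul, mul_smul, hg, hyR, ← hyE, hERP]
  · rw [mul_smul, hg, hyR]

/-- `|N_G(N(P) ∩ N(Q))| = e (n + 1)`. -/
theorem card_normalizer_E (h : Geom p e n G) (he : 1 < e) {P Q : Sylow p G} (hPQ : P ≠ Q) :
    Nat.card (normalizer (E P Q : Set G)) = e * (n + 1) := by
  classical
  obtain ⟨x, hxE, hx⟩ := h.exists_ne_one he hPQ
  set N := normalizer (E P Q : Set G) with hN
  have h1 : Nat.card (orbit N P) = (stabilizer N P).index :=
    Nat.card_congr (MulAction.orbitEquivQuotientStabilizer N P)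
  have h2 := (stabilizer N P).card_mul_index
  have h3 : Nat.card (stabilizer N P) = e := by
    rw [← h.card_E _ _ hPQ]
    refine Nat.card_congr
      { toFun := fun g => ⟨g.1.1, h.mem_E_of_mem_normalizer he hPQ g.1.2 g.2⟩
        invFun := fun g => ⟨⟨g.1, Subgroup.le_normalizer g.2⟩, g.2.1⟩
        left_inv := fun g => rfl
        right_inv := fun g => rfl }
  have h4 : Nat.card (orbit N P) = n + 1 := by
    rw [← h.card_fixed he hPQ hx hxE]
    refine Nat.card_congr (Equiv.subtypeEquivRight ?_)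
    intro R
    constructor
    · rintro ⟨⟨g, hg⟩, rfl⟩
      show x • g • P = g • P
      have h5 := mem_normalizer_E_iff.1 hg
      have h6 : x ∈ E (g • P) (g • Q) := by rw [h5]; exact hxE
      exact h6.1
    · intro hR
      obtain ⟨g, hg, hgR⟩ := h.exists_mem_normalizer_smul_eq he hPQ hx hxE hR
      exact ⟨⟨g, hg⟩, hgR⟩
  rw [← h2, ← h1, h3, h4]

/-- `|G| = (1 + n p) p e`. -/
theorem card_group (h : Geom p e n G) : Nat.card G = (1 + n * p) * (p * e) := by
  obtain ⟨P⟩ : Nonempty (Sylow p G) := inferInstance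
  have h1 : Nat.card (Sylow p G) = (stabilizer G P).index := by
    rw [P.card_eq_index_normalizer, P.stabilizer_eq_normalizer]
  have h2 := (stabilizer G P).card_mul_index
  rw [← h1, h.card_num, h.card_stab] at h2
  rw [← h2, mul_comm]

/-- If there are at least two Sylow subgroups, `n + 1` divides `(1 + n p) p`. -/
theorem succ_dvd_mul (h : Geom p e n G) (he : 1 < e) (hn : 0 < n) :
    n + 1 ∣ (1 + n * p) * p := by
  obtain ⟨P⟩ : Nonempty (Sylow p G) := inferInstance
  have h1 : 1 < Nat.card (Sylow p G) := by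
    rw [h.card_num]
    have := Nat.mul_pos hn hp.out.pos
    omega
  rw [Finite.one_lt_card_iff_nontrivial] at h1
  obtain ⟨Q, hQ⟩ := exists_ne P
  have h2 : Nat.card (normalizer (E P Q : Set G)) ∣ Nat.card G := Subgroup.card_subgroup_dvd_card _
  rw [h.card_normalizer_E he hQ.symm, h.card_group] at h2
  have h3 : (1 + n * p) * (p * e) = e * ((1 + n * p) * p) := by ring
  rw [h3] at h2
  exact Nat.dvd_of_mul_dvd_mul_left (by omega) h2

/-- **G1**: if `n + 1 < p` (or just prime to `p`) then `n + 1` divides `p - 1`. -/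
theorem succ_dvd_pred (h : Geom p e n G) (he : 1 < e) (hn : 0 < n) (hnp : ¬ p ∣ n + 1) :
    n + 1 ∣ p - 1 := by
  have h1 := h.succ_dvd_mul he hn
  have h2 : Nat.Coprime (n + 1) p := ((Nat.Prime.coprime_iff_not_dvd hp.out).2 hnp).symm
  have h3 : n + 1 ∣ 1 + n * p := h2.dvd_of_dvd_mul_right h1
  have h4 : (n + 1) * p = (1 + n * p) + (p - 1) := by
    have := hp.out.pos
    have : (n + 1) * p = n * p + p := by ring
    omega
  exact (Nat.dvd_add_right h3).1 (h4 ▸ Dvd.intro _ rfl)

end Geom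

/-- Two-point stabilisers have order at most `e` if `|P| = p`, `|N(P)| = p e`. -/
theorem card_E_le [Finite G] {P Q : Sylow p G} (hPQ : P ≠ Q) (hP : Nat.card P = p)
    (hS : Nat.card (stabilizer G P) = p * e) : Nat.card (E P Q) ≤ e := by
  have hdisj : Disjoint (P : Subgroup G) (E P Q) := by
    rw [Subgroup.disjoint_def]
    intro x hxP hxE
    have h1 : (P : Subgroup G) ⊓ normalizer (Q : Set G) = (P : Subgroup G) ⊓ (Q : Subgroup G) :=
      IsPGroup.inf_normalizer_sylow P.isPGroup' Q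
    have h2 : x ∈ (P : Subgroup G) ⊓ normalizer (Q : Set G) :=
      ⟨hxP, Sylow.smul_eq_iff_mem_normalizer.1 hxE.2⟩
    rw [h1] at h2
    -- `P ⊓ Q` is trivial
    have h3 : Nat.card ((P : Subgroup G) ⊓ (Q : Subgroup G) : Subgroup G) ∣ p := by
      have h4 : Nat.card ((P : Subgroup G) ⊓ (Q : Subgroup G) : Subgroup G) ∣
        Nat.card (P : Subgroup G) := Subgroup.card_dvd_of_le inf_le_left
      have h5 : Nat.card (P : Subgroup G) = p := hP
      rwa [h5] at h4
    rcases (Nat.dvd_prime hp.out).1 h3 with h4 | h4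
    · have h5 := Subgroup.card_eq_one.1 h4
      rw [h5] at h2
      exact h2
    · exfalso
      have h5 : (P : Subgroup G) ⊓ (Q : Subgroup G) = P := by
        refine Subgroup.eq_of_le_of_card_ge inf_le_left ?_
        rw [h4]
        exact le_of_eq hP
      have h6 : (P : Subgroup G) ≤ Q := by
        rw [← h5]
        exact inf_le_right
      exact hPQ (Sylow.ext (P.is_maximal' Q.isPGroup' h6).symm)
  have hinj := Subgroup.mul_injective_of_disjoint hdisj
  have hmem : ∀ y : ↥(P : Subgroup G) × ↥(E P Q), (y.1 : G) * (y.2 : G) ∈ stabilizer G P :=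
    fun y => mul_mem (mem_stabilizer_of_mem y.1.2) y.2.2.1
  have h1 : Nat.card (↥(P : Subgroup G) × ↥(E P Q)) ≤ Nat.card (stabilizer G P) :=
    Nat.card_le_card_of_injective (fun y => (⟨_, hmem y⟩ : stabilizer G P))
      (fun a b hab => hinj (congrArg Subtype.val hab))
  rw [Nat.card_prod, hS] at h1
  have h2 : Nat.card (P : Subgroup G) = p := hP
  rw [h2] at h1
  exact Nat.le_of_mul_le_mul_left h1 hp.out.pos

/-- Constructor for `Geom` from a count of pairs `(x, Q)`, `x ∈ N(P)`, `x` fixing `Q`. -/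
theorem geom_of_card_pairs [Finite G] (P : Sylow p G) (hP : Nat.card P = p)
    (hC : centralizer (P : Set G) = P) (hS : Nat.card (normalizer (P : Set G)) = p * e)
    (hn : Nat.card (Sylow p G) = 1 + n * p)
    (hpairs : (n + 1) * (p * e) ≤
      Nat.card {y : normalizer (P : Set G) × Sylow p G // (y.1 : G) • y.2 = y.2}) :
    Geom p e n G := by
  classical
  have hconj : ∀ Q : Sylow p G, ∃ g : G, g • P = Q := fun Q => MulAction.exists_smul_eq G P Q
  have hcard : ∀ Q : Sylow p G, Nat.card Q = p := fun Q =>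
    (Nat.card_congr (Sylow.equiv P Q).toEquiv).symm.trans hP
  have hcent : ∀ Q : Sylow p G, centralizer (Q : Set G) = Q := by
    intro Q
    obtain ⟨g, rfl⟩ := hconj Q
    ext x
    rw [Subgroup.mem_centralizer_iff]
    have h1 : x ∈ ((g • P : Sylow p G) : Subgroup G) ↔ g⁻¹ * x * g ∈ (P : Subgroup G) :=
      smul_mem_iff P g x
    rw [h1, ← hC, Subgroup.mem_centralizer_iff]
    constructor
    · intro h2 y hy
      have h3 : g * y * g⁻¹ ∈ (g • P : Sylow p G) := by
        rw [smul_mem_iff]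
        have : g⁻¹ * (g * y * g⁻¹) * g = y := by group
        rw [this]
        exact hy
      have h4 := h2 _ h3
      calc y * (g⁻¹ * x * g) = g⁻¹ * (g * y * g⁻¹ * x) * g := by group
        _ = g⁻¹ * (x * (g * y * g⁻¹)) * g := by rw [h4]
        _ = g⁻¹ * x * g * y := by group
    · intro h2 y hy
      have h3 : g⁻¹ * y * g ∈ (P : Set G) := (smul_mem_iff P g y).1 hy
      have h4 := h2 _ h3
      calc y * x = g * (g⁻¹ * y * g * (g⁻¹ * x * g)) * g⁻¹ := by group
        _ = g * (g⁻¹ * x * g * (g⁻¹ * y * g)) * g⁻¹ := by rw [h4]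
        _ = x * y := by group
  have hstabP : Nat.card (stabilizer G P) = p * e := by
    rw [P.stabilizer_eq_normalizer]
    exact hS
  have hstab : ∀ Q : Sylow p G, Nat.card (stabilizer G Q) = p * e := by
    intro Q
    obtain ⟨g, rfl⟩ := hconj Q
    rw [MulAction.stabilizer_smul_eq_stabilizer_map_conj, ← hstabP]
    exact (Nat.card_congr ((stabilizer G P).equivMapOfInjective _
      (MulAut.conj g).injective).toEquiv).symm
  -- all `E P Q` have order `e`
  have hfinS : Finite (Sylow p G) := inferInstance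
  have := Fintype.ofFinite (Sylow p G)
  have hsum : Nat.card {y : normalizer (P : Set G) × Sylow p G // (y.1 : G) • y.2 = y.2} =
      ∑ Q : Sylow p G, Nat.card (E P Q) := by
    rw [← Nat.card_sigma]
    refine Nat.card_congr
      { toFun := fun y => ⟨y.1.2, ⟨y.1.1, Sylow.smul_eq_iff_mem_normalizer.2 y.1.1.2, y.2⟩⟩
        invFun := fun z => ⟨⟨⟨z.2.1, Sylow.smul_eq_iff_mem_normalizer.1 z.2.2.1⟩, z.1⟩, z.2.2.2⟩
        left_inv := fun y => rfl
        right_inv := fun z => rfl }
  have hEP : ∀ Q : Sylow p G, P ≠ Q → Nat.card (E P Q) = e := by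
    by_contra hcon
    push Not at hcon
    obtain ⟨Q, hPQ, hQ⟩ := hcon
    have h1 : Nat.card (E P Q) < e := lt_of_le_of_ne (card_E_le hPQ hP hstabP) hQ
    have h2 : ∑ R : Sylow p G, Nat.card (E P R) <
        ∑ R : Sylow p G, (if R = P then p * e else e) := by
      apply Finset.sum_lt_sum
      · intro R _
        by_cases hR : R = P
        · subst hR
          simp only [if_true]
          have : E R R = stabilizer G R := inf_idem _
          rw [this, hstabP]
        · simp only [hR, if_false]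
          exact card_E_le (fun hc => hR hc.symm) hP hstabP
      · refine ⟨Q, Finset.mem_univ _, ?_⟩
        have hQP : Q ≠ P := fun hc => hPQ hc.symm
        simpa [hQP] using h1
    have h3 : ∑ R : Sylow p G, (if R = P then p * e else e) = (n + 1) * (p * e) := by
      rw [Finset.sum_ite]
      simp only [Finset.sum_const, smul_eq_mul]
      have h4 : (Finset.univ.filter (fun R : Sylow p G => R = P)).card = 1 := by
        rw [Finset.card_eq_one]
        exact ⟨P, by ext; simp⟩
      have h5 : (Finset.univ.filter (fun R : Sylow p G => ¬ R = P)).card = n * p := by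
        have h6 := Finset.card_filter_add_card_filter_not (s := (Finset.univ : Finset (Sylow p G)))
          (fun R => R = P)
        rw [Finset.card_univ, ← Nat.card_eq_fintype_card, hn, h4] at h6
        omega
      rw [h4, h5]
      ring
    rw [h3, ← hsum] at h2
    omega
  refine ⟨hcard, hcent, hn, hstab, ?_⟩
  intro Q R hQR
  obtain ⟨g, rfl⟩ := hconj Q
  obtain ⟨S, rfl⟩ : ∃ S, R = g • S := ⟨g⁻¹ • R, (smul_inv_smul g R).symm⟩
  have h2 : P ≠ S := fun hc => hQR (by rw [hc])
  rw [← hEP _ h2]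
  refine Nat.card_congr
    { toFun := fun x => ⟨g⁻¹ * x.1 * g, (mem_E_smul _ _ _ _).1 x.2⟩
      invFun := fun x => ⟨g * x.1 * g⁻¹, by
        rw [mem_E_smul]
        have : g⁻¹ * (g * x.1 * g⁻¹) * g = x.1 := by group
        rw [this]
        exact x.2⟩
      left_inv := fun x => by
        apply Subtype.ext
        show g * (g⁻¹ * x.1 * g) * g⁻¹ = x.1
        group
      right_inv := fun x => by
        apply Subtype.ext
        show g⁻¹ * (g * x.1 * g⁻¹) * g = x.1
        group }

end Cfsg.Agent.SmallSimple.SylowGeometry
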