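import Mathlib
import Cfsg.Agent.SmallSimple.SylowGeometry

/-!
Involutions in the geometry of `Cfsg.Agent.SmallSimple.SylowGeometry`.
-/

set_option autoImplicit false

namespace Cfsg.Agent.SmallSimple.SylowGeometryInv

open MulAction Subgroup Cfsg.Agent.SmallSimple.SylowGeometry
open scoped Pointwise

/-- A finite group in which more than three quarters of the elements satisfy `x * x = 1` is an
elementary abelian `2`-group. -/
theorem mul_self_eq_one_of_card {H : Type*} [Group H] [Finite H]
    (hc : 3 * Nat.card H < 4 * Nat.card {x : H // x * x = 1}) (x : H) : x * x = 1 := by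
  classical
  have := Fintype.ofFinite H
  let S : Finset H := Finset.univ.filter (fun x => x * x = 1)
  have hS : Nat.card {x : H // x * x = 1} = S.card := by
    rw [Nat.card_eq_fintype_card, Fintype.card_subtype]
  have hH : Nat.card H = Fintype.card H := Nat.card_eq_fintype_card
  rw [hS, hH] at hc
  have hmem : ∀ y, y ∈ S ↔ y * y = 1 := fun y => by simp [S]
  -- every element of `S` is central
  have hcent : ∀ a ∈ S, ∀ b : H, a * b = b * a := by
    intro a ha
    let C : Subgroup H := centralizer {a}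
    have hC : ∀ b, b ∈ C ↔ b * a = a * b := fun b => Subgroup.mem_centralizer_singleton_iff
    let T : Finset H := S ∩ S.image (fun y => a * y)
    have hT : 2 * S.card ≤ T.card + Fintype.card H := by
      have h1 : (S.image (fun y => a * y)).card = S.card :=
        Finset.card_image_of_injective _ (mul_right_injective a)
      have h2 := Finset.card_union_add_card_inter S (S.image (fun y => a * y))
      have h3 : (S ∪ S.image (fun y => a * y)).card ≤ Fintype.card H := Finset.card_le_univ _
      have h4 : T.card = (S ∩ S.image (fun y => a * y)).card := rfl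
      omega
    have hTC : ∀ y ∈ T, y ∈ C := by
      intro y hy
      obtain ⟨h1, h2⟩ := Finset.mem_inter.1 hy
      obtain ⟨w, hw, rfl⟩ := Finset.mem_image.1 h2
      have h3 := (hmem _).1 h1
      have h4 := (hmem _).1 hw
      have h5 := (hmem _).1 ha
      rw [hC]
      -- a w a w = 1, a a = 1, w w = 1
      have h6 : a * w = w * a := by
        have h7 : (a * w) * (a * w) = (a * w) * (w * a) := by
          rw [h3]
          calc (1 : H) = a * a := h5.symm
            _ = a * (w * w) * a := by rw [h4, mul_one]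
            _ = (a * w) * (w * a) := by group
        exact mul_left_cancel h7
      calc a * w * a = w * a * a := by rw [h6]
        _ = w := by rw [mul_assoc, h5, mul_one]
        _ = a * a * w := by rw [h5, one_mul]
        _ = a * (a * w) := by group
    have hTcard : T.card ≤ Nat.card C := by
      have h1 : T.card = Nat.card T := by simp
      rw [h1]
      exact Nat.card_le_card_of_injective (fun y : T => (⟨y.1, hTC y.1 y.2⟩ : C))
        (fun y z hyz => Subtype.ext (congrArg (fun w : C => (w : H)) hyz))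
    have hCtop : C = ⊤ := by
      by_contra hne
      have h1 : 2 * Nat.card C ≤ Nat.card H := by
        have h2 := C.card_mul_index
        have h3 : C.index ≠ 1 := fun h => hne (Subgroup.index_eq_one.1 h)
        have h4 : C.index ≠ 0 := Subgroup.index_ne_zero_of_finite
        have h5 : 2 ≤ C.index := by omega
        nlinarith
      rw [hH] at h1
      omega
    intro b
    have : b ∈ C := hCtop ▸ Subgroup.mem_top b
    exact ((hC b).1 this).symm
  -- the centre is everything
  let Z : Subgroup H := Subgroup.center H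
  have hSZ : ∀ a ∈ S, a ∈ Z := fun a ha =>
    Subgroup.mem_center_iff.2 (fun b => (hcent a ha b).symm)
  have hZcard : S.card ≤ Nat.card Z := by
    have h1 : S.card = Nat.card S := by simp
    rw [h1]
    exact Nat.card_le_card_of_injective (fun y : S => (⟨y.1, hSZ y.1 y.2⟩ : Z))
      (fun y z hyz => Subtype.ext (congrArg (fun w : Z => (w : H)) hyz))
  have hZtop : Z = ⊤ := by
    by_contra hne
    have h2 := Z.card_mul_index
    have h3 : Z.index ≠ 1 := fun h => hne (Subgroup.index_eq_one.1 h)
    have h4 : Z.index ≠ 0 := Subgroup.index_ne_zero_of_finite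
    have h5 : 2 ≤ Z.index := by omega
    have h6 : 2 * Nat.card Z ≤ Nat.card H := by nlinarith
    rw [hH] at h6
    omega
  have hcomm : ∀ a b : H, a * b = b * a := by
    intro a b
    have : b ∈ Z := hZtop ▸ Subgroup.mem_top b
    exact Subgroup.mem_center_iff.1 this a
  -- the solution set is a subgroup
  let D : Subgroup H :=
    { carrier := {y | y * y = 1}
      one_mem' := by show (1 : H) * 1 = 1; simp
      mul_mem' := by
        intro a b ha hb
        show a * b * (a * b) = 1
        have h1 : a * a = 1 := ha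
        have h2 : b * b = 1 := hb
        calc a * b * (a * b) = a * (b * a) * b := by group
          _ = a * (a * b) * b := by rw [hcomm b a]
          _ = (a * a) * (b * b) := by group
          _ = 1 := by rw [h1, h2, one_mul]
      inv_mem' := by
        intro a ha
        show a⁻¹ * a⁻¹ = 1
        have h1 : a * a = 1 := ha
        rw [← mul_inv_rev, h1, inv_one] }
  have hDcard : Nat.card D = S.card := by
    rw [← hS]
    rfl
  have hDtop : D = ⊤ := by
    by_contra hne
    have h2 := D.card_mul_index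
    have h3 : D.index ≠ 1 := fun h => hne (Subgroup.index_eq_one.1 h)
    have h4 : D.index ≠ 0 := Subgroup.index_ne_zero_of_finite
    have h5 : 2 ≤ D.index := by omega
    have h6 : 2 * Nat.card D ≤ Nat.card H := by nlinarith
    rw [hH, hDcard] at h6
    omega
  have : x ∈ D := hDtop ▸ Subgroup.mem_top x
  exact this

variable {G : Type*} [Group G] [Finite G] {p e n : ℕ} [hp : Fact p.Prime]

/-- The unique involution of a two-point stabiliser of even order. -/
theorem exists_unique_involution (h : Geom p e n G) (he : 2 ∣ e) {P Q : Sylow p G}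
    (hPQ : P ≠ Q) :
    ∃ z ∈ E P Q, orderOf z = 2 ∧ ∀ w ∈ E P Q, orderOf w = 2 → w = z := by
  classical
  have hcyc := h.isCyclic_E hPQ
  have := Fintype.ofFinite (E P Q)
  have hd : 2 ∣ Nat.card (E P Q) := by rw [h.card_E _ _ hPQ]; exact he
  obtain ⟨z, hz⟩ := exists_prime_orderOf_dvd_card' 2 hd
  refine ⟨z, z.2, by rw [Subgroup.orderOf_coe]; exact hz, ?_⟩
  intro w hw hwo
  have h1 := IsCyclic.card_orderOf_eq_totient (α := E P Q) (d := 2)
    (by rw [← Nat.card_eq_fintype_card]; exact hd)
  rw [Nat.totient_two, Finset.card_eq_one] at h1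
  obtain ⟨u, hu⟩ := h1
  have h2 : z ∈ ({u} : Finset (E P Q)) := by
    rw [← hu]
    simpa using hz
  have h3 : (⟨w, hw⟩ : E P Q) ∈ ({u} : Finset (E P Q)) := by
    rw [← hu, Finset.mem_filter]
    exact ⟨Finset.mem_univ _, by rw [Subgroup.orderOf_mk]; exact hwo⟩
  rw [Finset.mem_singleton] at h2 h3
  have h4 : (⟨w, hw⟩ : E P Q) = z := h3.trans h2.symm
  exact congrArg Subtype.val h4

omit hp in
theorem one_lt_of_two_dvd (h : Geom p e n G) (he : 2 ∣ e) : 1 < e := by
  obtain ⟨P⟩ : Nonempty (Sylow p G) := inferInstance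
  have h1 : e ≠ 0 := by
    rintro rfl
    have := h.card_stab P
    rw [mul_zero] at this
    exact Nat.card_pos.ne' this
  obtain ⟨k, rfl⟩ := he
  omega

/-- The involution of `N(P) ∩ N(Q)` has centraliser `N_G(N(P) ∩ N(Q))`. -/
theorem centralizer_eq (h : Geom p e n G) {P Q : Sylow p G} (hPQ : P ≠ Q) {z : G}
    (hz : z ∈ E P Q) (hzo : orderOf z = 2) (huniq : ∀ w ∈ E P Q, orderOf w = 2 → w = z) :
    centralizer ({z} : Set G) = normalizer (E P Q : Set G) := by
  have hz1 : z ≠ 1 := by
    rintro rfl
    simp at hzo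
  apply le_antisymm
  · intro g hg
    rw [Subgroup.mem_centralizer_singleton_iff] at hg
    exact h.mem_normalizer_of_commute hPQ hz1 hz hg.symm
  · intro g hg
    rw [Subgroup.mem_centralizer_singleton_iff]
    have h1 : g * z * g⁻¹ ∈ E P Q := (Subgroup.mem_set_normalizer_iff.1 hg z).1 hz
    have h2 : orderOf (g * z * g⁻¹) = 2 := by
      rw [← hzo]
      exact (MulAut.conj g).orderOf_eq z ▸ rfl
    have h3 := huniq _ h1 h2
    exact mul_inv_eq_iff_eq_mul.1 h3

theorem card_centralizer (h : Geom p e n G) (he : 2 ∣ e) {P Q : Sylow p G} (hPQ : P ≠ Q) {z : G}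
    (hz : z ∈ E P Q) (hzo : orderOf z = 2) (huniq : ∀ w ∈ E P Q, orderOf w = 2 → w = z) :
    Nat.card (centralizer ({z} : Set G)) = e * (n + 1) := by
  rw [centralizer_eq h hPQ hz hzo huniq]
  exact h.card_normalizer_E (one_lt_of_two_dvd h he) hPQ

/-- `p` is odd if `2 ∣ e`. -/
theorem p_ne_two (h : Geom p e n G) (he : 2 ∣ e) {P Q : Sylow p G} (hPQ : P ≠ Q) : p ≠ 2 := by
  rintro rfl
  -- `E P Q` embeds in `Aut P` which is trivial
  have h1 : ∀ x ∈ E P Q, x = 1 := by
    intro x hx
    -- `x` normalises `P` of order two so it centralises `P`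
    by_contra hx1
    obtain ⟨w, hw, hw1⟩ : ∃ w ∈ P, w ≠ 1 := by
      have h2 : Nat.card (P : Subgroup G) = 2 := h.card_sylow P
      have h3 : Nontrivial (P : Subgroup G) := by
        rw [← Finite.one_lt_card_iff_nontrivial, h2]
        norm_num
      obtain ⟨⟨w, hw⟩, hw1⟩ := exists_ne (1 : (P : Subgroup G))
      exact ⟨w, hw, fun hc => hw1 (Subtype.ext hc)⟩
    have h4 : x * w * x⁻¹ ∈ P := conj_mem hx.1 hw
    have h5 : x * w * x⁻¹ = w := by
      have h2 : Nat.card (P : Subgroup G) = 2 := h.card_sylow P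
      by_contra hne
      have h6 : x * w * x⁻¹ ≠ 1 := by
        intro hc
        apply hw1
        have : x * w = x := mul_inv_eq_one.1 hc
        exact mul_eq_left.1 this
      -- three distinct elements
      have h7 : ({(⟨1, one_mem _⟩ : (P : Subgroup G)), ⟨w, hw⟩, ⟨x * w * x⁻¹, h4⟩} :
          Set (P : Subgroup G)).ncard = 3 := by
        rw [Set.ncard_eq_succ]
        refine ⟨⟨1, one_mem _⟩, {⟨w, hw⟩, ⟨x * w * x⁻¹, h4⟩}, ?_, rfl, ?_⟩
        · simp only [Set.mem_insert_iff, Set.mem_singleton_iff, Subtype.mk.injEq, not_or]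
          exact ⟨fun hc => hw1 hc.symm, fun hc => h6 hc.symm⟩
        · rw [Set.ncard_pair]
          intro hc
          exact hne (congrArg Subtype.val hc).symm
      have h8 := Set.ncard_le_card ({(⟨1, one_mem _⟩ : (P : Subgroup G)), ⟨w, hw⟩,
        ⟨x * w * x⁻¹, h4⟩} : Set (P : Subgroup G))
      rw [h7, h2] at h8
      omega
    have h6 : w * x = x * w := (mul_inv_eq_iff_eq_mul.1 h5).symm
    have h7 : x ∈ P := h.mem_of_commute hw1 hw h6
    exact hx1 (h.eq_one_of_mem_stabilizer hPQ h7 hx.2)
  obtain ⟨x, hx, hx1⟩ := h.exists_ne_one (one_lt_of_two_dvd h he) hPQ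
  exact hx1 (h1 x hx)

/-- An involution fixing a Sylow subgroup `R` lies in some two-point stabiliser at `R`. -/
theorem exists_mem_E_of_smul_eq (h : Geom p e n G) (he : 2 ∣ e) {P Q R : Sylow p G}
    (hPQ : P ≠ Q) {w : G} (hwo : orderOf w = 2) (hwR : w • R = R) :
    ∃ S, R ≠ S ∧ w ∈ E R S := by
  have hp2 : p ≠ 2 := p_ne_two h he hPQ
  have hwR' : w ∉ R := by
    intro hc
    have h1 : orderOf (⟨w, hc⟩ : (R : Subgroup G)) ∣ Nat.card (R : Subgroup G) :=
      orderOf_dvd_natCard _
    rw [Subgroup.orderOf_mk, hwo] at h1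
    have h2 : Nat.card (R : Subgroup G) = p := h.card_sylow R
    rw [h2] at h1
    exact hp2 ((Nat.prime_dvd_prime_iff_eq Nat.prime_two hp.out).1 h1).symm
  have hne : ∃ S0, R ≠ S0 := by
    by_cases hR : R = P
    · exact ⟨Q, by rw [hR]; exact hPQ⟩
    · exact ⟨P, hR⟩
  obtain ⟨S0, hS0⟩ := hne
  obtain ⟨y, hy, hyw⟩ := h.exists_conj_mem_E (one_lt_of_two_dvd h he) hS0 hwR hwR'
  exact ⟨y • S0, Geom.ne_smul hS0 (mem_stabilizer_of_mem hy), hyw⟩

/-- All involutions fixing some Sylow subgroup are conjugate. -/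
theorem exists_conj_eq (h : Geom p e n G) (he : 2 ∣ e) {P Q R : Sylow p G} (hPQ : P ≠ Q) {z : G}
    (hz : z ∈ E P Q) (hzo : orderOf z = 2) {w : G} (hwo : orderOf w = 2) (hwR : w • R = R) :
    ∃ g : G, g * z * g⁻¹ = w := by
  have he1 := one_lt_of_two_dvd h he
  obtain ⟨S, hRS, hwS⟩ := exists_mem_E_of_smul_eq h he hPQ hwo hwR
  obtain ⟨u, hu, huo, huu⟩ := exists_unique_involution h he hRS
  have hwu : w = u := huu w hwS hwo
  obtain ⟨g, hg⟩ := MulAction.exists_smul_eq G P R
  have hRgQ : R ≠ g • Q := by
    intro hc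
    apply hPQ
    apply smul_left_cancel g
    rw [hg, hc]
  obtain ⟨y, hy, hyE⟩ := h.exists_E_eq he1 hRgQ hRS
  have hyR : y • R = R := mem_stabilizer_of_mem hy
  refine ⟨y * g, ?_⟩
  rw [hwu]
  apply huu
  · rw [hyE]
    have h1 : E R (y • g • Q) = E ((y * g) • P) ((y * g) • Q) := by
      rw [mul_smul, mul_smul, hg, hyR]
    rw [h1, mem_E_smul]
    have : (y * g)⁻¹ * (y * g * z * (y * g)⁻¹) * (y * g) = z := by group
    rw [this]
    exact hz
  · rw [← hzo]
    exact (MulAut.conj (y * g)).orderOf_eq z ▸ rfl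

theorem card_fixed_of_involution (h : Geom p e n G) (he : 2 ∣ e) {P Q R : Sylow p G}
    (hPQ : P ≠ Q) {w : G} (hwo : orderOf w = 2) (hwR : w • R = R) :
    Nat.card {S : Sylow p G // w • S = S} = n + 1 := by
  obtain ⟨S, hRS, hwS⟩ := exists_mem_E_of_smul_eq h he hPQ hwo hwR
  refine h.card_fixed (one_lt_of_two_dvd h he) hRS ?_ hwS
  rintro rfl
  simp at hwo

/-- Two distinct commuting involutions have no common fixed point. -/
theorem eq_of_commute (h : Geom p e n G) (he : 2 ∣ e) {P Q R : Sylow p G}
    (hPQ : P ≠ Q) {z w : G} (hzo : orderOf z = 2) (hwo : orderOf w = 2) (hzR : z • R = R)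
    (hwR : w • R = R) (hc : z * w = w * z) : w = z := by
  obtain ⟨S, hRS, hzS⟩ := exists_mem_E_of_smul_eq h he hPQ hzo hzR
  obtain ⟨u, hu, huo, huu⟩ := exists_unique_involution h he hRS
  have hz1 : z ≠ 1 := by
    rintro rfl
    simp at hzo
  have h1 : w ∈ normalizer (E R S : Set G) := h.mem_normalizer_of_commute hRS hz1 hzS hc
  have h2 : w ∈ E R S := h.mem_E_of_mem_normalizer (one_lt_of_two_dvd h he) hRS h1 hwR
  rw [huu z hzS hzo, huu w h2 hwo]

/-- The involutions of `G` with a fixed point that commute with `z` and differ from `z`. -/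
def I (p : ℕ) (z : G) : Type _ :=
  {w : G // orderOf w = 2 ∧ (∃ R : Sylow p G, w • R = R) ∧ z * w = w * z ∧ w ≠ z}

/-- For `y` not fixed by the involution `z`, the involution of `N(y) ∩ N(z y)` commutes with `z`. -/
theorem exists_involution_of_not_fixed (h : Geom p e n G) (he : 2 ∣ e)
    {z : G} (hzo : orderOf z = 2) {y : Sylow p G} (hy : z • y ≠ y) :
    ∃ w : G, orderOf w = 2 ∧ w • y = y ∧ z * w = w * z ∧ w ≠ z := by
  obtain ⟨w, hw, hwo, hwu⟩ := exists_unique_involution h he (Ne.symm hy)
  have hzz : z * z = 1 := by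
    have := pow_orderOf_eq_one z
    rwa [hzo, pow_two] at this
  refine ⟨w, hwo, hw.1, ?_, ?_⟩
  · have h1 : z * w * z⁻¹ ∈ E y (z • y) := by
      rw [E_comm]
      have h2 : E (z • y) y = E (z • y) (z • z • y) := by
        rw [smul_smul, hzz, one_smul]
      rw [h2, mem_E_smul]
      have : z⁻¹ * (z * w * z⁻¹) * z = w := by group
      rw [this]
      exact hw
    have h3 : orderOf (z * w * z⁻¹) = 2 := by
      rw [← hwo]
      exact (MulAut.conj z).orderOf_eq w ▸ rfl
    exact mul_inv_eq_iff_eq_mul.1 (hwu _ h1 h3)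
  · rintro rfl
    exact hy hw.1

/-- `n (p - 1) ≤ |I| (n + 1)`. -/
theorem mul_le_card_I (h : Geom p e n G) (he : 2 ∣ e) {P Q : Sylow p G} (hPQ : P ≠ Q) {z : G}
    (hz : z ∈ E P Q) (hzo : orderOf z = 2) : n * (p - 1) ≤ Nat.card (I p z) * (n + 1) := by
  classical
  have hfinS : Finite (Sylow p G) := inferInstance
  have hfinI : Finite (I p z) := Subtype.finite
  have hex : ∀ y : {y : Sylow p G // ¬ z • y = y}, ∃ w : G, orderOf w = 2 ∧ w • y.1 = y.1 ∧
      z * w = w * z ∧ w ≠ z := fun y => exists_involution_of_not_fixed h he hzo y.2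
  choose f hf1 hf2 hf3 hf4 using hex
  -- injection into a sigma type
  have hcard1 : Nat.card (Σ w : I p z, {S : Sylow p G // w.1 • S = S}) =
      Nat.card (I p z) * (n + 1) := by
    have := Fintype.ofFinite (I p z)
    rw [Nat.card_sigma]
    have h1 : ∀ w : I p z, Nat.card {S : Sylow p G // w.1 • S = S} = n + 1 := by
      intro w
      obtain ⟨R, hR⟩ := w.2.2.1
      exact card_fixed_of_involution h he hPQ w.2.1 hR
    rw [Finset.sum_congr rfl (fun w _ => h1 w)]
    rw [Finset.sum_const, Finset.card_univ, smul_eq_mul, Nat.card_eq_fintype_card]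
  have hcard2 : Nat.card {y : Sylow p G // ¬ z • y = y} = n * (p - 1) := by
    have := Fintype.ofFinite (Sylow p G)
    rw [Nat.card_eq_fintype_card, Fintype.card_subtype_compl, ← Nat.card_eq_fintype_card,
      ← Nat.card_eq_fintype_card, h.card_num, card_fixed_of_involution h he hPQ hzo hz.1]
    have := hp.out.pos
    rw [Nat.mul_sub, mul_one]
    omega
  rw [← hcard1, ← hcard2]
  let φ : {y : Sylow p G // ¬ z • y = y} → (Σ w : I p z, {S : Sylow p G // w.1 • S = S}) :=
    fun y => ⟨⟨f y, hf1 y, ⟨y.1, hf2 y⟩, hf3 y, hf4 y⟩, ⟨y.1, hf2 y⟩⟩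
  apply Nat.card_le_card_of_injective φ
  intro y y' hyy
  apply Subtype.ext
  have h1 : (φ y).2.1 = (φ y').2.1 := by rw [hyy]
  exact h1

/-- If `n > 0` then `n + 1` is even. -/
theorem two_dvd_succ (h : Geom p e n G) (he : 2 ∣ e) (hn : 0 < n) : 2 ∣ n + 1 := by
  classical
  obtain ⟨P⟩ : Nonempty (Sylow p G) := inferInstance
  have h1 : 1 < Nat.card (Sylow p G) := by
    rw [h.card_num]
    have := Nat.mul_pos hn hp.out.pos
    omega
  rw [Finite.one_lt_card_iff_nontrivial] at h1
  obtain ⟨Q, hQ⟩ := exists_ne P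
  have hPQ : P ≠ Q := hQ.symm
  obtain ⟨z, hz, hzo, hzu⟩ := exists_unique_involution h he hPQ
  -- there is `y` not fixed by `z`
  have hex : ∃ y : Sylow p G, z • y ≠ y := by
    by_contra hcon
    push Not at hcon
    have h2 := card_fixed_of_involution h he hPQ hzo hz.1
    have h3 : Nat.card {S : Sylow p G // z • S = S} = Nat.card (Sylow p G) :=
      Nat.card_congr (Equiv.subtypeUnivEquiv hcon)
    rw [h2, h.card_num] at h3
    have h4 := hp.out.one_lt
    nlinarith
  obtain ⟨y, hy⟩ := hex
  obtain ⟨w, hwo, hwy, hwc, hwz⟩ := exists_involution_of_not_fixed h he hzo hy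
  have hfix := card_fixed_of_involution h he hPQ hwo hwy
  have hzz : z * z = 1 := by
    have := pow_orderOf_eq_one z
    rwa [hzo, pow_two] at this
  -- `z` acts on the fixed points of `w`
  let X := {S : Sylow p G // w • S = S}
  have hfinX : Finite X := Subtype.finite
  have := Fintype.ofFinite X
  have hmem : ∀ S : X, w • z • S.1 = z • S.1 := fun S => by
    rw [smul_smul, ← hwc, mul_smul, S.2]
  let f : Function.End X := fun S => ⟨z • S.1, hmem S⟩
  have hf2 : f ^ 2 ^ 1 = 1 := by
    funext S
    apply Subtype.ext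
    show z • z • S.1 = S.1
    rw [smul_smul, hzz, one_smul]
  have hfact : Fact (Nat.Prime 2) := ⟨Nat.prime_two⟩
  have hmod := Equiv.Perm.card_fixedPoints_modEq (p := 2) (n := 1) (f := f) hf2
  have hempty : Fintype.card (Function.fixedPoints f) = 0 := by
    rw [Fintype.card_eq_zero_iff]
    refine ⟨?_⟩
    rintro ⟨S, hS⟩
    have hS' : z • S.1 = S.1 := congrArg Subtype.val hS
    exact hwz (eq_of_commute h he hPQ hzo hwo hS' S.2 hwc)
  rw [hempty] at hmod
  have hX : Fintype.card X = n + 1 := by
    rw [← Nat.card_eq_fintype_card]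
    exact hfix
  rw [hX] at hmod
  exact (Nat.modEq_zero_iff_dvd).1 hmod

omit hp in
/-- Counting the solutions of `x * x = 1` in `C(z)`. -/
theorem card_I_add_two_le {z : G} (hzo : orderOf z = 2) :
    Nat.card (I p z) + 2 ≤ Nat.card {x : centralizer ({z} : Set G) // x * x = 1} := by
  classical
  have hfinI : Finite (I p z) := Subtype.finite
  have hz1 : z ≠ 1 := by
    rintro rfl
    simp at hzo
  have hzz : z * z = 1 := by
    have := pow_orderOf_eq_one z
    rwa [hzo, pow_two] at this
  have hmem : ∀ w : I p z, w.1 ∈ centralizer ({z} : Set G) := fun w =>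
    Subgroup.mem_centralizer_singleton_iff.2 w.2.2.2.1.symm
  let φ : Option (Option (I p z)) → {x : centralizer ({z} : Set G) // x * x = 1} := fun o =>
    match o with
    | none => ⟨1, by simp⟩
    | some none => ⟨⟨z, Subgroup.mem_centralizer_singleton_iff.2 rfl⟩, Subtype.ext hzz⟩
    | some (some w) => ⟨⟨w.1, hmem w⟩, by
        apply Subtype.ext
        have := pow_orderOf_eq_one w.1
        rw [w.2.1, pow_two] at this
        exact this⟩
  have hφ : Function.Injective φ := by
    rintro (_ | _ | w) (_ | _ | w') hww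
    · rfl
    · exact absurd (congrArg (fun x => (x.1.1 : G)) hww) (fun hc => hz1 hc.symm)
    · exfalso
      have h1 : (1 : G) = w'.1 := congrArg (fun x => (x.1.1 : G)) hww
      have h2 := w'.2.1
      rw [← h1] at h2
      simp at h2
    · exact absurd (congrArg (fun x => (x.1.1 : G)) hww) hz1
    · rfl
    · exfalso
      have h1 : z = w'.1 := congrArg (fun x => (x.1.1 : G)) hww
      exact w'.2.2.2.2 h1.symm
    · exfalso
      have h1 : w.1 = (1 : G) := congrArg (fun x => (x.1.1 : G)) hww
      have h2 := w.2.1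
      rw [h1] at h2
      simp at h2
    · exfalso
      have h1 : w.1 = z := congrArg (fun x => (x.1.1 : G)) hww
      exact w.2.2.2.2 h1
    · have h1 : w.1 = w'.1 := congrArg (fun x => (x.1.1 : G)) hww
      have h2 : w = w' := Subtype.ext h1
      rw [h2]
  have h1 := Nat.card_le_card_of_injective φ hφ
  rw [Finite.card_option, Finite.card_option] at h1
  omega

/-- **G2**: if `n + 1 = t`, `e t = p - 1`, `e` even, then `t` is even and `t = 2` or `e = 2`. -/
theorem even_and_eq_two_or (h : Geom p e n G) (he : 2 ∣ e) (hn : 0 < n) {t : ℕ} (ht : n + 1 = t)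
    (het : e * t = p - 1) : 2 ∣ t ∧ (t = 2 ∨ e = 2) := by
  classical
  have ht2 : 2 ∣ t := ht ▸ two_dvd_succ h he hn
  refine ⟨ht2, ?_⟩
  by_cases ht' : t = 2
  · exact Or.inl ht'
  right
  have ht4 : 4 ≤ t := by omega
  obtain ⟨P⟩ : Nonempty (Sylow p G) := inferInstance
  have h1 : 1 < Nat.card (Sylow p G) := by
    rw [h.card_num]
    have := Nat.mul_pos hn hp.out.pos
    omega
  rw [Finite.one_lt_card_iff_nontrivial] at h1
  obtain ⟨Q, hQ⟩ := exists_ne P
  have hPQ : P ≠ Q := hQ.symm
  obtain ⟨z, hz, hzo, hzu⟩ := exists_unique_involution h he hPQ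
  have hz1 : z ≠ 1 := by
    rintro rfl
    simp at hzo
  have hC := card_centralizer h he hPQ hz hzo hzu
  have hI := mul_le_card_I h he hPQ hz hzo
  have hI2 := card_I_add_two_le (p := p) hzo
  rw [ht] at hC hI
  -- `|I| ≥ n e`
  have hI3 : n * e ≤ Nat.card (I p z) := by
    have h2 : n * e * t ≤ Nat.card (I p z) * t := by
      calc n * e * t = n * (e * t) := by ring
        _ = n * (p - 1) := by rw [het]
        _ ≤ _ := hI
    exact Nat.le_of_mul_le_mul_right h2 (by omega)
  have hall : ∀ x : centralizer ({z} : Set G), x * x = 1 := by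
    apply mul_self_eq_one_of_card
    rw [hC]
    have h3 : n = t - 1 := by omega
    have h4 : n * e + e = e * t := by
      rw [← ht]; ring
    have h5 : e * 4 ≤ e * t := Nat.mul_le_mul_left e ht4
    omega
  -- `E P Q` is cyclic of exponent two
  have hcyc := h.isCyclic_E hPQ
  obtain ⟨g, hg⟩ := hcyc.exists_generator
  have hgC : (g : G) ∈ centralizer ({z} : Set G) := by
    rw [Subgroup.mem_centralizer_singleton_iff]
    exact h.E_comm' hPQ g.2 hz
  have hgg : (g : G) * (g : G) = 1 := congrArg Subtype.val (hall ⟨g, hgC⟩)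
  have hgo : orderOf g = e := by
    rw [orderOf_eq_card_of_forall_mem_zpowers hg, h.card_E _ _ hPQ]
  have hge : orderOf g ∣ 2 := by
    apply orderOf_dvd_of_pow_eq_one
    rw [pow_two]
    exact Subtype.ext hgg
  rw [hgo] at hge
  exact Nat.dvd_antisymm hge he

/-- **G3**: if `e = 2`, `n + 1 = t`, `2 t = p - 1`: every involution of `G` has a centraliser of
order `p - 1` all of whose elements satisfy `x * x = 1`; there are involutions, and all of them
are conjugate. -/
theorem elementary_of_eq_two (h : Geom p 2 n G) (hn : 0 < n) (het : 2 * (n + 1) = p - 1) :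
    (∃ z : G, orderOf z = 2) ∧
    (∀ u : G, orderOf u = 2 → Nat.card (centralizer ({u} : Set G)) = p - 1 ∧
      ∀ x ∈ centralizer ({u} : Set G), x * x = 1) ∧
    (∀ u v : G, orderOf u = 2 → orderOf v = 2 → ∃ g : G, g * u * g⁻¹ = v) := by
  classical
  have he : 2 ∣ 2 := dvd_rfl
  have hfact2 : Fact (Nat.Prime 2) := ⟨Nat.prime_two⟩
  obtain ⟨P⟩ : Nonempty (Sylow p G) := inferInstance
  have h1 : 1 < Nat.card (Sylow p G) := by
    rw [h.card_num]
    have := Nat.mul_pos hn hp.out.pos
    omega
  rw [Finite.one_lt_card_iff_nontrivial] at h1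
  obtain ⟨Q, hQ⟩ := exists_ne P
  have hPQ : P ≠ Q := hQ.symm
  obtain ⟨z, hz, hzo, hzu⟩ := exists_unique_involution h he hPQ
  have hC := card_centralizer h he hPQ hz hzo hzu
  have hI := mul_le_card_I h he hPQ hz hzo
  have hI2 := card_I_add_two_le (p := p) hzo
  have hI3 : n * 2 ≤ Nat.card (I p z) := by
    have h2 : n * 2 * (n + 1) ≤ Nat.card (I p z) * (n + 1) := by
      calc n * 2 * (n + 1) = n * (2 * (n + 1)) := by ring
        _ = n * (p - 1) := by rw [het]
        _ ≤ _ := hI
    exact Nat.le_of_mul_le_mul_right h2 (by omega)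
  have hfinI : Finite (I p z) := Subtype.finite
  -- every nonidentity element of `C(z)` other than `z` belongs to `I`
  have hmem : ∀ w : I p z, w.1 ∈ centralizer ({z} : Set G) := fun w =>
    Subgroup.mem_centralizer_singleton_iff.2 w.2.2.2.1.symm
  have hz1 : z ≠ 1 := by
    rintro rfl
    simp at hzo
  let φ : Option (Option (I p z)) → centralizer ({z} : Set G) := fun o =>
    match o with
    | none => 1
    | some none => ⟨z, Subgroup.mem_centralizer_singleton_iff.2 rfl⟩
    | some (some w) => ⟨w.1, hmem w⟩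
  have hφ : Function.Injective φ := by
    rintro (_ | _ | w) (_ | _ | w') hww
    · rfl
    · exact absurd (congrArg (fun x => (x.1 : G)) hww) (fun hc => hz1 hc.symm)
    · exfalso
      have h1 : (1 : G) = w'.1 := congrArg (fun x => (x.1 : G)) hww
      have h2 := w'.2.1
      rw [← h1] at h2
      simp at h2
    · exact absurd (congrArg (fun x => (x.1 : G)) hww) hz1
    · rfl
    · exfalso
      have h1 : z = w'.1 := congrArg (fun x => (x.1 : G)) hww
      exact w'.2.2.2.2 h1.symm
    · exfalso
      have h1 : w.1 = (1 : G) := congrArg (fun x => (x.1 : G)) hww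
      have h2 := w.2.1
      rw [h1] at h2
      simp at h2
    · exfalso
      have h1 : w.1 = z := congrArg (fun x => (x.1 : G)) hww
      exact w.2.2.2.2 h1
    · have h1 : w.1 = w'.1 := congrArg (fun x => (x.1 : G)) hww
      have h2 : w = w' := Subtype.ext h1
      rw [h2]
  have hφb : Function.Bijective φ := by
    refine (Nat.bijective_iff_injective_and_card φ).2 ⟨hφ, ?_⟩
    apply le_antisymm (Nat.card_le_card_of_injective φ hφ)
    rw [hC, Finite.card_option, Finite.card_option]
    omega
  -- so every nonidentity element of `C(z)` is an involution with a fixed point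
  have hinv : ∀ x ∈ centralizer ({z} : Set G), x ≠ 1 → orderOf x = 2 ∧
      ∃ R : Sylow p G, x • R = R := by
    intro x hx hx1
    obtain ⟨o, ho⟩ := hφb.2 ⟨x, hx⟩
    match o, ho with
    | none, ho => exact absurd (congrArg Subtype.val ho).symm hx1
    | some none, ho =>
      have : z = x := congrArg Subtype.val ho
      rw [← this]
      exact ⟨hzo, P, hz.1⟩
    | some (some w), ho =>
      have : w.1 = x := congrArg Subtype.val ho
      rw [← this]
      exact ⟨w.2.1, w.2.2.1⟩
  have hconjz : ∀ x ∈ centralizer ({z} : Set G), x ≠ 1 → ∃ g : G, g * z * g⁻¹ = x := by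
    intro x hx hx1
    obtain ⟨h2, R, hR⟩ := hinv x hx hx1
    exact exists_conj_eq h he hPQ hz hzo h2 hR
  -- `C(z)` is a Sylow 2-subgroup
  have h2grp : IsPGroup 2 (centralizer ({z} : Set G)) := by
    rw [IsPGroup.iff_orderOf]
    intro x
    by_cases hx : x = 1
    · exact ⟨0, by rw [hx, orderOf_one, pow_zero]⟩
    · refine ⟨1, ?_⟩
      have hx1 : (x : G) ≠ 1 := fun hc => hx (Subtype.ext hc)
      have := (hinv x x.2 hx1).1
      rw [pow_one, ← this, Subgroup.orderOf_coe]
  have hcardG : Nat.card G = (1 + n * p) * (p * 2) := h.card_group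
  have hCp : Nat.card (centralizer ({z} : Set G)) = p - 1 := by rw [hC, het]
  have hp2 : p ≠ 2 := p_ne_two h he hPQ
  have hpodd : ¬ 2 ∣ p := by
    intro hc
    exact hp2 ((Nat.prime_dvd_prime_iff_eq Nat.prime_two hp.out).1 hc).symm
  have hidx : ¬ 2 ∣ (centralizer ({z} : Set G)).index := by
    have h3 := (centralizer ({z} : Set G)).card_mul_index
    rw [hCp, hcardG] at h3
    have hppos := hp.out.pos
    -- p = 2n + 3
    have hpn : p = 2 * n + 3 := by omega
    have h4 : (1 + n * p) = (n + 1) * (p - 2) := by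
      subst hpn
      have : 2 * n + 3 - 2 = 2 * n + 1 := by omega
      rw [this]
      ring
    have h5 : (p - 1) * (centralizer ({z} : Set G)).index = (p - 1) * ((p - 2) * p) := by
      rw [h3, h4, ← het]
      ring
    have h6 : (centralizer ({z} : Set G)).index = (p - 2) * p :=
      Nat.eq_of_mul_eq_mul_left (by omega) h5
    rw [h6]
    intro hc
    rcases (Nat.Prime.dvd_mul Nat.prime_two).1 hc with hc | hc
    · omega
    · exact hpodd hc
  -- every involution is conjugate to `z`
  have hall : ∀ u : G, orderOf u = 2 → ∃ g : G, g * z * g⁻¹ = u := by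
    intro u hu
    let T : Sylow 2 G := h2grp.toSylow hidx
    have hTz : (T : Subgroup G) = centralizer ({z} : Set G) := rfl
    have hu2 : IsPGroup 2 (zpowers u) := by
      apply IsPGroup.of_card (n := 1)
      rw [Nat.card_zpowers, hu, pow_one]
    obtain ⟨T', hT'⟩ := hu2.exists_le_sylow
    obtain ⟨g, hg⟩ := MulAction.exists_smul_eq G T T'
    have hu' : u ∈ (g • T : Sylow 2 G) := by
      rw [hg]
      exact hT' (mem_zpowers u)
    rw [smul_mem_iff] at hu'
    have hu'' : g⁻¹ * u * g ∈ centralizer ({z} : Set G) := hu'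
    have hne : g⁻¹ * u * g ≠ 1 := by
      intro hc
      have : u = 1 := by
        calc u = g * (g⁻¹ * u * g) * g⁻¹ := by group
          _ = 1 := by rw [hc]; group
      rw [this] at hu
      simp at hu
    obtain ⟨k, hk⟩ := hconjz _ hu'' hne
    refine ⟨g * k, ?_⟩
    calc g * k * z * (g * k)⁻¹ = g * (k * z * k⁻¹) * g⁻¹ := by group
      _ = g * (g⁻¹ * u * g) * g⁻¹ := by rw [hk]
      _ = u := by group
  have hsq : ∀ x ∈ centralizer ({z} : Set G), x * x = 1 := by
    intro x hx
    by_cases hx1 : x = 1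
    · rw [hx1, one_mul]
    · have := pow_orderOf_eq_one x
      rw [(hinv x hx hx1).1, pow_two] at this
      exact this
  refine ⟨⟨z, hzo⟩, ?_, ?_⟩
  · intro u hu
    obtain ⟨g, hg⟩ := hall u hu
    have hmemu : ∀ x, x ∈ centralizer ({u} : Set G) ↔ g⁻¹ * x * g ∈ centralizer ({z} : Set G) := by
      intro x
      rw [Subgroup.mem_centralizer_singleton_iff, Subgroup.mem_centralizer_singleton_iff, ← hg]
      constructor
      · intro hx
        calc g⁻¹ * x * g * z = g⁻¹ * (x * (g * z * g⁻¹)) * g := by group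
          _ = g⁻¹ * (g * z * g⁻¹ * x) * g := by rw [hx]
          _ = z * (g⁻¹ * x * g) := by group
      · intro hx
        calc x * (g * z * g⁻¹) = g * (g⁻¹ * x * g * z) * g⁻¹ := by group
          _ = g * (z * (g⁻¹ * x * g)) * g⁻¹ := by rw [hx]
          _ = g * z * g⁻¹ * x := by group
    refine ⟨?_, ?_⟩
    · rw [← hCp]
      refine Nat.card_congr
        { toFun := fun x => ⟨g⁻¹ * x.1 * g, (hmemu x.1).1 x.2⟩
          invFun := fun x => ⟨g * x.1 * g⁻¹, by
            rw [hmemu]
            have : g⁻¹ * (g * x.1 * g⁻¹) * g = x.1 := by group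
            rw [this]
            exact x.2⟩
          left_inv := fun x => by
            apply Subtype.ext
            show g * (g⁻¹ * x.1 * g) * g⁻¹ = x.1
            group
          right_inv := fun x => by
            apply Subtype.ext
            show g⁻¹ * (g * x.1 * g⁻¹) * g = x.1
            group }
    · intro x hx
      have h3 := hsq _ ((hmemu x).1 hx)
      calc x * x = g * (g⁻¹ * x * g * (g⁻¹ * x * g)) * g⁻¹ := by group
        _ = 1 := by rw [h3]; group
  · intro u v hu hv
    obtain ⟨g, hg⟩ := hall u hu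
    obtain ⟨k, hk⟩ := hall v hv
    refine ⟨k * g⁻¹, ?_⟩
    rw [← hg, ← hk]
    group

/-- Constructor for `Geom` from the orders of the intersections `N(P) ∩ N(Q)`. -/
theorem geom_of_card_inf (P : Sylow p G) (hP : Nat.card P = p)
    (hC : centralizer (P : Set G) = P) (hS : e * p = Nat.card (normalizer (P : Set G)))
    (hn : n * p + 1 = Nat.card (Sylow p G))
    (hE : ∀ Q : Sylow p G, Q ≠ P →
      Nat.card (normalizer (P : Set G) ⊓ normalizer (Q : Set G) : Subgroup G) = e) :
    Geom p e n G := by
  classical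
  have hfinS : Finite (Sylow p G) := inferInstance
  have := Fintype.ofFinite (Sylow p G)
  refine geom_of_card_pairs P hP hC (by rw [← hS, mul_comm]) (by rw [← hn, add_comm]) ?_
  have hsum : Nat.card {y : normalizer (P : Set G) × Sylow p G // (y.1 : G) • y.2 = y.2} =
      ∑ Q : Sylow p G, Nat.card (E P Q) := by
    rw [← Nat.card_sigma]
    refine Nat.card_congr
      { toFun := fun y => ⟨y.1.2, ⟨y.1.1, Sylow.smul_eq_iff_mem_normalizer.2 y.1.1.2, y.2⟩⟩
        invFun := fun z => ⟨⟨⟨z.2.1, Sylow.smul_eq_iff_mem_normalizer.1 z.2.2.1⟩, z.1⟩, z.2.2.2⟩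
        left_inv := fun y => rfl
        right_inv := fun z => rfl }
  have h3 : ∑ R : Sylow p G, (if R = P then p * e else e) = (n + 1) * (p * e) := by
    rw [Finset.sum_ite]
    simp only [Finset.sum_const, smul_eq_mul]
    have h4 : (Finset.univ.filter (fun R : Sylow p G => R = P)).card = 1 := by
      rw [Finset.card_eq_one]
      exact ⟨P, by ext; simp⟩
    have h5 : (Finset.univ.filter (fun R : Sylow p G => ¬ R = P)).card = n * p := by
      have h6 := Finset.card_filter_add_card_filter_not (s := (Finset.univ : Finset (Sylow p G)))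
        (fun R => R = P)
      rw [Finset.card_univ, ← Nat.card_eq_fintype_card, ← hn, h4] at h6
      omega
    rw [h4, h5]
    ring
  rw [hsum, ← h3]
  apply Finset.sum_le_sum
  intro R _
  by_cases hR : R = P
  · subst hR
    simp only [if_true]
    have h4 : E R R = normalizer (R : Set G) := by
      rw [← R.stabilizer_eq_normalizer]
      exact inf_idem _
    rw [h4, ← hS, mul_comm]
  · simp only [hR, if_false]
    have h4 : E P R = normalizer (P : Set G) ⊓ normalizer (R : Set G) := by
      rw [← R.stabilizer_eq_normalizer, ← P.stabilizer_eq_normalizer]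
      rfl
    rw [h4, hE R hR]

end Cfsg.Agent.SmallSimple.SylowGeometryInv
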