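import Mathlib
import Cfsg.Agent.SmallSimple.BrauerTypesSetup
import Cfsg.Agent.SmallSimple.BrauerTypesMain
import Cfsg.Agent.SmallSimple.BrauerTypesProd
import Cfsg.Agent.SmallSimple.SylowGeometry
import Cfsg.Agent.SmallSimple.SylowGeometryInv
import Cfsg.Agent.SmallSimple.BrauerEnd
import Cfsg.Agent.SmallSimple.PSL2Perfect

/-!
Brauer's theorem S0996 from the character data `BData`.
-/

set_option autoImplicit false
set_option linter.unusedSectionVars false
open Cfsg

namespace Cfsg.Agent.SmallSimple.BrauerTypesFinal

open Subgroup Cfsg.Agent.SmallSimple.SelfCentPrime Cfsg.Agent.SmallSimple.BrauerTypes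
  Cfsg.Agent.SmallSimple.BrauerTypesSetup Cfsg.Agent.SmallSimple.BrauerTypesMain
  Cfsg.Agent.SmallSimple.BrauerTypesProd
  Cfsg.Agent.SmallSimple.SylowGeometry Cfsg.Agent.SmallSimple.SylowGeometryInv
  Cfsg.Agent.Characters.Core

universe u
variable {G : Type u} [Group G] [Finite G] {p : ℕ} [hp : Fact p.Prime] {z : G}

theorem geom {n e t : ℕ} (P : Sylow p G) (hcP : Nat.card P = p)
    (hcent : centralizer (P : Set G) = P) (hnS : n * p + 1 = Nat.card (Sylow p G))
    (H : Hyp p n e t (P : Subgroup G) (normalizer (P : Set G)))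
    (D : BData p (P : Subgroup G) e t) : Geom p e n G := by
  classical
  have := Fintype.ofFinite (P : Subgroup G)
  have := Fintype.ofFinite (normalizer (P : Set G))
  refine geom_of_card_inf P hcP hcent (by rw [H.cardN, mul_comm]) hnS ?_
  intro Q hQ
  obtain ⟨x, hx⟩ := MulAction.exists_smul_eq G P Q
  have hxN : x ∉ normalizer (P : Set G) := by
    intro h
    exact hQ (by rw [← hx, Sylow.smul_eq_iff_mem_normalizer.2 h])
  have h1 := inter_eq H D hxN
  rw [← h1, ← Fintype.card_subtype, ← Nat.card_eq_fintype_card]
  have hmem : ∀ g : G, g ∈ normalizer (Q : Set G) ↔ x⁻¹ * g * x ∈ normalizer (P : Set G) := by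
    intro g
    rw [← Sylow.smul_eq_iff_mem_normalizer, ← Sylow.smul_eq_iff_mem_normalizer, ← hx, mul_smul,
      mul_smul, inv_smul_eq_iff]
  refine Nat.card_congr
    { toFun := fun g => ⟨⟨g.1, g.2.1⟩, (hmem g.1).1 g.2.2⟩
      invFun := fun g => ⟨g.1.1, g.1.2, (hmem g.1.1).2 g.2⟩
      left_inv := fun g => rfl
      right_inv := fun g => rfl }

/-- The end of Brauer's theorem from the types. -/
theorem final {n e t : ℕ} (hperf : commutator G = ⊤) (hz : orderOf z = p)
    (hC : centralizer ({z} : Set G) = zpowers z) (P : Sylow p G) (hcP : Nat.card P = p)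
    (hcent : centralizer (P : Set G) = P) (hnS : n * p + 1 = Nat.card (Sylow p G))
    (H : Hyp p n e t (P : Subgroup G) (normalizer (P : Set G)))
    (D : BData p (P : Subgroup G) e t) :
    (∃ (F : Type) (_ : Field F) (_ : Fintype F), Fintype.card F = p ∧ 3 < p ∧
      Nonempty (G ≃* Matrix.ProjectiveSpecialLinearGroup (Fin 2) F)) ∨
    (∃ (m : ℕ) (F : Type) (_ : Field F) (_ : Fintype F), Fintype.card F = 2 ^ m ∧
      p = 2 ^ m + 1 ∧ 3 < p ∧ Nonempty (G ≃* Matrix.ProjectiveSpecialLinearGroup (Fin 2) F)) := by
  classical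
  have := Fintype.ofFinite (P : Subgroup G)
  have := Fintype.ofFinite (normalizer (P : Set G))
  have := Fintype.ofFinite G
  have := finite_irr (G := G)
  have := Fintype.ofFinite (IrrCharacter G)
  have hGeom := geom P hcP hcent hnS H D
  have hcases := (cases H D).2
  have he := H.he
  have hn := H.n_pos
  have het := H.het
  have ht := t_pos H D
  have hp2 := H.prime.two_le
  have hcG := H.cardG
  have key : ∀ {x : ℕ}, n + 1 < p → n + 1 ∣ e * t := by
    intro x hlt
    have h1 := hGeom.succ_dvd_pred (by omega) (by omega) (by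
      intro h
      have := Nat.le_of_dvd (by omega) h
      omega)
    rw [het]
    exact h1
  have hlast : (n = 1 ∧ t = 2) ∨ (e = 2 ∧ n + 1 = t) := by
    rcases hcases with ⟨hd, hx⟩ | ⟨hd, ⟨k, hk⟩, hx⟩
    · left
      have hx' : (setA D).card * (n + 1) + 1 = e := by
        have : ((setA D).card * (n + 1) + 1 : ℤ) = e := by linarith
        exact_mod_cast this
      have hpos : 0 < (setA D).card := by
        rcases Nat.eq_zero_or_pos (setA D).card with h | h
        · rw [h] at hx'; omega
        · exact h
      have hle : n + 1 ≤ (setA D).card * (n + 1) := Nat.le_mul_of_pos_left _ hpos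
      have het2 : e ≤ e * t := Nat.le_mul_of_pos_right _ ht
      have h1 : n + 1 ∣ e * t := key (x := 0) (by omega)
      have hcop : Nat.Coprime (n + 1) e := by
        rw [← hx']
        have h2 : Nat.gcd (n + 1) ((setA D).card * (n + 1) + 1) ∣ 1 := by
          have h3 := Nat.gcd_dvd_left (n + 1) ((setA D).card * (n + 1) + 1)
          have h4 := Nat.gcd_dvd_right (n + 1) ((setA D).card * (n + 1) + 1)
          exact (Nat.dvd_add_right (Dvd.dvd.mul_left h3 _)).1 h4
        exact Nat.dvd_one.1 h2
      have h2 : n + 1 ∣ t := hcop.dvd_of_dvd_mul_left h1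
      have h3 := Nat.le_of_dvd ht h2
      exact case_two_final H D hd (by omega)
    · have hx' : k * (t * (setA D).card + 1) + 1 = e := by
        have h1 : (k * (t * (setA D).card + 1) + 1 : ℤ) = e := by
          have hk' : (k : ℤ) * t = n + 1 := by exact_mod_cast hk
          rw [← hk'] at hx
          have ht' : (t : ℤ) ≠ 0 := by exact_mod_cast (by omega : t ≠ 0)
          apply mul_left_cancel₀ ht'
          linear_combination hx
        exact_mod_cast h1
      have hk1 : 0 < k := by
        rcases Nat.eq_zero_or_pos k with h | h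
        · rw [h] at hk; omega
        · exact h
      have hke : k + 1 ≤ e := by
        have : k ≤ k * (t * (setA D).card + 1) := Nat.le_mul_of_pos_right _ (by omega)
        omega
      have hlt : n + 1 < p := by
        rw [← hk]
        have h2 : (k + 1) * t ≤ e * t := Nat.mul_le_mul_right t hke
        have h3 : (k + 1) * t = k * t + t := by ring
        omega
      have h1 : k * t ∣ e * t := by
        rw [hk]
        exact key (x := 0) hlt
      have h2 : k ∣ e := Nat.dvd_of_mul_dvd_mul_right ht h1
      have h3 : k ∣ 1 := by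
        rw [← hx'] at h2
        exact (Nat.dvd_add_right (dvd_mul_right _ _)).1 h2
      have hk' : k = 1 := Nat.dvd_one.1 h3
      rw [hk', one_mul] at hk hx'
      have hodd : 2 ∣ e * t := by
        rw [het]
        have hpne : p ≠ 2 := by
          intro h
          rw [h] at het
          have h4 : e ∣ 1 := Dvd.intro t het
          have := Nat.le_of_dvd (by norm_num) h4
          omega
        have := (H.prime.odd_of_ne_two hpne)
        obtain ⟨j, hj⟩ := this
        exact ⟨j, by omega⟩
      have heven : 2 ∣ e := by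
        rcases (Nat.Prime.dvd_mul Nat.prime_two).1 hodd with h | h
        · exact h
        · rw [← hx']
          exact (Nat.dvd_add_right (Dvd.dvd.mul_right h _)).2 (dvd_refl 2)
      rcases (even_and_eq_two_or hGeom heven (by omega) hk.symm het).2 with h | h
      · left
        exact ⟨by omega, h⟩
      · right
        exact ⟨h, hk.symm⟩
  clear hcases key
  rcases hlast with ⟨h1, h2⟩ | ⟨h1, h2⟩
  · left
    subst h1 h2
    have hp1 : p = 2 * e + 1 := by omega
    refine ⟨ZMod p, inferInstance, inferInstance, ZMod.card p, by omega, ?_⟩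
    refine PSL2Perfect.psl2_of_perfect_card (by omega) hperf hz hC ?_ (by rw [← hnS, one_mul])
      (ZMod.card p)
    rw [hcG, one_mul, ← het]
    ring
  · right
    subst h1
    obtain ⟨⟨i, hi⟩, hcen, hconj⟩ := elementary_of_eq_two hGeom (by omega) (by rw [h2, het])
    have hp3 : p = 2 * n + 3 := by omega
    have hsq : ∀ c ∈ centralizer ({i} : Set G), c ^ 2 = 1 := by
      intro c hc
      rw [sq]
      exact (hcen i hi).2 c hc
    refine BrauerEnd.psl_of_e_eq_two (by omega) ?_ z hz hC i hi (hcen i hi).1 hsq ?_
    · rw [hcG]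
      have e1 : p - 1 = 2 * n + 2 := by omega
      have e2 : p - 2 = 2 * n + 1 := by omega
      rw [e1, e2, hp3]
      ring
    · intro c hc hc1
      obtain ⟨g, hg⟩ := hconj i c hi (by
        exact orderOf_eq_prime (hsq c hc) hc1)
      exact isConj_iff.2 ⟨g, hg⟩

end Cfsg.Agent.SmallSimple.BrauerTypesFinal
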