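import Mathlib
import Cfsg.Prelude.Def_Characters
import Cfsg.Agent.Characters.Core
import Cfsg.Agent.Characters.Values
import Cfsg.Agent.Characters.Central
import Cfsg.Agent.Characters.ClassMul
import Cfsg.Agent.Characters.CentralCharacter

/-!
# Basic tools for the Brauer–Tuan theorem

* `fixd P ψ`: the multiplicity of the trivial character in the restriction of `ψ` to `P`;
* values at elements normalizing a subgroup of prime order;
* removing a set of constituents from a character.
-/

set_option autoImplicit false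

open scoped ComplexConjugate
open Cfsg

namespace Cfsg.Agent.SmallSimple.BTBasic

open Cfsg.Agent.Characters.Core

universe u

variable {G : Type u} [Group G]

/-- The average of `ψ` over the subgroup `P`. -/
noncomputable def fixd [Finite G] (P : Subgroup G) (ψ : G → ℂ) : ℂ :=
  letI := Fintype.ofFinite P
  (Nat.card P : ℂ)⁻¹ * ∑ x : P, ψ x

theorem fixd_def [Finite G] (P : Subgroup G) [Fintype P] (ψ : G → ℂ) :
    fixd P ψ = (Nat.card P : ℂ)⁻¹ * ∑ x : P, ψ x := by
  unfold fixd
  congr!

theorem fixd_add [Finite G] (P : Subgroup G) (φ ψ : G → ℂ) :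
    fixd P (φ + ψ) = fixd P φ + fixd P ψ := by
  have := Fintype.ofFinite P
  simp only [fixd_def, Pi.add_apply, Finset.sum_add_distrib, mul_add]

theorem fixd_sub [Finite G] (P : Subgroup G) (φ ψ : G → ℂ) :
    fixd P (φ - ψ) = fixd P φ - fixd P ψ := by
  have := Fintype.ofFinite P
  simp only [fixd_def, Pi.sub_apply, Finset.sum_sub_distrib, mul_sub]

theorem fixd_sum [Finite G] (P : Subgroup G) {ι : Type*} (s : Finset ι) (f : ι → G → ℂ) :
    fixd P (∑ i ∈ s, f i) = ∑ i ∈ s, fixd P (f i) := by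
  classical
  induction s using Finset.induction_on with
  | empty =>
    have := Fintype.ofFinite P
    simp [fixd_def]
  | insert a s ha ih => rw [Finset.sum_insert ha, Finset.sum_insert ha, fixd_add, ih]

theorem card_ne_zero [Finite G] (P : Subgroup G) : (Nat.card P : ℂ) ≠ 0 := by
  exact_mod_cast Nat.card_pos.ne'

/-- A function which is constant `= c` on `P \ {1}`. -/
theorem fixd_of_const [Finite G] (P : Subgroup G) (ψ : G → ℂ) (c : ℂ)
    (h : ∀ x ∈ P, x ≠ 1 → ψ x = c) :
    (Nat.card P : ℂ) * fixd P ψ = ψ 1 + ((Nat.card P : ℂ) - 1) * c := by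
  classical
  have := Fintype.ofFinite P
  rw [fixd_def, ← mul_assoc, mul_inv_cancel₀ (card_ne_zero P), one_mul,
    ← Finset.add_sum_erase _ _ (Finset.mem_univ (1 : P))]
  congr 1
  have h2 : ∀ x ∈ Finset.univ.erase (1 : P), ψ (x : G) = c := fun x hx =>
    h x x.2 (fun h1 => (Finset.ne_of_mem_erase hx) (Subtype.ext h1))
  rw [Finset.sum_congr rfl h2, Finset.sum_const, Finset.card_erase_of_mem (Finset.mem_univ _), Finset.card_univ,
    nsmul_eq_mul, ← Nat.card_eq_fintype_card, Nat.cast_sub Nat.card_pos, Nat.cast_one]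

theorem fixd_isNat [Finite G] (P : Subgroup G) {ψ : G → ℂ} (hψ : IsCharacter G ψ) :
    ∃ n : ℕ, fixd P ψ = n := by
  have := Fintype.ofFinite P
  obtain ⟨n, hn⟩ := classInner_isNat (isCharacter_comp P.subtype hψ) (isCharacter_one (G := P))
  refine ⟨n, ?_⟩
  rw [← hn, classInner_def, fixd_def]
  simp

section Rep

variable {V : Type*} [AddCommGroup V] [Module ℂ V] [FiniteDimensional ℂ V]

/-- The trace of an endomorphism of finite order is bounded by the dimension. -/
theorem norm_trace_le {f : Module.End ℂ V} {n : ℕ} (hn : n ≠ 0) (hf : f ^ n = 1) :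
    ‖LinearMap.trace ℂ V f‖ ≤ Module.finrank ℂ V := by
  rw [Cfsg.Agent.Characters.Values.trace_eq_sum_roots,
    ← Cfsg.Agent.Characters.Values.card_roots_charpoly f]
  refine (norm_multiset_sum_le _).trans ?_
  rw [Multiset.map_congr rfl (fun z hz => Complex.norm_eq_one_of_pow_eq_one
    (Cfsg.Agent.Characters.Values.pow_eq_one_of_mem_roots hf hz) hn)]
  simp

/-- The projection onto the fixed points of `P`. -/
noncomputable def avg [Finite G] (P : Subgroup G) (ρ : Representation ℂ G V) : Module.End ℂ V :=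
  letI := Fintype.ofFinite P
  (Nat.card P : ℂ)⁻¹ • ∑ x : P, ρ (x : G)

omit [FiniteDimensional ℂ V] in
theorem avg_def [Finite G] (P : Subgroup G) [Fintype P] (ρ : Representation ℂ G V) :
    avg P ρ = (Nat.card P : ℂ)⁻¹ • ∑ x : P, ρ (x : G) := by
  unfold avg
  congr!

omit [FiniteDimensional ℂ V] in
theorem rho_mul_avg [Finite G] (P : Subgroup G) (ρ : Representation ℂ G V) (x : G) (hx : x ∈ P) :
    ρ x * avg P ρ = avg P ρ := by
  have := Fintype.ofFinite P
  rw [avg_def, mul_smul_comm, Finset.mul_sum]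
  congr 1
  refine Fintype.sum_equiv (Equiv.mulLeft (⟨x, hx⟩ : P)) _ _ fun a => ?_
  rw [← map_mul]
  rfl

omit [FiniteDimensional ℂ V] in
theorem avg_mul_avg [Finite G] (P : Subgroup G) (ρ : Representation ℂ G V) :
    avg P ρ * avg P ρ = avg P ρ := by
  have := Fintype.ofFinite P
  conv_lhs => enter [1]; rw [avg_def]
  have h2 : ∀ x ∈ (Finset.univ : Finset P), ρ (x : G) * avg P ρ = avg P ρ := fun x _ =>
    rho_mul_avg P ρ x x.2
  rw [smul_mul_assoc, Finset.sum_mul, Finset.sum_congr rfl h2, Finset.sum_const, Finset.card_univ,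
    ← Nat.card_eq_fintype_card, ← Nat.cast_smul_eq_nsmul ℂ, smul_smul,
    inv_mul_cancel₀ (card_ne_zero P), one_smul]

theorem trace_avg [Finite G] (P : Subgroup G) (ρ : Representation ℂ G V) :
    LinearMap.trace ℂ V (avg P ρ) = fixd P ρ.character := by
  have := Fintype.ofFinite P
  rw [avg_def, fixd_def, map_smul, map_sum, smul_eq_mul]
  rfl

/-- The trace of `ρ y * e` where `e` is the projection to the fixed points of `P`, and `y`
normalizes `P`. -/
theorem norm_trace_mul_avg_le [Finite G] (P : Subgroup G) (ρ : Representation ℂ G V) (y : G)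
    (hy : ∀ x ∈ P, y * x * y⁻¹ ∈ P) :
    ‖LinearMap.trace ℂ V (ρ y * avg P ρ)‖ ≤ ‖fixd P ρ.character‖ := by
  classical
  set e : Module.End ℂ V := avg P ρ with he
  let W : Submodule ℂ V := LinearMap.range e
  have hee : ∀ v, e (e v) = e v := fun v => congrArg (fun f => f v) (avg_mul_avg P ρ)
  have heW : ∀ v, e v ∈ W := fun v => ⟨v, rfl⟩
  have heid : ∀ w ∈ W, e w = w := by
    rintro _ ⟨v, rfl⟩
    exact hee v
  have hcomm : ρ y * e = e * ρ y := by
    have := Fintype.ofFinite P
    rw [he, avg_def, mul_smul_comm, smul_mul_assoc, Finset.mul_sum, Finset.sum_mul]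
    congr 1
    let c : P → P := fun x => ⟨y * x * y⁻¹, hy x x.2⟩
    have hc : Function.Injective c := by
      intro a b hab
      have h1 : y * a * y⁻¹ = y * b * y⁻¹ := congrArg Subtype.val hab
      apply Subtype.ext
      simpa using h1
    refine Fintype.sum_bijective c ((Finite.injective_iff_bijective).1 hc) _ _ fun a => ?_
    rw [← map_mul, ← map_mul]
    congr 1
    simp [c]
  have hfW : ∀ w ∈ W, ρ y w ∈ W := by
    rintro _ ⟨v, rfl⟩
    have : ρ y (e v) = e (ρ y v) := congrArg (fun f => f v) hcomm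
    rw [this]
    exact heW _
  have hall : ∀ v, (ρ y * e) v ∈ W := fun v => hfW _ (heW v)
  have h1 := LinearMap.trace_restrict_eq_of_forall_mem W (ρ y * e) hall
  have h2 : (ρ y * e).restrict (fun w (_ : w ∈ W) => hall w) = (ρ y).restrict hfW := by
    ext w
    simp only [LinearMap.coe_restrict_apply, Module.End.mul_apply]
    rw [heid w w.2]
  have h3 : ((ρ y).restrict hfW) ^ (Nat.card G) = 1 := by
    rw [Module.End.pow_restrict]
    ext w
    simp only [LinearMap.coe_restrict_apply]
    rw [← map_pow, pow_card_eq_one', map_one]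
    rfl
  have h4 := norm_trace_le (V := W) Nat.card_pos.ne' h3
  rw [← h1, h2]
  refine h4.trans ?_
  have h5 : LinearMap.IsProj W e := ⟨heW, heid⟩
  have h6 := LinearMap.IsProj.trace h5
  rw [he, trace_avg] at h6
  rw [h6]
  simp

/-- If all elements `y * x`, `x ∈ P`, are conjugate to `y` then `|ψ(y)|` is at most the
multiplicity of the trivial character in `ψ` restricted to `P`. -/
theorem norm_character_le_fixd_rep [Finite G] (P : Subgroup G) (ρ : Representation ℂ G V) (y : G)
    (hy : ∀ x ∈ P, y * x * y⁻¹ ∈ P) (hconj : ∀ x ∈ P, IsConj y (y * x)) :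
    ‖ρ.character y‖ ≤ ‖fixd P ρ.character‖ := by
  have := Fintype.ofFinite P
  have h1 : LinearMap.trace ℂ V (ρ y * avg P ρ) = ρ.character y := by
    rw [avg_def, mul_smul_comm, Finset.mul_sum, map_smul, map_sum]
    have h2 : ∀ x : P, LinearMap.trace ℂ V (ρ y * ρ (x : G)) = ρ.character y := by
      intro x
      obtain ⟨c, hc⟩ := isConj_iff.1 (hconj x x.2)
      rw [← map_mul]
      have : ρ.character (y * x) = ρ.character y := by
        rw [← hc, Representation.char_conj]
      exact this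
    rw [Finset.sum_congr rfl (fun x _ => h2 x), Finset.sum_const, Finset.card_univ,
      ← Nat.card_eq_fintype_card, nsmul_eq_mul, smul_eq_mul, ← mul_assoc,
      inv_mul_cancel₀ (card_ne_zero P), one_mul]
  rw [← h1]
  exact norm_trace_mul_avg_le P ρ y hy

end Rep

theorem norm_character_le_fixd [Finite G] (P : Subgroup G) {ψ : G → ℂ} (hψ : IsCharacter G ψ)
    (y : G) (hy : ∀ x ∈ P, y * x * y⁻¹ ∈ P) (hconj : ∀ x ∈ P, IsConj y (y * x)) :
    ‖ψ y‖ ≤ ‖fixd P ψ‖ := by
  obtain ⟨n, ρ, rfl⟩ := hψ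
  exact norm_character_le_fixd_rep P ρ y hy hconj

/-- `fixd P ψ ≤ ψ 1`. -/
theorem fixd_le [Finite G] (P : Subgroup G) {ψ : G → ℂ} (hψ : IsCharacter G ψ) {n m : ℕ}
    (hn : fixd P ψ = n) (hm : ψ 1 = m) : n ≤ m := by
  have := Fintype.ofFinite P
  obtain ⟨k, ρ, rfl⟩ := hψ
  have h1 : (m : ℂ) = k := by rw [← hm]; simp
  have h1' : m = k := by exact_mod_cast h1
  have h2 : ‖fixd P ρ.character‖ ≤ m := by
    rw [fixd_def, norm_mul, norm_inv, Complex.norm_natCast]
    have h3 : ‖∑ x : P, ρ.character (x : G)‖ ≤ Nat.card P * m := by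
      refine (norm_sum_le _ _).trans ?_
      refine (Finset.sum_le_card_nsmul _ _ (m : ℝ) fun x _ => ?_).trans ?_
      · have := Cfsg.Agent.Characters.Values.norm_character_le ρ (x : G)
        rw [h1']
        simpa using this
      · rw [Finset.card_univ, nsmul_eq_mul, Nat.card_eq_fintype_card]
    have hpos : (0 : ℝ) < Nat.card P := by exact_mod_cast Nat.card_pos
    rw [inv_mul_le_iff₀ hpos]
    exact h3
  rw [hn, Complex.norm_natCast] at h2
  exact_mod_cast h2

/-- Removing constituents. -/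
theorem isCharacter_sub_sum [Finite G] [Fintype G] {ψ : G → ℂ} (hψ : IsCharacter G ψ)
    (T : Finset (IrrCharacter G)) (h : ∀ χ ∈ T, classInner ψ (χ : G → ℂ) ≠ 0) :
    IsCharacter G (ψ - ∑ χ ∈ T, (χ : G → ℂ)) := by
  classical
  have := finite_irr (G := G)
  have := Fintype.ofFinite (IrrCharacter G)
  obtain ⟨n, hn⟩ := isCharacter_iff.1 hψ
  rw [isCharacter_iff]
  refine ⟨fun χ => n χ - (if χ ∈ T then 1 else 0), ?_⟩
  have hpos : ∀ χ ∈ T, 1 ≤ n χ := by
    intro χ hχ
    have h1 := h χ hχ
    rw [hn, classInner_sum_nsmul_irr] at h1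
    have : n χ ≠ 0 := fun h0 => h1 (by rw [h0]; simp)
    omega
  have h2 : ∑ χ ∈ T, (χ : G → ℂ) = ∑ χ : IrrCharacter G, (if χ ∈ T then 1 else 0) • (χ : G → ℂ) := by
    simp only [ite_smul, one_smul, zero_smul]
    rw [Finset.sum_ite_mem, Finset.univ_inter]
  rw [h2]
  conv_lhs => rw [hn]
  rw [← Finset.sum_sub_distrib]
  refine Finset.sum_congr rfl fun χ _ => ?_
  by_cases hχ : χ ∈ T
  · simp only [hχ, if_true]
    obtain ⟨k, hk⟩ := Nat.exists_eq_add_of_le (hpos χ hχ)
    rw [hk, Nat.add_sub_cancel_left, add_smul]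
    simp
  · simp [hχ]

end Cfsg.Agent.SmallSimple.BTBasic
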