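import Mathlib
import Cfsg.Agent.SmallSimple.SylowPrime
import Cfsg.Agent.SmallSimple.SylowPrimeCount
import Cfsg.Agent.SmallSimple.BurnsideNC

/-!
# Group theory around a self-centralizing subgroup of prime order
-/

set_option autoImplicit false

open Subgroup

namespace Cfsg.Agent.SmallSimple.BTGroup

variable {G : Type*} [Group G]

theorem orderOf_conj_eq (g h : G) : orderOf (h * g * h⁻¹) = orderOf g := by
  rw [← MulAut.conj_apply]
  exact orderOf_injective (MulAut.conj h).toMonoidHom (MulAut.conj h).injective g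

theorem orderOf_eq_of_isConj {a b : G} (h : IsConj a b) : orderOf a = orderOf b := by
  obtain ⟨c, rfl⟩ := isConj_iff.1 h
  exact (orderOf_conj_eq a c).symm

/-- If `y` normalizes but does not centralize `P` of prime order then every element of the coset
`y P` is conjugate to `y`. -/
theorem isConj_mul [Finite G] {p : ℕ} (hp : p.Prime) {P : Subgroup G} (hP : Nat.card P = p)
    {y : G} (hyN : y ∈ normalizer (P : Set G)) (hyC : y ∉ centralizer (P : Set G)) {x : G}
    (hx : x ∈ P) : IsConj y (y * x) := by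
  have hcyc : IsCyclic P := by
    have := Fact.mk hp
    exact isCyclic_of_prime_card hP
  have hcomm : ∀ a ∈ P, ∀ b ∈ P, a * b = b * a := by
    intro a ha b hb
    have h := (IsCyclic.isMulCommutative (α := P)).is_comm.comm ⟨a, ha⟩ ⟨b, hb⟩
    exact congrArg Subtype.val h
  have hmem : ∀ a : P, y⁻¹ * a * y ∈ P := by
    intro a
    have := (mem_normalizer_iff.1 (inv_mem hyN) (a : G)).1 a.2
    simpa using this
  let f : P → P := fun a => ⟨(y⁻¹ * a * y) * (a : G)⁻¹, P.mul_mem (hmem a) (P.inv_mem a.2)⟩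
  have hf : Function.Injective f := by
    intro a b hab
    have h1 : (y⁻¹ * a * y) * (a : G)⁻¹ = (y⁻¹ * b * y) * (b : G)⁻¹ := congrArg Subtype.val hab
    set c : G := (b : G)⁻¹ * a with hc
    have hcP : c ∈ P := P.mul_mem (P.inv_mem b.2) a.2
    have h2 : y⁻¹ * c * y = c := by
      have e1 : y⁻¹ * c * y = (y⁻¹ * b * y)⁻¹ * (y⁻¹ * a * y) := by rw [hc]; group
      have e2 : y⁻¹ * (a : G) * y = (y⁻¹ * b * y) * (b : G)⁻¹ * a := by
        rw [← h1]; group
      rw [e1, e2, hc]
      group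
    have h3 : c = 1 := by
      by_contra hc1
      apply hyC
      rw [mem_centralizer_iff]
      intro u hu
      obtain ⟨k, hk⟩ := mem_zpowers_iff.1 (SylowPrime.mem_zpowers_of_card_prime hp hP hcP hc1 hu)
      have h4 : Commute c y := by
        have : c * y = y * (y⁻¹ * c * y) := by group
        rw [h2] at this
        exact this
      rw [← hk]
      exact (h4.zpow_left k).eq
    apply Subtype.ext
    rw [hc, inv_mul_eq_one] at h3
    exact h3.symm
  obtain ⟨a, ha⟩ := (Finite.injective_iff_surjective.1 hf) ⟨x, hx⟩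
  have ha' : (y⁻¹ * a * y) * (a : G)⁻¹ = x := congrArg Subtype.val ha
  rw [isConj_iff]
  refine ⟨a, ?_⟩
  rw [← ha']
  group

/-- A `p`-singular element is conjugate into the self-centralizing Sylow `p`-subgroup of order
`p`. -/
theorem exists_isConj_mem [Finite G] {p : ℕ} [hp : Fact p.Prime] (P : Sylow p G)
    (hP : Nat.card P = p) (hC : centralizer (P : Set G) = (P : Subgroup G)) {g : G}
    (hg : p ∣ orderOf g) : ∃ x ∈ (P : Subgroup G), x ≠ 1 ∧ IsConj g x := by
  obtain ⟨k, hk⟩ := hg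
  have hg0 : 0 < orderOf g := orderOf_pos g
  have hk0 : k ≠ 0 := by rintro rfl; omega
  have hgk : orderOf (g ^ k) = p := by
    rw [orderOf_pow_of_dvd hk0 (Dvd.intro_left p hk.symm), hk, Nat.mul_div_cancel _ (by omega)]
  have h1 : IsPGroup p (zpowers (g ^ k)) :=
    IsPGroup.of_card (n := 1) (by rw [Nat.card_zpowers, hgk, pow_one])
  obtain ⟨Q, hQ⟩ := h1.exists_le_sylow
  obtain ⟨h, hh⟩ := MulAction.exists_smul_eq G Q P
  have hmem : h * g ^ k * h⁻¹ ∈ (P : Subgroup G) := by
    rw [← hh]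
    exact Subgroup.smul_mem_pointwise_smul (g ^ k) (MulAut.conj h) (Q : Subgroup G)
      (hQ (mem_zpowers _))
  set x := h * g * h⁻¹ with hx
  have hxk : x ^ k = h * g ^ k * h⁻¹ := by rw [hx, conj_pow]
  have hxk1 : x ^ k ≠ 1 := by
    intro h0
    have h2 : orderOf (x ^ k) = orderOf (g ^ k) := by
      rw [hxk]
      exact orderOf_eq_of_isConj (isConj_iff.2 ⟨h⁻¹, by group⟩)
    rw [h0, orderOf_one, hgk] at h2
    exact hp.out.one_lt.ne h2
  have hxC : x ∈ centralizer (P : Set G) := by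
    rw [mem_centralizer_iff]
    intro u hu
    obtain ⟨j, hj⟩ := mem_zpowers_iff.1
      (SylowPrime.mem_zpowers_of_card_prime hp.out hP (v := x ^ k) (by rw [hxk]; exact hmem) hxk1
        hu)
    rw [← hj]
    exact (((Commute.refl x).pow_left k).zpow_left j).eq
  refine ⟨x, ?_, ?_, isConj_iff.2 ⟨h, rfl⟩⟩
  · rw [hC] at hxC
    exact hxC
  · intro hx1
    apply hxk1
    rw [hx1, one_pow]

/-- The order of the centralizer of a `p`-regular element `≠ 1` is prime to `p`. -/
theorem not_dvd_card_centralizer [Finite G] {p : ℕ} [hp : Fact p.Prime] (P : Sylow p G)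
    (hP : Nat.card P = p) (hC : centralizer (P : Set G) = (P : Subgroup G)) {g : G}
    (hg1 : g ≠ 1) (hg : ¬ p ∣ orderOf g) : ¬ p ∣ Nat.card (centralizer ({g} : Set G)) := by
  intro hdvd
  obtain ⟨⟨c, hcm⟩, hc⟩ := exists_prime_orderOf_dvd_card' p hdvd
  rw [Subgroup.orderOf_mk] at hc
  rw [mem_centralizer_singleton_iff] at hcm
  obtain ⟨x, hxP, hx1, hcx⟩ := exists_isConj_mem P hP hC (g := c) (by rw [hc])
  obtain ⟨h, hh⟩ := isConj_iff.1 hcx
  have h1 : h * g * h⁻¹ ∈ centralizer (P : Set G) := by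
    rw [mem_centralizer_iff]
    intro u hu
    obtain ⟨j, hj⟩ := mem_zpowers_iff.1
      (SylowPrime.mem_zpowers_of_card_prime hp.out hP (v := x) hxP hx1 hu)
    rw [← hj, ← hh]
    have h2 : Commute c g := hcm
    have h3 : Commute (h * c * h⁻¹) (h * g * h⁻¹) := by
      show h * c * h⁻¹ * (h * g * h⁻¹) = h * g * h⁻¹ * (h * c * h⁻¹)
      have e1 : h * c * h⁻¹ * (h * g * h⁻¹) = h * (c * g) * h⁻¹ := by group
      have e2 : h * g * h⁻¹ * (h * c * h⁻¹) = h * (g * c) * h⁻¹ := by group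
      rw [e1, e2, h2.eq]
    exact (h3.zpow_left j).eq
  rw [hC] at h1
  have h2 : orderOf (h * g * h⁻¹) ∣ p := by
    rw [← hP]
    have := orderOf_dvd_natCard (⟨h * g * h⁻¹, h1⟩ : (P : Subgroup G))
    rwa [Subgroup.orderOf_mk] at this
  have h3 : orderOf (h * g * h⁻¹) = orderOf g :=
    orderOf_eq_of_isConj (isConj_iff.2 ⟨h⁻¹, by group⟩)
  rw [h3] at h2
  rcases (Nat.dvd_prime hp.out).1 h2 with h4 | h4
  · exact hg1 (orderOf_eq_one_iff.1 h4)
  · exact hg (by rw [h4])

end Cfsg.Agent.SmallSimple.BTGroup
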