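import Mathlib
import Cfsg.Agent.SmallSimple.BTBasic
import Cfsg.Agent.SmallSimple.BTGroup
import Cfsg.Agent.SmallSimple.DihedralNormalizerCore
import Cfsg.Agent.S0135

/-!
# The characters of a group with a self-centralizing Sylow subgroup of prime order

`BData` collects the conclusion of Brauer's theorem on such groups; here we draw the consequences
needed for the Brauer–Tuan theorem.
-/

set_option autoImplicit false

open scoped ComplexConjugate
open Cfsg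

namespace Cfsg.Agent.SmallSimple.BTData

open Cfsg.Agent.Characters.Core Cfsg.Agent.SmallSimple.BTBasic

universe u

variable {G : Type u} [Group G]

/-- The output of Brauer's theorem. -/
structure BData (p e t : ℕ) (P : Subgroup G) (NE X : Finset (IrrCharacter G))
    (ε : IrrCharacter G → ℤ) (d : ℤ) (S : IrrCharacter G → Finset (P →* ℂˣ)) : Prop where
  disj : Disjoint NE X
  cardNE : NE.card = e
  cardX : X.card = t
  eps : ∀ χ ∈ NE, ε χ = 1 ∨ ε χ = -1
  one : ∃ χ₁ ∈ NE, (χ₁ : G → ℂ) = 1 ∧ ε χ₁ = 1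
  neval : ∀ χ ∈ NE, ∀ x ∈ P, x ≠ 1 → (χ : G → ℂ) x = ε χ
  scard : ∀ Θ ∈ X, (S Θ).card = e
  sone : ∀ Θ ∈ X, 1 ∉ S Θ
  xval : ∀ Θ ∈ X, ∀ x : P, x ≠ 1 → (Θ : G → ℂ) x = d * ∑ l ∈ S Θ, (l x : ℂ)
  xdisj : ∀ Θ ∈ X, ∀ Θ' ∈ X, Θ ≠ Θ' → Disjoint (S Θ) (S Θ')
  rel : ∀ Θ ∈ X, ∀ g : G, ¬ p ∣ orderOf g →
    ∑ χ ∈ NE, (ε χ : ℂ) * (χ : G → ℂ) g = d * (Θ : G → ℂ) g
  other : ∀ χ : IrrCharacter G, χ ∉ NE → χ ∉ X → ∀ x ∈ P, x ≠ 1 → (χ : G → ℂ) x = 0

/-! ### Degrees -/

/-- The degree of an irreducible character. -/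
noncomputable def dg [Finite G] (χ : IrrCharacter G) : ℕ := (isIrr_apply_one χ.2).choose

theorem dg_pos [Finite G] (χ : IrrCharacter G) : 0 < dg χ := (isIrr_apply_one χ.2).choose_spec.1

theorem apply_one [Finite G] (χ : IrrCharacter G) : (χ : G → ℂ) 1 = dg χ :=
  (isIrr_apply_one χ.2).choose_spec.2

theorem dg_dvd [Finite G] (χ : IrrCharacter G) : dg χ ∣ Nat.card G := by
  obtain ⟨n, ρ, hρ, h⟩ := χ.2
  have h1 := Cfsg.Agent.S0135.result ρ
  have h2 : (dg χ : ℂ) = (Module.finrank ℂ (Fin n → ℂ) : ℂ) := by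
    rw [← apply_one, ← h, Representation.char_one]
  have h3 : dg χ = Module.finrank ℂ (Fin n → ℂ) := by exact_mod_cast h2
  rw [h3]
  exact h1

/-- The multiplicity of the trivial character of `P` in the restriction. -/
noncomputable def lg [Finite G] (P : Subgroup G) (χ : IrrCharacter G) : ℕ :=
  (fixd_isNat P (isIrr_isCharacter χ.2)).choose

theorem fixd_eq [Finite G] (P : Subgroup G) (χ : IrrCharacter G) :
    fixd P (χ : G → ℂ) = lg P χ :=
  (fixd_isNat P (isIrr_isCharacter χ.2)).choose_spec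

theorem lg_le [Finite G] (P : Subgroup G) (χ : IrrCharacter G) : lg P χ ≤ dg χ :=
  fixd_le P (isIrr_isCharacter χ.2) (fixd_eq P χ) (apply_one χ)

/-! ### Sums of linear characters -/

section Lin

variable {P : Subgroup G}

theorem conj_lin [Finite G] (l : P →* ℂˣ) (x : P) : conj (l x : ℂ) = ((l⁻¹) x : ℂ) := by
  have h := Cfsg.Agent.Characters.Linear.norm_hom_apply l x
  rw [MonoidHom.inv_apply, Units.val_inv_eq_inv_val]
  rw [Complex.inv_def, Complex.normSq_eq_norm_sq, h]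
  simp

theorem sum_lin_mul_conj [Finite G] [Fintype P] (l m : P →* ℂˣ) [Decidable (l = m)] :
    ∑ x : P, (l x : ℂ) * conj (m x : ℂ) = if l = m then (Nat.card P : ℂ) else 0 := by
  have h1 : ∀ x : P, (l x : ℂ) * conj (m x : ℂ) = ((l * m⁻¹) x : ℂ) := by
    intro x
    rw [conj_lin, MonoidHom.mul_apply, Units.val_mul]
  rw [Finset.sum_congr rfl fun x _ => h1 x]
  split_ifs with h
  · subst h
    simp
  · exact DihedralNormalizerCore.sum_lam_eq_zero _ (fun h2 => h (mul_inv_eq_one.1 h2))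

/-- The sum of the members of a finite set of linear characters. -/
noncomputable def sg (T : Finset (P →* ℂˣ)) (x : P) : ℂ := ∑ l ∈ T, (l x : ℂ)

theorem sg_def (T : Finset (P →* ℂˣ)) (x : P) : sg T x = ∑ l ∈ T, (l x : ℂ) := rfl

theorem sg_one (T : Finset (P →* ℂˣ)) : sg T 1 = T.card := by simp [sg_def]

theorem sum_sg [Finite G] [Fintype P] (T : Finset (P →* ℂˣ)) (h : 1 ∉ T) : ∑ x : P, sg T x = 0 := by
  simp only [sg_def]
  rw [Finset.sum_comm]
  exact Finset.sum_eq_zero fun l hl =>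
    DihedralNormalizerCore.sum_lam_eq_zero l (fun h1 => h (h1 ▸ hl))

theorem sum_sg_mul_conj [Finite G] [Fintype P] [DecidableEq (P →* ℂˣ)] (T T' : Finset (P →* ℂˣ)) :
    ∑ x : P, sg T x * conj (sg T' x) = (Nat.card P : ℂ) * (T ∩ T').card := by
  simp only [sg_def, map_sum]
  have h1 : ∀ x : P, (∑ l ∈ T, (l x : ℂ)) * ∑ m ∈ T', conj (m x : ℂ) =
      ∑ l ∈ T, ∑ m ∈ T', (l x : ℂ) * conj (m x : ℂ) := fun x => Finset.sum_mul_sum _ _ _ _
  rw [Finset.sum_congr rfl fun x _ => h1 x, Finset.sum_comm]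
  have h2 : ∀ l ∈ T, ∑ x : P, ∑ m ∈ T', (l x : ℂ) * conj (m x : ℂ) =
      if l ∈ T' then (Nat.card P : ℂ) else 0 := by
    intro l _
    rw [Finset.sum_comm, Finset.sum_congr rfl fun m _ => sum_lin_mul_conj l m]
    simp
  rw [Finset.sum_congr rfl h2, ← Finset.sum_filter, Finset.sum_const, nsmul_eq_mul, mul_comm,
    Finset.filter_mem_eq_inter]

end Lin

/-! ### Consequences -/

section Cons

variable [Finite G] {p e t : ℕ} {P : Subgroup G} {NE X : Finset (IrrCharacter G)}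
  {ε : IrrCharacter G → ℤ} {d : ℤ} {S : IrrCharacter G → Finset (P →* ℂˣ)}

theorem dg_eq (h : BData p e t P NE X ε d S) (hP : Nat.card P = p) {χ : IrrCharacter G}
    (hχ : χ ∈ NE) : (dg χ : ℤ) = p * (lg P χ - ε χ) + ε χ := by
  have h1 := fixd_of_const P (χ : G → ℂ) (ε χ) (h.neval χ hχ)
  rw [hP, fixd_eq, apply_one] at h1
  have h2 : ((p * lg P χ : ℤ) : ℂ) = ((dg χ + (p - 1) * ε χ : ℤ) : ℂ) := by
    push_cast
    rw [h1]
  have h3 : (p * lg P χ : ℤ) = dg χ + (p - 1) * ε χ := by exact_mod_cast h2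
  linarith

theorem eps_le_lg (h : BData p e t P NE X ε d S) (hp : p.Prime) (hP : Nat.card P = p)
    {χ : IrrCharacter G} (hχ : χ ∈ NE) : ε χ ≤ lg P χ := by
  have h1 := dg_eq h hP hχ
  have h2 : (lg P χ : ℤ) ≤ dg χ := by exact_mod_cast lg_le P χ
  have hp2 : (2 : ℤ) ≤ p := by exact_mod_cast hp.two_le
  have h3 : (0 : ℤ) ≤ (p - 1) * (lg P χ - ε χ) := by linarith
  have h4 : 0 ≤ (lg P χ - ε χ : ℤ) := by
    by_contra h5
    push Not at h5
    nlinarith
  linarith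

/-- The degree relation. -/
theorem rel_one (h : BData p e t P NE X ε d S) (hp : p.Prime) {Θ : IrrCharacter G} (hΘ : Θ ∈ X) :
    ∑ χ ∈ NE, ε χ * (dg χ : ℤ) = d * dg Θ := by
  have h1 := h.rel Θ hΘ 1 (by rw [orderOf_one]; exact hp.one_lt.ne' ∘ Nat.dvd_one.1)
  have h2 : ((∑ χ ∈ NE, ε χ * (dg χ : ℤ) : ℤ) : ℂ) = ((d * dg Θ : ℤ) : ℂ) := by
    push_cast
    rw [← apply_one, ← h1]
    exact Finset.sum_congr rfl fun χ _ => by rw [apply_one]
  exact_mod_cast h2

/-- The value of an exceptional character on `P`, including the identity. -/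
theorem xval' [DecidableEq P] (h : BData p e t P NE X ε d S) {Θ : IrrCharacter G} (hΘ : Θ ∈ X) (x : P) :
    (Θ : G → ℂ) x = d * sg (S Θ) x + if x = 1 then (dg Θ - d * e : ℂ) else 0 := by
  split_ifs with hx
  · subst hx
    rw [sg_one, h.scard Θ hΘ]
    simp [apply_one]
  · rw [add_zero]
    exact h.xval Θ hΘ x hx

theorem card_mul_lg_X (h : BData p e t P NE X ε d S) (hP : Nat.card P = p)
    {Θ : IrrCharacter G} (hΘ : Θ ∈ X) : (p : ℤ) * lg P Θ = dg Θ - d * e := by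
  classical
  have := Fintype.ofFinite P
  have h1 : (Nat.card P : ℂ) * fixd P (Θ : G → ℂ) = ∑ x : P, (Θ : G → ℂ) x := by
    rw [fixd_def, ← mul_assoc, mul_inv_cancel₀ (card_ne_zero P), one_mul]
  rw [Finset.sum_congr rfl fun x _ => xval' h hΘ x, Finset.sum_add_distrib, ← Finset.mul_sum,
    sum_sg _ (h.sone Θ hΘ), mul_zero, zero_add, Finset.sum_ite_eq' Finset.univ (1 : P),
    if_pos (Finset.mem_univ _), hP, fixd_eq] at h1
  exact_mod_cast h1

/-- The product `Θ · conj Θ'`. -/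
noncomputable def pr (Θ Θ' : IrrCharacter G) : G → ℂ := (Θ : G → ℂ) * (fun g => conj ((Θ' : G → ℂ) g))

omit [Finite G] in
theorem pr_apply (Θ Θ' : IrrCharacter G) (g : G) :
    pr Θ Θ' g = (Θ : G → ℂ) g * conj ((Θ' : G → ℂ) g) := rfl

theorem isCharacter_pr (Θ Θ' : IrrCharacter G) : IsCharacter G (pr Θ Θ') :=
  isCharacter_mul (isIrr_isCharacter Θ.2) (isCharacter_conj (isIrr_isCharacter Θ'.2))

theorem card_mul_fixd_pr (h : BData p e t P NE X ε d S) (hd : d = 1 ∨ d = -1) (hP : Nat.card P = p)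
    [DecidableEq (P →* ℂˣ)] {Θ Θ' : IrrCharacter G} (hΘ : Θ ∈ X) (hΘ' : Θ' ∈ X) :
    (p : ℂ) * fixd P (pr Θ Θ') = dg Θ * dg Θ' - e ^ 2 + p * (S Θ ∩ S Θ').card := by
  classical
  have := Fintype.ofFinite P
  have hdd : (d : ℂ) * d = 1 := by
    rcases hd with rfl | rfl <;> simp
  have h1 : (Nat.card P : ℂ) * fixd P (pr Θ Θ') = ∑ x : P, pr Θ Θ' x := by
    rw [fixd_def, ← mul_assoc, mul_inv_cancel₀ (card_ne_zero P), one_mul]
  have h2 : ∀ x : P, pr Θ Θ' x = sg (S Θ) x * conj (sg (S Θ') x) +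
      if x = 1 then (dg Θ * dg Θ' - e ^ 2 : ℂ) else 0 := by
    intro x
    rw [pr_apply]
    split_ifs with hx
    · subst hx
      rw [sg_one, sg_one, h.scard Θ hΘ, h.scard Θ' hΘ']
      simp only [OneMemClass.coe_one, apply_one, map_natCast]
      ring
    · rw [h.xval Θ hΘ x hx, h.xval Θ' hΘ' x hx, ← sg_def, ← sg_def, map_mul, add_zero]
      rw [show conj (d : ℂ) = d by simp]
      linear_combination (sg (S Θ) x * conj (sg (S Θ') x)) * hdd
  rw [Finset.sum_congr rfl fun x _ => h2 x, Finset.sum_add_distrib, sum_sg_mul_conj,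
    Finset.sum_ite_eq' Finset.univ (1 : P), if_pos (Finset.mem_univ _), hP] at h1
  rw [h1]
  ring

omit [Finite G] in
/-- Exceptional characters agree on `p`-regular elements. -/
theorem X_eq (h : BData p e t P NE X ε d S) (hd : d = 1 ∨ d = -1) {Θ Θ' : IrrCharacter G}
    (hΘ : Θ ∈ X) (hΘ' : Θ' ∈ X) {g : G} (hg : ¬ p ∣ orderOf g) :
    (Θ : G → ℂ) g = (Θ' : G → ℂ) g := by
  have h1 := (h.rel Θ hΘ g hg).symm.trans (h.rel Θ' hΘ' g hg)
  rcases hd with rfl | rfl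
  · simpa using h1
  · simpa using h1

end Cons

section Inner

variable [Fintype G] {p e t : ℕ} {P : Sylow p G} {NE X : Finset (IrrCharacter G)}
  {ε : IrrCharacter G → ℤ} {d : ℤ} {S : IrrCharacter G → Finset ((P : Subgroup G) →* ℂˣ)}

/-- `⟨Θ conj Θ, χ⟩ - ⟨Θ conj Θ', χ⟩ = ε χ`. -/
theorem inner_sub [hp : Fact p.Prime] (h : BData p e t (P : Subgroup G) NE X ε d S)
    (hd : d = 1 ∨ d = -1) (hP : Nat.card P = p)
    (hC : Subgroup.centralizer (P : Set G) = (P : Subgroup G)) {Θ Θ' : IrrCharacter G}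
    (hΘ : Θ ∈ X) (hΘ' : Θ' ∈ X) (hne : Θ ≠ Θ') {χ : IrrCharacter G} (hχ : χ ∈ NE) :
    classInner (pr Θ Θ) (χ : G → ℂ) - classInner (pr Θ Θ') (χ : G → ℂ) = ε χ := by
  have h1 : ∀ g : G, (pr Θ Θ - pr Θ Θ') g * conj ((χ : G → ℂ) g) =
      ε χ * (pr Θ Θ - pr Θ Θ') g := by
    intro g
    by_cases hg : p ∣ orderOf g
    · obtain ⟨x, hx, hx1, hgx⟩ := BTGroup.exists_isConj_mem P hP hC hg
      rw [classFunction_apply_eq (isIrr_isClassFunction χ.2) hgx, h.neval χ hχ x hx hx1]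
      simp [mul_comm]
    · have : (pr Θ Θ - pr Θ Θ') g = 0 := by
        rw [Pi.sub_apply, pr_apply, pr_apply, X_eq h hd hΘ hΘ' hg, sub_self]
      rw [this, zero_mul, mul_zero]
  have h2 : classInner (pr Θ Θ - pr Θ Θ') (χ : G → ℂ) = ε χ * classInner (pr Θ Θ - pr Θ Θ') 1 := by
    rw [classInner_def, classInner_def, Finset.sum_congr rfl fun g _ => h1 g, ← Finset.mul_sum]
    simp only [Pi.one_apply, map_one, mul_one]
    ring
  have h3 : classInner (pr Θ Θ) 1 = 1 := by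
    rw [← classInner_irr_self Θ.2, classInner_def, classInner_def]
    simp [pr_apply]
  have h4 : classInner (pr Θ Θ') 1 = 0 := by
    rw [← classInner_irr_ne Θ.2 Θ'.2 (fun h' => hne (Subtype.ext h')), classInner_def,
      classInner_def]
    simp [pr_apply]
  rw [classInner_sub_left, classInner_sub_left, h3, h4] at h2
  rw [h2]
  ring

open Classical in
/-- Nonexceptional characters with positive sign. -/
noncomputable def Tp (NE : Finset (IrrCharacter G)) (ε : IrrCharacter G → ℤ) :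
    Finset (IrrCharacter G) := NE.filter (fun χ => ε χ = 1)

open Classical in
/-- Nonexceptional characters with negative sign. -/
noncomputable def Tm (NE : Finset (IrrCharacter G)) (ε : IrrCharacter G → ℤ) :
    Finset (IrrCharacter G) := NE.filter (fun χ => ¬ ε χ = 1)

omit [Fintype G] in
theorem mem_Tp {χ : IrrCharacter G} : χ ∈ Tp NE ε ↔ χ ∈ NE ∧ ε χ = 1 := by
  unfold Tp
  rw [Finset.mem_filter]

omit [Fintype G] in
theorem mem_Tm (h : BData p e t (P : Subgroup G) NE X ε d S) {χ : IrrCharacter G} :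
    χ ∈ Tm NE ε ↔ χ ∈ NE ∧ ε χ = -1 := by
  unfold Tm
  rw [Finset.mem_filter]
  constructor
  · rintro ⟨h1, h2⟩
    exact ⟨h1, (h.eps χ h1).resolve_left h2⟩
  · rintro ⟨h1, h2⟩
    exact ⟨h1, by rw [h2]; norm_num⟩

omit [Fintype G] in
theorem sum_split {M : Type*} [AddCommMonoid M] (f : IrrCharacter G → M) :
    ∑ χ ∈ NE, f χ = ∑ χ ∈ Tp NE ε, f χ + ∑ χ ∈ Tm NE ε, f χ := by
  unfold Tp Tm
  rw [Finset.sum_filter_add_sum_filter_not]

/-- The positive nonexceptional characters are constituents of `Θ conj Θ`. -/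
theorem isCharacter_sub_Tp [hp : Fact p.Prime] (h : BData p e t (P : Subgroup G) NE X ε d S)
    (hd : d = 1 ∨ d = -1) (hP : Nat.card P = p)
    (hC : Subgroup.centralizer (P : Set G) = (P : Subgroup G)) {Θ Θ' : IrrCharacter G}
    (hΘ : Θ ∈ X) (hΘ' : Θ' ∈ X) (hne : Θ ≠ Θ') :
    IsCharacter G (pr Θ Θ - ∑ χ ∈ Tp NE ε, (χ : G → ℂ)) := by
  apply isCharacter_sub_sum (isCharacter_pr Θ Θ)
  intro χ hχ h0
  obtain ⟨hχN, hχε⟩ := mem_Tp.1 hχ
  have h1 := inner_sub h hd hP hC hΘ hΘ' hne hχN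
  obtain ⟨n, hn⟩ := classInner_isNat (isCharacter_pr Θ Θ') (isIrr_isCharacter χ.2)
  rw [h0, hn, hχε] at h1
  have h2 : ((n + 1 : ℕ) : ℂ) = 0 := by push_cast at h1 ⊢; linear_combination -h1
  have h3 : n + 1 = 0 := by exact_mod_cast h2
  omega

/-- The negative nonexceptional characters are constituents of `Θ conj Θ'`. -/
theorem isCharacter_sub_Tm [hp : Fact p.Prime] (h : BData p e t (P : Subgroup G) NE X ε d S)
    (hd : d = 1 ∨ d = -1) (hP : Nat.card P = p)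
    (hC : Subgroup.centralizer (P : Set G) = (P : Subgroup G)) {Θ Θ' : IrrCharacter G}
    (hΘ : Θ ∈ X) (hΘ' : Θ' ∈ X) (hne : Θ ≠ Θ') :
    IsCharacter G (pr Θ Θ' - ∑ χ ∈ Tm NE ε, (χ : G → ℂ)) := by
  apply isCharacter_sub_sum (isCharacter_pr Θ Θ')
  intro χ hχ h0
  obtain ⟨hχN, hχε⟩ := (mem_Tm h).1 hχ
  have h1 := inner_sub h hd hP hC hΘ hΘ' hne hχN
  obtain ⟨n, hn⟩ := classInner_isNat (isCharacter_pr Θ Θ) (isIrr_isCharacter χ.2)
  rw [h0, hn, hχε] at h1
  have h2 : ((n + 1 : ℕ) : ℂ) = 0 := by push_cast at h1 ⊢; linear_combination h1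
  have h3 : n + 1 = 0 := by exact_mod_cast h2
  omega

end Inner

end Cfsg.Agent.SmallSimple.BTData
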