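import Mathlib
import Cfsg.Agent.SmallSimple.BTData
import Cfsg.Agent.SmallSimple.SelfCentSum
import Cfsg.Agent.SmallSimple.DihedralNormalizerSimple

/-!
# Common lemmas for the two cases of the Brauer–Tuan theorem
-/

set_option autoImplicit false

open scoped ComplexConjugate
open Cfsg

namespace Cfsg.Agent.SmallSimple.BTCommon

open Cfsg.Agent.Characters.Core Cfsg.Agent.SmallSimple.BTBasic Cfsg.Agent.SmallSimple.BTData

universe u

/-- A character of degree zero is zero. -/
theorem eq_zero_of_apply_one {G : Type u} [Group G] {ψ : G → ℂ} (hψ : IsCharacter G ψ)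
    (h1 : ψ 1 = 0) : ψ = 0 := by
  obtain ⟨n, ρ, rfl⟩ := hψ
  rw [Representation.char_one] at h1
  have hn : n = 0 := by simpa using h1
  subst hn
  funext g
  show LinearMap.trace ℂ (Fin 0 → ℂ) (ρ g) = 0
  have : ρ g = 0 := Subsingleton.elim _ _
  rw [this, map_zero]

section Simple

variable {G : Type u} [Group G] [Finite G] [IsSimpleGroup G]

/-- The value of a nonprincipal irreducible character at an involution. -/
theorem exists_value_involution (hna : ¬ ∀ a b : G, a * b = b * a) (χ : IrrCharacter G)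
    (hχ1 : (χ : G → ℂ) ≠ 1) (z : G) (hz : orderOf z = 2) :
    ∃ v : ℤ, (χ : G → ℂ) z = v ∧ |v| < dg χ ∧ (2 : ℤ) ∣ dg χ - v := by
  classical
  have := Fintype.ofFinite G
  have hz1 : z ≠ 1 := by
    rintro rfl
    rw [orderOf_one] at hz
    omega
  have hzz : z * z = 1 := by rw [← pow_two, ← hz, pow_orderOf_eq_one]
  obtain ⟨f, ρ, hρ, hρχ⟩ := id χ.2
  have hχf : (dg χ : ℂ) = f := by rw [← apply_one, ← hρχ]; simp
  have hχf' : dg χ = f := by exact_mod_cast hχf
  obtain ⟨m, hmf, hmt, -⟩ := DihedralNormalizerSimple.exists_of_involution ρ z hzz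
  have hχt : (χ : G → ℂ) z = f - 2 * m := by rw [← hρχ, hmt]
  have hirrρ : IsIrrCharacter G ρ.character := by rw [hρχ]; exact χ.2
  have hρ1 : ρ.character ≠ 1 := by rw [hρχ]; exact hχ1
  have hm0 : 0 < m := by
    rcases Nat.eq_zero_or_pos m with h0 | h0
    · exfalso
      apply hz1
      apply DihedralNormalizerSimple.ker_eq_bot ρ hirrρ hρ1
      have h2 := (Cfsg.Agent.Characters.Values.character_eq_finrank_iff ρ z).1
        (by rw [hmt, h0]; simp)
      exact h2
    · exact h0
  have hmlt : m < f := by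
    rcases Nat.lt_or_ge m f with h0 | h0
    · exact h0
    · exfalso
      have hmf' : m = f := le_antisymm hmf h0
      have h2 : ‖ρ.character z‖ = (Module.finrank ℂ (Fin f → ℂ) : ℝ) := by
        rw [hmt, hmf']
        have : (f : ℂ) - 2 * f = -(f : ℂ) := by ring
        rw [this, norm_neg]
        simp
      obtain ⟨w, hw⟩ := (Cfsg.Agent.Characters.Values.norm_character_eq_iff ρ z).1 h2
      apply hna
      apply DihedralNormalizerSimple.comm_of_mem_center hz1
      intro g
      have h3 : ρ (g * z * g⁻¹ * z⁻¹) = 1 := by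
        have hc : ρ g * ρ z = ρ z * ρ g := by
          rw [hw]
          ext x
          simp
        rw [map_mul, map_mul, map_mul, hc, mul_assoc (ρ z), ← map_mul ρ g, mul_inv_cancel, map_one,
          mul_one, ← map_mul, mul_inv_cancel, map_one]
      have h4 := DihedralNormalizerSimple.ker_eq_bot ρ hirrρ hρ1 _ h3
      have h5 : g * z = (g * z * g⁻¹ * z⁻¹) * (z * g) := by group
      rw [h4, one_mul] at h5
      exact h5
  refine ⟨f - 2 * m, by rw [hχt]; push_cast; ring, ?_, ?_⟩
  · rw [hχf', abs_lt]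
    constructor <;> omega
  · rw [hχf']
    exact ⟨m, by ring⟩

omit [IsSimpleGroup G] in
/-- `χ(1)` divides `|G : C(g)| χ(g)` if `χ(g)` is an integer. -/
theorem dg_dvd_index_mul (χ : IrrCharacter G) (g : G) (v : ℤ) (hv : (χ : G → ℂ) g = v) :
    (dg χ : ℤ) ∣ (Subgroup.centralizer ({g} : Set G)).index * v := by
  obtain ⟨f, ρ, hρ, hρχ⟩ := id χ.2
  have hχf : (dg χ : ℂ) = f := by rw [← apply_one, ← hρχ]; simp
  have h1 := Cfsg.Agent.Characters.CentralCharacter.isIntegral_index_mul_character_div ρ g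
  have h2 : (Module.finrank ℂ (Fin f → ℂ) : ℂ) = dg χ := by rw [hχf]; simp
  rw [hρχ, hv, h2] at h1
  set N : ℤ := (Subgroup.centralizer ({g} : Set G)).index * v with hN
  have hd0 : (dg χ : ℚ) ≠ 0 := by exact_mod_cast (dg_pos χ).ne'
  have h3 : IsIntegral ℤ ((N : ℚ) / (dg χ : ℚ)) := by
    have h4 : (algebraMap ℚ ℂ) ((N : ℚ) / (dg χ : ℚ)) =
        ((Subgroup.centralizer ({g} : Set G)).index : ℂ) * (v : ℂ) / (dg χ : ℂ) := by
      rw [hN]
      simp
    rw [← h4] at h1
    exact (isIntegral_algebraMap_iff (algebraMap ℚ ℂ).injective).1 h1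
  obtain ⟨k, hk⟩ := IsIntegrallyClosed.isIntegral_iff.1 h3
  refine ⟨k, ?_⟩
  have h5 : (N : ℚ) = dg χ * k := by
    have : (k : ℚ) = (N : ℚ) / (dg χ : ℚ) := by simpa using hk
    rw [this]
    field_simp
  exact_mod_cast h5

omit [Finite G] [IsSimpleGroup G] in
theorem card_prime_of_comm' (hna : ¬ ∀ a b : G, a * b = b * a) :
    ¬ (Nat.card G).Prime := by
  intro hp
  apply hna
  have := Fact.mk hp
  have hc : IsCyclic G := isCyclic_of_prime_card rfl
  intro a b
  exact (IsCyclic.isMulCommutative (α := G)).is_comm.comm a b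

theorem ne_one_of_ne (hna : ¬ ∀ a b : G, a * b = b * a) (χ : IrrCharacter G)
    (hχ1 : (χ : G → ℂ) ≠ 1) : dg χ ≠ 1 := by
  intro h
  apply hχ1
  apply SelfCentSum.eq_one_of_apply_one (card_prime_of_comm' hna) χ.2
  rw [apply_one, h, Nat.cast_one]

end Simple

section NE

variable {G : Type u} [Group G] [Finite G] [IsSimpleGroup G] {p q b g₀ e t : ℕ}
  {P : Subgroup G} {NE X : Finset (IrrCharacter G)}
  {ε : IrrCharacter G → ℤ} {d : ℤ} {S : IrrCharacter G → Finset (P →* ℂˣ)}

/-- A nonprincipal nonexceptional character has degree at least `p - 1`. -/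
theorem le_dg (h : BData p e t P NE X ε d S) (hp : p.Prime) (hP : Nat.card P = p)
    (hna : ¬ ∀ a b : G, a * b = b * a) {χ : IrrCharacter G} (hχ : χ ∈ NE)
    (hχ1 : (χ : G → ℂ) ≠ 1) : (1 : ℤ) ≤ lg P χ - ε χ := by
  have h1 := dg_eq h hP hχ
  have h2 := eps_le_lg h hp hP hχ
  have h3 := ne_one_of_ne hna χ hχ1
  have h4 := dg_pos χ
  by_contra hcon
  have h5 : (lg P χ : ℤ) - ε χ = 0 := by omega
  rw [h5, mul_zero, zero_add] at h1
  rcases h.eps χ hχ with h6 | h6
  · rw [h6] at h1
    apply h3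
    exact_mod_cast h1
  · rw [h6] at h1
    omega

/-- The degree of a nonprincipal nonexceptional character is divisible by `q`. -/
theorem q_dvd_dg (h : BData p e t P NE X ε d S) (hp : p.Prime) (hq : q.Prime)
    (hP : Nat.card P = p) (hna : ¬ ∀ a b : G, a * b = b * a)
    (hG : Nat.card G = p * q ^ b * g₀) (hg : g₀ < p - 1)
    {χ : IrrCharacter G} (hχ : χ ∈ NE) (hχ1 : (χ : G → ℂ) ≠ 1) : q ∣ dg χ := by
  by_contra hqn
  have h1 := dg_eq h hP hχ
  have h2 := le_dg h hp hP hna hχ hχ1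
  have hg0 : 0 < g₀ := by
    rcases Nat.eq_zero_or_pos g₀ with h0 | h0
    · have : 0 < Nat.card G := Nat.card_pos
      rw [hG, h0, mul_zero] at this
      omega
    · exact h0
  have hpn : ¬ p ∣ dg χ := by
    intro hdvd
    have h3 : (p : ℤ) ∣ dg χ := by exact_mod_cast hdvd
    rw [h1] at h3
    have h4 : (p : ℤ) ∣ ε χ := (dvd_add_right (Dvd.intro _ rfl)).1 h3
    have hp1 : (1 : ℤ) < p := by exact_mod_cast hp.one_lt
    rcases h.eps χ hχ with h6 | h6
    · rw [h6] at h4
      have := Int.le_of_dvd one_pos h4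
      omega
    · rw [h6, dvd_neg] at h4
      have := Int.le_of_dvd one_pos h4
      omega
  have hdvd : dg χ ∣ g₀ := by
    have h3 := dg_dvd χ
    rw [hG] at h3
    have h4 : Nat.Coprime (dg χ) (p * q ^ b) := by
      apply Nat.Coprime.mul_right
      · exact ((Nat.Prime.coprime_iff_not_dvd hp).2 hpn).symm
      · exact (((Nat.Prime.coprime_iff_not_dvd hq).2 hqn).symm).pow_right b
    exact h4.dvd_of_dvd_mul_left h3
  have h5 : dg χ ≤ g₀ := Nat.le_of_dvd hg0 hdvd
  have hp2 := hp.two_le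
  have h6 : (p : ℤ) * 1 ≤ p * (lg P χ - ε χ) := by
    apply mul_le_mul_of_nonneg_left h2
    positivity
  rcases h.eps χ hχ with h7 | h7 <;> rw [h7] at h1 h6 <;> omega

end NE

end Cfsg.Agent.SmallSimple.BTCommon
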