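import Mathlib
import Cfsg.Agent.SmallSimple.BTCommon
import Cfsg.Agent.Characters.ClassMul
import Cfsg.Agent.Characters.Counting

/-!
# Case A: exceptional characters of degree `p - e`, two exceptional characters
-/

set_option autoImplicit false

open scoped ComplexConjugate
open Cfsg

namespace Cfsg.Agent.SmallSimple.BTCaseA3

open Cfsg.Agent.Characters.Core Cfsg.Agent.SmallSimple.BTBasic Cfsg.Agent.SmallSimple.BTData
open Cfsg.Agent.SmallSimple.BTCommon

universe u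

section

variable {G : Type u} [Group G] [Finite G] [IsSimpleGroup G] {p e b : ℕ}
  {P : Sylow p G} {NE X : Finset (IrrCharacter G)}
  {ε : IrrCharacter G → ℤ} {S : IrrCharacter G → Finset ((P : Subgroup G) →* ℂˣ)}

/-- Multiplicities of the trivial character of `P`. -/
theorem lg_facts [hpF : Fact p.Prime] (h : BData p e 2 (P : Subgroup G) NE X ε (-1) S)
    (hP : Nat.card P = p) (hC : Subgroup.centralizer (P : Set G) = (P : Subgroup G))
    (hna : ¬ ∀ a b : G, a * b = b * a) (het : e * 2 + 1 = p) (he : 1 < e)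
    (hG : Nat.card G = p * 2 ^ b * (e + 1))
    {Θ Θ' : IrrCharacter G} (hΘ : Θ ∈ X) (hΘ' : Θ' ∈ X) (hne : Θ ≠ Θ') (hdeg : dg Θ = e + 1)
    (hdeg' : dg Θ' = e + 1) :
    (∀ χ ∈ Tm NE ε, lg (P : Subgroup G) χ = 0) ∧
      ∑ χ ∈ Tp NE ε, (lg (P : Subgroup G) χ : ℤ) = e - 1 := by
  classical
  have := Fintype.ofFinite G
  have hd : (-1 : ℤ) = 1 ∨ (-1 : ℤ) = -1 := Or.inr rfl
  have hp := hpF.out
  have hp0c : (p : ℂ) ≠ 0 := by exact_mod_cast hp.ne_zero
  have f2 : fixd (P : Subgroup G) (pr Θ Θ') = 1 := by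
    have h1 := card_mul_fixd_pr h hd hP hΘ hΘ'
    rw [Finset.disjoint_iff_inter_eq_empty.1 (h.xdisj Θ hΘ Θ' hΘ' hne), Finset.card_empty, hdeg,
      hdeg'] at h1
    have h2 : (p : ℂ) * fixd (P : Subgroup G) (pr Θ Θ') = p * 1 := by
      rw [h1, ← het]
      push_cast
      ring
    exact mul_left_cancel₀ hp0c h2
  have c2 := isCharacter_sub_Tm h hd hP hC hΘ hΘ' hne
  obtain ⟨n2, hn2⟩ := fixd_isNat (P : Subgroup G) c2
  rw [fixd_sub, fixd_sum, f2] at hn2
  have e2 : 1 - ∑ χ ∈ Tm NE ε, (lg (P : Subgroup G) χ : ℤ) = n2 := by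
    have : ((1 - ∑ χ ∈ Tm NE ε, (lg (P : Subgroup G) χ : ℤ) : ℤ) : ℂ) = ((n2 : ℤ) : ℂ) := by
      push_cast
      rw [← hn2]
      congr 1
      exact Finset.sum_congr rfl fun χ _ => (fixd_eq _ χ).symm
    exact_mod_cast this
  obtain ⟨χ₁, hχ₁, hχ₁1, hχ₁ε⟩ := h.one
  have hTm : ∀ χ ∈ Tm NE ε, lg (P : Subgroup G) χ = 0 := by
    intro χ hχ
    obtain ⟨hχNE, hχε⟩ := (mem_Tm h).1 hχ
    have hχ1 : (χ : G → ℂ) ≠ 1 := by
      intro h1
      have h2 : χ = χ₁ := Subtype.ext (h1.trans hχ₁1.symm)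
      rw [h2, hχ₁ε] at hχε
      omega
    have h1 : (lg (P : Subgroup G) χ : ℤ) ≤ ∑ χ ∈ Tm NE ε, (lg (P : Subgroup G) χ : ℤ) :=
      Finset.single_le_sum (f := fun χ => (lg (P : Subgroup G) χ : ℤ))
        (fun _ _ => Int.natCast_nonneg _) hχ
    have h2 := q_dvd_dg h hp Nat.prime_two hP hna hG (by omega) hχNE hχ1
    have h3 := dg_eq h hP hχNE
    rw [hχε] at h3
    by_contra hne0
    have h4 : lg (P : Subgroup G) χ = 1 := by omega
    rw [h4] at h3
    push_cast at h3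
    omega
  refine ⟨hTm, ?_⟩
  have hrel := rel_one h hp hΘ
  have h1 : ∑ χ ∈ NE, ε χ * (dg χ : ℤ) =
      p * (∑ χ ∈ NE, ε χ * (lg (P : Subgroup G) χ : ℤ)) - (p - 1) * e := by
    have h2 : ∀ χ ∈ NE, ε χ * (dg χ : ℤ) =
        p * (ε χ * (lg (P : Subgroup G) χ : ℤ)) - (p - 1) := by
      intro χ hχ
      have h3 : ε χ * ε χ = 1 := by
        rcases h.eps χ hχ with h6 | h6 <;> rw [h6] <;> norm_num
      rw [dg_eq h hP hχ]
      linear_combination (1 - (p : ℤ)) * h3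
    rw [Finset.sum_congr rfl h2, Finset.sum_sub_distrib, ← Finset.mul_sum, Finset.sum_const,
      h.cardNE, nsmul_eq_mul]
    ring
  have h3 : ∑ χ ∈ NE, ε χ * (lg (P : Subgroup G) χ : ℤ) =
      ∑ χ ∈ Tp NE ε, (lg (P : Subgroup G) χ : ℤ) := by
    rw [sum_split (ε := ε)]
    have h4 : ∑ χ ∈ Tm NE ε, ε χ * (lg (P : Subgroup G) χ : ℤ) = 0 := by
      apply Finset.sum_eq_zero
      intro χ hχ
      rw [hTm χ hχ]
      simp
    rw [h4, add_zero]
    apply Finset.sum_congr rfl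
    intro χ hχ
    rw [(mem_Tp.1 hχ).2, one_mul]
  rw [h1, h3, hdeg] at hrel
  have hpe : (p : ℤ) = e * 2 + 1 := by exact_mod_cast het.symm
  have h5 : (p : ℤ) * ∑ χ ∈ Tp NE ε, (lg (P : Subgroup G) χ : ℤ) = p * (e - 1) := by
    push_cast at hrel
    linear_combination hrel + hpe
  exact mul_left_cancel₀ (by exact_mod_cast hp.ne_zero) h5

omit [Finite G] [IsSimpleGroup G] in
/-- Only the characters in `NE` and `X` matter at elements of `P`. -/
theorem sum_univ_eq [Fintype (IrrCharacter G)] {t : ℕ} {d : ℤ}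
    (h : BData p e t (P : Subgroup G) NE X ε d S)
    {x : G} (hx : x ∈ (P : Subgroup G)) (hx1 : x ≠ 1) (f : IrrCharacter G → ℂ)
    (hf : ∀ χ : IrrCharacter G, (χ : G → ℂ) x = 0 → f χ = 0) :
    ∑ χ : IrrCharacter G, f χ = ∑ χ ∈ NE, f χ + ∑ χ ∈ X, f χ := by
  classical
  rw [← Finset.sum_union h.disj]
  symm
  apply Finset.sum_subset (Finset.subset_univ _)
  intro χ _ hχ
  rw [Finset.mem_union, not_or] at hχ
  exact hf χ (h.other χ hχ.1 hχ.2 x hx hx1)

omit [IsSimpleGroup G] in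
theorem sum_X [hpF : Fact p.Prime] (h : BData p e 2 (P : Subgroup G) NE X ε (-1) S)
    (hdegX : ∀ Θ ∈ X, dg Θ = e + 1) {Θ : IrrCharacter G} (hΘ : Θ ∈ X)
    {x : G} (hx : x ∈ (P : Subgroup G)) (hx1 : x ≠ 1) :
    ∑ Θ ∈ X, (Θ : G → ℂ) x = 1 := by
  classical
  have := finite_irr (G := G)
  have := Fintype.ofFinite (IrrCharacter G)
  have h1 := Cfsg.Agent.Characters.Counting.sum_irr_one_mul x
  rw [if_neg hx1, sum_univ_eq h hx hx1 _ (fun χ hχ => by rw [hχ, mul_zero])] at h1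
  have h2 : ∑ χ ∈ NE, (χ : G → ℂ) 1 * (χ : G → ℂ) x = ((∑ χ ∈ NE, ε χ * (dg χ : ℤ) : ℤ) : ℂ) := by
    push_cast
    apply Finset.sum_congr rfl
    intro χ hχ
    rw [apply_one, h.neval χ hχ x hx hx1, mul_comm]
  have h3 : ∑ χ ∈ X, (χ : G → ℂ) 1 * (χ : G → ℂ) x = (e + 1) * ∑ Θ ∈ X, (Θ : G → ℂ) x := by
    rw [Finset.mul_sum]
    apply Finset.sum_congr rfl
    intro χ hχ
    rw [apply_one, hdegX χ hχ]
    push_cast
    ring
  rw [h2, h3, rel_one h hpF.out hΘ, hdegX Θ hΘ] at h1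
  have h4 : ((e : ℂ) + 1) ≠ 0 := by exact_mod_cast (Nat.succ_ne_zero e)
  apply mul_left_cancel₀ h4
  push_cast at h1
  linear_combination h1

/-- The class multiplication coefficient. -/
theorem card_formula [hpF : Fact p.Prime] (h : BData p e 2 (P : Subgroup G) NE X ε (-1) S)
    (hdegX : ∀ Θ ∈ X, dg Θ = e + 1) {Θ : IrrCharacter G} (hΘ : Θ ∈ X) (hp2 : p ≠ 2)
    {x : G} (hx : x ∈ (P : Subgroup G)) (hx1 : x ≠ 1) {z : G} (hz : orderOf z = 2)
    (v : IrrCharacter G → ℤ) (hv : ∀ χ : IrrCharacter G, (χ : G → ℂ) z = v χ)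
    (hTm : ∀ χ ∈ Tm NE ε, v χ = 0) :
    (Nat.card {r : G × G // IsConj z r.1 ∧ IsConj z r.2 ∧ r.1 * r.2 = x} : ℝ) * Nat.card G =
      ((Subgroup.centralizer ({z} : Set G)).index : ℝ) ^ 2 *
        (∑ χ ∈ Tp NE ε, (v χ : ℝ) ^ 2 / dg χ + (v Θ : ℝ) ^ 2 / (e + 1)) := by
  classical
  have := finite_irr (G := G)
  have := Fintype.ofFinite (IrrCharacter G)
  have hpz : ¬ p ∣ orderOf z := by
    rw [hz]
    intro h2
    exact hp2 ((Nat.prime_dvd_prime_iff_eq hpF.out Nat.prime_two).1 h2)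
  have h1 := Cfsg.Agent.Characters.ClassMul.card_class_mul z z x
  rw [sum_univ_eq h hx hx1 _ (fun χ hχ => by rw [hχ]; simp), sum_split (ε := ε)] at h1
  have h2 : ∑ χ ∈ Tm NE ε, (χ : G → ℂ) z * (χ : G → ℂ) z * conj ((χ : G → ℂ) x) /
      (χ : G → ℂ) 1 = 0 := by
    apply Finset.sum_eq_zero
    intro χ hχ
    rw [hv χ, hTm χ hχ]
    simp
  have h3 : ∑ χ ∈ Tp NE ε, (χ : G → ℂ) z * (χ : G → ℂ) z * conj ((χ : G → ℂ) x) /
      (χ : G → ℂ) 1 = ((∑ χ ∈ Tp NE ε, (v χ : ℝ) ^ 2 / dg χ : ℝ) : ℂ) := by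
    push_cast
    apply Finset.sum_congr rfl
    intro χ hχ
    obtain ⟨hχN, hχε⟩ := mem_Tp.1 hχ
    rw [hv χ, h.neval χ hχN x hx hx1, hχε, apply_one]
    simp
    ring
  have h4 : ∑ χ ∈ X, (χ : G → ℂ) z * (χ : G → ℂ) z * conj ((χ : G → ℂ) x) /
      (χ : G → ℂ) 1 = (((v Θ : ℝ) ^ 2 / (e + 1) : ℝ) : ℂ) := by
    have h5 : ∀ χ ∈ X, (χ : G → ℂ) z * (χ : G → ℂ) z * conj ((χ : G → ℂ) x) /
        (χ : G → ℂ) 1 = (v Θ : ℂ) ^ 2 / (e + 1) * conj ((χ : G → ℂ) x) := by
      intro χ hχ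
      rw [X_eq h (Or.inr rfl) hχ hΘ hpz, hv Θ, apply_one, hdegX χ hχ]
      push_cast
      ring
    rw [Finset.sum_congr rfl h5, ← Finset.mul_sum, ← map_sum, sum_X h hdegX hΘ hx hx1, map_one,
      mul_one]
    push_cast
    rfl
  rw [h2, h3, h4, add_zero] at h1
  have hG0 : (Nat.card G : ℂ) ≠ 0 := by exact_mod_cast Nat.card_pos.ne'
  have h6 : (Nat.card {r : G × G // IsConj z r.1 ∧ IsConj z r.2 ∧ r.1 * r.2 = x} : ℂ) *
      Nat.card G = ((Subgroup.centralizer ({z} : Set G)).index : ℂ) ^ 2 *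
        (((∑ χ ∈ Tp NE ε, (v χ : ℝ) ^ 2 / dg χ : ℝ) : ℂ) +
          (((v Θ : ℝ) ^ 2 / (e + 1) : ℝ) : ℂ)) := by
    rw [h1]
    field_simp
  exact_mod_cast h6

omit [IsSimpleGroup G] in
/-- `P` acts freely on the pairs of involutions with product `x`. -/
theorem le_card_pairs [hpF : Fact p.Prime] (hP : Nat.card P = p)
    (hC : Subgroup.centralizer (P : Set G) = (P : Subgroup G)) (hp2 : p ≠ 2)
    {x : G} (hx : x ∈ (P : Subgroup G)) {z : G} (hz : orderOf z = 2)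
    {a b : G} (ha : IsConj z a) (hb : IsConj z b) (hab : a * b = x) :
    p ≤ Nat.card {r : G × G // IsConj z r.1 ∧ IsConj z r.2 ∧ r.1 * r.2 = x} := by
  have hp := hpF.out
  have hordA : orderOf a = 2 := by rw [← BTGroup.orderOf_eq_of_isConj ha, hz]
  have ha1 : a ≠ 1 := by
    rintro rfl
    rw [orderOf_one] at hordA
    omega
  have hpa : ¬ p ∣ orderOf a := by
    rw [hordA]
    intro h2
    exact hp2 ((Nat.prime_dvd_prime_iff_eq hp Nat.prime_two).1 h2)
  have hnd := BTGroup.not_dvd_card_centralizer P hP hC ha1 hpa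
  have hcomm : ∀ u ∈ (P : Subgroup G), u * x = x * u := by
    intro u hu
    have h1 : x ∈ Subgroup.centralizer (P : Set G) := by rw [hC]; exact hx
    exact Subgroup.mem_centralizer_iff.1 h1 u hu
  let f : ↥(P : Subgroup G) → {r : G × G // IsConj z r.1 ∧ IsConj z r.2 ∧ r.1 * r.2 = x} :=
    fun u => ⟨((u : G) * a * (u : G)⁻¹, (u : G) * b * (u : G)⁻¹),
      ha.trans (isConj_iff.2 ⟨u, rfl⟩), hb.trans (isConj_iff.2 ⟨u, rfl⟩), by
        show (u : G) * a * (u : G)⁻¹ * ((u : G) * b * (u : G)⁻¹) = x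
        have e1 : (u : G) * a * (u : G)⁻¹ * ((u : G) * b * (u : G)⁻¹) =
          (u : G) * (a * b) * (u : G)⁻¹ := by group
        rw [e1, hab, hcomm u u.2, mul_inv_cancel_right]⟩
  have hf : Function.Injective f := by
    intro u w huw
    have h1 : (u : G) * a * (u : G)⁻¹ = (w : G) * a * (w : G)⁻¹ :=
      congrArg (fun r => r.1.1) huw
    set c : G := (w : G)⁻¹ * u with hc
    have hcP : c ∈ (P : Subgroup G) := (P : Subgroup G).mul_mem ((P : Subgroup G).inv_mem w.2) u.2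
    have hca : c * a = a * c := by
      have e1 : c * a = (w : G)⁻¹ * ((u : G) * a * (u : G)⁻¹) * u := by rw [hc]; group
      rw [e1, h1, hc]
      group
    by_contra hne
    have hc1 : c ≠ 1 := by
      intro h2
      rw [hc, inv_mul_eq_one] at h2
      exact hne (Subtype.ext h2.symm)
    apply hnd
    have h2 : orderOf c ∣ p := by
      rw [← hP]
      have := orderOf_dvd_natCard (⟨c, hcP⟩ : (P : Subgroup G))
      rwa [Subgroup.orderOf_mk] at this
    have h3 : orderOf c = p := by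
      rcases (Nat.dvd_prime hp).1 h2 with h4 | h4
      · exact absurd (orderOf_eq_one_iff.1 h4) hc1
      · exact h4
    have hcC : c ∈ Subgroup.centralizer ({a} : Set G) := by
      rw [Subgroup.mem_centralizer_singleton_iff]
      exact hca
    have h4 := orderOf_dvd_natCard (⟨c, hcC⟩ : Subgroup.centralizer ({a} : Set G))
    rwa [Subgroup.orderOf_mk, h3] at h4
  have h1 := Nat.card_le_card_of_injective f hf
  rwa [hP] at h1

omit [Finite G] [IsSimpleGroup G] in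
/-- A product of two involutions in `P` gives an element inverting `P`. -/
theorem mem_normalizer_of_pair [hpF : Fact p.Prime] (hP : Nat.card P = p) (hp2 : p ≠ 2)
    {x : G} (hx : x ∈ (P : Subgroup G)) (hx1 : x ≠ 1) {z : G} (hz : orderOf z = 2)
    {a b : G} (ha : IsConj z a) (hb : IsConj z b) (hab : a * b = x) :
    a ∈ Subgroup.normalizer (P : Set G) ∧ a ∉ Subgroup.centralizer (P : Set G) := by
  have hp := hpF.out
  have hordA : orderOf a = 2 := by rw [← BTGroup.orderOf_eq_of_isConj ha, hz]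
  have hordB : orderOf b = 2 := by rw [← BTGroup.orderOf_eq_of_isConj hb, hz]
  have haa : a * a = 1 := by rw [← pow_two, ← hordA, pow_orderOf_eq_one]
  have hbb : b * b = 1 := by rw [← pow_two, ← hordB, pow_orderOf_eq_one]
  have hai : a⁻¹ = a := inv_eq_of_mul_eq_one_left haa
  have hbi : b⁻¹ = b := inv_eq_of_mul_eq_one_left hbb
  have hinv : a * x * a⁻¹ = x⁻¹ := by
    rw [← hab, mul_inv_rev, hbi, hai, ← mul_assoc, haa, one_mul]
  have hall : ∀ u ∈ (P : Subgroup G), a * u * a⁻¹ = u⁻¹ := by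
    intro u hu
    obtain ⟨k, rfl⟩ := Subgroup.mem_zpowers_iff.1
      (SylowPrime.mem_zpowers_of_card_prime hp hP hx hx1 hu)
    rw [← conj_zpow, hinv, inv_zpow]
  constructor
  · show a ∈ Subgroup.normalizer ((P : Subgroup G) : Set G)
    rw [Subgroup.mem_normalizer_iff]
    intro u
    constructor
    · intro hu
      rw [hall u hu]
      exact (P : Subgroup G).inv_mem hu
    · intro hu
      have h1 := hall _ hu
      have h2 : a * (a * u * a⁻¹) * a⁻¹ = u := by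
        rw [hai]
        calc a * (a * u * a) * a = (a * a) * u * (a * a) := by group
          _ = u := by rw [haa]; simp
      rw [h2] at h1
      rw [h1]
      exact (P : Subgroup G).inv_mem hu
  · intro haC
    have h1 := Subgroup.mem_centralizer_iff.1 haC x hx
    have h2 : a * x * a⁻¹ = x := by rw [← h1, mul_inv_cancel_right]
    rw [h2] at hinv
    have h3 : x ^ 2 = 1 := by
      rw [pow_two]
      nth_rewrite 1 [hinv]
      exact inv_mul_cancel x
    have h4 : orderOf x ∣ 2 := orderOf_dvd_of_pow_eq_one h3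
    have h5 : orderOf x ∣ p := by
      rw [← hP]
      have := orderOf_dvd_natCard (⟨x, hx⟩ : (P : Subgroup G))
      rwa [Subgroup.orderOf_mk] at this
    rcases (Nat.dvd_prime hp).1 h5 with h6 | h6
    · exact hx1 (orderOf_eq_one_iff.1 h6)
    · rw [h6] at h4
      exact hp2 ((Nat.prime_dvd_prime_iff_eq hp Nat.prime_two).1 h4)

end

end Cfsg.Agent.SmallSimple.BTCaseA3
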