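import Mathlib
import Cfsg.Agent.SmallSimple.BTCaseA3

/-!
# Case A, two exceptional characters: the main computation
-/

set_option autoImplicit false

open scoped ComplexConjugate
open Cfsg

namespace Cfsg.Agent.SmallSimple.BTCaseA4

open Cfsg.Agent.Characters.Core Cfsg.Agent.SmallSimple.BTBasic Cfsg.Agent.SmallSimple.BTData
open Cfsg.Agent.SmallSimple.BTCommon Cfsg.Agent.SmallSimple.BTCaseA3

universe u

/-- The `2`-part of `p * 2 ^ b * g`. -/
theorem factorization_two {p b g : ℕ} (hp : ¬ 2 ∣ p) (hg : ¬ 2 ∣ g) :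
    (p * 2 ^ b * g).factorization 2 = b := by
  have hp0 : p ≠ 0 := by rintro rfl; exact hp (dvd_zero 2)
  have hg0 : g ≠ 0 := by rintro rfl; exact hg (dvd_zero 2)
  rw [Nat.factorization_mul (mul_ne_zero hp0 (by positivity)) hg0,
    Nat.factorization_mul hp0 (by positivity), Finsupp.add_apply, Finsupp.add_apply,
    Nat.factorization_eq_zero_of_not_dvd hp, Nat.factorization_eq_zero_of_not_dvd hg,
    Nat.factorization_pow]
  simp [Nat.prime_two.factorization_self]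

/-- Arithmetic bound. -/
theorem sq_div_le {p l : ℕ} (hp : 0 < p) (hl : 2 ≤ l) {v : ℤ} (hv : |v| ≤ l) {D : ℕ}
    (hD : (D : ℤ) = p * (l - 1) + 1) : (v : ℝ) ^ 2 / D ≤ 2 / p * l := by
  have hD' : (D : ℝ) = p * (l - 1) + 1 := by exact_mod_cast hD
  have hp' : (1 : ℝ) ≤ p := by exact_mod_cast hp
  have hl' : (2 : ℝ) ≤ l := by exact_mod_cast hl
  have hDpos : (0 : ℝ) < D := by rw [hD']; nlinarith
  have hv' : (v : ℝ) ^ 2 ≤ (l : ℝ) ^ 2 := by
    have h1 : |(v : ℝ)| ≤ l := by exact_mod_cast hv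
    rw [← sq_abs (v : ℝ)]
    exact pow_le_pow_left₀ (abs_nonneg _) h1 2
  have e1 : 2 / (p : ℝ) * l = 2 * l / p := by ring
  rw [e1, div_le_div_iff₀ hDpos (by linarith), hD']
  have h2 : (v : ℝ) ^ 2 * p ≤ (l : ℝ) ^ 2 * p := mul_le_mul_of_nonneg_right hv' (by linarith)
  refine h2.trans ?_
  have h3 : (l : ℝ) ^ 2 * p = l * (l * p) := by ring
  have h4 : 2 * (l : ℝ) * (p * (l - 1) + 1) = l * (2 * (p * (l - 1) + 1)) := by ring
  rw [h3, h4]
  apply mul_le_mul_of_nonneg_left _ (by linarith)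
  nlinarith

section

variable {G : Type u} [Group G] [Finite G] [IsSimpleGroup G] {p e b : ℕ}
  {P : Sylow p G} {NE X : Finset (IrrCharacter G)}
  {ε : IrrCharacter G → ℤ} {S : IrrCharacter G → Finset ((P : Subgroup G) →* ℂˣ)}

theorem main [hpF : Fact p.Prime] (h : BData p e 2 (P : Subgroup G) NE X ε (-1) S)
    (hP : Nat.card P = p) (hC : Subgroup.centralizer (P : Set G) = (P : Subgroup G))
    (hN : Nat.card (Subgroup.normalizer (P : Set G)) = p * e)
    (hna : ¬ ∀ a b : G, a * b = b * a) (het : e * 2 + 1 = p) {c : ℕ} (hc : 1 ≤ c) (hec : e = 2 ^ c)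
    (hG : Nat.card G = p * 2 ^ b * (e + 1))
    (hdegX : ∀ Θ ∈ X, dg Θ = e + 1) : 2 ^ b + 1 = p := by
  classical
  have hp := hpF.out
  have hpp := hp.pos
  have he2 : 2 ≤ e := by
    rw [hec]
    calc 2 = 2 ^ 1 := rfl
      _ ≤ 2 ^ c := Nat.pow_le_pow_right (by norm_num) hc
  have hp2 : p ≠ 2 := by omega
  have hev : 2 ∣ e := by rw [hec]; exact dvd_pow_self 2 (by omega)
  obtain ⟨Θ, Θ', hne, hX⟩ := Finset.card_eq_two.1 h.cardX
  have hΘ : Θ ∈ X := by rw [hX]; simp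
  have hΘ' : Θ' ∈ X := by rw [hX]; simp
  obtain ⟨hlgm, hlgp⟩ := lg_facts h hP hC hna het (by omega) hG hΘ hΘ' hne (hdegX Θ hΘ)
    (hdegX Θ' hΘ')
  have hfac : (Nat.card G).factorization 2 = b := by
    rw [hG]
    exact factorization_two (by omega) (by omega)
  have hNG : Nat.card (Subgroup.normalizer (P : Set G)) ∣ Nat.card G :=
    Subgroup.card_subgroup_dvd_card _
  have h2G : 2 ∣ Nat.card G := by
    refine Dvd.dvd.trans ?_ hNG
    rw [hN]
    exact hev.trans (Dvd.intro_left _ rfl)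
  obtain ⟨z, hz, hzdvd⟩ := DihedralNormalizerSimple.exists_involution_two_pow_dvd h2G
  rw [hfac] at hzdvd
  obtain ⟨k, hk⟩ := hzdvd
  have hidx : k * (Subgroup.centralizer ({z} : Set G)).index = p * (e + 1) := by
    have h1 := (Subgroup.centralizer ({z} : Set G)).card_mul_index
    rw [hk, hG] at h1
    have h2 : 2 ^ b * (k * (Subgroup.centralizer ({z} : Set G)).index) = 2 ^ b * (p * (e + 1)) := by
      linarith
    exact Nat.eq_of_mul_eq_mul_left (by positivity) h2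
  set i := (Subgroup.centralizer ({z} : Set G)).index with hi
  have hodd : ¬ 2 ∣ i := by
    intro h1
    have h2 : 2 ∣ p * (e + 1) := by
      rw [← hidx]
      exact h1.trans (Dvd.intro_left _ rfl)
    rcases (Nat.prime_two.dvd_mul).1 h2 with h3 | h3 <;> omega
  have hz1 : z ≠ 1 := by
    rintro rfl
    rw [orderOf_one] at hz
    omega
  have hpz : ¬ p ∣ orderOf z := by
    rw [hz]
    intro h2
    exact hp2 ((Nat.prime_dvd_prime_iff_eq hp Nat.prime_two).1 h2)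
  -- values at `z`
  have hval : ∀ χ : IrrCharacter G, ∃ v : ℤ, (χ : G → ℂ) z = v ∧
      ((χ : G → ℂ) ≠ 1 → |v| < dg χ ∧ (2 : ℤ) ∣ dg χ - v) := by
    intro χ
    by_cases hχ : (χ : G → ℂ) = 1
    · exact ⟨1, by rw [hχ]; simp, fun h' => absurd hχ h'⟩
    · obtain ⟨v, h1, h2, h3⟩ := exists_value_involution hna χ hχ z hz
      exact ⟨v, h1, fun _ => ⟨h2, h3⟩⟩
  choose v hv hv' using hval
  obtain ⟨χ₁, hχ₁, hχ₁1, hχ₁ε⟩ := h.one
  have hne1 : ∀ χ : IrrCharacter G, χ ≠ χ₁ → (χ : G → ℂ) ≠ 1 := fun χ h1 h2 =>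
    h1 (Subtype.ext (h2.trans hχ₁1.symm))
  have hTm : ∀ χ ∈ Tm NE ε, v χ = 0 := by
    intro χ hχ
    obtain ⟨hχNE, hχε⟩ := (mem_Tm h).1 hχ
    have hχ1 : (χ : G → ℂ) ≠ 1 := by
      apply hne1
      rintro rfl
      omega
    have h1 := dg_eq h hP hχNE
    rw [hlgm χ hχ, hχε] at h1
    have h2 : dg χ = 2 ^ (c + 1) := by
      rw [pow_succ, ← hec]
      push_cast at h1
      omega
    have h3 := dg_dvd_index_mul χ z (v χ) (hv χ)
    rw [← hi] at h3
    have h4 : IsCoprime (dg χ : ℤ) (i : ℤ) := by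
      rw [Nat.isCoprime_iff_coprime, h2]
      exact (((Nat.Prime.coprime_iff_not_dvd Nat.prime_two).2 hodd)).pow_left (c + 1)
    have h5 := h4.dvd_of_dvd_mul_left h3
    exact Int.eq_zero_of_abs_lt_dvd h5 (hv' χ hχ1).1
  obtain ⟨x, hx, hx1⟩ : ∃ x ∈ (P : Subgroup G), x ≠ 1 := by
    have h1 : (P : Subgroup G) ≠ ⊥ := by
      intro h1
      have h2 : Nat.card (P : Subgroup G) = p := hP
      rw [h1, Subgroup.card_bot] at h2
      exact hp.one_lt.ne h2
    exact ((P : Subgroup G).ne_bot_iff_exists_ne_one.1 h1).elim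
      fun y hy => ⟨y, y.2, fun h2 => hy (Subtype.ext h2)⟩
  have hform := card_formula h hdegX hΘ hp2 hx hx1 hz v hv hTm
  rw [← hi] at hform
  have hi0 : 0 < i := Nat.pos_of_ne_zero (Subgroup.index_ne_zero_of_finite)
  have hi0' : (0 : ℝ) < i := by exact_mod_cast hi0
  have hG0 : (0 : ℝ) < Nat.card G := by exact_mod_cast Nat.card_pos
  have hχ₁T : χ₁ ∈ Tp NE ε := mem_Tp.2 ⟨hχ₁, hχ₁ε⟩
  have hdg1 : dg χ₁ = 1 := by
    have h2 : (dg χ₁ : ℂ) = 1 := by rw [← apply_one, hχ₁1]; rfl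
    exact_mod_cast h2
  have hv1 : v χ₁ = 1 := by
    have h2 : (v χ₁ : ℂ) = 1 := by rw [← hv, hχ₁1]; rfl
    exact_mod_cast h2
  have hsplit : ∑ χ ∈ Tp NE ε, (v χ : ℝ) ^ 2 / dg χ =
      1 + ∑ χ ∈ (Tp NE ε).erase χ₁, (v χ : ℝ) ^ 2 / dg χ := by
    rw [← Finset.add_sum_erase _ _ hχ₁T, hdg1, hv1]
    norm_num
  -- existence of a pair
  obtain ⟨a, b', ha, hb', hab⟩ : ∃ a b' : G, IsConj z a ∧ IsConj z b' ∧ a * b' = x := by
    by_contra hcon
    push Not at hcon
    have h1 : Nat.card {r : G × G // IsConj z r.1 ∧ IsConj z r.2 ∧ r.1 * r.2 = x} = 0 := by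
      rw [Nat.card_eq_zero]
      left
      exact ⟨fun r => hcon r.1.1 r.1.2 r.2.1 r.2.2.1 r.2.2.2⟩
    rw [h1, Nat.cast_zero, zero_mul, hsplit] at hform
    have h2 : (0 : ℝ) ≤ ∑ χ ∈ (Tp NE ε).erase χ₁, (v χ : ℝ) ^ 2 / dg χ :=
      Finset.sum_nonneg fun χ _ => by positivity
    have h3 : (0 : ℝ) ≤ (v Θ : ℝ) ^ 2 / (e + 1) := by positivity
    have h4 : (0 : ℝ) < (i : ℝ) ^ 2 * (1 + ∑ χ ∈ (Tp NE ε).erase χ₁, (v χ : ℝ) ^ 2 / dg χ +
      (v Θ : ℝ) ^ 2 / (e + 1)) := by positivity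
    linarith
  obtain ⟨haN, haC⟩ := mem_normalizer_of_pair hP hp2 hx hx1 hz ha hb' hab
  have hle : ∀ χ : IrrCharacter G, |v χ| ≤ lg (P : Subgroup G) χ := by
    intro χ
    have h1 := norm_character_le_fixd (P : Subgroup G) (isIrr_isCharacter χ.2) a
      (fun y hy => (Subgroup.mem_normalizer_iff.1 haN y).1 hy)
      (fun y hy => BTGroup.isConj_mul hp hP haN haC hy)
    rw [← classFunction_apply_eq (isIrr_isClassFunction χ.2) ha, hv, fixd_eq, Complex.norm_intCast,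
      Complex.norm_natCast] at h1
    exact_mod_cast h1
  have hpairs := le_card_pairs hP hC hp2 hx hz ha hb' hab
  -- the exceptional value
  have hlgΘ : lg (P : Subgroup G) Θ = 1 := by
    have h1 := card_mul_lg_X h hP hΘ
    rw [hdegX Θ hΘ] at h1
    have h2 : (p : ℤ) * lg (P : Subgroup G) Θ = p * 1 := by
      rw [h1, ← het]
      push_cast
      ring
    have h3 := mul_left_cancel₀ (by exact_mod_cast hp.ne_zero) h2
    exact_mod_cast h3
  have hΘ1 : (Θ : G → ℂ) ≠ 1 := by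
    apply hne1
    rintro rfl
    exact Finset.disjoint_left.1 h.disj hχ₁ hΘ
  have hvΘ : v Θ = 1 ∨ v Θ = -1 := by
    have h1 := hle Θ
    rw [hlgΘ, abs_le] at h1
    have h2 := (hv' Θ hΘ1).2
    rw [hdegX Θ hΘ] at h2
    push_cast at h1 h2
    omega
  have hvΘ2 : (v Θ : ℝ) ^ 2 = 1 := by rcases hvΘ with h1 | h1 <;> rw [h1] <;> norm_num
  -- the index
  have hcop : Nat.Coprime p (e + 1) := (Nat.Prime.coprime_iff_not_dvd hp).2
    (fun h1 => absurd (Nat.le_of_dvd (by omega) h1) (by omega))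
  have hei : (e + 1) ∣ i := by
    have h1 := dg_dvd_index_mul Θ z (v Θ) (hv Θ)
    rw [← hi, hdegX Θ hΘ] at h1
    have h2 : ((e + 1 : ℕ) : ℤ) ∣ (i : ℤ) := by
      rcases hvΘ with h3 | h3 <;> rw [h3] at h1
      · simpa using h1
      · simpa using h1
    exact_mod_cast h2
  have hpi : p ∣ i := by
    have h1 : p ∣ k * i := by rw [hidx]; exact Dvd.intro _ rfl
    rcases (hp.dvd_mul).1 h1 with h2 | h2
    · exfalso
      apply BTGroup.not_dvd_card_centralizer P hP hC hz1 hpz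
      rw [hk]
      exact h2.trans (Dvd.intro_left _ rfl)
    · exact h2
  have hi' : i = p * (e + 1) := by
    apply Nat.dvd_antisymm
    · rw [← hidx]; exact Dvd.intro_left _ rfl
    · exact hcop.mul_dvd_of_dvd_of_dvd hpi hei
  -- the bound
  have hsum : ∑ χ ∈ (Tp NE ε).erase χ₁, (v χ : ℝ) ^ 2 / dg χ ≤ 2 / p * (e - 2) := by
    have h1 : ∀ χ ∈ (Tp NE ε).erase χ₁, (v χ : ℝ) ^ 2 / dg χ ≤
        2 / p * lg (P : Subgroup G) χ := by
      intro χ hχ
      obtain ⟨hχ1, hχT⟩ := Finset.mem_erase.1 hχ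
      obtain ⟨hχNE, hχε⟩ := mem_Tp.1 hχT
      have h2 := le_dg h hp hP hna hχNE (hne1 χ hχ1)
      rw [hχε] at h2
      have h3 := dg_eq h hP hχNE
      rw [hχε] at h3
      exact sq_div_le hpp (by omega) (hle χ) h3
    refine (Finset.sum_le_sum h1).trans ?_
    rw [← Finset.mul_sum]
    have h4 : lg (P : Subgroup G) χ₁ = 1 := by
      have h5 := dg_eq h hP hχ₁
      rw [hdg1, hχ₁ε] at h5
      push_cast at h5
      have h6 : (p : ℤ) * (lg (P : Subgroup G) χ₁ - 1) = 0 := by linarith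
      rcases mul_eq_zero.1 h6 with h7 | h7
      · exact absurd h7 (by exact_mod_cast hp.ne_zero)
      · omega
    have h5 : ∑ χ ∈ (Tp NE ε).erase χ₁, (lg (P : Subgroup G) χ : ℤ) = e - 2 := by
      rw [← Finset.add_sum_erase _ _ hχ₁T, h4] at hlgp
      push_cast at hlgp
      linarith
    have h6 : ∑ χ ∈ (Tp NE ε).erase χ₁, (lg (P : Subgroup G) χ : ℝ) = e - 2 := by
      exact_mod_cast h5
    rw [h6]
  have hlt : 2 ^ b < p := by
    have hGr : (Nat.card G : ℝ) = p * 2 ^ b * (e + 1) := by rw [hG]; push_cast; ring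
    have hir : (i : ℝ) = p * (e + 1) := by rw [hi']; push_cast; ring
    have hpr : (p : ℝ) = e * 2 + 1 := by rw [← het]; push_cast; ring
    have her : (2 : ℝ) ≤ e := by exact_mod_cast he2
    have hp0 : (0 : ℝ) < p := by exact_mod_cast hpp
    rw [hsplit, hvΘ2, hir, hGr] at hform
    have hpairs' : (p : ℝ) ≤
        Nat.card {r : G × G // IsConj z r.1 ∧ IsConj z r.2 ∧ r.1 * r.2 = x} := by
      exact_mod_cast hpairs
    have h1 : (p : ℝ) * (p * 2 ^ b * (e + 1)) ≤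
        (p * (e + 1)) ^ 2 * (1 + 2 / p * (e - 2) + 1 / (e + 1)) := by
      calc (p : ℝ) * (p * 2 ^ b * (e + 1)) ≤
          Nat.card {r : G × G // IsConj z r.1 ∧ IsConj z r.2 ∧ r.1 * r.2 = x} *
            (p * 2 ^ b * (e + 1)) := by
            apply mul_le_mul_of_nonneg_right hpairs'
            positivity
        _ = _ := hform
        _ ≤ _ := by
            apply mul_le_mul_of_nonneg_left _ (by positivity)
            linarith
    have h2 : (p : ℝ) ^ 2 * (e + 1) * 2 ^ b ≤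
        (p : ℝ) ^ 2 * (e + 1) * ((e + 1) + 2 * (e - 2) * (e + 1) / p + 1) := by
      have h3 : (p * (e + 1) : ℝ) ^ 2 * (1 + 2 / p * (e - 2) + 1 / (e + 1)) =
          (p : ℝ) ^ 2 * (e + 1) * ((e + 1) + 2 * (e - 2) * (e + 1) / p + 1) := by
        field_simp
      rw [← h3]
      linarith
    have h4 : (2 : ℝ) ^ b ≤ (e + 1) + 2 * (e - 2) * (e + 1) / p + 1 :=
      le_of_mul_le_mul_left h2 (by positivity)
    have h5 : 2 * ((e : ℝ) - 2) * (e + 1) / p < e - 1 := by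
      rw [div_lt_iff₀ hp0, hpr]
      nlinarith
    have h6 : (2 : ℝ) ^ b < p := by linarith
    exact_mod_cast h6
  -- the number of Sylow subgroups
  have hdiv : p ∣ 2 ^ b + 1 := by
    have h1 := BurnsideNC.card_sylow_mul_card_normalizer P
    rw [hN, hG] at h1
    have h2 := card_sylow_modEq_one p G
    have h3 : Nat.card (Sylow p G) * e = 2 ^ b * (e + 1) := by
      apply Nat.eq_of_mul_eq_mul_left hpp
      linarith
    have h4 : (p : ℤ) ∣ Nat.card (Sylow p G) - 1 := by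
      have := (Nat.modEq_iff_dvd.1 h2.symm)
      exact_mod_cast this
    obtain ⟨j, hj⟩ := h4
    have h5 : (Nat.card (Sylow p G) : ℤ) * e = 2 ^ b * (e + 1) := by exact_mod_cast h3
    have h6 : (p : ℤ) = e * 2 + 1 := by exact_mod_cast het.symm
    have h7 : ((2 ^ b + 1 : ℕ) : ℤ) = p * (1 + 2 * e * j - 2 ^ b) := by
      have h8 : (Nat.card (Sylow p G) : ℤ) = 1 + p * j := by linarith
      rw [h8] at h5
      push_cast
      linear_combination (-2 : ℤ) * h5 + (2 ^ b - 1 : ℤ) * h6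
    have h8 : (p : ℤ) ∣ ((2 ^ b + 1 : ℕ) : ℤ) := ⟨_, h7⟩
    exact_mod_cast h8
  have h1 := Nat.le_of_dvd (by positivity) hdiv
  omega

end

end Cfsg.Agent.SmallSimple.BTCaseA4
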