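import Mathlib
import Cfsg.Agent.SmallSimple.BTCaseA4
import Cfsg.Agent.SmallSimple.SylowGeometryInv
import Cfsg.Agent.SmallSimple.BrauerEnd
import Cfsg.Agent.SmallSimple.FixCount

/-!
# Case A, `e = 2`: identification with `PSL(2, p - 1)`
-/

set_option autoImplicit false
open Cfsg

namespace Cfsg.Agent.SmallSimple.BTCaseA2

open Subgroup MulAction

variable {G : Type*} [Group G] [Finite G] {p b m : ℕ}

/-- The order of the Sylow `2`-subgroup. -/
theorem two_pow_eq [IsSimpleGroup G] [hpF : Fact p.Prime] (hp3 : 3 < p) (hpm : p = 2 ^ m + 1)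
    (P : Sylow p G) (hP : Nat.card P = p)
    (hC : centralizer (P : Set G) = (P : Subgroup G))
    (hN : Nat.card (normalizer (P : Set G)) = p * 2)
    (hG : Nat.card G = p * 2 ^ b * (p - 2)) : 2 ^ b = p - 1 := by
  have hp := hpF.out
  have hpp := hp.pos
  have hm2 : 2 ≤ m := by
    by_contra hlt
    have : m = 0 ∨ m = 1 := by omega
    rcases this with rfl | rfl <;> norm_num at hpm <;> omega
  have h4 : 4 ∣ 2 ^ m := pow_dvd_pow 2 hm2
  have hodd : ¬ 2 ∣ p := by omega
  have hfac : (Nat.card G).factorization 2 = b := by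
    rw [hG]
    exact BTCaseA4.factorization_two hodd (by omega)
  have hlt := DihedralNormalizerSimple.two_part_sq_lt p (by omega) P hP hC (by rw [hN, mul_comm])
  rw [hfac, hG] at hlt
  have hT : 2 ^ b < 4 * (p - 2) := by
    have h1 : (p * 2 ^ b) * 2 ^ b < (p * 2 ^ b) * (4 * (p - 2)) := by
      calc (p * 2 ^ b) * 2 ^ b = p * (2 ^ b) ^ 2 := by ring
        _ < 4 * (p * 2 ^ b * (p - 2)) := hlt
        _ = (p * 2 ^ b) * (4 * (p - 2)) := by ring
    exact lt_of_mul_lt_mul_left h1 (by positivity)
  have hdiv : p ∣ 2 ^ b + 1 := by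
    have h1 := BurnsideNC.card_sylow_mul_card_normalizer P
    rw [hN, hG] at h1
    have h2 := card_sylow_modEq_one p G
    have h3 : Nat.card (Sylow p G) * 2 = 2 ^ b * (p - 2) := by
      apply Nat.eq_of_mul_eq_mul_left hpp
      linarith
    have h4 : (p : ℤ) ∣ Nat.card (Sylow p G) - 1 := by
      have := (Nat.modEq_iff_dvd.1 h2.symm)
      exact_mod_cast this
    obtain ⟨j, hj⟩ := h4
    have h5 : (Nat.card (Sylow p G) : ℤ) * 2 = 2 ^ b * (p - 2) := by
      have h6 : ((p - 2 : ℕ) : ℤ) = (p : ℤ) - 2 := by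
        rw [Nat.cast_sub (by omega)]
        rfl
      rw [← h6]
      exact_mod_cast h3
    have h7 : ((2 * (2 ^ b + 1) : ℕ) : ℤ) = p * (2 ^ b - 2 * j) := by
      have h8 : (Nat.card (Sylow p G) : ℤ) = 1 + p * j := by linarith
      rw [h8] at h5
      push_cast
      linear_combination h5
    have h8 : (p : ℤ) ∣ ((2 * (2 ^ b + 1) : ℕ) : ℤ) := ⟨_, h7⟩
    have h9 : p ∣ 2 * (2 ^ b + 1) := by exact_mod_cast h8
    rcases (hp.dvd_mul).1 h9 with h10 | h10
    · have := Nat.le_of_dvd (by norm_num) h10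
      omega
    · exact h10
  obtain ⟨k, hk⟩ := hdiv
  have hk4 : k < 4 := by
    by_contra hge
    push Not at hge
    have : p * 4 ≤ p * k := Nat.mul_le_mul_left _ hge
    omega
  have hb : b = 0 ∨ b = 1 ∨ 4 ∣ 2 ^ b := by
    rcases Nat.lt_or_ge b 2 with h1 | h1
    · omega
    · exact Or.inr (Or.inr (pow_dvd_pow 2 h1))
  have hk0 : k ≠ 0 := by
    rintro rfl
    rw [mul_zero] at hk
    exact Nat.succ_ne_zero _ hk
  have hk' : k = 1 ∨ k = 2 ∨ k = 3 := by omega
  rcases hk' with rfl | rfl | rfl
  · omega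
  · rcases hb with rfl | rfl | h1
    · omega
    · omega
    · omega
  · rcases hb with rfl | rfl | h1
    · omega
    · omega
    · omega

/-- Elements of `N(P)` outside `P` form one coset of `P`, all its elements are conjugate. -/
theorem isConj_of_notMem [hpF : Fact p.Prime] (P : Sylow p G) (hP : Nat.card P = p)
    (hC : centralizer (P : Set G) = (P : Subgroup G))
    (hN : Nat.card (normalizer (P : Set G)) = p * 2) {y w : G}
    (hy : y ∈ normalizer ((P : Subgroup G) : Set G)) (hyP : y ∉ (P : Subgroup G))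
    (hw : w ∈ normalizer ((P : Subgroup G) : Set G)) (hwP : w ∉ (P : Subgroup G)) :
    IsConj y w := by
  have hp := hpF.out
  have hidx : ((P : Subgroup G).subgroupOf (normalizer ((P : Subgroup G) : Set G))).index = 2 := by
    have h1 : Nat.card ((P : Subgroup G).subgroupOf (normalizer ((P : Subgroup G) : Set G))) =
        Nat.card (P : Subgroup G) :=
      Nat.card_congr (subgroupOfEquivOfLe le_normalizer).toEquiv
    have h2 := card_mul_index
      ((P : Subgroup G).subgroupOf (normalizer ((P : Subgroup G) : Set G)))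
    have h3 : Nat.card (P : Subgroup G) = p := hP
    have h4 : Nat.card (normalizer ((P : Subgroup G) : Set G)) = p * 2 := hN
    rw [h1, h3, h4] at h2
    exact Nat.eq_of_mul_eq_mul_left hp.pos h2
  have hyw : y⁻¹ * w ∈ (P : Subgroup G) := by
    have h1 := mul_mem_iff_of_index_two hidx (a := ⟨y⁻¹, inv_mem hy⟩) (b := ⟨w, hw⟩)
    have h2 : (⟨y⁻¹, inv_mem hy⟩ : normalizer ((P : Subgroup G) : Set G)) ∈
        (P : Subgroup G).subgroupOf (normalizer ((P : Subgroup G) : Set G)) ↔
        (y⁻¹ ∈ (P : Subgroup G)) := Iff.rfl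
    have h3 : (⟨w, hw⟩ : normalizer ((P : Subgroup G) : Set G)) ∈
        (P : Subgroup G).subgroupOf (normalizer ((P : Subgroup G) : Set G)) ↔
        (w ∈ (P : Subgroup G)) := Iff.rfl
    rw [h2, h3] at h1
    exact h1.2 (by simp [hyP, hwP])
  have hyC : y ∉ centralizer ((P : Subgroup G) : Set G) := by
    intro h1
    apply hyP
    have h2 : y ∈ centralizer (P : Set G) := h1
    rwa [hC] at h2
  have h1 := BTGroup.isConj_mul hp hP hy hyC hyw
  rwa [mul_inv_cancel_left] at h1

/-- The order of the centralizers of the elements of `N(P)` outside `P`. -/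
theorem card_centralizer_eq [IsSimpleGroup G] [hpF : Fact p.Prime] (hp3 : 3 < p)
    (hpm : p = 2 ^ m + 1)
    (P : Sylow p G) (hP : Nat.card P = p)
    (hC : centralizer (P : Set G) = (P : Subgroup G))
    (hN : Nat.card (normalizer (P : Set G)) = p * 2)
    (hG : Nat.card G = p * 2 ^ b * (p - 2)) {w : G}
    (hw : w ∈ normalizer ((P : Subgroup G) : Set G)) (hwP : w ∉ (P : Subgroup G)) :
    Nat.card (centralizer ({w} : Set G)) = p - 1 := by
  have hp := hpF.out
  have hpp := hp.pos
  have hb := two_pow_eq hp3 hpm P hP hC hN hG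
  have hm1 : m ≠ 0 := by
    rintro rfl
    norm_num at hpm
    omega
  have h2m : 2 ∣ 2 ^ m := dvd_pow_self 2 hm1
  have hfac : (Nat.card G).factorization 2 = b := by
    rw [hG]
    exact BTCaseA4.factorization_two (by omega) (by omega)
  have h2G : 2 ∣ Nat.card G :=
    (Dvd.intro_left _ rfl : 2 ∣ p * 2).trans (hN ▸ card_subgroup_dvd_card _)
  obtain ⟨z, hz, hzdvd⟩ := DihedralNormalizerSimple.exists_involution_two_pow_dvd h2G
  rw [hfac, hb] at hzdvd
  have hN' : Nat.card (normalizer (P : Set G)) = 2 * p := by rw [hN, mul_comm]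
  have hlt := DihedralNormalizerSimple.card_centralizer_sq_lt p (by omega) P hP hC hN' z hz
  obtain ⟨⟨g, hg⟩, -⟩ := DihedralNormalizerSimple.exists_degree_eq p (by omega) P hP hC hN' z hz
  have hcz : Nat.card (centralizer ({z} : Set G)) = p - 1 := by
    obtain ⟨k, hk⟩ := hzdvd
    have hk0 : k ≠ 0 := by
      rintro rfl
      rw [mul_zero] at hk
      exact Nat.card_pos.ne' hk
    have hk2 : k < 2 := by
      by_contra hge
      push Not at hge
      rw [hk, hG, hb] at hlt
      have h1 : p * ((p - 1) * 2) ^ 2 ≤ p * ((p - 1) * k) ^ 2 :=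
        Nat.mul_le_mul_left _ (Nat.pow_le_pow_left (Nat.mul_le_mul_left _ hge) 2)
      have h2 : 4 * (p * (p - 1) * (p - 2)) ≤ p * ((p - 1) * 2) ^ 2 := by
        have h3 : p * ((p - 1) * 2) ^ 2 = 4 * (p * (p - 1) * (p - 1)) := by ring
        rw [h3]
        exact Nat.mul_le_mul_left _ (Nat.mul_le_mul_left _ (by omega))
      omega
    have hk1 : k = 1 := by omega
    rw [hk, hk1, mul_one]
  have hgP : g * z * g⁻¹ ∉ (P : Subgroup G) := by
    intro h1
    have h2 : orderOf (g * z * g⁻¹) ∣ p := by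
      rw [← hP]
      have := orderOf_dvd_natCard (⟨g * z * g⁻¹, h1⟩ : (P : Subgroup G))
      rwa [Subgroup.orderOf_mk] at this
    rw [BTGroup.orderOf_conj_eq, hz] at h2
    have := (Nat.prime_dvd_prime_iff_eq Nat.prime_two hp).1 h2
    omega
  have hconj : IsConj z w := (isConj_iff.2 ⟨g, rfl⟩ : IsConj z (g * z * g⁻¹)).trans
    (isConj_of_notMem P hP hC hN hg hgP hw hwP)
  rw [← hcz]
  obtain ⟨c, hc⟩ := isConj_iff.1 hconj
  have h2 : centralizer ({w} : Set G) = (centralizer ({z} : Set G)).map
      (MulAut.conj c).toMonoidHom := by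
    ext x
    rw [mem_centralizer_singleton_iff, Subgroup.mem_map]
    constructor
    · intro hx
      refine ⟨c⁻¹ * x * c, ?_, ?_⟩
      · rw [mem_centralizer_singleton_iff]
        have e1 : c⁻¹ * x * c * z = c⁻¹ * (x * (c * z * c⁻¹)) * c := by group
        have e2 : z * (c⁻¹ * x * c) = c⁻¹ * ((c * z * c⁻¹) * x) * c := by group
        rw [e1, e2, hc, hx]
      · show c * (c⁻¹ * x * c) * c⁻¹ = x
        group
    · rintro ⟨y, hy, rfl⟩
      rw [mem_centralizer_singleton_iff] at hy
      show c * y * c⁻¹ * w = w * (c * y * c⁻¹)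
      rw [← hc]
      have e1 : c * y * c⁻¹ * (c * z * c⁻¹) = c * (y * z) * c⁻¹ := by group
      have e2 : c * z * c⁻¹ * (c * y * c⁻¹) = c * (z * y) * c⁻¹ := by group
      rw [e1, e2, hy]
  rw [h2]
  exact card_map_of_injective (MulAut.conj c).injective

/-- The number of Sylow subgroups normalized by an element of `N(P)` outside `P`. -/
theorem le_card_fixed [hpF : Fact p.Prime]
    (P : Sylow p G) (hP : Nat.card P = p)
    (hC : centralizer (P : Set G) = (P : Subgroup G))
    (hN : Nat.card (normalizer (P : Set G)) = p * 2) {w : G}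
    (hw : w ∈ normalizer ((P : Subgroup G) : Set G)) (hwP : w ∉ (P : Subgroup G))
    (hcw : Nat.card (centralizer ({w} : Set G)) = p - 1) :
    p - 1 ≤ 2 * Nat.card (fixedBy (Sylow p G) w) := by
  have hp := hpF.out
  have h1 := FixCount.card_fixedBy_mul_card_stabilizer P w
  rw [Sylow.stabilizer_eq_normalizer, hcw] at h1
  rw [hN] at h1
  have hwC : w ∉ centralizer ((P : Subgroup G) : Set G) := by
    intro h1
    apply hwP
    have h2 : w ∈ centralizer (P : Set G) := h1
    rwa [hC] at h2
  have h2 : p ≤ Nat.card {h : G // IsConj w h ∧ h • P = P} := by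
    let f : ↥(P : Subgroup G) → {h : G // IsConj w h ∧ h • P = P} := fun x =>
      ⟨w * x, BTGroup.isConj_mul hp hP hw hwC x.2, by
        rw [Sylow.smul_eq_iff_mem_normalizer]
        exact mul_mem hw (le_normalizer x.2)⟩
    have hf : Function.Injective f := by
      intro x y hxy
      have h3 : w * (x : G) = w * y := congrArg (fun h => h.1) hxy
      exact Subtype.ext (mul_left_cancel h3)
    have h3 := Nat.card_le_card_of_injective f hf
    rwa [hP] at h3
  have h3 : p * (p - 1) ≤ p * (2 * Nat.card (fixedBy (Sylow p G) w)) := by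
    calc p * (p - 1) ≤ Nat.card {h : G // IsConj w h ∧ h • P = P} * (p - 1) :=
          Nat.mul_le_mul_right _ h2
      _ = _ := h1.symm
      _ = _ := by ring
  exact Nat.le_of_mul_le_mul_left h3 hp.pos

/-- The geometry of Sylow `p`-subgroups. -/
theorem geom [hpF : Fact p.Prime] (hp3 : 3 < p)
    (P : Sylow p G) (hP : Nat.card P = p)
    (hC : centralizer (P : Set G) = (P : Subgroup G))
    (hN : Nat.card (normalizer (P : Set G)) = p * 2)
    (hG : Nat.card G = p * (p - 1) * (p - 2))
    (hcw : ∀ w ∈ normalizer ((P : Subgroup G) : Set G), w ∉ (P : Subgroup G) →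
      Nat.card (centralizer ({w} : Set G)) = p - 1) {n : ℕ} (hn : 2 * (n + 1) = p - 1) :
    SylowGeometry.Geom p 2 n G := by
  classical
  have hp := hpF.out
  have hsyl : Nat.card (Sylow p G) * 2 = (p - 1) * (p - 2) := by
    have h1 := BurnsideNC.card_sylow_mul_card_normalizer P
    rw [hN, hG] at h1
    apply Nat.eq_of_mul_eq_mul_left hp.pos
    calc p * (Nat.card (Sylow p G) * 2) = Nat.card (Sylow p G) * (p * 2) := by ring
      _ = p * (p - 1) * (p - 2) := h1
      _ = _ := by ring
  have hp' : p = 2 * n + 3 := by omega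
  have hsyl' : Nat.card (Sylow p G) = 1 + n * p := by
    have h1 : p - 1 = 2 * n + 2 := by omega
    have h2 : p - 2 = 2 * n + 1 := by omega
    rw [h1, h2] at hsyl
    have h3 : Nat.card (Sylow p G) * 2 = (1 + n * p) * 2 := by
      rw [hsyl, hp']
      ring
    exact Nat.eq_of_mul_eq_mul_right (by norm_num) h3
  refine SylowGeometry.geom_of_card_pairs P hP hC hN hsyl' ?_
  have := Fintype.ofFinite (normalizer (P : Set G))
  let e1 : {y : normalizer (P : Set G) × Sylow p G // (y.1 : G) • y.2 = y.2} ≃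
      Σ y : normalizer (P : Set G), fixedBy (Sylow p G) (y : G) :=
    { toFun := fun y => ⟨y.1.1, ⟨y.1.2, y.2⟩⟩
      invFun := fun y => ⟨(y.1, y.2.1), y.2.2⟩
      left_inv := fun _ => rfl
      right_inv := fun _ => rfl }
  rw [Nat.card_congr e1, Nat.card_sigma]
  have hf1 : Nat.card (fixedBy (Sylow p G) ((1 : normalizer (P : Set G)) : G)) =
      Nat.card (Sylow p G) := by
    have h1 : fixedBy (Sylow p G) ((1 : normalizer (P : Set G)) : G) = Set.univ := by
      ext Q
      simp
    rw [h1]
    exact Nat.card_congr (Equiv.Set.univ _)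
  let g : normalizer (P : Set G) → ℕ := fun y =>
    (if y = 1 then 2 * (n * p) else 0) + (if (y : G) ∈ (P : Subgroup G) then 2 else p - 1)
  have hg : ∀ y : normalizer (P : Set G), g y ≤ 2 * Nat.card (fixedBy (Sylow p G) (y : G)) := by
    intro y
    by_cases hy1 : y = 1
    · subst hy1
      have h1 : g 1 = 2 * (n * p) + 2 := by simp [g]
      rw [h1, hf1, hsyl']
      omega
    · by_cases hyP : (y : G) ∈ (P : Subgroup G)
      · have h1 : g y = 2 := by simp [g, hy1, hyP]
        rw [h1]
        have h2 : Nonempty (fixedBy (Sylow p G) (y : G)) := ⟨⟨P, by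
          rw [mem_fixedBy, Sylow.smul_eq_iff_mem_normalizer]
          exact y.2⟩⟩
        have h3 : 0 < Nat.card (fixedBy (Sylow p G) (y : G)) := Nat.card_pos
        omega
      · have h1 : g y = p - 1 := by simp [g, hy1, hyP]
        rw [h1]
        exact le_card_fixed P hP hC hN y.2 hyP (hcw y y.2 hyP)
  have hB : (Finset.univ.filter (fun y : normalizer (P : Set G) =>
      (y : G) ∈ (P : Subgroup G))).card = p := by
    have h1 : Nat.card ((P : Subgroup G).subgroupOf (normalizer ((P : Subgroup G) : Set G))) =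
        Nat.card (P : Subgroup G) :=
      Nat.card_congr (subgroupOfEquivOfLe le_normalizer).toEquiv
    have h3 : Nat.card (P : Subgroup G) = p := hP
    rw [h3] at h1
    refine Eq.trans ?_ h1
    rw [← Fintype.card_subtype, ← Nat.card_eq_fintype_card]
    rfl
  have hA : (Finset.univ.filter (fun y : normalizer (P : Set G) =>
      ¬ (y : G) ∈ (P : Subgroup G))).card = p := by
    have h1 := Finset.card_filter_add_card_filter_not (s := (Finset.univ :
      Finset (normalizer (P : Set G)))) (fun y => (y : G) ∈ (P : Subgroup G))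
    rw [hB, Finset.card_univ, ← Nat.card_eq_fintype_card, hN] at h1
    omega
  have hsum : ∑ y : normalizer (P : Set G), g y = 2 * (n * p) + (p * 2 + p * (p - 1)) := by
    simp only [g]
    rw [Finset.sum_add_distrib, Finset.sum_ite_eq' Finset.univ (1 : normalizer (P : Set G)),
      if_pos (Finset.mem_univ _), Finset.sum_ite, Finset.sum_const, Finset.sum_const, hB, hA]
    simp
  have h1 := Finset.sum_le_sum (fun y (_ : y ∈ Finset.univ) => hg y)
  rw [hsum, ← Finset.mul_sum] at h1
  have h2 : 2 * ((n + 1) * (p * 2)) = 2 * (n * p) + (p * 2 + p * (p - 1)) := by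
    rw [← hn]
    ring
  omega

/-- **Case A2.** -/
theorem main [IsSimpleGroup G] [hpF : Fact p.Prime] (hp3 : 3 < p) (hpm : p = 2 ^ m + 1)
    (P : Sylow p G) (hP : Nat.card P = p)
    (hC : centralizer (P : Set G) = (P : Subgroup G))
    (hN : Nat.card (normalizer (P : Set G)) = p * 2)
    (hG : Nat.card G = p * 2 ^ b * (p - 2)) :
    ∃ (m : ℕ) (F : Type) (_ : Field F) (_ : Fintype F), Fintype.card F = 2 ^ m ∧
      p = 2 ^ m + 1 ∧ 3 < p ∧
      Nonempty (G ≃* Matrix.ProjectiveSpecialLinearGroup (Fin 2) F) := by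
  have hp := hpF.out
  have hb := two_pow_eq hp3 hpm P hP hC hN hG
  have hcw : ∀ w ∈ normalizer ((P : Subgroup G) : Set G), w ∉ (P : Subgroup G) →
      Nat.card (centralizer ({w} : Set G)) = p - 1 := fun w hw hwP =>
    card_centralizer_eq hp3 hpm P hP hC hN hG hw hwP
  have hodd : ¬ 2 ∣ p := fun h =>
    absurd ((Nat.prime_dvd_prime_iff_eq Nat.prime_two hp).1 h) (by omega)
  obtain ⟨n, hn⟩ : ∃ n, 2 * (n + 1) = p - 1 := ⟨(p - 1) / 2 - 1, by omega⟩
  have hG' : Nat.card G = p * (p - 1) * (p - 2) := by rw [hG, hb]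
  have hgeom := geom hp3 P hP hC hN hG' hcw hn
  obtain ⟨⟨z, hz⟩, hel, hcj⟩ := SylowGeometryInv.elementary_of_eq_two hgeom (by omega) hn
  obtain ⟨x, hx1⟩ : ∃ x : (P : Subgroup G), x ≠ 1 := by
    have : Nontrivial (P : Subgroup G) := by
      rw [← Finite.one_lt_card_iff_nontrivial, hP]
      exact hp.one_lt
    exact exists_ne 1
  have hx1' : (x : G) ≠ 1 := fun h => hx1 (Subtype.ext h)
  have hxo : orderOf (x : G) = p := by
    have h1 : orderOf (x : G) ∣ p := by
      have h0 : orderOf (x : G) ∣ Nat.card (P : Subgroup G) := by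
        rw [Subgroup.orderOf_coe]
        exact orderOf_dvd_natCard x
      exact h0.trans (dvd_of_eq hP)
    rcases (Nat.dvd_prime hp).1 h1 with h2 | h2
    · exact absurd (orderOf_eq_one_iff.1 h2) hx1'
    · exact h2
  have hzp : zpowers (x : G) = (P : Subgroup G) := by
    apply Subgroup.eq_of_le_of_card_ge
    · rw [zpowers_le]; exact x.2
    · rw [Nat.card_zpowers, hxo]
      exact le_of_eq hP
  have hCx : centralizer ({(x : G)} : Set G) = zpowers (x : G) := by
    rw [hzp]
    apply le_antisymm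
    · intro c hc
      have h1 : c ∈ centralizer (P : Set G) := by
        rw [mem_centralizer_iff]
        intro u hu
        have hu' : u ∈ (P : Subgroup G) := hu
        rw [← hzp] at hu'
        obtain ⟨k, rfl⟩ := mem_zpowers_iff.1 hu'
        have h2 : Commute c (x : G) := mem_centralizer_singleton_iff.1 hc
        exact (h2.zpow_right k).eq.symm
      rwa [hC] at h1
    · intro c hc
      rw [mem_centralizer_singleton_iff]
      have h1 : c ∈ centralizer (P : Set G) := by rw [hC]; exact hc
      exact (mem_centralizer_iff.1 h1 x x.2).symm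
  refine BrauerEnd.psl_of_e_eq_two hp3 hG' (x : G) hxo hCx z hz (hel z hz).1 ?_ ?_
  · intro c hc
    rw [pow_two]
    exact (hel z hz).2 c hc
  · intro c hc hc1
    have h1 : orderOf c = 2 := by
      have h2 : orderOf c ∣ 2 := orderOf_dvd_of_pow_eq_one (by rw [pow_two]; exact (hel z hz).2 c hc)
      rcases (Nat.dvd_prime Nat.prime_two).1 h2 with h3 | h3
      · exact absurd (orderOf_eq_one_iff.1 h3) hc1
      · exact h3
    obtain ⟨g, hg⟩ := hcj z c hz h1
    exact isConj_iff.2 ⟨g, hg⟩

end Cfsg.Agent.SmallSimple.BTCaseA2
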