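import Mathlib
import Cfsg.Agent.SmallSimple.BTCommon
import Cfsg.Agent.SmallSimple.BurnsideNC

/-!
# Case A: exceptional characters of degree `p - e`, arithmetic
-/

set_option autoImplicit false

open scoped ComplexConjugate
open Cfsg

namespace Cfsg.Agent.SmallSimple.BTCaseA1

open Cfsg.Agent.Characters.Core Cfsg.Agent.SmallSimple.BTBasic Cfsg.Agent.SmallSimple.BTData
open Cfsg.Agent.SmallSimple.BTCommon

universe u

section

variable {G : Type u} [Group G] [Finite G] [IsSimpleGroup G] {p q b g₀ e t : ℕ}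
  {P : Sylow p G} {NE X : Finset (IrrCharacter G)}
  {ε : IrrCharacter G → ℤ} {S : IrrCharacter G → Finset ((P : Subgroup G) →* ℂˣ)}

/-- `g₀ = p - e`, `q = 2`, `e` is a power of two. -/
theorem arith1 [hpF : Fact p.Prime] (h : BData p e t (P : Subgroup G) NE X ε (-1) S)
    (hq : q.Prime) (hpq : p ≠ q)
    (hP : Nat.card P = p)
    (hN : Nat.card (Subgroup.normalizer (P : Set G)) = p * e)
    (hna : ¬ ∀ a b : G, a * b = b * a) (het : e * t = p - 1) (ht : 2 ≤ t)
    (hG : Nat.card G = p * q ^ b * g₀) (hg : g₀ < p - 1)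
    {Θ : IrrCharacter G} (hΘ : Θ ∈ X) (hdeg : dg Θ + e = p) (hdvd : dg Θ ∣ g₀) :
    q = 2 ∧ g₀ + e = p ∧ ∃ c, 1 ≤ c ∧ e = 2 ^ c := by
  have hp := hpF.out
  have hp2 := hp.two_le
  have hg0 : 0 < g₀ := by
    rcases Nat.eq_zero_or_pos g₀ with h0 | h0
    · have : 0 < Nat.card G := Nat.card_pos
      rw [hG, h0, mul_zero] at this
      omega
    · exact h0
  have he2 : 2 * e ≤ p - 1 := by
    rw [← het, mul_comm 2 e]
    exact Nat.mul_le_mul_left e ht
  have hge : g₀ + e = p := by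
    obtain ⟨k, hk⟩ := hdvd
    have hk0 : k ≠ 0 := by rintro rfl; omega
    have hk2 : k < 2 := by
      by_contra h'
      push Not at h'
      have : dg Θ * 2 ≤ dg Θ * k := Nat.mul_le_mul_left _ h'
      omega
    have : k = 1 := by omega
    rw [hk, this, mul_one, hdeg]
  have he1 : e ≠ 1 := by
    rintro rfl
    omega
  have he0 : e ≠ 0 := by
    rintro rfl
    rw [zero_mul] at het
    omega
  have hepc : Nat.Coprime e p := ((Nat.Prime.coprime_iff_not_dvd hp).2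
    (fun h => absurd (Nat.le_of_dvd (by omega) h) (by omega))).symm
  have heg : Nat.Coprime e g₀ := by
    rw [← hge] at hepc
    exact (Nat.coprime_add_self_right).1 hepc
  have hedvd : e ∣ q ^ b := by
    have h1 := Subgroup.card_subgroup_dvd_card (Subgroup.normalizer (P : Set G))
    rw [hN, hG, mul_assoc] at h1
    exact heg.dvd_of_dvd_mul_right (Nat.dvd_of_mul_dvd_mul_left hp.pos h1)
  obtain ⟨c, -, hc⟩ := (Nat.dvd_prime_pow hq).1 hedvd
  have hc1 : 1 ≤ c := by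
    rcases Nat.eq_zero_or_pos c with h0 | h0
    · rw [h0, pow_zero] at hc
      exact absurd hc he1
    · exact h0
  have hqe : q ∣ e := by
    rw [hc]
    exact dvd_pow_self q (by omega)
  -- the relation modulo `q`
  obtain ⟨χ₁, hχ₁, hχ₁1, hχ₁ε⟩ := h.one
  have hdg1 : dg χ₁ = 1 := by
    have h2 : (dg χ₁ : ℂ) = 1 := by rw [← apply_one, hχ₁1]; rfl
    exact_mod_cast h2
  have hrel := rel_one h hp hΘ
  classical
  rw [← Finset.add_sum_erase _ _ hχ₁, hχ₁ε, hdg1] at hrel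
  have h1 : (q : ℤ) ∣ ∑ χ ∈ NE.erase χ₁, ε χ * (dg χ : ℤ) := by
    apply Finset.dvd_sum
    intro χ hχ
    obtain ⟨hχ1, hχNE⟩ := Finset.mem_erase.1 hχ
    apply Dvd.dvd.mul_left
    exact_mod_cast q_dvd_dg h hp hq hP hna hG hg hχNE
      (fun h' => hχ1 (Subtype.ext (h'.trans hχ₁1.symm)))
  have hqp : (q : ℤ) ∣ (p : ℤ) - 1 := by
    have h2 : q ∣ p - 1 := by
      rw [← het]
      exact hqe.trans (Dvd.intro _ rfl)
    have h3 : ((p - 1 : ℕ) : ℤ) = (p : ℤ) - 1 := by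
      rw [Nat.cast_sub (by omega)]
      push_cast
      ring
    rw [← h3]
    exact_mod_cast h2
  have hqe' : (q : ℤ) ∣ (e : ℤ) := by exact_mod_cast hqe
  have hq2 : (q : ℤ) ∣ 2 := by
    have h2 : (2 : ℤ) = -(∑ χ ∈ NE.erase χ₁, ε χ * (dg χ : ℤ)) - ((p : ℤ) - 1) + e := by
      have h3 : (dg Θ : ℤ) + e = p := by exact_mod_cast hdeg
      push_cast at hrel
      linarith
    rw [h2]
    exact dvd_add (dvd_sub (dvd_neg.2 h1) hqp) hqe'
  have hq2' : q ∣ 2 := by exact_mod_cast hq2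
  have hq3 : q = 2 := (Nat.prime_dvd_prime_iff_eq hq Nat.prime_two).1 hq2'
  subst hq3
  exact ⟨rfl, hge, c, hc1, hc⟩

/-- If `4 ∣ e` then `t = 2`. -/
theorem arith2 [hpF : Fact p.Prime] (h : BData p e t (P : Subgroup G) NE X ε (-1) S)
    (hP : Nat.card P = p)
    (hna : ¬ ∀ a b : G, a * b = b * a) (het : e * t = p - 1) (he4 : 4 ∣ e) (he0 : e ≠ 0)
    (ht : 2 ≤ t)
    (hG : Nat.card G = p * 2 ^ b * g₀) (hge : g₀ + e = p)
    {Θ : IrrCharacter G} (hΘ : Θ ∈ X) (hdeg : dg Θ + e = p) : t = 2 := by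
  classical
  have hp := hpF.out
  have hp2 := hp.two_le
  obtain ⟨e', he'⟩ := he4
  have he4 : 4 ≤ e := by omega
  have he2 : 2 * e ≤ p - 1 := by
    rw [← het, mul_comm 2 e]
    exact Nat.mul_le_mul_left e ht
  obtain ⟨χ₁, hχ₁, hχ₁1, hχ₁ε⟩ := h.one
  have hdg1 : dg χ₁ = 1 := by
    have h2 : (dg χ₁ : ℂ) = 1 := by rw [← apply_one, hχ₁1]; rfl
    exact_mod_cast h2
  have hrel := rel_one h hp hΘ
  rw [← Finset.add_sum_erase _ _ hχ₁, hχ₁ε, hdg1] at hrel
  have hex : ∃ χ ∈ NE.erase χ₁, ¬ 4 ∣ dg χ := by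
    by_contra hcon
    push Not at hcon
    have h1 : (4 : ℤ) ∣ ∑ χ ∈ NE.erase χ₁, ε χ * (dg χ : ℤ) := by
      apply Finset.dvd_sum
      intro χ hχ
      apply Dvd.dvd.mul_left
      exact_mod_cast hcon χ hχ
    obtain ⟨k, hk⟩ := h1
    have h3 : (dg Θ : ℤ) + e = p := by exact_mod_cast hdeg
    have h4 : (e : ℤ) = 4 * e' := by exact_mod_cast he'
    have h5 : (p : ℤ) = e * t + 1 := by
      have : p = e * t + 1 := by omega
      exact_mod_cast this
    rw [hk] at hrel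
    push_cast at hrel
    have h6 : (2 : ℤ) = 4 * (-k - e' * t + e') := by
      have : (e : ℤ) * t = 4 * (e' * t) := by rw [h4]; ring
      linarith
    omega
  obtain ⟨χ, hχ, hχ4⟩ := hex
  obtain ⟨hχ1, hχNE⟩ := Finset.mem_erase.1 hχ
  have hχ1' : (χ : G → ℂ) ≠ 1 := fun h' => hχ1 (Subtype.ext (h'.trans hχ₁1.symm))
  obtain ⟨g', hg'⟩ := q_dvd_dg h hp Nat.prime_two hP hna hG (by omega) hχNE hχ1'
  have hg'odd : ¬ 2 ∣ g' := by
    rintro ⟨j, hj⟩
    apply hχ4
    rw [hg', hj]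
    exact ⟨j, by ring⟩
  have hdgeq := dg_eq h hP hχNE
  have hu := le_dg h hp hP hna hχNE hχ1'
  have hpos := dg_pos χ
  have hpn : ¬ p ∣ g' := by
    intro hdvd
    have h3 : (p : ℤ) ∣ dg χ := by
      rw [hg']
      exact_mod_cast hdvd.trans (Dvd.intro_left _ rfl)
    rw [hdgeq] at h3
    have h4 : (p : ℤ) ∣ ε χ := (dvd_add_right (Dvd.intro _ rfl)).1 h3
    have hp1 : (1 : ℤ) < p := by exact_mod_cast hp.one_lt
    rcases h.eps χ hχNE with h6 | h6
    · rw [h6] at h4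
      have := Int.le_of_dvd one_pos h4
      omega
    · rw [h6, dvd_neg] at h4
      have := Int.le_of_dvd one_pos h4
      omega
  have hg'dvd : g' ∣ g₀ := by
    have h3 : g' ∣ p * 2 ^ b * g₀ := by
      rw [← hG]
      refine Dvd.dvd.trans ?_ (dg_dvd χ)
      rw [hg']
      exact Dvd.intro_left _ rfl
    have h4 : Nat.Coprime g' (p * 2 ^ b) := by
      apply Nat.Coprime.mul_right
      · exact ((Nat.Prime.coprime_iff_not_dvd hp).2 hpn).symm
      · exact (((Nat.Prime.coprime_iff_not_dvd Nat.prime_two).2 hg'odd).symm).pow_right b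
    exact h4.dvd_of_dvd_mul_left h3
  obtain ⟨k, hk⟩ := hg'dvd
  have hk0 : k ≠ 0 := by rintro rfl; omega
  have hu1 : (lg (P : Subgroup G) χ : ℤ) - ε χ = 1 := by
    by_contra hne
    have hu2 : (2 : ℤ) ≤ lg (P : Subgroup G) χ - ε χ := by omega
    have h7 : (p : ℤ) * 2 ≤ p * (lg (P : Subgroup G) χ - ε χ) :=
      mul_le_mul_of_nonneg_left hu2 (by positivity)
    have h8 : g' ≤ g₀ := by
      rw [hk]
      exact Nat.le_mul_of_pos_right _ (by omega)
    rcases h.eps χ hχNE with h6 | h6 <;> omega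
  rw [hu1, mul_one] at hdgeq
  have hk2 : k < 2 := by
    by_contra h'
    push Not at h'
    have h7 : g' * 2 ≤ g' * k := Nat.mul_le_mul_left _ h'
    rcases h.eps χ hχNE with h6 | h6 <;> omega
  have hk1 : k = 1 := by omega
  rw [hk1, mul_one] at hk
  have h5 : p = e * t + 1 := by omega
  rcases h.eps χ hχNE with h6 | h6
  · -- `2 (p - e) = p + 1`
    have h7 : e * t = e * 2 := by omega
    exact Nat.eq_of_mul_eq_mul_left (by omega) h7
  · exfalso
    have h7 : e * t + 2 = e * 2 := by omega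
    have h8 : e * 2 ≤ e * t := Nat.mul_le_mul_left e ht
    omega

end

end Cfsg.Agent.SmallSimple.BTCaseA1
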