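import Mathlib
import Cfsg.Agent.SmallSimple.BTCaseA1
import Cfsg.Agent.SmallSimple.BTCaseA4

/-!
# Case A: summary
-/

set_option autoImplicit false

open scoped ComplexConjugate
open Cfsg

namespace Cfsg.Agent.SmallSimple.BTCaseA5

open Cfsg.Agent.Characters.Core Cfsg.Agent.SmallSimple.BTBasic Cfsg.Agent.SmallSimple.BTData
open Cfsg.Agent.SmallSimple.BTCommon

universe u

section

variable {G : Type u} [Group G] [Finite G] [IsSimpleGroup G] {p q e t b g₀ : ℕ}
  {P : Sylow p G} {NE X : Finset (IrrCharacter G)}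
  {ε : IrrCharacter G → ℤ} {S : IrrCharacter G → Finset ((P : Subgroup G) →* ℂˣ)}

omit [IsSimpleGroup G] in
/-- The case `e = 2`: `p - 1` is a power of two. -/
theorem two [hpF : Fact p.Prime] (h : BData p 2 t (P : Subgroup G) NE X ε (-1) S)
    (hp3 : 3 < p)
    (hG : Nat.card G = p * 2 ^ b * (p - 2))
    {Θ : IrrCharacter G} (hΘ : Θ ∈ X) (hdeg : dg Θ + 2 = p) : ∃ m, p = 2 ^ m + 1 := by
  classical
  have hp := hpF.out
  obtain ⟨χ₁, hχ₁, hχ₁1, hχ₁ε⟩ := h.one
  have hdg1 : dg χ₁ = 1 := by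
    have h2 : (dg χ₁ : ℂ) = 1 := by rw [← apply_one, hχ₁1]; rfl
    exact_mod_cast h2
  have hrel := rel_one h hp hΘ
  rw [← Finset.add_sum_erase _ _ hχ₁, hχ₁ε, hdg1] at hrel
  have hcard : (NE.erase χ₁).card = 1 := by
    rw [Finset.card_erase_of_mem hχ₁, h.cardNE]
  obtain ⟨χ₂, hχ₂⟩ := Finset.card_eq_one.1 hcard
  have hχ₂m : χ₂ ∈ NE.erase χ₁ := by rw [hχ₂]; exact Finset.mem_singleton_self _
  rw [hχ₂, Finset.sum_singleton] at hrel
  have hχ₂NE := Finset.mem_of_mem_erase hχ₂m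
  have hpos := dg_pos χ₂
  have hd2 : dg χ₂ = p - 1 := by
    rcases h.eps χ₂ hχ₂NE with h1 | h1
    · rw [h1] at hrel
      omega
    · rw [h1] at hrel
      omega
  have hdvd := dg_dvd χ₂
  rw [hd2, hG] at hdvd
  have h1 : Nat.Coprime (p - 1) p :=
    ((Nat.Prime.coprime_iff_not_dvd hp).2
      (fun h => absurd (Nat.le_of_dvd (by omega) h) (by omega))).symm
  have h2 : Nat.Coprime (p - 1) (p - 2) := by
    have h3 : p - 1 = (p - 2) + 1 := by omega
    rw [h3]
    exact Nat.coprime_self_add_left.2 (Nat.coprime_one_left _)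
  have h3 : p - 1 ∣ 2 ^ b := by
    have h4 := h2.dvd_of_dvd_mul_right hdvd
    exact h1.dvd_of_dvd_mul_left h4
  obtain ⟨m, -, hm⟩ := (Nat.dvd_prime_pow Nat.prime_two).1 h3
  exact ⟨m, by omega⟩

/-- Summary of case A. -/
theorem main [hpF : Fact p.Prime] (h : BData p e t (P : Subgroup G) NE X ε (-1) S)
    (hq : q.Prime) (hpq : p ≠ q)
    (hP : Nat.card P = p) (hC : Subgroup.centralizer (P : Set G) = (P : Subgroup G))
    (hN : Nat.card (Subgroup.normalizer (P : Set G)) = p * e)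
    (hna : ¬ ∀ a b : G, a * b = b * a) (het : e * t = p - 1) (ht : 2 ≤ t)
    (hG : Nat.card G = p * q ^ b * g₀) (hg : g₀ < p - 1)
    {Θ : IrrCharacter G} (hΘ : Θ ∈ X) (hdeg : ∀ Θ ∈ X, dg Θ + e = p) (hdvd : dg Θ ∣ g₀) :
    ((∃ m, p = 2 ^ m + 1) ∧ Nat.card G * 2 = (p + 1) * p * (p - 1) ∧
      Nat.card (Sylow p G) = p + 1) ∨
    (e = 2 ∧ 3 < p ∧ (∃ m, p = 2 ^ m + 1) ∧ Nat.card G = p * 2 ^ b * (p - 2)) := by
  have hp := hpF.out
  obtain ⟨rfl, hge, c, hc, hec⟩ := BTCaseA1.arith1 h hq hpq hP hN hna het ht hG hg hΘ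
    (hdeg Θ hΘ) hdvd
  rcases Nat.lt_or_ge c 2 with hc2 | hc2
  · -- `e = 2`
    right
    have hc1 : c = 1 := by omega
    subst hc1
    rw [pow_one] at hec
    subst hec
    have hp3 : 3 < p := by omega
    have hg2 : g₀ = p - 2 := by omega
    rw [hg2] at hG
    exact ⟨rfl, hp3, two h hp3 hG hΘ (hdeg Θ hΘ), hG⟩
  · left
    have he4 : 4 ∣ e := by
      rw [hec]
      exact (pow_dvd_pow 2 hc2 : 2 ^ 2 ∣ 2 ^ c)
    have he0 : e ≠ 0 := by rw [hec]; positivity
    have ht2 : t = 2 := BTCaseA1.arith2 h hP hna het he4 he0 ht hG hge hΘ (hdeg Θ hΘ)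
    subst ht2
    have het' : e * 2 + 1 = p := by
      have := hp.two_le
      omega
    have hg2 : g₀ = e + 1 := by omega
    rw [hg2] at hG
    have hb := BTCaseA4.main h hP hC hN hna het' hc hec hG
      (fun Θ hΘ => by have := hdeg Θ hΘ; omega)
    refine ⟨⟨b, hb.symm⟩, ?_, ?_⟩
    · rw [hG]
      have h1 : p - 1 = 2 ^ b := by omega
      have h2 : p + 1 = (e + 1) * 2 := by omega
      rw [h1, h2]
      ring
    · have h1 := BurnsideNC.card_sylow_mul_card_normalizer P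
      rw [hN, hG] at h1
      have h2 : Nat.card (Sylow p G) * (p * e) = (p + 1) * (p * e) := by
        rw [h1]
        have h3 : 2 ^ b = 2 * e := by omega
        have h4 : p + 1 = (e + 1) * 2 := by omega
        rw [h3, h4]
        ring
      exact Nat.eq_of_mul_eq_mul_right (Nat.mul_pos hp.pos (by omega)) h2

end

end Cfsg.Agent.SmallSimple.BTCaseA5
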