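import Mathlib
import Cfsg.Agent.SmallSimple.BTCommon

/-!
# Case B: exceptional characters of degree `e`
-/

set_option autoImplicit false

open scoped ComplexConjugate
open Cfsg

namespace Cfsg.Agent.SmallSimple.BTCaseB1

open Cfsg.Agent.Characters.Core Cfsg.Agent.SmallSimple.BTBasic Cfsg.Agent.SmallSimple.BTData
open Cfsg.Agent.SmallSimple.BTCommon

universe u

section

variable {G : Type u} [Group G] [Finite G] [IsSimpleGroup G] {p e t : ℕ}
  {P : Sylow p G} {NE X : Finset (IrrCharacter G)}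
  {ε : IrrCharacter G → ℤ} {S : IrrCharacter G → Finset ((P : Subgroup G) →* ℂˣ)}

theorem main [hp : Fact p.Prime] (h : BData p e t (P : Subgroup G) NE X ε 1 S)
    (hP : Nat.card P = p) (hC : Subgroup.centralizer (P : Set G) = (P : Subgroup G))
    (hna : ¬ ∀ a b : G, a * b = b * a) (het : e * t = p - 1) (he : 1 < e)
    {Θ Θ' : IrrCharacter G} (hΘ : Θ ∈ X) (hΘ' : Θ' ∈ X) (hne : Θ ≠ Θ') (hdeg : dg Θ = e)
    (hdeg' : dg Θ' = e) :
    t = 2 ∧ 2 * (Tm NE ε).card + 1 = e ∧ 2 * (Tp NE ε).card = e + 1 ∧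
      (∀ χ ∈ Tm NE ε, lg (P : Subgroup G) χ = 0) ∧
      (∀ χ ∈ Tp NE ε, (χ : G → ℂ) ≠ 1 → dg χ = p + 1) ∧
      pr Θ Θ = ∑ χ ∈ Tp NE ε, (χ : G → ℂ) := by
  classical
  have := Fintype.ofFinite G
  have hd : (1 : ℤ) = 1 ∨ (1 : ℤ) = -1 := Or.inl rfl
  have hpp := hp.out
  have hp0 : (0 : ℤ) < p := by exact_mod_cast hpp.pos
  have hp0c : (p : ℂ) ≠ 0 := by exact_mod_cast hpp.ne_zero
  -- values of `fixd`
  have f1 : fixd (P : Subgroup G) (pr Θ Θ) = e := by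
    have h1 := card_mul_fixd_pr h hd hP hΘ hΘ
    rw [Finset.inter_self, h.scard Θ hΘ, hdeg] at h1
    have h2 : (p : ℂ) * fixd (P : Subgroup G) (pr Θ Θ) = p * e := by rw [h1]; ring
    exact mul_left_cancel₀ hp0c h2
  have f2 : fixd (P : Subgroup G) (pr Θ Θ') = 0 := by
    have h1 := card_mul_fixd_pr h hd hP hΘ hΘ'
    rw [Finset.disjoint_iff_inter_eq_empty.1 (h.xdisj Θ hΘ Θ' hΘ' hne), Finset.card_empty, hdeg,
      hdeg'] at h1
    have h2 : (p : ℂ) * fixd (P : Subgroup G) (pr Θ Θ') = 0 := by rw [h1]; push_cast; ring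
    exact (mul_eq_zero.1 h2).resolve_left hp0c
  have c1 := isCharacter_sub_Tp h hd hP hC hΘ hΘ' hne
  have c2 := isCharacter_sub_Tm h hd hP hC hΘ hΘ' hne
  obtain ⟨n1, hn1⟩ := fixd_isNat (P : Subgroup G) c1
  obtain ⟨n2, hn2⟩ := fixd_isNat (P : Subgroup G) c2
  obtain ⟨m1, hm1⟩ := isCharacter_apply_one c1
  have hle1 := fixd_le (P : Subgroup G) c1 hn1 hm1
  rw [fixd_sub, fixd_sum, f1] at hn1
  rw [fixd_sub, fixd_sum, f2] at hn2
  have e1 : (e : ℤ) - ∑ χ ∈ Tp NE ε, (lg (P : Subgroup G) χ : ℤ) = n1 := by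
    have : (((e : ℤ) - ∑ χ ∈ Tp NE ε, (lg (P : Subgroup G) χ : ℤ) : ℤ) : ℂ) = ((n1 : ℤ) : ℂ) := by
      push_cast
      rw [← hn1]
      congr 1
      exact Finset.sum_congr rfl fun χ _ => (fixd_eq _ χ).symm
    exact_mod_cast this
  have e2 : - ∑ χ ∈ Tm NE ε, (lg (P : Subgroup G) χ : ℤ) = n2 := by
    have : ((- ∑ χ ∈ Tm NE ε, (lg (P : Subgroup G) χ : ℤ) : ℤ) : ℂ) = ((n2 : ℤ) : ℂ) := by
      push_cast
      rw [← hn2, zero_sub]
      congr 1
      exact Finset.sum_congr rfl fun χ _ => (fixd_eq _ χ).symm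
    exact_mod_cast this
  have e3 : (e : ℤ) * e - ∑ χ ∈ Tp NE ε, (dg χ : ℤ) = m1 := by
    have : (((e : ℤ) * e - ∑ χ ∈ Tp NE ε, (dg χ : ℤ) : ℤ) : ℂ) = ((m1 : ℤ) : ℂ) := by
      push_cast
      rw [← hm1, Pi.sub_apply, pr_apply, apply_one, hdeg, Finset.sum_apply]
      simp only [map_natCast]
      congr 1
      exact Finset.sum_congr rfl fun χ _ => (apply_one χ).symm
    exact_mod_cast this
  -- degrees
  have hdp : ∀ χ ∈ Tp NE ε, (dg χ : ℤ) = p * (lg (P : Subgroup G) χ - 1) + 1 := by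
    intro χ hχ
    obtain ⟨hχN, hχε⟩ := mem_Tp.1 hχ
    have := dg_eq h hP hχN
    rwa [hχε] at this
  have hdm : ∀ χ ∈ Tm NE ε, (dg χ : ℤ) = p * (lg (P : Subgroup G) χ + 1) - 1 := by
    intro χ hχ
    obtain ⟨hχN, hχε⟩ := (mem_Tm h).1 hχ
    have := dg_eq h hP hχN
    rw [hχε] at this
    rw [this]
    ring
  have s1 : ∑ χ ∈ Tp NE ε, (dg χ : ℤ) =
      p * (∑ χ ∈ Tp NE ε, (lg (P : Subgroup G) χ : ℤ) - (Tp NE ε).card) + (Tp NE ε).card := by
    rw [Finset.sum_congr rfl hdp, Finset.sum_add_distrib, ← Finset.mul_sum,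
      Finset.sum_sub_distrib]
    simp
  have s2 : ∑ χ ∈ Tm NE ε, (dg χ : ℤ) =
      p * (∑ χ ∈ Tm NE ε, (lg (P : Subgroup G) χ : ℤ) + (Tm NE ε).card) - (Tm NE ε).card := by
    rw [Finset.sum_congr rfl hdm, Finset.sum_sub_distrib, ← Finset.mul_sum,
      Finset.sum_add_distrib]
    simp
  have hrel := rel_one h hpp hΘ
  rw [sum_split (NE := NE) (ε := ε)] at hrel
  have s3 : ∑ χ ∈ Tp NE ε, ε χ * (dg χ : ℤ) = ∑ χ ∈ Tp NE ε, (dg χ : ℤ) :=
    Finset.sum_congr rfl fun χ hχ => by rw [(mem_Tp.1 hχ).2, one_mul]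
  have s4 : ∑ χ ∈ Tm NE ε, ε χ * (dg χ : ℤ) = - ∑ χ ∈ Tm NE ε, (dg χ : ℤ) := by
    rw [← Finset.sum_neg_distrib]
    exact Finset.sum_congr rfl fun χ hχ => by rw [((mem_Tm h).1 hχ).2, neg_one_mul]
  rw [s3, s4, s1, s2, hdeg] at hrel
  have hcard : (Tp NE ε).card + (Tm NE ε).card = e := by
    rw [← h.cardNE]
    have := sum_split (NE := NE) (ε := ε) (fun _ : IrrCharacter G => 1)
    simpa using this.symm
  set Lp : ℤ := ∑ χ ∈ Tp NE ε, (lg (P : Subgroup G) χ : ℤ) with hLp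
  set Lm : ℤ := ∑ χ ∈ Tm NE ε, (lg (P : Subgroup G) χ : ℤ) with hLm
  set np := (Tp NE ε).card with hnp
  set nm := (Tm NE ε).card with hnm
  have hcard' : (np : ℤ) + nm = e := by exact_mod_cast hcard
  have hLm0 : 0 ≤ Lm := Finset.sum_nonneg fun _ _ => by positivity
  have hLmz : Lm = 0 := by
    have : (0 : ℤ) ≤ n2 := by positivity
    omega
  have hLpe : Lp = e := by
    have h1 : (p : ℤ) * (Lp - Lm - e) = 0 := by
      have : (p : ℤ) * (Lp - Lm - e) = p * (Lp - Lm - (np + nm)) := by rw [hcard']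
      rw [this]
      linear_combination hrel - hcard'
    have h2 := (mul_eq_zero.1 h1).resolve_left hp0.ne'
    omega
  -- nontrivial positive characters
  obtain ⟨χ₁, hχ₁, hχ₁1, hχ₁ε⟩ := h.one
  have hχ₁T : χ₁ ∈ Tp NE ε := mem_Tp.2 ⟨hχ₁, hχ₁ε⟩
  have hl1 : (lg (P : Subgroup G) χ₁ : ℤ) = 1 := by
    have h1 := hdp χ₁ hχ₁T
    have h2 : (dg χ₁ : ℂ) = 1 := by rw [← apply_one, hχ₁1]; rfl
    have h3 : dg χ₁ = 1 := by exact_mod_cast h2
    rw [h3] at h1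
    have h4 : (p : ℤ) * (lg (P : Subgroup G) χ₁ - 1) = 0 := by
      push_cast at h1
      linarith
    have := (mul_eq_zero.1 h4).resolve_left hp0.ne'
    omega
  have hl2 : ∀ χ ∈ (Tp NE ε).erase χ₁, (2 : ℤ) ≤ lg (P : Subgroup G) χ := by
    intro χ hχ
    obtain ⟨hχ1, hχT⟩ := Finset.mem_erase.1 hχ
    obtain ⟨hχN, hχε⟩ := mem_Tp.1 hχT
    have h1 := le_dg h hpp hP hna hχN (fun h' => hχ1 (Subtype.ext (h'.trans hχ₁1.symm)))
    omega
  have hsum : Lp = 1 + ∑ χ ∈ (Tp NE ε).erase χ₁, (lg (P : Subgroup G) χ : ℤ) := by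
    rw [hLp, ← Finset.add_sum_erase _ _ hχ₁T, hl1]
  have hcerase : ((Tp NE ε).erase χ₁).card = np - 1 := Finset.card_erase_of_mem hχ₁T
  have hnp1 : 1 ≤ np := Finset.card_pos.2 ⟨χ₁, hχ₁T⟩
  have hge : 2 * ((np : ℤ) - 1) ≤ ∑ χ ∈ (Tp NE ε).erase χ₁, (lg (P : Subgroup G) χ : ℤ) := by
    have h1 := Finset.card_nsmul_le_sum _ _ _ hl2
    rw [hcerase, nsmul_eq_mul, Nat.cast_sub hnp1] at h1
    push_cast at h1
    linarith
  have hnm2 : (e : ℤ) - 1 ≤ 2 * nm := by omega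
  -- bound on `t`
  have hbound : (p - 1 : ℤ) * nm ≤ e * (e - 1) := by
    have h1 : (n1 : ℤ) ≤ m1 := by exact_mod_cast hle1
    rw [← e1, ← e3, s1, hLpe] at h1
    have h2 : (e : ℤ) - np = nm := by omega
    rw [h2] at h1
    have h3 : (np : ℤ) = e - nm := by omega
    rw [h3] at h1
    linarith
  have hp1 : (p : ℤ) - 1 = e * t := by
    have : ((e * t : ℕ) : ℤ) = ((p - 1 : ℕ) : ℤ) := by rw [het]
    rw [Nat.cast_sub hpp.one_lt.le] at this
    push_cast at this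
    exact this.symm
  have he0 : (0 : ℤ) < e := by omega
  have htnm : (t : ℤ) * nm ≤ e - 1 := by
    have h1 : (e : ℤ) * (t * nm) ≤ e * (e - 1) := by
      rw [← mul_assoc, ← hp1]
      exact hbound
    exact le_of_mul_le_mul_left h1 he0
  have ht2 : 2 ≤ t := by
    have h1 : ({Θ, Θ'} : Finset (IrrCharacter G)) ⊆ X := by
      intro a ha
      rw [Finset.mem_insert, Finset.mem_singleton] at ha
      rcases ha with rfl | rfl
      · exact hΘ
      · exact hΘ'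
    have h2 := Finset.card_le_card h1
    rwa [Finset.card_pair hne, h.cardX] at h2
  have hnmpos : (0 : ℤ) < nm := by omega
  have ht : t = 2 := by
    have h1 : (t : ℤ) * nm ≤ 2 * nm := htnm.trans hnm2
    have h2 : (t : ℤ) ≤ 2 := le_of_mul_le_mul_right h1 hnmpos
    omega
  have hnme : 2 * (nm : ℤ) = e - 1 := by
    rw [ht] at htnm
    push_cast at htnm
    omega
  have hnpe : 2 * (np : ℤ) = e + 1 := by omega
  have hlm : ∀ χ ∈ Tm NE ε, lg (P : Subgroup G) χ = 0 := by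
    intro χ hχ
    have := (Finset.sum_eq_zero_iff_of_nonneg (fun _ _ => by positivity)).1
      (hLm.symm.trans hLmz) χ hχ
    exact_mod_cast this
  have hlp : ∀ χ ∈ (Tp NE ε).erase χ₁, (lg (P : Subgroup G) χ : ℤ) - 2 = 0 := by
    have h1 : ∑ χ ∈ (Tp NE ε).erase χ₁, ((lg (P : Subgroup G) χ : ℤ) - 2) = 0 := by
      rw [Finset.sum_sub_distrib, Finset.sum_const, hcerase, nsmul_eq_mul, Nat.cast_sub hnp1]
      push_cast
      omega
    exact (Finset.sum_eq_zero_iff_of_nonneg (fun χ hχ => by have := hl2 χ hχ; omega)).1 h1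
  refine ⟨ht, by omega, by omega, hlm, ?_, ?_⟩
  · intro χ hχ hχ1
    have h1 := hdp χ hχ
    have h2 := hlp χ (Finset.mem_erase.2 ⟨fun h' => hχ1 (by rw [h']; exact hχ₁1), hχ⟩)
    have h3 : (lg (P : Subgroup G) χ : ℤ) = 2 := by omega
    rw [h3] at h1
    have h4 : (dg χ : ℤ) = p + 1 := by rw [h1]; ring
    exact_mod_cast h4
  · have h1 : m1 = 0 := by
      have h2 : (m1 : ℤ) = 0 := by
        rw [← e3, s1, hLpe]
        have h3 : (e : ℤ) - np = nm := by omega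
        rw [h3]
        have h4 : (p : ℤ) = 2 * e + 1 := by
          rw [ht] at hp1
          push_cast at hp1
          linarith
        have h5 : (np : ℤ) = nm + 1 := by omega
        have h6 : (e : ℤ) = 2 * nm + 1 := by omega
        rw [h4, h5, h6]
        ring
      exact_mod_cast h2
    rw [h1, Nat.cast_zero] at hm1
    have := eq_zero_of_apply_one c1 hm1
    exact sub_eq_zero.1 this

end

end Cfsg.Agent.SmallSimple.BTCaseB1
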