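import Mathlib
import Cfsg.Agent.SmallSimple.BTGroup
import Cfsg.Agent.SmallSimple.DihedralNormalizerSimple

/-!
# Complements and normalizers for the Brauer–Tuan theorem
-/

set_option autoImplicit false

open Subgroup

namespace Cfsg.Agent.SmallSimple.BTNorm

variable {G : Type*} [Group G]

/-- Commutators of elements normalizing `P` of prime order centralize `P`. -/
theorem comm_mem_centralizer {p : ℕ} (hp : p.Prime) {P : Subgroup G} (hP : Nat.card P = p)
    {a b : G} (ha : a ∈ normalizer (P : Set G)) (hb : b ∈ normalizer (P : Set G)) :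
    a * b * a⁻¹ * b⁻¹ ∈ centralizer (P : Set G) := by
  rw [mem_centralizer_iff]
  intro u hu
  by_cases hu1 : u = 1
  · subst hu1; simp
  have hz : ∀ c ∈ normalizer (P : Set G), ∃ k : ℤ, c * u * c⁻¹ = u ^ k := by
    intro c hc
    have h1 : c * u * c⁻¹ ∈ P := (mem_normalizer_iff.1 hc u).1 hu
    obtain ⟨k, hk⟩ := mem_zpowers_iff.1 (SylowPrime.mem_zpowers_of_card_prime hp hP hu hu1 h1)
    exact ⟨k, hk.symm⟩
  obtain ⟨i, hi⟩ := hz a ha
  obtain ⟨j, hj⟩ := hz b hb
  have h1 : (a * b) * u * (a * b)⁻¹ = u ^ (i * j) := by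
    have e1 : (a * b) * u * (a * b)⁻¹ = a * (b * u * b⁻¹) * a⁻¹ := by group
    rw [e1, hj, ← conj_zpow, hi, ← zpow_mul]
  have h2 : (b * a) * u * (b * a)⁻¹ = u ^ (i * j) := by
    have e1 : (b * a) * u * (b * a)⁻¹ = b * (a * u * a⁻¹) * b⁻¹ := by group
    rw [e1, hi, ← conj_zpow, hj, ← zpow_mul, mul_comm]
  -- `v = b * a`-conjugate
  have h3 : ∀ v ∈ P, (a * b) * v * (a * b)⁻¹ = (b * a) * v * (b * a)⁻¹ := by
    intro v hv
    obtain ⟨k, rfl⟩ := mem_zpowers_iff.1 (SylowPrime.mem_zpowers_of_card_prime hp hP hu hu1 hv)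
    rw [← conj_zpow, ← conj_zpow, h1, h2]
  have hv : (b * a)⁻¹ * u * (b * a) ∈ P := by
    have := (mem_normalizer_iff.1 (inv_mem (mul_mem hb ha)) u).1 hu
    simpa using this
  have h4 := h3 _ hv
  have e1 : (b * a) * ((b * a)⁻¹ * u * (b * a)) * (b * a)⁻¹ = u := by group
  rw [e1] at h4
  have e2 : (a * b) * ((b * a)⁻¹ * u * (b * a)) * (a * b)⁻¹ =
      (a * b * a⁻¹ * b⁻¹) * u * (a * b * a⁻¹ * b⁻¹)⁻¹ := by group
  rw [e2, mul_inv_eq_iff_eq_mul] at h4
  exact h4.symm

/-- A complement of a self-centralizing subgroup of prime order in its normalizer. -/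
theorem exists_complement [Finite G] {p e : ℕ} (hp : p.Prime) {P : Subgroup G}
    (hP : Nat.card P = p) (hC : centralizer (P : Set G) = P)
    (hN : Nat.card (normalizer (P : Set G)) = p * e) (he : Nat.Coprime p e) :
    ∃ E : Subgroup G, E ≤ normalizer (P : Set G) ∧ Nat.card E = e ∧ E ⊓ P = ⊥ ∧
      ∀ a ∈ E, ∀ b ∈ E, a * b = b * a := by
  set N := normalizer (P : Set G) with hNdef
  have h1 : Nat.card (P.subgroupOf N) = p := by
    rw [← hP]
    exact Nat.card_congr (subgroupOfEquivOfLe le_normalizer).toEquiv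
  have h2 : (P.subgroupOf N).index = e := by
    have := (P.subgroupOf N).card_mul_index
    rw [h1, hN] at this
    exact Nat.eq_of_mul_eq_mul_left hp.pos this
  have hnorm : (P.subgroupOf N).Normal := normal_in_normalizer
  obtain ⟨H, hH⟩ := exists_right_complement'_of_coprime (N := P.subgroupOf N) (by rw [h1, h2]; exact he)
  have hle : H.map N.subtype ≤ N := by
    rintro _ ⟨x, -, rfl⟩
    exact x.2
  have hinf : H.map N.subtype ⊓ P = ⊥ := by
    rw [eq_bot_iff]
    rintro x ⟨⟨y, hy, rfl⟩, hxP⟩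
    have h3 : y ∈ P.subgroupOf N ⊓ H := ⟨hxP, hy⟩
    rw [hH.disjoint.eq_bot] at h3
    rw [mem_bot.1 h3]
    exact one_mem _
  refine ⟨H.map N.subtype, hle, ?_, hinf, ?_⟩
  · rw [card_map_of_injective N.subtype_injective]
    have h3 := hH.card_mul_card
    rw [h1, hN] at h3
    exact Nat.eq_of_mul_eq_mul_left hp.pos h3
  · intro a ha b hb
    have h3 := comm_mem_centralizer hp hP (hle ha) (hle hb)
    rw [hC] at h3
    have h4 : a * b * a⁻¹ * b⁻¹ ∈ H.map N.subtype ⊓ P :=
      ⟨Subgroup.mul_mem _ (Subgroup.mul_mem _ (Subgroup.mul_mem _ ha hb) (Subgroup.inv_mem _ ha))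
        (Subgroup.inv_mem _ hb), h3⟩
    rw [hinf, mem_bot, mul_inv_eq_one, mul_inv_eq_iff_eq_mul] at h4
    exact h4

/-- A subgroup `T` of the normalizer of `E` acts freely on `E \ {1}` if `C(y) = E` for `y ≠ 1`. -/
theorem card_dvd_of_free [Finite G] {E T : Subgroup G}
    (hE : ∀ y ∈ E, y ≠ 1 → centralizer ({y} : Set G) = E) (hT : T ≤ normalizer (E : Set G))
    (hTE : T ⊓ E = ⊥) : Nat.card T ∣ Nat.card E - 1 := by
  classical
  let X := {y : G // y ∈ E ∧ y ≠ 1}
  let act : MulAction T X :=
    { smul := fun g y => ⟨g * y * (g : G)⁻¹, (mem_normalizer_iff.1 (hT g.2) y.1).1 y.2.1, by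
        intro h
        apply y.2.2
        have := congrArg (fun w => (g : G)⁻¹ * w * g) h
        simpa [mul_assoc] using this⟩
      one_smul := fun y => by
        apply Subtype.ext
        show (1 : G) * y * (1 : G)⁻¹ = y
        simp
      mul_smul := fun g h y => by
        apply Subtype.ext
        show (g * h : G) * y * (g * h : G)⁻¹ = g * (h * y * (h : G)⁻¹) * (g : G)⁻¹
        group }
  have hstab : ∀ y : X, MulAction.stabilizer T y = ⊥ := by
    intro y
    rw [eq_bot_iff]
    intro g hg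
    have h1 : (g : G) * y * (g : G)⁻¹ = y := congrArg Subtype.val (MulAction.mem_stabilizer_iff.1 hg)
    have h2 : (g : G) ∈ centralizer ({(y : G)} : Set G) := by
      rw [mem_centralizer_singleton_iff]
      rw [mul_inv_eq_iff_eq_mul] at h1
      exact h1
    rw [hE y y.2.1 y.2.2] at h2
    have h3 : (g : G) ∈ T ⊓ E := ⟨g.2, h2⟩
    rw [hTE, mem_bot] at h3
    rw [mem_bot]
    exact Subtype.ext h3
  have h1 := Nat.card_congr (MulAction.selfEquivOrbitsQuotientProd (G := T) (X := X) hstab)
  rw [Nat.card_prod] at h1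
  have h2 : Nat.card X = Nat.card E - 1 := by
    have h3 : Nat.card X = Nat.card {y : E // y ≠ 1} :=
      Nat.card_congr ⟨fun y => ⟨⟨y.1, y.2.1⟩, fun h => y.2.2 (congrArg Subtype.val h)⟩,
        fun y => ⟨y.1.1, y.1.2, fun h => y.2 (Subtype.ext h)⟩, fun _ => rfl, fun _ => rfl⟩
    rw [h3]
    have := Fintype.ofFinite E
    rw [Nat.card_eq_fintype_card, Nat.card_eq_fintype_card, Fintype.card_subtype_compl]
    simp
  rw [← h2, h1]
  exact Dvd.intro_left _ rfl

/-- `Hyp E N(E)` for a subgroup `E` of odd order which is the centralizer of each of its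
nonidentity elements and has index two in its normalizer. -/
theorem hyp_of_selfcent [Finite G] {E : Subgroup G} (hodd : Odd (Nat.card E))
    (hE : ∀ y ∈ E, y ≠ 1 → centralizer ({y} : Set G) = E)
    (hN : Nat.card (normalizer (E : Set G)) = 2 * Nat.card E) :
    DihedralNormalizerCore.Hyp E (normalizer (E : Set G)) := by
  have hcomm : ∀ a ∈ E, ∀ b ∈ E, a * b = b * a := by
    intro a ha b hb
    by_cases hb1 : b = 1
    · subst hb1; simp
    rw [← hE b hb hb1, mem_centralizer_singleton_iff] at ha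
    exact ha
  refine ⟨le_normalizer, hN, hodd, ?_, ?_⟩
  · intro g hg x hx hgx
    by_contra hx1
    apply hg
    have hgx1 : g * x * g⁻¹ ≠ 1 := by
      intro h
      apply hx1
      have := congrArg (fun w => g⁻¹ * w * g) h
      simpa [mul_assoc] using this
    rw [mem_normalizer_iff]
    intro w
    have h1 : w ∈ E ↔ w * x = x * w := by
      conv_lhs => rw [← hE x hx hx1]
      rw [mem_centralizer_singleton_iff]
    have h2 : g * w * g⁻¹ ∈ E ↔ g * w * g⁻¹ * (g * x * g⁻¹) = g * x * g⁻¹ * (g * w * g⁻¹) := by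
      conv_lhs => rw [← hE _ hgx hgx1]
      rw [mem_centralizer_singleton_iff]
    rw [h1, h2]
    have e1 : g * w * g⁻¹ * (g * x * g⁻¹) = g * (w * x) * g⁻¹ := by group
    have e2 : g * x * g⁻¹ * (g * w * g⁻¹) = g * (x * w) * g⁻¹ := by group
    rw [e1, e2, mul_left_inj, mul_right_inj]
  · intro g hg hgE x hx
    have hgx : g * x * g⁻¹ ∈ E := (mem_normalizer_iff.1 hg x).1 hx
    have hidx : (E.subgroupOf (normalizer (E : Set G))).index = 2 := by
      have h1 : Nat.card (E.subgroupOf (normalizer (E : Set G))) = Nat.card E :=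
        Nat.card_congr (subgroupOfEquivOfLe le_normalizer).toEquiv
      have h2 := card_mul_index (E.subgroupOf (normalizer (E : Set G)))
      rw [h1, hN, mul_comm 2] at h2
      exact Nat.eq_of_mul_eq_mul_left Nat.card_pos h2
    have hgg : g * g ∈ E := by
      have := mul_mem_iff_of_index_two hidx (a := ⟨g, hg⟩) (b := ⟨g, hg⟩)
      simpa [mem_subgroupOf] using this
    set w := x * (g * x * g⁻¹) with hw
    have hwE : w ∈ E := E.mul_mem hx hgx
    have hgw : g * w = w * g := by
      have e1 : g * w = (g * x * g⁻¹) * ((g * g) * x * (g * g)⁻¹) * g := by rw [hw]; group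
      have e2 : (g * g) * x * (g * g)⁻¹ = x := by
        rw [hcomm (g * g) hgg x hx, mul_inv_cancel_right]
      rw [e1, e2, hcomm _ hgx x hx]
    by_cases hw1 : w = 1
    · exact eq_inv_of_mul_eq_one_right hw1
    · exfalso
      apply hgE
      rw [← hE w hwE hw1, mem_centralizer_singleton_iff]
      exact hgw

/-- In a simple group of order `p 2^b e`, `e ≡ 3 (mod 4)`, `e < p`, a subgroup `E` of order `e`
which is the centralizer of each of its nonidentity elements has index two in its normalizer. -/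
theorem card_normalizer_eq [Finite G] [IsSimpleGroup G] {p b e : ℕ} (hp : p.Prime)
    (hG : Nat.card G = p * 2 ^ b * e) (he4 : e % 4 = 3) (hep : e < p) {E : Subgroup G}
    (hEc : Nat.card E = e) (hE : ∀ y ∈ E, y ≠ 1 → centralizer ({y} : Set G) = E) :
    Nat.card (normalizer (E : Set G)) = 2 * Nat.card E := by
  have he1 : 1 < e := by omega
  have hcomm : ∀ a ∈ E, ∀ b ∈ E, a * b = b * a := by
    intro a ha b hb
    by_cases hb1 : b = 1
    · subst hb1; simp
    rw [← hE b hb hb1, mem_centralizer_singleton_iff] at ha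
    exact ha
  -- a prime divisor of `e`
  obtain ⟨r, hr, hre⟩ := Nat.exists_prime_and_dvd he1.ne'
  have hrF : Fact r.Prime := ⟨hr⟩
  have hr2 : r ≠ 2 := by
    rintro rfl
    omega
  have hrp : r ≠ p := by
    rintro rfl
    exact absurd (Nat.le_of_dvd (by omega) hre) (by omega)
  have hfac : (Nat.card G).factorization r = e.factorization r := by
    rw [hG, Nat.factorization_mul (mul_ne_zero hp.ne_zero (by positivity)) (by omega),
      Nat.factorization_mul hp.ne_zero (by positivity), Finsupp.add_apply, Finsupp.add_apply,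
      Nat.factorization_eq_zero_of_not_dvd (n := p)
        (fun h => hrp ((Nat.prime_dvd_prime_iff_eq hr hp).1 h)),
      Nat.factorization_eq_zero_of_not_dvd (n := 2 ^ b)
        (fun h => hr2 ((Nat.prime_dvd_prime_iff_eq hr Nat.prime_two).1 (hr.dvd_of_dvd_pow h)))]
    simp
  obtain ⟨R⟩ : Nonempty (Sylow r E) := inferInstance
  have hRc : Nat.card ((R : Subgroup E).map E.subtype) = r ^ (Nat.card G).factorization r := by
    rw [card_map_of_injective E.subtype_injective, hfac, ← hEc]
    exact R.card_eq_multiplicity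
  let Q : Sylow r G := Sylow.ofCard ((R : Subgroup E).map E.subtype) hRc
  have hQ : (Q : Subgroup G) = (R : Subgroup E).map E.subtype := rfl
  have hQE : (Q : Subgroup G) ≤ E := by
    rw [hQ]
    exact map_subtype_le _
  have hrG : r ∣ Nat.card G := by
    rw [hG]
    exact hre.trans (Dvd.intro_left _ rfl)
  have hQ1 : (Q : Subgroup G) ≠ ⊥ := Q.ne_bot_of_dvd_card hrG
  obtain ⟨y, hy1⟩ := (Subgroup.ne_bot_iff_exists_ne_one).1 hQ1
  have hy1' : (y : G) ≠ 1 := fun h => hy1 (Subtype.ext h)
  have hCQ : centralizer ((Q : Subgroup G) : Set G) = E := by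
    apply le_antisymm
    · intro g hg
      rw [← hE y (hQE y.2) hy1', mem_centralizer_singleton_iff]
      exact ((mem_centralizer_iff.1 hg) y y.2).symm
    · intro g hg
      rw [mem_centralizer_iff]
      intro u hu
      exact hcomm u (hQE hu) g hg
  have hGr : Nat.card G ≠ r := by
    intro h
    rw [h] at hG
    have h1 : p ∣ r := by rw [hG]; exact Dvd.intro _ (mul_assoc _ _ _).symm
    exact hrp ((Nat.prime_dvd_prime_iff_eq hp hr).1 h1).symm
  have hnot := BurnsideNC.not_normalizer_le_centralizer hrG hGr Q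
  obtain ⟨n, hnN, hnC⟩ := SetLike.not_le_iff_exists.1 hnot
  replace hnC : n ∉ E := by rw [← hCQ]; exact hnC
  replace hnN : n ∈ normalizer ((Q : Subgroup G) : Set G) := hnN
  have hnE : n ∈ normalizer (E : Set G) := by
    rw [← hCQ]
    rw [mem_normalizer_iff] at hnN ⊢
    intro g
    rw [mem_centralizer_iff, mem_centralizer_iff]
    constructor
    · intro h u hu
      have hu' : n⁻¹ * u * n ∈ (Q : Subgroup G) := by
        rw [hnN]
        have : n * (n⁻¹ * u * n) * n⁻¹ = u := by group
        rw [this]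
        exact hu
      have h1 := h _ hu'
      have e1 : u * (n * g * n⁻¹) = n * ((n⁻¹ * u * n) * g) * n⁻¹ := by group
      have e2 : n * g * n⁻¹ * u = n * (g * (n⁻¹ * u * n)) * n⁻¹ := by group
      rw [e1, e2, h1]
    · intro h u hu
      have h1 := h _ ((hnN u).1 hu)
      have e1 : n * u * n⁻¹ * (n * g * n⁻¹) = n * (u * g) * n⁻¹ := by group
      have e2 : n * g * n⁻¹ * (n * u * n⁻¹) = n * (g * u) * n⁻¹ := by group
      rw [e1, e2, mul_left_inj, mul_right_inj] at h1
      exact h1
  -- the index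
  set N := normalizer (E : Set G) with hNdef
  obtain ⟨k, hk⟩ : Nat.card E ∣ Nat.card N := card_dvd_of_le le_normalizer
  have hkne1 : k ≠ 1 := by
    rintro rfl
    rw [mul_one] at hk
    have h1 : E = N := Subgroup.eq_of_le_of_card_ge le_normalizer hk.le
    rw [← h1] at hnE
    exact hnC hnE
  have hkdvd : k ∣ p * 2 ^ b := by
    have h1 : Nat.card N ∣ Nat.card G := card_subgroup_dvd_card N
    rw [hk, hEc, hG, mul_comm e k] at h1
    exact Nat.dvd_of_mul_dvd_mul_right (by omega) h1
  have hfree : ∀ T : Subgroup G, T ≤ N → Nat.Coprime (Nat.card T) (Nat.card E) →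
      Nat.card T ∣ e - 1 := by
    intro T hT hcop
    rw [← hEc]
    exact card_dvd_of_free hE hT (disjoint_of_coprime_natCard hcop).eq_bot
  have hpk : ¬ p ∣ k := by
    intro hpk
    have hpF : Fact p.Prime := ⟨hp⟩
    have h1 : p ∣ Nat.card N := by rw [hk]; exact hpk.trans (Dvd.intro_left _ rfl)
    obtain ⟨c, hc⟩ := exists_prime_orderOf_dvd_card' p h1
    have h2 := hfree (zpowers (c : G)) (by rw [zpowers_le]; exact c.2) (by
      rw [Nat.card_zpowers, orderOf_coe, hc, hEc]
      exact (Nat.Prime.coprime_iff_not_dvd hp).2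
        (fun h => absurd (Nat.le_of_dvd (by omega) h) (by omega)))
    rw [Nat.card_zpowers, orderOf_coe, hc] at h2
    exact absurd (Nat.le_of_dvd (by omega) h2) (by omega)
  have hk2 : k ∣ 2 ^ b := (((Nat.Prime.coprime_iff_not_dvd hp).2 hpk).symm).dvd_of_dvd_mul_left hkdvd
  obtain ⟨j, -, hj⟩ := (Nat.dvd_prime_pow Nat.prime_two).1 hk2
  have hj2 : j < 2 := by
    by_contra hj2
    push Not at hj2
    have h2F : Fact (Nat.Prime 2) := ⟨Nat.prime_two⟩
    have h1 : 2 ^ 2 ∣ Nat.card N := by
      rw [hk, hj]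
      exact (pow_dvd_pow 2 hj2).trans (Dvd.intro_left _ rfl)
    obtain ⟨T, hT⟩ := Sylow.exists_subgroup_card_pow_prime 2 h1
    have h3 : Nat.card (T.map N.subtype) = 4 := by
      rw [card_map_of_injective N.subtype_injective, hT]
      norm_num
    have h4 := hfree (T.map N.subtype) (map_subtype_le _) (by
      rw [h3, hEc]
      have : Nat.Coprime (2 ^ 2) e := Nat.Coprime.pow_left 2 (by
        rw [Nat.coprime_two_left, Nat.odd_iff]; omega)
      exact this)
    rw [h3] at h4
    omega
  have hk' : k = 2 := by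
    interval_cases j
    · exact absurd hj hkne1
    · exact hj
  rw [hk, hk', mul_comm]

end Cfsg.Agent.SmallSimple.BTNorm
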