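import Mathlib
import Cfsg.Agent.SmallSimple.BTCaseB1
import Cfsg.Agent.SmallSimple.BTNorm

/-!
# Case B: conclusion
-/

set_option autoImplicit false

open scoped ComplexConjugate
open Cfsg

namespace Cfsg.Agent.SmallSimple.BTCaseB2

open Cfsg.Agent.Characters.Core Cfsg.Agent.SmallSimple.BTBasic Cfsg.Agent.SmallSimple.BTData
open Cfsg.Agent.SmallSimple.BTCommon

universe u

section

variable {G : Type u} [Group G] [Finite G] [IsSimpleGroup G] {p q b g₀ e t : ℕ}
  {P : Sylow p G} {NE X : Finset (IrrCharacter G)}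
  {ε : IrrCharacter G → ℤ} {S : IrrCharacter G → Finset ((P : Subgroup G) →* ℂˣ)}

/-- Arithmetic: `q = 2`, `g₀ = e`, `p + 1` is a power of two. -/
theorem arith (_hp : p.Prime) (hq : q.Prime) (hG : Nat.card G = p * q ^ b * g₀) (hg : g₀ < p - 1)
    (hp2e : p = 2 * e + 1) (he : 1 < e) (heodd : Odd e) (heg : e ∣ g₀)
    (hdvd : p + 1 ∣ Nat.card G) :
    q = 2 ∧ g₀ = e ∧ ∃ m, 3 ≤ m ∧ p + 1 = 2 ^ m := by
  have hg0 : 0 < g₀ := by
    rcases Nat.eq_zero_or_pos g₀ with h0 | h0
    · have : 0 < Nat.card G := Nat.card_pos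
      rw [hG, h0, mul_zero] at this
      omega
    · exact h0
  have hge : g₀ = e := by
    obtain ⟨k, hk⟩ := heg
    have hk0 : k ≠ 0 := by rintro rfl; omega
    have hk2 : k < 2 := by
      by_contra h
      push Not at h
      have : e * 2 ≤ e * k := Nat.mul_le_mul_left e h
      omega
    have : k = 1 := by omega
    rw [hk, this, mul_one]
  rw [hG, hge] at hdvd
  have h1 : Nat.Coprime (p + 1) p := by
    rw [Nat.coprime_comm, Nat.coprime_self_add_right]
    exact Nat.coprime_one_right p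
  have h2 : Nat.Coprime (p + 1) e := by
    have h3 : p + 1 = 2 * (e + 1) := by omega
    rw [h3]
    apply Nat.Coprime.mul_left
    · rw [Nat.coprime_two_left]
      exact heodd
    · rw [Nat.coprime_comm, Nat.coprime_self_add_right]
      exact Nat.coprime_one_right e
  have h3 : p + 1 ∣ q ^ b := by
    have h4 := h2.dvd_of_dvd_mul_right hdvd
    exact h1.dvd_of_dvd_mul_left h4
  obtain ⟨m, -, hm⟩ := (Nat.dvd_prime_pow hq).1 h3
  have h2p : 2 ∣ p + 1 := ⟨e + 1, by omega⟩
  have hq2 : q = 2 := by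
    rw [hm] at h2p
    exact ((Nat.prime_dvd_prime_iff_eq Nat.prime_two hq).1 (Nat.prime_two.dvd_of_dvd_pow h2p)).symm
  subst hq2
  refine ⟨rfl, hge, m, ?_, hm⟩
  by_contra hm3
  push Not at hm3
  obtain ⟨j, hj⟩ := heodd
  have h5 : 2 ^ m ≤ 2 ^ 2 := Nat.pow_le_pow_right (by norm_num) (by omega)
  omega

theorem main [hpF : Fact p.Prime] (h : BData p e t (P : Subgroup G) NE X ε 1 S)
    (hq : q.Prime)
    (hP : Nat.card P = p) (hC : Subgroup.centralizer (P : Set G) = (P : Subgroup G))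
    (hN : Nat.card (Subgroup.normalizer (P : Set G)) = p * e)
    (hna : ¬ ∀ a b : G, a * b = b * a) (het : e * t = p - 1) (he : 1 < e)
    (hG : Nat.card G = p * q ^ b * g₀) (hg : g₀ < p - 1) (heg : e ∣ g₀)
    {Θ Θ' : IrrCharacter G} (hΘ : Θ ∈ X) (hΘ' : Θ' ∈ X) (hne : Θ ≠ Θ')
    (hdeg : ∀ Θ ∈ X, dg Θ = e) :
    (∃ m, p + 1 = 2 ^ m) ∧ Nat.card G * 2 = (p + 1) * p * (p - 1) ∧
      Nat.card (Sylow p G) = p + 1 := by
  classical
  have hp := hpF.out
  obtain ⟨ht, hTm, hTp, hlm, hlp, hpr⟩ := BTCaseB1.main h hP hC hna het he hΘ hΘ' hne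
    (hdeg Θ hΘ) (hdeg Θ' hΘ')
  have hp2e : p = 2 * e + 1 := by
    rw [ht] at het
    have := hp.two_le
    omega
  have heodd : Odd e := ⟨(Tm NE ε).card, by omega⟩
  -- a nonprincipal positive nonexceptional character
  obtain ⟨χ₁, hχ₁, hχ₁1, hχ₁ε⟩ := h.one
  have hTp2 : 1 < (Tp NE ε).card := by omega
  obtain ⟨χ₂, hχ₂, hχ₂1⟩ := Finset.exists_mem_ne hTp2 χ₁
  have hχ₂1' : (χ₂ : G → ℂ) ≠ 1 := fun h' => hχ₂1 (Subtype.ext (h'.trans hχ₁1.symm))
  have hdvd : p + 1 ∣ Nat.card G := by
    rw [← hlp χ₂ hχ₂ hχ₂1']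
    exact dg_dvd χ₂
  obtain ⟨rfl, rfl, m, hm3, hm⟩ := arith hp hq hG hg hp2e he heodd heg hdvd
  -- a central involution
  have h2G : 2 ∣ Nat.card G := by
    have : 2 ∣ p + 1 := ⟨g₀ + 1, by omega⟩
    exact this.trans hdvd
  obtain ⟨z, hz, hzdvd⟩ := DihedralNormalizerSimple.exists_involution_two_pow_dvd h2G
  have hfac : (Nat.card G).factorization 2 = b := by
    rw [hG, Nat.factorization_mul (mul_ne_zero hp.ne_zero (by positivity)) (by omega),
      Nat.factorization_mul hp.ne_zero (by positivity), Finsupp.add_apply, Finsupp.add_apply,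
      Nat.factorization_eq_zero_of_not_dvd (n := p) (by omega),
      Nat.factorization_eq_zero_of_not_dvd (n := g₀)
        (by rw [← even_iff_two_dvd, Nat.not_even_iff_odd]; exact heodd)]
    simp [Nat.Prime.factorization_pow Nat.prime_two]
  rw [hfac] at hzdvd
  have hz1 : z ≠ 1 := by
    rintro rfl
    rw [orderOf_one] at hz
    omega
  have hzreg : ¬ p ∣ orderOf z := by
    rw [hz]
    intro hd
    have := Nat.le_of_dvd (by norm_num) hd
    omega
  set iz := (Subgroup.centralizer ({z} : Set G)).index with hiz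
  obtain ⟨f, hf⟩ := hzdvd
  have hizf : iz * f = p * g₀ := by
    have h1 := (Subgroup.centralizer ({z} : Set G)).card_mul_index
    rw [hf, hG, ← hiz] at h1
    have h2 : 2 ^ b * (iz * f) = 2 ^ b * (p * g₀) := by
      calc 2 ^ b * (iz * f) = 2 ^ b * f * iz := by ring
        _ = p * 2 ^ b * g₀ := h1
        _ = 2 ^ b * (p * g₀) := by ring
    exact Nat.eq_of_mul_eq_mul_left (by positivity) h2
  have hizodd : Odd iz := by
    have h1 : Odd (iz * f) := by
      rw [hizf]
      exact (Nat.odd_iff.2 (by omega)).mul heodd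
    exact (Nat.odd_mul.1 h1).1
  -- positive nonexceptional characters vanish at `z`
  have hchiz : ∀ χ ∈ Tp NE ε, (χ : G → ℂ) ≠ 1 → (χ : G → ℂ) z = 0 := by
    intro χ hχ hχ1
    obtain ⟨v, hv, hvlt, -⟩ := exists_value_involution hna χ hχ1 z hz
    have h1 := dg_dvd_index_mul χ z v hv
    rw [hlp χ hχ hχ1, hm] at h1 hvlt
    have h2 : IsCoprime ((2 ^ m : ℕ) : ℤ) (iz : ℤ) := by
      rw [Nat.isCoprime_iff_coprime]
      exact Nat.Coprime.pow_left m (Nat.coprime_two_left.2 hizodd)
    have h3 : ((2 ^ m : ℕ) : ℤ) ∣ v := h2.dvd_of_dvd_mul_left h1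
    have h4 : v = 0 := by
      by_contra hv0
      have h5 := Int.le_of_dvd (abs_pos.2 hv0) ((dvd_abs _ _).2 h3)
      omega
    rw [hv, h4, Int.cast_zero]
  have hΘ1 : (Θ : G → ℂ) ≠ 1 := by
    intro h'
    have h1 : (dg Θ : ℂ) = 1 := by rw [← apply_one, h']; rfl
    have h2 : dg Θ = 1 := by exact_mod_cast h1
    rw [hdeg Θ hΘ] at h2
    omega
  obtain ⟨w, hw, -, -⟩ := exists_value_involution hna Θ hΘ1 z hz
  have hww : w * w = 1 := by
    have h1 := congrFun hpr z
    rw [pr_apply, hw, Finset.sum_apply] at h1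
    have h2 : ∑ χ ∈ Tp NE ε, (χ : G → ℂ) z = 1 := by
      rw [Finset.sum_eq_single χ₁]
      · rw [hχ₁1]; rfl
      · intro χ hχ hne
        exact hchiz χ hχ (fun h' => hne (Subtype.ext (h'.trans hχ₁1.symm)))
      · intro h'
        exact absurd (mem_Tp.2 ⟨hχ₁, hχ₁ε⟩) h'
    rw [h2] at h1
    have h3 : (((w * w : ℤ)) : ℂ) = ((1 : ℤ) : ℂ) := by
      push_cast
      rw [← h1]
      simp
    exact_mod_cast h3
  have hf1 : f = 1 := by
    have h1 := dg_dvd_index_mul Θ z w hw
    rw [hdeg Θ hΘ] at h1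
    have h2 : (g₀ : ℤ) ∣ iz := by
      have h3 := Dvd.dvd.mul_right h1 w
      rw [mul_assoc, hww, mul_one] at h3
      exact h3
    have h3 : g₀ ∣ iz := by exact_mod_cast h2
    obtain ⟨k, hk⟩ := h3
    have h4 : k * f = p := by
      rw [hk] at hizf
      have : g₀ * (k * f) = g₀ * p := by rw [← mul_assoc, hizf, mul_comm]
      exact Nat.eq_of_mul_eq_mul_left (by omega) this
    have h5 : f ∣ p := Dvd.intro_left _ h4
    rcases (Nat.dvd_prime hp).1 h5 with h6 | h6
    · exact h6
    · exfalso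
      apply BTGroup.not_dvd_card_centralizer P hP hC hz1 hzreg
      rw [hf, h6]
      exact Dvd.intro_left _ rfl
  rw [hf1, mul_one] at hf hizf
  -- the complement
  have hcop : Nat.Coprime p g₀ := (Nat.Prime.coprime_iff_not_dvd hp).2
    (fun h => absurd (Nat.le_of_dvd (by omega) h) (by omega))
  obtain ⟨E, hEN, hEc, hEP, hEcomm⟩ := BTNorm.exists_complement hp (P := (P : Subgroup G)) hP hC hN
    hcop
  have hE : ∀ y ∈ E, y ≠ 1 → Subgroup.centralizer ({y} : Set G) = E := by
    intro y hy hy1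
    have hyC : y ∉ Subgroup.centralizer ((P : Subgroup G) : Set G) := by
      intro h'
      have h1 : y ∈ (P : Subgroup G) := by
        have h2 : Subgroup.centralizer ((P : Subgroup G) : Set G) = (P : Subgroup G) := hC
        rw [h2] at h'
        exact h'
      have h2 : y ∈ E ⊓ (P : Subgroup G) := ⟨hy, h1⟩
      rw [hEP] at h2
      exact hy1 (Subgroup.mem_bot.1 h2)
    have hyreg : ¬ p ∣ orderOf y := by
      intro h'
      have h1 : orderOf y ∣ g₀ := by
        rw [← hEc]
        have := orderOf_dvd_natCard (⟨y, hy⟩ : E)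
        rwa [Subgroup.orderOf_mk] at this
      have h2 := Nat.le_of_dvd (by omega) (h'.trans h1)
      omega
    have hyN : ∀ x ∈ (P : Subgroup G), y * x * y⁻¹ ∈ (P : Subgroup G) := fun x hx =>
      (Subgroup.mem_normalizer_iff.1 (hEN hy) x).1 hx
    have hyconj : ∀ x ∈ (P : Subgroup G), IsConj y (y * x) := fun x hx =>
      BTGroup.isConj_mul hp (P := (P : Subgroup G)) hP (hEN hy) hyC hx
    have hvan : ∀ χ : IrrCharacter G, lg (P : Subgroup G) χ = 0 → (χ : G → ℂ) y = 0 := by
      intro χ hχ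
      have h1 := norm_character_le_fixd (P : Subgroup G) (isIrr_isCharacter χ.2) y hyN hyconj
      rw [fixd_eq, hχ, Nat.cast_zero, norm_zero] at h1
      exact norm_le_zero_iff.1 h1
    -- a nontrivial element of `P`
    have hPnt : (P : Subgroup G) ≠ ⊥ := by
      intro h'
      have h1 : Nat.card (P : Subgroup G) = p := hP
      rw [h', Subgroup.card_bot] at h1
      exact hp.one_lt.ne h1
    obtain ⟨x, hx1⟩ := (Subgroup.ne_bot_iff_exists_ne_one).1 hPnt
    have hx1' : (x : G) ≠ 1 := fun h' => hx1 (Subtype.ext h')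
    have := finite_irr (G := G)
    have := Fintype.ofFinite (IrrCharacter G)
    have hcm := Cfsg.Agent.Characters.ClassMul.card_class_mul z y (x : G)
    have hsum : ∑ χ : IrrCharacter G,
        (χ : G → ℂ) z * (χ : G → ℂ) y * conj ((χ : G → ℂ) x) / (χ : G → ℂ) 1 = 1 := by
      rw [Finset.sum_eq_single χ₁]
      · rw [hχ₁1]; simp
      · intro χ _ hχne
        have hχ1 : (χ : G → ℂ) ≠ 1 := fun h' => hχne (Subtype.ext (h'.trans hχ₁1.symm))
        by_cases hχNE : χ ∈ NE
        · rcases h.eps χ hχNE with h1 | h1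
          · rw [hchiz χ (mem_Tp.2 ⟨hχNE, h1⟩) hχ1]
            simp
          · rw [hvan χ (hlm χ ((mem_Tm h).2 ⟨hχNE, h1⟩))]
            simp
        · by_cases hχX : χ ∈ X
          · have h1 : lg (P : Subgroup G) χ = 0 := by
              have h2 := card_mul_lg_X h hP hχX
              rw [hdeg χ hχX] at h2
              have h3 : (p : ℤ) * lg (P : Subgroup G) χ = 0 := by rw [h2]; ring
              have h4 := (mul_eq_zero.1 h3).resolve_left (by exact_mod_cast hp.ne_zero)
              exact_mod_cast h4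
            rw [hvan χ h1]
            simp
          · rw [h.other χ hχNE hχX x x.2 hx1']
            simp
      · intro h'
        exact absurd (Finset.mem_univ _) h'
    rw [hsum, mul_one] at hcm
    set n := Nat.card {p : G × G // IsConj z p.1 ∧ IsConj y p.2 ∧ p.1 * p.2 = x} with hn
    set iy := (Subgroup.centralizer ({y} : Set G)).index with hiy
    have hGc : (Nat.card G : ℂ) ≠ 0 := card_ne_zero_complex
    have h1 : n * Nat.card G = iz * iy := by
      have : ((n * Nat.card G : ℕ) : ℂ) = ((iz * iy : ℕ) : ℂ) := by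
        push_cast
        rw [hcm, ← hiz, div_mul_cancel₀ _ hGc]
      exact_mod_cast this
    have h2 := (Subgroup.centralizer ({y} : Set G)).card_mul_index
    rw [← hiy] at h2
    have hiy0 : 0 < iy := Nat.pos_of_ne_zero Subgroup.index_ne_zero_of_finite
    have h3 : Nat.card (Subgroup.centralizer ({y} : Set G)) ∣ p * g₀ := by
      refine ⟨n, ?_⟩
      have h4 : iy * (Nat.card (Subgroup.centralizer ({y} : Set G)) * n) = iy * iz := by
        calc iy * (Nat.card (Subgroup.centralizer ({y} : Set G)) * n)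
            = n * (Nat.card (Subgroup.centralizer ({y} : Set G)) * iy) := by ring
          _ = n * Nat.card G := by rw [h2]
          _ = iz * iy := h1
          _ = iy * iz := by ring
      have h5 := Nat.eq_of_mul_eq_mul_left hiy0 h4
      rw [h5, hizf]
    have h4 : Nat.card (Subgroup.centralizer ({y} : Set G)) ∣ g₀ := by
      have h5 := BTGroup.not_dvd_card_centralizer P hP hC hy1 hyreg
      exact (((Nat.Prime.coprime_iff_not_dvd hp).2 h5).symm).dvd_of_dvd_mul_left h3
    have h5 : E ≤ Subgroup.centralizer ({y} : Set G) := by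
      intro a ha
      rw [Subgroup.mem_centralizer_singleton_iff]
      exact hEcomm a ha y hy
    refine (Subgroup.eq_of_le_of_card_ge h5 ?_).symm
    rw [hEc]
    exact Nat.le_of_dvd (by omega) h4
  have he4 : g₀ % 4 = 3 := by
    have h1 : 2 ^ 3 ∣ 2 ^ m := pow_dvd_pow 2 hm3
    rw [← hm] at h1
    omega
  have hNE := BTNorm.card_normalizer_eq hp hG he4 (by omega) hEc hE
  have hyp := BTNorm.hyp_of_selfcent (E := E) (by rw [hEc]; exact heodd) hE hNE
  have hlt := DihedralNormalizerSimple.card_centralizer_sq_lt' hyp (by rw [hEc]; exact he) z hz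
  rw [hEc, hf, hG] at hlt
  have hlt2 : 2 ^ b < 4 * p := by
    have h1 : (g₀ * 2 ^ b) * 2 ^ b < (g₀ * 2 ^ b) * (4 * p) := by
      calc (g₀ * 2 ^ b) * 2 ^ b = g₀ * (2 ^ b) ^ 2 := by ring
        _ < 4 * (p * 2 ^ b * g₀) := hlt
        _ = (g₀ * 2 ^ b) * (4 * p) := by ring
    exact lt_of_mul_lt_mul_left h1 (by positivity)
  -- number of Sylow `p`-subgroups
  have hsyl : Nat.card (Sylow p G) = 2 ^ b := by
    have h1 := BurnsideNC.card_sylow_mul_card_normalizer P
    rw [hN, hG] at h1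
    have h2 : Nat.card (Sylow p G) * (p * g₀) = 2 ^ b * (p * g₀) := by rw [h1]; ring
    exact Nat.eq_of_mul_eq_mul_right (Nat.mul_pos hp.pos (by omega)) h2
  have hmod : 2 ^ b ≡ 1 [MOD p] := by
    rw [← hsyl]
    exact card_sylow_modEq_one p G
  have hmb : m ≤ b := by
    have h1 : 2 ^ m ∣ Nat.card G := by rw [← hm]; exact hdvd
    have h2 := (Nat.prime_two.pow_dvd_iff_le_factorization Nat.card_pos.ne').1 h1
    rwa [hfac] at h2
  have hbm : b < m + 2 := by
    have h1 : 2 ^ b < 2 ^ (m + 2) := by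
      rw [pow_add, ← hm]
      omega
    exact (Nat.pow_lt_pow_iff_right (by norm_num)).1 h1
  have hbm1 : b ≠ m + 1 := by
    intro h1
    rw [h1, pow_add, ← hm, pow_one] at hmod
    have h2 : (p + 1) * 2 = 2 + p * 2 := by ring
    rw [h2] at hmod
    have h3 : 2 + p * 2 ≡ 2 [MOD p] := by
      unfold Nat.ModEq
      rw [Nat.add_mul_mod_self_left]
    have h4 := h3.symm.trans hmod
    unfold Nat.ModEq at h4
    rw [Nat.mod_eq_of_lt (by omega), Nat.mod_eq_of_lt (by omega)] at h4
    omega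
  have hbe : b = m := by omega
  refine ⟨⟨m, hm⟩, ?_, ?_⟩
  · rw [hG, hbe, ← hm]
    have h1 : p - 1 = 2 * g₀ := by omega
    rw [h1]
    ring
  · rw [hsyl, hbe, hm]

end

end Cfsg.Agent.SmallSimple.BTCaseB2
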