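import Mathlib
import Cfsg.Agent.SmallSimple.BTCommon
import Cfsg.Agent.SmallSimple.TheoremBCor
import Cfsg.Agent.SmallSimple.DetKernel
import Cfsg.Agent.Blocks.ExistsModular

/-!
# First step of the Brauer–Tuan theorem
-/

set_option autoImplicit false

open scoped ComplexConjugate
open Cfsg

namespace Cfsg.Agent.SmallSimple.BTStep1

open Cfsg.Agent.Characters.Core Cfsg.Agent.SmallSimple.BTBasic Cfsg.Agent.SmallSimple.BTData
open Cfsg.Agent.SmallSimple.BTCommon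

universe u

variable {G : Type u} [Group G] [Finite G] [IsSimpleGroup G]

/-- The degrees of the exceptional characters. -/
theorem exc_degree (hna : ¬ ∀ a b : G, a * b = b * a) {p q b g₀ e t : ℕ} (hp : p.Prime)
    (hq : q.Prime) (hG : Nat.card G = p * q ^ b * g₀) (hg0 : 0 < g₀) (hg : g₀ < p - 1)
    {P : Subgroup G} (hP : Nat.card P = p) {NE X : Finset (IrrCharacter G)}
    {ε : IrrCharacter G → ℤ} {d : ℤ} {S : IrrCharacter G → Finset (P →* ℂˣ)}
    (het : e * t = p - 1) (hdisj : Disjoint NE X) (hcardX : X.card = t)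
    (heps : ∀ χ ∈ NE, ε χ = 1 ∨ ε χ = -1) (hd : d = 1 ∨ d = -1)
    (hone : ∃ χ₁ ∈ NE, (χ₁ : G → ℂ) = 1 ∧ ε χ₁ = 1)
    (hne : ∀ χ ∈ NE, ∀ x ∈ P, x ≠ 1 → (χ : G → ℂ) x = ε χ)
    (hX : ∀ Θ ∈ X, (S Θ).card = e ∧ 1 ∉ S Θ ∧ ∀ x : P, x ≠ 1 →
      (Θ : G → ℂ) x = d * ∑ l ∈ S Θ, ((l x : ℂˣ) : ℂ))
    (hrel : ∀ Θ ∈ X, ∑ χ ∈ NE, (ε χ : ℂ) * (χ : G → ℂ) 1 = d * (Θ : G → ℂ) 1) :
    2 ≤ t ∧ (∀ Θ ∈ X, dg Θ ∣ g₀) ∧
      ((d = 1 ∧ ∀ Θ ∈ X, dg Θ = e) ∨ (d = -1 ∧ ∀ Θ ∈ X, dg Θ + e = p)) := by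
  classical
  have hp2 := hp.two_le
  have hp0 : (0 : ℤ) < p := by exact_mod_cast hp.pos
  obtain ⟨χ₁, hχ₁, hχ₁1, hχ₁ε⟩ := hone
  have he0 : 0 < e := by
    rcases Nat.eq_zero_or_pos e with h0 | h0
    · rw [h0, zero_mul] at het; omega
    · exact h0
  have ht0 : 0 < t := by
    rcases Nat.eq_zero_or_pos t with h0 | h0
    · rw [h0, mul_zero] at het; omega
    · exact h0
  have hep : e ≤ p - 1 := by
    rw [← het]
    exact Nat.le_mul_of_pos_right _ ht0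
  -- degrees
  have hdNE : ∀ χ ∈ NE, ∃ m : ℕ, (dg χ : ℤ) = ε χ + p * (m - ε χ) := by
    intro χ hχ
    obtain ⟨m, hm⟩ := TheoremBCor.degree_nonexc hP (isIrr_isCharacter χ.2) (ε := ε χ) (hne χ hχ)
    rw [apply_one] at hm
    exact ⟨m, by exact_mod_cast hm⟩
  have hdX : ∀ Θ ∈ X, ∃ m : ℕ, (dg Θ : ℤ) = d * e + p * m := by
    intro Θ hΘ
    obtain ⟨m, hm⟩ := TheoremBCor.degree_exc hP (isIrr_isCharacter Θ.2) (d := d) (S := S Θ)
      (hX Θ hΘ).2.1 (hX Θ hΘ).2.2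
    rw [apply_one, (hX Θ hΘ).1] at hm
    exact ⟨m, by exact_mod_cast hm⟩
  have hrel' : ∀ Θ ∈ X, ∑ χ ∈ NE, ε χ * (dg χ : ℤ) = d * dg Θ := by
    intro Θ hΘ
    have h1 := hrel Θ hΘ
    have h2 : ((∑ χ ∈ NE, ε χ * (dg χ : ℤ) : ℤ) : ℂ) = ((d * dg Θ : ℤ) : ℂ) := by
      push_cast
      rw [← apply_one, ← h1]
      exact Finset.sum_congr rfl fun χ _ => by rw [apply_one]
    exact_mod_cast h2
  have hdg1 : dg χ₁ = 1 := by
    have h2 : (dg χ₁ : ℂ) = 1 := by rw [← apply_one, hχ₁1]; rfl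
    exact_mod_cast h2
  have hne1 : ∀ χ : IrrCharacter G, χ ≠ χ₁ → dg χ ≠ 1 := fun χ h1 =>
    ne_one_of_ne hna χ (fun h2 => h1 (Subtype.ext (h2.trans hχ₁1.symm)))
  -- degrees prime to `p` and `q`
  have hsmall : ∀ χ : IrrCharacter G, ¬ p ∣ dg χ → ¬ q ∣ dg χ → dg χ ∣ g₀ := by
    intro χ h1 h2
    have h3 := dg_dvd χ
    rw [hG] at h3
    have h4 : Nat.Coprime (dg χ) (p * q ^ b) := by
      apply Nat.Coprime.mul_right
      · exact ((Nat.Prime.coprime_iff_not_dvd hp).2 h1).symm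
      · exact (((Nat.Prime.coprime_iff_not_dvd hq).2 h2).symm).pow_right b
    exact h4.dvd_of_dvd_mul_left h3
  have hnd : ∀ k : ℤ, 0 < |k| → |k| < p → ∀ m : ℤ, ∀ χ : IrrCharacter G,
      (dg χ : ℤ) = k + p * m → ¬ p ∣ dg χ := by
    intro k hk1 hk2 m χ hm hdvd
    have h3 : (p : ℤ) ∣ dg χ := by exact_mod_cast hdvd
    rw [hm] at h3
    have h4 : (p : ℤ) ∣ k := (dvd_add_left (Dvd.intro _ rfl)).1 h3
    have h5 : k = 0 := Int.eq_zero_of_abs_lt_dvd h4 hk2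
    rw [h5] at hk1
    simp at hk1
  have hndNE : ∀ χ ∈ NE, ¬ p ∣ dg χ := by
    intro χ hχ
    obtain ⟨m, hm⟩ := hdNE χ hχ
    refine hnd (ε χ) ?_ ?_ _ χ hm
    · rcases heps χ hχ with h6 | h6 <;> rw [h6] <;> norm_num
    · rcases heps χ hχ with h6 | h6 <;> rw [h6] <;> norm_num <;> omega
  have hndX : ∀ χ ∈ X, ¬ p ∣ dg χ := by
    intro χ hχ
    obtain ⟨m, hm⟩ := hdX χ hχ
    refine hnd (d * e) ?_ ?_ _ χ hm
    · rcases hd with h6 | h6 <;> rw [h6] <;> simp <;> omega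
    · rcases hd with h6 | h6 <;> rw [h6] <;> simp <;> omega
  -- nonexceptional characters have large degree
  have hlarge : ∀ χ ∈ NE, χ ≠ χ₁ → q ∣ dg χ := by
    intro χ hχ hχ1
    by_contra hqd
    have h1 := Nat.le_of_dvd hg0 (hsmall χ (hndNE χ hχ) hqd)
    obtain ⟨m, hm⟩ := hdNE χ hχ
    have h2 := hne1 χ hχ1
    have h3 := dg_pos χ
    rcases heps χ hχ with h6 | h6
    · rw [h6] at hm
      rcases Nat.lt_or_ge m 1 with h7 | h7
      · have : m = 0 := by omega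
        rw [this] at hm
        push_cast at hm
        omega
      · rcases Nat.lt_or_ge m 2 with h8 | h8
        · have : m = 1 := by omega
          rw [this] at hm
          push_cast at hm
          omega
        · have h9 : (p : ℤ) * 1 ≤ p * (m - 1) := mul_le_mul_of_nonneg_left (by omega) hp0.le
          omega
    · rw [h6] at hm
      have h9 : (p : ℤ) * 1 ≤ p * (m - -1) := mul_le_mul_of_nonneg_left (by omega) hp0.le
      omega
  -- some exceptional character has small degree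
  have hXne : X.Nonempty := Finset.card_pos.1 (by rw [hcardX]; exact ht0)
  obtain ⟨Θ₀, hΘ₀⟩ := hXne
  have hqΘ : ¬ q ∣ dg Θ₀ := by
    intro hq1
    have h1 := hrel' Θ₀ hΘ₀
    rw [← Finset.add_sum_erase _ _ hχ₁, hχ₁ε, hdg1] at h1
    have h2 : (q : ℤ) ∣ ∑ χ ∈ NE.erase χ₁, ε χ * (dg χ : ℤ) := by
      apply Finset.dvd_sum
      intro χ hχ
      obtain ⟨hχ1, hχNE⟩ := Finset.mem_erase.1 hχ
      apply Dvd.dvd.mul_left
      exact_mod_cast hlarge χ hχNE hχ1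
    have h3 : (q : ℤ) ∣ d * dg Θ₀ := Dvd.dvd.mul_left (by exact_mod_cast hq1) _
    rw [← h1] at h3
    have h4 : (q : ℤ) ∣ 1 * ((1 : ℕ) : ℤ) := (dvd_add_left h2).1 h3
    have h5 : q ∣ 1 := by
      have : (q : ℤ) ∣ 1 := by simpa using h4
      exact_mod_cast this
    exact hq.one_lt.ne' (Nat.dvd_one.1 h5)
  have hdvd0 := hsmall Θ₀ (hndX Θ₀ hΘ₀) hqΘ
  have hle0 := Nat.le_of_dvd hg0 hdvd0
  have hsame : ∀ Θ ∈ X, dg Θ = dg Θ₀ := by
    intro Θ hΘ
    have h1 := (hrel' Θ hΘ).symm.trans (hrel' Θ₀ hΘ₀)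
    rcases hd with h6 | h6 <;> rw [h6] at h1 <;> omega
  obtain ⟨m, hm⟩ := hdX Θ₀ hΘ₀
  have hpos := dg_pos Θ₀
  have hval : (d = 1 ∧ dg Θ₀ = e) ∨ (d = -1 ∧ dg Θ₀ + e = p) := by
    rcases hd with h6 | h6
    · left
      refine ⟨h6, ?_⟩
      rw [h6] at hm
      rcases Nat.lt_or_ge m 1 with h7 | h7
      · have : m = 0 := by omega
        rw [this] at hm
        push_cast at hm
        omega
      · have h9 : (p : ℤ) * 1 ≤ p * m := mul_le_mul_of_nonneg_left (by omega) hp0.le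
        omega
    · right
      refine ⟨h6, ?_⟩
      rw [h6] at hm
      rcases Nat.lt_or_ge m 1 with h7 | h7
      · have : m = 0 := by omega
        rw [this] at hm
        push_cast at hm
        omega
      · rcases Nat.lt_or_ge m 2 with h8 | h8
        · have : m = 1 := by omega
          rw [this] at hm
          push_cast at hm
          omega
        · have h9 : (p : ℤ) * 2 ≤ p * m := mul_le_mul_of_nonneg_left (by omega) hp0.le
          omega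
  have hΘ₀1 : Θ₀ ≠ χ₁ := by
    rintro rfl
    exact Finset.disjoint_left.1 hdisj hχ₁ hΘ₀
  refine ⟨?_, ?_, ?_⟩
  · by_contra hlt
    have ht1 : t = 1 := by omega
    rw [ht1, mul_one] at het
    rcases hval with ⟨-, h1⟩ | ⟨-, h1⟩
    · omega
    · exact hne1 Θ₀ hΘ₀1 (by omega)
  · intro Θ hΘ
    rw [hsame Θ hΘ]
    exact hdvd0
  · rcases hval with ⟨h1, h2⟩ | ⟨h1, h2⟩
    · exact Or.inl ⟨h1, fun Θ hΘ => by rw [hsame Θ hΘ]; exact h2⟩
    · exact Or.inr ⟨h1, fun Θ hΘ => by rw [hsame Θ hΘ]; exact h2⟩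

/-- **Step 1.** The Sylow `p`-subgroup is self-centralizing of order `p`, and the exceptional
characters have degree `e` or `p - e`. -/
theorem exists_data (hna : ¬ ∀ a b : G, a * b = b * a) {p q b g₀ : ℕ} [hpF : Fact p.Prime]
    (hq : q.Prime) (hpq : p ≠ q) (hG : Nat.card G = p * q ^ b * g₀) (hg : g₀ < p - 1)
    (P : Sylow p G) :
    p ≠ 2 ∧ Nat.card (P : Subgroup G) = p ∧
    Subgroup.centralizer (P : Set G) = (P : Subgroup G) ∧
    ∃ (e t : ℕ) (NE X : Finset (IrrCharacter G)) (ε : IrrCharacter G → ℤ) (d : ℤ)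
      (S : IrrCharacter G → Finset ((P : Subgroup G) →* ℂˣ)),
      BData p e t (P : Subgroup G) NE X ε d S ∧ 1 < e ∧ 2 ≤ t ∧ e * t = p - 1 ∧
      Nat.card (Subgroup.normalizer (P : Set G)) = p * e ∧
      (∀ Θ ∈ X, dg Θ ∣ g₀) ∧ ((d = 1 ∧ ∀ Θ ∈ X, dg Θ = e) ∨ (d = -1 ∧ ∀ Θ ∈ X, dg Θ + e = p)) := by
  classical
  have hp := hpF.out
  have hp2 := hp.two_le
  have hg0 : 0 < g₀ := by
    rcases Nat.eq_zero_or_pos g₀ with h0 | h0
    · have : 0 < Nat.card G := Nat.card_pos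
      rw [hG, h0, mul_zero] at this
      omega
    · exact h0
  have hpne2 : p ≠ 2 := by omega
  have hP : Nat.card (P : Subgroup G) = p := by
    have h1 : (Nat.card G).factorization p = 1 := by
      rw [hG, Nat.factorization_mul (mul_ne_zero hp.ne_zero (pow_ne_zero _ hq.ne_zero)) hg0.ne',
        Nat.factorization_mul hp.ne_zero (pow_ne_zero _ hq.ne_zero), Finsupp.add_apply,
        Finsupp.add_apply, hp.factorization_self,
        Nat.factorization_eq_zero_of_not_dvd (n := q ^ b)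
          (fun h => hpq ((Nat.prime_dvd_prime_iff_eq hp hq).1 (hp.dvd_of_dvd_pow h))),
        Nat.factorization_eq_zero_of_not_dvd (n := g₀)
          (fun h => absurd (Nat.le_of_dvd hg0 h) (by omega))]
    have h2 : Nat.card (P : Subgroup G) = p ^ (Nat.card G).factorization p :=
      P.card_eq_multiplicity
    rw [h2, h1, pow_one]
  have hGp : Nat.card G ≠ p := by
    intro h1
    exact card_prime_of_comm' hna (by rw [h1]; exact hp)
  obtain ⟨e, he, he1, hee, hN, -, -⟩ := BurnsideNC.exists_automizer_of_card_eq_prime hGp P hP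
  obtain ⟨t, ht⟩ := he
  have he0 : e ≠ 0 := by
    rintro rfl
    rw [zero_mul] at ht
    omega
  have hnc : ∃ a b : G, a * b ≠ b * a := by
    by_contra hcon
    push Not at hcon
    exact hna hcon
  have hone : ¬ p ∣ orderOf (1 : G) := by
    rw [orderOf_one]; exact fun h => hp.one_lt.ne' (Nat.dvd_one.1 h)
  -- the centralizer
  have hC : Subgroup.centralizer (P : Set G) = (P : Subgroup G) := by
    obtain ⟨M, hM⟩ := Blocks.ExistsModular.exists_isPModular hp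
    obtain ⟨NE, X, ε, d, S, hB, h1, h2, h3, h4, h5, h6, h7, h8, h9, h10⟩ :=
      TheoremB.theoremB p hpne2 M hM P hP e t hee.symm ht.symm
    have h7' : ∀ χ ∈ NE, ∀ x ∈ (P : Subgroup G), x ≠ 1 → (χ : G → ℂ) x = ε χ := by
      intro χ hχ x hx hx1
      have := h7 χ hχ x hx hx1 1 (one_mem _) hone
      rwa [mul_one] at this
    have h8' : ∀ Θ ∈ X, (S Θ).card = e ∧ 1 ∉ S Θ ∧ ∀ x : (P : Subgroup G), x ≠ 1 →
        (Θ : G → ℂ) x = d * ∑ l ∈ S Θ, ((l x : ℂˣ) : ℂ) := by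
      intro Θ hΘ
      refine ⟨(h8 Θ hΘ).1, (h8 Θ hΘ).2.1, fun x hx => ?_⟩
      have := (h8 Θ hΘ).2.2 x hx 1 (one_mem _) hone
      rwa [mul_one] at this
    obtain ⟨ht2, hdvd, hval⟩ := exc_degree hna hp hq hG hg0 hg hP ht.symm h1 h3 h4 h5 h6 h7' h8'
      (fun Θ hΘ => h10 Θ hΘ 1 hone)
    obtain ⟨Θ, hΘ⟩ : X.Nonempty := Finset.card_pos.1 (by rw [h3]; omega)
    obtain ⟨χ₁, hχ₁, hχ₁1, hχ₁ε⟩ := h6
    have hΘ1 : (Θ : G → ℂ) ≠ 1 := by
      intro h11
      have h12 : Θ = χ₁ := Subtype.ext (h11.trans hχ₁1.symm)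
      rw [h12] at hΘ
      exact Finset.disjoint_left.1 h1 hχ₁ hΘ
    have hne : ∃ g, (Θ : G → ℂ) g ≠ (Θ : G → ℂ) 1 := by
      by_contra hcon
      push Not at hcon
      obtain ⟨x, hx⟩ : ∃ x : (P : Subgroup G), x ≠ 1 := by
        have : Nontrivial (P : Subgroup G) := by
          rw [← Finite.one_lt_card_iff_nontrivial, hP]
          exact hp.one_lt
        exact exists_ne 1
      obtain ⟨f, ρ, hρ, hρχ⟩ := id Θ.2
      have hirrρ : IsIrrCharacter G ρ.character := by rw [hρχ]; exact Θ.2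
      have hρ1 : ρ.character ≠ 1 := by rw [hρχ]; exact hΘ1
      apply hx
      apply Subtype.ext
      apply DihedralNormalizerSimple.ker_eq_bot ρ hirrρ hρ1
      exact (Cfsg.Agent.Characters.Values.character_eq_finrank_iff ρ (x : G)).1
        (by rw [← Representation.char_one (V := Fin f → ℂ) ρ, hρχ]; exact hcon x)
    have hSne : (S Θ).Nonempty := Finset.card_pos.1 (by rw [(h8 Θ hΘ).1]; omega)
    apply DetKernel.centralizer_eq P hP
    intro K hK hcop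
    obtain ⟨σ, hσ, -⟩ := DetKernel.exists_hom_SL_of_sum hnc P hP (isIrr_isCharacter Θ.2) hne
      (d := d) (S Θ) (h8 Θ hΘ).2.1 hSne (h8 Θ hΘ).2.2 (a := 0) (by
        rcases hval with ⟨h11, h12⟩ | ⟨h11, h12⟩
        · left
          refine ⟨h11, ?_⟩
          rw [apply_one, h12 Θ hΘ, (h8 Θ hΘ).1]
          simp
        · right
          refine ⟨h11, ?_⟩
          rw [apply_one, (h8 Θ hΘ).1]
          have := h12 Θ hΘ
          rw [← Nat.cast_add, this]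
          simp) K hK hcop
    exact DetKernel.eq_bot_of_injective (by norm_num) σ hσ
  obtain ⟨NE, X, ε, d, S, h1, h2, h3, h4, h5, h6, h7, h8, h9, h10, h11⟩ :=
    TheoremBCor.theoremB_selfCent p hpne2 P hP hC e t hee.symm ht.symm
  obtain ⟨ht2, hdvd, hval⟩ := exc_degree hna hp hq hG hg0 hg hP ht.symm h1 h3 h4 h5 h6 h7 h8
      (fun Θ hΘ => h10 Θ hΘ 1 hone)
  refine ⟨hpne2, hP, hC, e, t, NE, X, ε, d, S, ?_, by omega, ht2, ht.symm, ?_, hdvd, hval⟩
  · exact ⟨h1, h2, h3, h4, h6, h7, fun Θ hΘ => (h8 Θ hΘ).1, fun Θ hΘ => (h8 Θ hΘ).2.1,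
      fun Θ hΘ => (h8 Θ hΘ).2.2, h9, h10, fun χ hχ hχ' => (h11 χ hχ hχ').1⟩
  · rw [hN, hC, hP]

end Cfsg.Agent.SmallSimple.BTStep1
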