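import Mathlib
import Cfsg.Agent.SmallSimple.BTStep1
import Cfsg.Agent.SmallSimple.BTCaseB2
import Cfsg.Agent.SmallSimple.BTCaseA5
import Cfsg.Agent.SmallSimple.PSL2Recog

/-!
# The Brauer–Tuan theorem: all cases but the identification for `e = 2`
-/

set_option autoImplicit false
open Cfsg

namespace Cfsg.Agent.SmallSimple.BTFinal

open Cfsg.Agent.SmallSimple.BTData

universe u

/-- A noncyclic simple group is not commutative. -/
theorem not_comm {G : Type u} [Group G] [IsSimpleGroup G] (hG : ¬ IsCyclic G) :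
    ¬ ∀ a b : G, a * b = b * a := by
  intro hcomm
  apply hG
  let _ : CommGroup G := { (inferInstance : Group G) with mul_comm := hcomm }
  exact IsSimpleGroup.isCyclic

theorem main {G : Type u} [Group G] [Finite G] [IsSimpleGroup G] (hG : ¬ IsCyclic G)
    {p q b g₀ : ℕ} [hpF : Fact p.Prime] (hq : q.Prime) (hpq : p ≠ q)
    (hG' : Nat.card G = p * q ^ b * g₀) (hg : g₀ < p - 1) :
    (∃ (m : ℕ) (F : Type) (_ : Field F) (_ : Fintype F), Fintype.card F = p ∧
      (p = 2 ^ m + 1 ∨ p = 2 ^ m - 1) ∧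
      Nonempty (G ≃* Matrix.ProjectiveSpecialLinearGroup (Fin 2) F)) ∨
    (∃ P : Sylow p G, Nat.card P = p ∧ Subgroup.centralizer (P : Set G) = (P : Subgroup G) ∧
      Nat.card (Subgroup.normalizer (P : Set G)) = p * 2 ∧ 3 < p ∧ (∃ m, p = 2 ^ m + 1) ∧
      Nat.card G = p * 2 ^ b * (p - 2)) := by
  have hna := not_comm hG
  obtain ⟨P⟩ : Nonempty (Sylow p G) := inferInstance
  obtain ⟨hp2, hP, hC, e, t, NE, X, ε, d, S, h, he, ht, het, hN, hdvd, hval⟩ :=
    BTStep1.exists_data hna hq hpq hG' hg P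
  obtain ⟨Θ, hΘ, Θ', hΘ', hne⟩ := Finset.one_lt_card.1 (by rw [h.cardX]; omega : 1 < X.card)
  have hF : Fintype.card (ZMod p) = p := ZMod.card p
  rcases hval with ⟨rfl, hdeg⟩ | ⟨rfl, hdeg⟩
  · left
    obtain ⟨⟨m, hm⟩, hcard, hsyl⟩ := BTCaseB2.main h hq hP hC hN hna het he hG' hg
      (by have := hdvd Θ hΘ; rwa [hdeg Θ hΘ] at this) hΘ hΘ' hne hdeg
    exact ⟨m, ZMod p, inferInstance, inferInstance, hF, Or.inr (by omega),
      PSL2Recog.psl2_of_simple_card hp2 hcard hsyl hF⟩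
  · rcases BTCaseA5.main h hq hpq hP hC hN hna het ht hG' hg hΘ hdeg (hdvd Θ hΘ) with
      ⟨⟨m, hm⟩, hcard, hsyl⟩ | ⟨he2, hp3, hm, hcard⟩
    · left
      exact ⟨m, ZMod p, inferInstance, inferInstance, hF, Or.inl hm,
        PSL2Recog.psl2_of_simple_card hp2 hcard hsyl hF⟩
    · right
      rw [he2] at hN
      exact ⟨P, hP, hC, hN, hp3, hm, hcard⟩

end Cfsg.Agent.SmallSimple.BTFinal
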