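import Cfsg.Prelude.Def_Blocks
import Cfsg.Agent.SmallSimple.PrimeLocal
import Cfsg.Agent.SmallSimple.PrimeOrderData
import Cfsg.Agent.SmallSimple.SelfCentSum
import Cfsg.Agent.Blocks.CentralScalar
import Cfsg.Agent.Blocks.BlockKer
import Cfsg.Agent.Characters.DegreeBounds

/-!
# Simple groups of order less than `p ^ 3`: a Sylow `p`-subgroup is self-centralizing

The input is the description of the principal `p`-block of a group with a Sylow `p`-subgroup of
order `p` (Brauer).
-/

set_option autoImplicit false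

open Cfsg Subgroup

namespace Cfsg.Agent.SmallSimple.LargePrime

universe u

variable {G : Type u} [Group G] [Finite G]

/-- The sum of a character over a subgroup `P` is `|P|` times the dimension of the space of
fixed vectors; if this is zero, all the sums over cosets `P y` vanish. -/
theorem exists_avg {χ : G → ℂ} (hχ : IsIrrCharacter G χ) (P : Subgroup G) [Fintype P] :
    ∃ k : ℕ, ∑ x : P, χ x = (Nat.card P : ℂ) * k ∧
      (k = 0 → ∀ y : G, ∑ x : P, χ (x * y) = 0) := by
  classical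
  obtain ⟨n, ρ, -, rfl⟩ := hχ
  have hne : (Nat.card P : ℂ) ≠ 0 := Nat.cast_ne_zero.2 Nat.card_pos.ne'
  have hne' : (Fintype.card P : ℂ) ≠ 0 := by rwa [← Nat.card_eq_fintype_card]
  let σ : Representation ℂ P (Fin n → ℂ) := ρ.comp P.subtype
  let _ : Invertible (Fintype.card P : ℂ) := invertibleOfNonzero hne'
  have hproj := σ.isProj_averageMap
  have hmap : σ.averageMap = (Fintype.card P : ℂ)⁻¹ • ∑ x : P, ρ x := by
    rw [Representation.averageMap, Representation.asAlgebraHom, GroupAlgebra.average, map_smul,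
      map_sum]
    simp only [MonoidAlgebra.of_apply]
    rw [invOf_eq_inv]
    congr 1
    refine Finset.sum_congr rfl fun x _ => ?_
    simp [σ]
  refine ⟨Module.finrank ℂ σ.invariants, ?_, fun h0 y => ?_⟩
  · have h1 := LinearMap.IsProj.trace hproj
    rw [hmap, map_smul, map_sum, smul_eq_mul] at h1
    rw [← h1, Nat.card_eq_fintype_card, mul_inv_cancel_left₀ hne']
    rfl
  · have h2 : σ.invariants = ⊥ := Submodule.finrank_eq_zero.1 h0
    have h3 : σ.averageMap = 0 := by
      ext1 i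
      refine LinearMap.ext fun v => ?_
      have := σ.averageMap_invariant (LinearMap.single ℂ (fun _ => ℂ) i v)
      rw [h2, Submodule.mem_bot] at this
      simpa using this
    have h4 : ∑ x : P, ρ x = 0 := by
      rw [hmap] at h3
      rcases smul_eq_zero.1 h3 with h | h
      · exact absurd h (inv_ne_zero hne')
      · exact h
    have h5 : ∑ x : P, ρ.character ((x : G) * y) = LinearMap.trace ℂ _ ((∑ x : P, ρ x) * ρ y) := by
      rw [Finset.sum_mul, map_sum]
      refine Finset.sum_congr rfl fun x _ => ?_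
      rw [← map_mul]
      rfl
    rw [h5, h4, zero_mul, map_zero]

omit [Finite G] in
/-- The degree of an irreducible character. -/
theorem exists_degree {χ : G → ℂ} (hχ : IsIrrCharacter G χ) : ∃ m : ℕ, χ 1 = m ∧ 0 < m := by
  obtain ⟨n, ρ, hρ, rfl⟩ := hχ
  refine ⟨n, by rw [Representation.char_one]; simp, ?_⟩
  exact Cfsg.Agent.Blocks.CentralScalar.pos_of_irreducible ρ hρ

/-- Divisibility from the integrality of central characters. -/
theorem dvd_of_sum {χ : G → ℂ} (hχ : IsIrrCharacter G χ) {m : ℕ} (hm : χ 1 = m) (hm0 : 0 < m)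
    {i : ℕ} {ι : Type*} (T : Finset ι) (f : ι → G)
    (hT : ∀ x ∈ T, (centralizer ({f x} : Set G)).index = i)
    {s : ℤ} (hs : ∑ x ∈ T, χ (f x) = s) : m ∣ i * s.natAbs := by
  have h1 : IsIntegral ℤ (∑ x ∈ T, centralChar χ (f x)) :=
    IsIntegral.sum _ fun x _ => Cfsg.Agent.Blocks.CentralScalar.isIntegral_centralChar hχ _
  have h2 : ∑ x ∈ T, centralChar χ (f x) = (i : ℂ) * s / m := by
    rw [← hs, Finset.mul_sum, Finset.sum_div]
    refine Finset.sum_congr rfl fun x hx => ?_
    rw [centralChar, hT x hx, hm]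
  rw [h2] at h1
  apply Cfsg.Agent.Characters.DegreeBounds.nat_dvd_of_isIntegral_div hm0.ne'
  rcases Int.natAbs_eq s with h | h
  · have h5 : (((i * s.natAbs : ℕ) : ℂ) / (m : ℂ)) = (i : ℂ) * s / m := by
      have h6 : (s : ℂ) = (s.natAbs : ℂ) := by
        have := congrArg (fun t : ℤ => (t : ℂ)) h
        simpa using this
      rw [h6]; push_cast; ring
    rw [h5]; exact h1
  · have h5 : (((i * s.natAbs : ℕ) : ℂ) / (m : ℂ)) = -((i : ℂ) * s / m) := by
      have h6 : (s : ℂ) = -(s.natAbs : ℂ) := by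
        have := congrArg (fun t : ℤ => (t : ℂ)) h
        rw [Int.cast_neg, Int.cast_natCast] at this
        exact this
      rw [h6]; push_cast; ring
    rw [h5]; exact h1.neg

theorem arith_plus {p q e m u n : ℕ} (hq : q = 1 + n * p) (hlt : q * e < p ^ 2)
    (hm : m = 1 + p * u) (hu : 1 ≤ u) (hdvd : m ∣ q * e) (he : 1 ≤ e) (hep : e < p) : m = q := by
  obtain ⟨s, hs⟩ := hdvd
  have hsp : s < p := by
    by_contra hcon
    push Not at hcon
    have h1 : (1 + p) * p ≤ m * s := Nat.mul_le_mul (by rw [hm]; nlinarith) hcon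
    nlinarith
  have h2 : e ≡ s [MOD p] := by
    have h3 : q * e ≡ e [MOD p] := by
      have : q ≡ 1 [MOD p] := by rw [hq]; simp [Nat.ModEq]
      simpa using this.mul_right e
    have h4 : m * s ≡ s [MOD p] := by
      have : m ≡ 1 [MOD p] := by rw [hm]; simp [Nat.ModEq]
      simpa using this.mul_right s
    rw [hs] at h3
    exact h3.symm.trans h4
  have h5 : e = s := Nat.ModEq.eq_of_lt_of_lt h2 hep hsp
  rw [← h5] at hs
  exact (Nat.eq_of_mul_eq_mul_right he hs).symm

theorem arith_minus {p q e c m k n : ℕ} (hq : q = 1 + n * p) (hn : 1 ≤ n) (hc : 2 ≤ c)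
    (hlt : q * e * c < p ^ 2) (hm : m + 1 = p * (k + 1)) (hdvd : m ∣ q * e) (he : 1 ≤ e)
    (hep : e < p) (hp : 2 ≤ p) : k = 0 := by
  obtain ⟨s, hs⟩ := hdvd
  have h0 : 2 * (q * e) < p ^ 2 := by nlinarith
  have hsp : s < p := by
    by_contra hcon
    push Not at hcon
    have h1 : (p - 1) * p ≤ m * s := Nat.mul_le_mul (by nlinarith [Nat.sub_add_cancel (show 1 ≤ p by omega)]) hcon
    rw [← hs] at h1
    obtain ⟨r, rfl⟩ : ∃ r, p = r + 2 := ⟨p - 2, by omega⟩
    rw [show r + 2 - 1 = r + 1 by omega] at h1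
    nlinarith
  have h3 : e + n * p * e + s = p * (k + 1) * s := by
    calc e + n * p * e + s = q * e + s := by rw [hq]; ring
      _ = (m + 1) * s := by rw [hs]; ring
      _ = p * (k + 1) * s := by rw [hm]
  have h4 : p ∣ e + s := by
    have h5 : p ∣ e + n * p * e + s := by rw [h3]; exact Dvd.intro ((k + 1) * s) (by ring)
    have h6 : p ∣ n * p * e := Dvd.intro (n * e) (by ring)
    have h7 : e + n * p * e + s = n * p * e + (e + s) := by ring
    rw [h7] at h5
    exact (Nat.dvd_add_right h6).1 h5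
  have h5 : e + s = p := by
    obtain ⟨w, hw⟩ := h4
    have : w = 1 := by
      have h6 : w < 2 := by
        by_contra hcon
        push Not at hcon
        have : p * 2 ≤ p * w := Nat.mul_le_mul_left _ hcon
        omega
      have h7 : w ≠ 0 := by
        rintro rfl
        omega
      omega
    rw [hw, this, mul_one]
  have h6 : 1 + n * e = (k + 1) * s := by
    apply Nat.eq_of_mul_eq_mul_left (show 0 < p by omega)
    calc p * (1 + n * e) = (e + s) + n * p * e := by rw [h5]; ring
      _ = e + n * p * e + s := by ring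
      _ = p * (k + 1) * s := h3
      _ = p * ((k + 1) * s) := by ring
  have h7 : 2 * (n * e) < p := by
    have : p * (2 * (n * e)) < p * p := by
      calc p * (2 * (n * e)) ≤ 2 * (q * e) := by rw [hq]; nlinarith
        _ < p ^ 2 := h0
        _ = p * p := sq p
    exact Nat.lt_of_mul_lt_mul_left this
  have h8 : e ≤ n * e := Nat.le_mul_of_pos_left _ hn
  by_contra hk
  have hk1 : 1 ≤ k := Nat.one_le_iff_ne_zero.2 hk
  have h9 : 2 * s ≤ (k + 1) * s := Nat.mul_le_mul_right _ (by omega)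
  omega

theorem arith_exc {p q e z n : ℕ} (hq : q = 1 + n * p) (hn : 1 ≤ n) (hz : z = 1 + (e - 1) * q)
    (hdvd : z ∣ q * e * e) (he : 2 ≤ e) (hep : e < p) : False := by
  obtain ⟨f, rfl⟩ : ∃ f, e = f + 2 := ⟨e - 2, by omega⟩
  rw [show f + 2 - 1 = f + 1 by omega] at hz
  have hcop : z.Coprime q := by
    rw [hz]
    simp
  have h1 : z ∣ (f + 2) * (f + 2) := by
    rw [mul_assoc] at hdvd
    exact hcop.dvd_of_dvd_mul_left hdvd
  have h2 := Nat.le_of_dvd (by positivity) h1
  have h3 : f + 4 ≤ q := by nlinarith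
  nlinarith

omit [Finite G] in
theorem centralizer_eq {p : ℕ} (hp : p.Prime) {P : Subgroup G} (hP : Nat.card P = p) {x : G}
    (hx : x ∈ P) (hx1 : x ≠ 1) : centralizer ({x} : Set G) = centralizer (P : Set G) := by
  rw [← SmallSimple.PrimeOrderData.centralizer_zpowers]
  congr 2
  apply le_antisymm
  · rwa [zpowers_le]
  · intro y hy
    exact SylowPrime.mem_zpowers_of_card_prime hp hP hx hx1 hy

omit [Group G] [Finite G] in
/-- The sum of a nontrivial linear character over the nonidentity elements is `-1`. -/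
theorem sum_hom {A : Type*} [Group A] [Fintype A] [DecidableEq A] {l : A →* ℂˣ} (hl : l ≠ 1) :
    ∑ x ∈ Finset.univ.erase (1 : A), (l x : ℂ) = -1 := by
  have h1 : ∑ x : A, (l x : ℂ) = 0 := by
    have h2 := sum_hom_units_eq_zero ((Units.coeHom ℂ).comp l) (by
      intro h
      apply hl
      ext x
      have := DFunLike.congr_fun h x
      simpa using this)
    simpa using h2
  rw [← Finset.add_sum_erase _ _ (Finset.mem_univ (1 : A))] at h1
  rw [map_one, Units.val_one] at h1
  linear_combination h1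

/-- An irreducible character with no fixed vectors on `P`, whose values on `P ∖ 1` are `-1` and are
not changed by multiplication with `y ∈ C(P)`, is trivial at `y`. -/
theorem eq_one_of_kernel [IsSimpleGroup G] {χ : G → ℂ} (hχ : IsIrrCharacter G χ) {P : Subgroup G}
    (hsum : ∀ _ : Fintype P, ∑ x : P, χ x = 0) {y : G}
    (hy : ∀ x ∈ P, x ≠ 1 → χ (x * y) = χ x) (hne : ∃ x, χ x ≠ χ 1) : y = 1 := by
  classical
  have := Fintype.ofFinite P
  obtain ⟨k, hk1, hk2⟩ := exists_avg hχ P
  have hk : k = 0 := by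
    rw [hsum] at hk1
    have h1 : (Nat.card P : ℂ) ≠ 0 := Nat.cast_ne_zero.2 Nat.card_pos.ne'
    have h2 : (k : ℂ) = 0 := by
      rcases mul_eq_zero.1 hk1.symm with h | h
      · exact absurd h h1
      · exact h
    exact_mod_cast h2
  have h1 := hk2 hk y
  have h0 := hsum inferInstance
  rw [← Finset.add_sum_erase _ _ (Finset.mem_univ (1 : P))] at h1 h0
  have h2 : ∑ x ∈ Finset.univ.erase (1 : P), χ (x * y) = ∑ x ∈ Finset.univ.erase (1 : P), χ x :=
    Finset.sum_congr rfl fun x hx => hy x x.2 fun h => Finset.ne_of_mem_erase hx (Subtype.ext h)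
  rw [h2] at h1
  have h3 : χ y = χ 1 := by
    rw [OneMemClass.coe_one, one_mul] at h1
    rw [OneMemClass.coe_one] at h0
    linear_combination h1 - h0
  obtain ⟨L, hL1, hL2⟩ := Cfsg.Agent.Blocks.BlockKer.exists_kernel hχ
  rcases hL1.eq_bot_or_eq_top with h | h
  · rw [← Subgroup.mem_bot, ← h, hL2, h3]
  · obtain ⟨x, hx⟩ := hne
    exact absurd ((hL2 x).1 (h ▸ Subgroup.mem_top x)) hx

/-- The main step: the `p`-complement `K` of the centralizer of `P` is trivial. -/
theorem card_K_eq_one [IsSimpleGroup G] (hG : ¬ IsMulCommutative G) {p : ℕ} [hp : Fact p.Prime]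
    {P : Sylow p G} (hP : Nat.card P = p) {e t : ℕ} {K : Subgroup G}
    (hloc : PrimeLocal.IsLocal p P e K)
    (hbig : Nat.card G < p ^ 3) (ht : e * t = p - 1)
    {NE X : Finset (IrrCharacter G)} {ε : IrrCharacter G → ℤ} {d : ℤ}
    {S : IrrCharacter G → Finset (P →* ℂˣ)}
    (hNE : NE.card = e) (hX : X.card = t)
    (hε : ∀ χ ∈ NE, ε χ = 1 ∨ ε χ = -1) (hd : d = 1 ∨ d = -1)
    (h1 : ∃ χ₁ ∈ NE, (χ₁ : G → ℂ) = 1 ∧ ε χ₁ = 1)
    (hval : ∀ χ ∈ NE, ∀ x ∈ P, x ≠ 1 → ∀ y ∈ centralizer (P : Set G), ¬ p ∣ orderOf y →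
        (χ : G → ℂ) (x * y) = ε χ)
    (hexc : ∀ Θ ∈ X, (S Θ).card = e ∧ 1 ∉ S Θ ∧ ∀ x : P, x ≠ 1 → ∀ y ∈ centralizer (P : Set G),
        ¬ p ∣ orderOf y → (Θ : G → ℂ) (x * y) = d * ∑ l ∈ S Θ, (l x : ℂ))
    (hrel : ∀ Θ ∈ X, ∀ g : G, ¬ p ∣ orderOf g →
        ∑ χ ∈ NE, (ε χ : ℂ) * (χ : G → ℂ) g = d * (Θ : G → ℂ) g) :
    Nat.card K = 1 := by
  classical
  have hpp := hp.out
  have hP' : Nat.card (P : Subgroup G) = p := hP
  have hp2 : 2 ≤ p := hpp.two_le
  have he2 : 2 ≤ e := hloc.one_lt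
  have hep : e < p := by
    have := Nat.le_of_dvd (by omega) hloc.dvd_pred
    omega
  have hpG : p ∣ Nat.card G := hP' ▸ Subgroup.card_subgroup_dvd_card _
  set q := Nat.card (Sylow p G) with hq
  have hq5 : 5 ≤ q := Embed.five_le_card_sylow hG hpG
  obtain ⟨n, hn⟩ : ∃ n, q = 1 + n * p := by
    have h := card_sylow_modEq_one p G
    have h2 : p ∣ q - 1 := (Nat.modEq_iff_dvd' (by omega)).1 h.symm
    obtain ⟨n, hn⟩ := h2
    exact ⟨n, by rw [mul_comm n p, ← hn]; omega⟩
  have hn1 : 1 ≤ n := by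
    rcases Nat.eq_zero_or_pos n with h | h
    · rw [h] at hn; omega
    · exact h
  have hlt : q * e * Nat.card K < p ^ 2 := by
    have h2 := hloc.card_eq
    rw [h2] at hbig
    have h3 : p * (q * e * Nat.card K) < p * p ^ 2 := by
      calc p * (q * e * Nat.card K) = q * (p * e * Nat.card K) := by ring
        _ < p ^ 3 := hbig
        _ = p * p ^ 2 := by ring
    exact Nat.lt_of_mul_lt_mul_left h3
  have hK0 : 0 < Nat.card K := Nat.card_pos
  have hlt' : q * e < p ^ 2 := lt_of_le_of_lt (Nat.le_mul_of_pos_right _ hK0) hlt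
  -- the index of the centralizer
  have hidx : (centralizer (P : Set G)).index = q * e := by
    have h2 := (centralizer (P : Set G)).card_mul_index
    rw [hloc.card_centralizer, hloc.card_eq] at h2
    apply Nat.eq_of_mul_eq_mul_left (show 0 < p * Nat.card K by positivity)
    rw [h2]; ring
  have hidx' : ∀ x ∈ (P : Subgroup G), x ≠ 1 → (centralizer ({x} : Set G)).index = q * e := by
    intro x hx hx1
    rw [centralizer_eq hpp hP' hx hx1]
    exact hidx
  obtain ⟨x₀, hx₀, hx₀1⟩ : ∃ x ∈ (P : Subgroup G), x ≠ 1 := by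
    have hnt : Nontrivial (P : Subgroup G) := by
      rw [← Finite.one_lt_card_iff_nontrivial, hP']
      exact hpp.one_lt
    obtain ⟨x, hx⟩ := exists_ne (1 : (P : Subgroup G))
    exact ⟨x, x.2, fun h => hx (Subtype.ext h)⟩
  have h1p : ¬ p ∣ orderOf (1 : G) := by
    rw [orderOf_one]; exact hpp.one_lt.ne' ∘ Nat.dvd_one.1
  have hvalx : ∀ χ ∈ NE, ∀ x ∈ (P : Subgroup G), x ≠ 1 → (χ : G → ℂ) x = ε χ := by
    intro χ hχ x hx hx1
    have := hval χ hχ x hx hx1 1 (one_mem _) h1p
    rwa [mul_one] at this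
  by_contra hK
  have hK2 : 2 ≤ Nat.card K := by omega
  -- a nontrivial element of `K`
  obtain ⟨y, hyK, hy1⟩ : ∃ y ∈ K, y ≠ 1 := by
    have hnt : Nontrivial K := Finite.one_lt_card_iff_nontrivial.1 (by omega)
    obtain ⟨x, hx⟩ := exists_ne (1 : K)
    exact ⟨x, x.2, fun h => hx (Subtype.ext h)⟩
  have hyC : y ∈ centralizer (P : Set G) := hloc.le_centralizer hyK
  have hyp : ¬ p ∣ orderOf y := by
    intro h
    apply hloc.not_dvd
    have h2 : orderOf (⟨y, hyK⟩ : K) ∣ Nat.card K := orderOf_dvd_natCard _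
    rw [Subgroup.orderOf_mk] at h2
    exact h.trans h2
  have hsumP : ∀ (inst : Fintype (P : Subgroup G)) (f : G → ℂ) (c : ℂ),
      (∀ x ∈ (P : Subgroup G), x ≠ 1 → f x = c) →
      ∑ x : (P : Subgroup G), f x = f 1 + ((p : ℂ) - 1) * c := by
    intro inst f c hc
    rw [← Finset.add_sum_erase _ _ (Finset.mem_univ (1 : (P : Subgroup G)))]
    congr 1
    have h2 : ∀ x ∈ Finset.univ.erase (1 : (P : Subgroup G)), f (x : G) = c := fun x hx =>
      hc x x.2 fun h => Finset.ne_of_mem_erase hx (Subtype.ext h)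
    rw [Finset.sum_congr rfl h2, Finset.sum_const, nsmul_eq_mul,
      Finset.card_erase_of_mem (Finset.mem_univ _), Finset.card_univ, ← Nat.card_eq_fintype_card,
      hP', Nat.cast_sub hpp.one_le, Nat.cast_one]
  -- all signs are positive
  have hplus : ∀ χ ∈ NE, ε χ = 1 := by
    intro χ hχ
    rcases hε χ hχ with h | h
    · exact h
    exfalso
    obtain ⟨m, hm, hm0⟩ := exists_degree χ.2
    have hdvd : m ∣ q * e := by
      have := dvd_of_sum χ.2 hm hm0 (i := q * e) {x₀} id (fun x hx => by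
        rw [Finset.mem_singleton.1 hx]; exact hidx' x₀ hx₀ hx₀1) (s := -1) (by
          rw [Finset.sum_singleton, id, hvalx χ hχ x₀ hx₀ hx₀1, h])
      simpa using this
    obtain ⟨k, hk, -⟩ := @exists_avg G _ _ _ χ.2 (P : Subgroup G) (Fintype.ofFinite _)
    rw [hsumP (Fintype.ofFinite _) χ (-1) (fun x hx hx1 => by
      rw [hvalx χ hχ x hx hx1, h]; simp), hm, hP'] at hk
    have hk' : m + 1 = p * (k + 1) := by
      have : ((m + 1 : ℕ) : ℂ) = ((p * (k + 1) : ℕ) : ℂ) := by
        push_cast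
        linear_combination hk
      exact_mod_cast this
    have hk0 : k = 0 := arith_minus hn hn1 hK2 hlt hk' hdvd (by omega) hep hp2
    apply hy1
    apply eq_one_of_kernel χ.2 (P := (P : Subgroup G))
    · intro inst
      rw [hsumP inst χ (-1) (fun x hx hx1 => by rw [hvalx χ hχ x hx hx1, h]; simp), hm, hk, hk0]
      simp
    · intro x hx hx1
      rw [hval χ hχ x hx hx1 y hyC hyp, hvalx χ hχ x hx hx1]
    · refine ⟨x₀, ?_⟩
      rw [hvalx χ hχ x₀ hx₀ hx₀1, h, hm]
      intro hcon
      have : (-1 : ℤ) = m := by exact_mod_cast hcon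
      omega
  -- the degrees
  obtain ⟨χ₁, hχ₁, hχ₁1, hχ₁ε⟩ := h1
  have hdeg : ∀ χ ∈ NE.erase χ₁, (χ : G → ℂ) 1 = q := by
    intro χ hχ
    have hχN := Finset.mem_of_mem_erase hχ
    have hχne := Finset.ne_of_mem_erase hχ
    obtain ⟨m, hm, hm0⟩ := exists_degree χ.2
    have hdvd : m ∣ q * e := by
      have := dvd_of_sum χ.2 hm hm0 (i := q * e) {x₀} id (fun x hx => by
        rw [Finset.mem_singleton.1 hx]; exact hidx' x₀ hx₀ hx₀1) (s := 1) (by
          rw [Finset.sum_singleton, id, hvalx χ hχN x₀ hx₀ hx₀1, hplus χ hχN])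
      simpa using this
    obtain ⟨k, hk, -⟩ := @exists_avg G _ _ _ χ.2 (P : Subgroup G) (Fintype.ofFinite _)
    rw [hsumP (Fintype.ofFinite _) χ 1 (fun x hx hx1 => by
      rw [hvalx χ hχN x hx hx1, hplus χ hχN]; simp), hm, hP'] at hk
    have hk' : m + p = 1 + p * k := by
      have : ((m + p : ℕ) : ℂ) = ((1 + p * k : ℕ) : ℂ) := by
        push_cast
        linear_combination hk
      exact_mod_cast this
    have hk1 : k ≠ 0 := by
      rintro rfl
      omega
    obtain ⟨u, rfl⟩ := Nat.exists_eq_succ_of_ne_zero hk1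
    have hm' : m = 1 + p * u := by
      have : p * u.succ = p * u + p := by rw [Nat.succ_eq_add_one]; ring
      omega
    have hu : 1 ≤ u := by
      by_contra hcon
      have hu0 : u = 0 := by omega
      rw [hu0, mul_zero] at hm'
      apply hχne
      apply Subtype.ext
      rw [hχ₁1]
      exact SelfCentSum.eq_one_of_apply_one (Embed.card_not_prime_of_not_comm hG) χ.2
        (by rw [hm, hm']; simp)
    rw [hm, arith_plus hn hlt' hm' hu hdvd (by omega) hep]
  -- the exceptional character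
  have ht0 : t ≠ 0 := by
    rintro rfl
    omega
  obtain ⟨Θ, hΘ⟩ : X.Nonempty := Finset.card_ne_zero.1 (hX ▸ ht0)
  obtain ⟨z, hz, hz0⟩ := exists_degree Θ.2
  have hrel1 := hrel Θ hΘ 1 h1p
  rw [← Finset.add_sum_erase _ _ hχ₁, hχ₁1, hχ₁ε, hz, Finset.sum_congr rfl (fun χ hχ => by
    rw [hdeg χ hχ, hplus χ (Finset.mem_of_mem_erase hχ)]), Finset.sum_const,
    Finset.card_erase_of_mem hχ₁, hNE, Pi.one_apply] at hrel1
  have hz' : (z : ℤ) = 1 + (e - 1 : ℕ) * q ∧ d = 1 := by
    have h2 : ((1 + (e - 1 : ℕ) * q : ℤ) : ℂ) = ((d * z : ℤ) : ℂ) := by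
      rw [nsmul_eq_mul] at hrel1
      push_cast
      push_cast at hrel1
      linear_combination hrel1
    have h3 : (1 + (e - 1 : ℕ) * q : ℤ) = d * z := by exact_mod_cast h2
    rcases hd with h | h
    · rw [h, one_mul] at h3
      exact ⟨h3.symm, h⟩
    · exfalso
      rw [h] at h3
      have h4 : (0 : ℤ) ≤ (e - 1 : ℕ) * q := by positivity
      omega
  have hzz : z = 1 + (e - 1) * q := by exact_mod_cast hz'.1
  obtain ⟨hS1, hS2, hS3⟩ := hexc Θ hΘ
  have := Fintype.ofFinite P
  have hzdvd : z ∣ q * e * e := by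
    have h2 := dvd_of_sum Θ.2 hz hz0 (Finset.univ.erase (1 : P)) (fun x => (x : G))
      (fun x hx => hidx' x x.2 fun h => Finset.ne_of_mem_erase hx (Subtype.ext h))
      (s := -(e : ℤ)) (by
        have h3 : ∀ x ∈ Finset.univ.erase (1 : P), (Θ : G → ℂ) (x : G) = ∑ l ∈ S Θ, (l x : ℂ) := by
          intro x hx
          have := hS3 x (Finset.ne_of_mem_erase hx) 1 (one_mem _) h1p
          rw [mul_one, hz'.2, Int.cast_one, one_mul] at this
          exact this
        have h4 : ∀ l ∈ S Θ, ∑ x ∈ Finset.univ.erase (1 : P), (l x : ℂ) = -1 := by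
          intro l hl
          refine sum_hom ?_
          rintro rfl
          exact hS2 hl
        rw [Finset.sum_congr rfl h3, Finset.sum_comm, Finset.sum_congr rfl h4, Finset.sum_const,
          hS1]
        simp)
    simpa using h2
  exact arith_exc hn hn1 hzz hzdvd he2 hep

/-- `p ^ 2` does not divide the order of a simple group of order less than `p ^ 3`. -/
theorem not_sq_dvd [IsSimpleGroup G] (hG : ¬ IsMulCommutative G) {p : ℕ} [hp : Fact p.Prime]
    (hdvd : p ∣ Nat.card G) (hbig : Nat.card G < p ^ 3) : ¬ p ^ 2 ∣ Nat.card G := by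
  intro h
  obtain ⟨P⟩ : Nonempty (Sylow p G) := inferInstance
  have hq5 := Embed.five_le_card_sylow hG hdvd
  have hq := card_sylow_modEq_one p G
  have h1 : p ^ 2 ∣ Nat.card P := by
    rw [P.card_eq_multiplicity]
    exact pow_dvd_pow _ ((hp.out.pow_dvd_iff_le_factorization Nat.card_pos.ne').1 h)
  have h2 : p ^ 2 ≤ Nat.card (normalizer (P : Set G)) :=
    Nat.le_of_dvd Nat.card_pos (h1.trans (Subgroup.card_dvd_of_le Subgroup.le_normalizer))
  have h3 := BurnsideNC.card_sylow_mul_card_normalizer P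
  have h4 : p ≤ Nat.card (Sylow p G) := by
    have h5 : p ∣ Nat.card (Sylow p G) - 1 := (Nat.modEq_iff_dvd' (by omega)).1 hq.symm
    have := Nat.le_of_dvd (by omega) h5
    omega
  have h5 : p * p ^ 2 ≤ Nat.card G := by
    rw [← h3]
    exact Nat.mul_le_mul h4 h2
  have h6 : p * p ^ 2 = p ^ 3 := by ring
  omega

theorem relIndex_eq {p : ℕ} {P : Sylow p G} {e : ℕ} {K : Subgroup G}
    (hloc : PrimeLocal.IsLocal p P e K) (hp : 0 < p) :
    (centralizer (P : Set G)).relIndex (normalizer (P : Set G)) = e := by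
  have h1 := BurnsideNC.card_normalizer_eq (P : Subgroup G)
  have h2 := hloc.card_normalizer
  have h3 := hloc.card_centralizer
  have hK0 : 0 < Nat.card K := Nat.card_pos
  change Nat.card (normalizer (P : Set G)) = Nat.card (centralizer (P : Set G)) * _ at h1
  rw [h2, h3] at h1
  apply Nat.eq_of_mul_eq_mul_left (show 0 < p * Nat.card K by positivity)
  exact h1.symm.trans (by ring)

omit [Finite G] in
theorem commutator_eq_top [IsSimpleGroup G] (hG : ¬ IsMulCommutative G) : commutator G = ⊤ := by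
  rcases (inferInstance : (commutator G).Normal).eq_bot_or_eq_top with h | h
  · exfalso
    apply hG
    rw [commutator_def, commutator_eq_bot_iff_le_centralizer] at h
    exact ⟨⟨fun a b => (mem_centralizer_iff.1 (h (Subgroup.mem_top a)) b trivial).symm⟩⟩
  · exact h

/-- From `K = 1` to the hypotheses of the recognition theorem. -/
theorem exists_selfCent [IsSimpleGroup G] {p : ℕ} [hp : Fact p.Prime]
    {P : Sylow p G} (hP : Nat.card P = p) {e : ℕ} {K : Subgroup G}
    (hloc : PrimeLocal.IsLocal p P e K) (hbig : Nat.card G < p ^ 3) (hK : Nat.card K = 1) :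
    ∃ z : G, orderOf z = p ∧ centralizer ({z} : Set G) = zpowers z ∧
      2 * Nat.card (Sylow p G) < (p + 1) * (p + 2) := by
  have hpp := hp.out
  have hP' : Nat.card (P : Subgroup G) = p := hP
  obtain ⟨x₀, hx₀, hx₀1⟩ : ∃ x ∈ (P : Subgroup G), x ≠ 1 := by
    have hnt : Nontrivial (P : Subgroup G) := by
      rw [← Finite.one_lt_card_iff_nontrivial, hP']
      exact hpp.one_lt
    obtain ⟨x, hx⟩ := exists_ne (1 : (P : Subgroup G))
    exact ⟨x, x.2, fun h => hx (Subtype.ext h)⟩
  have hzP : zpowers x₀ = (P : Subgroup G) := by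
    apply le_antisymm
    · rwa [zpowers_le]
    · intro y hy
      exact SylowPrime.mem_zpowers_of_card_prime hpp hP' hx₀ hx₀1 hy
  have hC := centralizer_eq hpp hP' hx₀ hx₀1
  have hcardC := hloc.card_centralizer
  rw [hK, mul_one] at hcardC
  refine ⟨x₀, ?_, ?_, ?_⟩
  · rw [← Nat.card_zpowers, hzP, hP']
  · rw [hC]
    symm
    apply Subgroup.eq_of_le_of_card_ge
    · rw [zpowers_le, ← hC, mem_centralizer_singleton_iff]
    · rw [hzP, hP']
      exact hcardC.le
  · have h2 := hloc.card_eq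
    rw [hK, mul_one] at h2
    rw [h2] at hbig
    have h3 : p * (Nat.card (Sylow p G) * e) < p * p ^ 2 := by
      calc p * (Nat.card (Sylow p G) * e) = Nat.card (Sylow p G) * (p * e) := by ring
        _ < p ^ 3 := hbig
        _ = p * p ^ 2 := by ring
    have h4 := Nat.lt_of_mul_lt_mul_left h3
    have h5 : Nat.card (Sylow p G) * 2 ≤ Nat.card (Sylow p G) * e :=
      Nat.mul_le_mul_left _ hloc.one_lt
    nlinarith

end Cfsg.Agent.SmallSimple.LargePrime
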