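import Cfsg.Agent.SmallSimple.InvolPairsBlock

/-!
# Existence of the data `CentData`, `InvData` of `InvolPairs`

For a Sylow `p`-subgroup `P` of order `p` (`p` odd): `C(P) = P × K`, `K` characteristic in `C(P)`,
so normalised by `N(P)`; `|C(P)| = p |K|`.
(file of helper241)
-/

set_option autoImplicit false

namespace Cfsg.Agent.SmallSimple.InvolPairsData

open Cfsg Subgroup
open Cfsg.Agent.SmallSimple.InvolPairs

universe u
variable {G : Type u} [Group G]

theorem exists_centData [Finite G] {p : ℕ} [Fact p.Prime] (hp2 : p ≠ 2) (P : Sylow p G)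
    (hP : Nat.card P = p) :
    ∃ K : Subgroup G, (∀ x ∈ P, x ≠ 1 → CentData p x K) ∧
      (∀ u ∈ normalizer (P : Set G), ∀ k ∈ K, u * k * u⁻¹ ∈ K) ∧
      (∀ g, g ∈ K ↔ g ∈ centralizer (P : Set G) ∧ ¬ p ∣ orderOf g) := by
  classical
  have hp : p.Prime := Fact.out
  have hcyc : IsCyclic (P : Subgroup G) := isCyclic_of_prime_card hP
  have hcomm : IsMulCommutative (P : Subgroup G) := inferInstance
  set C : Subgroup G := centralizer (P : Set G) with hC
  have hPC : (P : Subgroup G) ≤ C := Subgroup.le_centralizer (P : Subgroup G)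
  let Q : Sylow p C := P.subtype hPC
  have hQ : ∀ c : C, c ∈ Q ↔ (c : G) ∈ P := fun c => by
    change c ∈ (Q : Subgroup C) ↔ _
    rw [Sylow.coe_subtype, mem_subgroupOf]; rfl
  have hQN : normalizer ((Q : Subgroup C) : Set C) ≤ centralizer ((Q : Subgroup C) : Set C) := by
    intro c _
    rw [mem_centralizer_iff]
    intro q hq
    have hq' : (q : G) ∈ P := (hQ q).1 hq
    exact Subtype.ext (mem_centralizer_iff.1 c.2 q hq')
  have hcompl := MonoidHom.ker_transferSylow_isComplement' Q hQN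
  have hnd := MonoidHom.not_dvd_card_ker_transferSylow Q hQN
  set L : Subgroup C := (MonoidHom.transferSylow Q hQN).ker with hL
  have hord : ∀ c : C, c ∈ L ↔ ¬ p ∣ orderOf (c : G) := by
    intro c
    have hoc : orderOf (c : G) = orderOf c :=
      orderOf_injective C.subtype C.subtype_injective c
    rw [hoc]
    constructor
    · intro hc hd
      have h1 : orderOf (⟨c, hc⟩ : L) = orderOf c :=
        (orderOf_injective L.subtype L.subtype_injective ⟨c, hc⟩).symm
      exact hnd (dvd_trans (h1 ▸ hd) (orderOf_dvd_natCard (⟨c, hc⟩ : L)))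
    · intro hd
      rw [hL, MonoidHom.mem_ker]
      have h1 : orderOf (MonoidHom.transferSylow Q hQN c) ∣ orderOf c :=
        orderOf_map_dvd _ c
      have h2 : orderOf (MonoidHom.transferSylow Q hQN c) ∣ Nat.card (Q : Subgroup C) :=
        orderOf_dvd_natCard _
      have h3 : Nat.card (Q : Subgroup C) = p := by
        refine Eq.trans ?_ hP
        refine Nat.card_congr ⟨fun q => ⟨q.1.1, (hQ q.1).1 q.2⟩, fun q => ⟨⟨q.1, hPC q.2⟩,
          (hQ _).2 q.2⟩, fun q => rfl, fun q => rfl⟩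
      rw [h3] at h2
      rcases (Nat.dvd_prime hp).1 h2 with h4 | h4
      · exact orderOf_eq_one_iff.1 h4
      · exact absurd (h4 ▸ h1) hd
  refine ⟨L.map C.subtype, ?_, ?_, ?_⟩
  · intro x hx hx1
    have hxo : orderOf x = p := Blocks.CyclicOrtho.orderOf_eq P hP hx hx1
    refine ⟨hxo, hp.odd_of_ne_two hp2, ?_, ?_, ?_⟩
    · rintro _ ⟨k, _, rfl⟩
      exact (mem_centralizer_iff.1 k.2 x hx).symm
    · intro c hc
      have hcC : c ∈ C := by
        have h1 := Blocks.CyclicOrtho.centralizer_eq P hP hx hx1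
        have h2 : c ∈ centralizer ({x} : Set G) := mem_centralizer_singleton_iff.2 hc
        rw [h1] at h2
        exact h2
      obtain ⟨⟨l, q⟩, hlq⟩ := (hcompl.2 (⟨c, hcC⟩ : C))
      have hlq' : ((l : C) : G) * ((q : C) : G) = c := congrArg Subtype.val hlq
      have hqP : ((q : C) : G) ∈ P := (hQ q).1 q.2
      have hz : ((q : C) : G) ∈ zpowers x := by
        have := InvolColumn.zpowers_eq_of_card_prime hp hP x hx hx1
        rw [← this]; exact hqP
      obtain ⟨i, hi⟩ := mem_zpowers_iff.1 hz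
      refine ⟨i, ((l : C) : G), ⟨l, l.2, rfl⟩, ?_⟩
      rw [hi, ← hlq']
      exact (mem_centralizer_iff.1 (l : C).2 _ hqP).symm
    · rintro _ ⟨k, hk, rfl⟩
      have := (hord k).1 hk
      exact (Nat.Prime.coprime_iff_not_dvd hp).2 this |>.symm
  · rintro u hu _ ⟨k, hk, rfl⟩
    have hmem : u * (k : G) * u⁻¹ ∈ C := by
      refine mem_centralizer_iff.2 ?_
      intro q hq
      have h1 : u⁻¹ * q * u ∈ (P : Subgroup G) := by
        have h2 := (mem_normalizer_iff.1 (Subgroup.inv_mem _ hu) q).1 hq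
        rwa [inv_inv] at h2
      have h3 := mem_centralizer_iff.1 k.2 _ h1
      calc q * (u * (k : G) * u⁻¹) = u * ((u⁻¹ * q * u) * (k : G)) * u⁻¹ := by group
        _ = u * ((k : G) * (u⁻¹ * q * u)) * u⁻¹ := by rw [h3]
        _ = _ := by group
    refine ⟨⟨u * (k : G) * u⁻¹, hmem⟩, ?_, rfl⟩
    change (⟨u * (k : G) * u⁻¹, hmem⟩ : C) ∈ L
    rw [hord]
    have h1 : orderOf (u * (k : G) * u⁻¹) = orderOf (k : G) :=
      orderOf_injective (MulAut.conj u).toMonoidHom (MulAut.conj u).injective (k : G)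
    change ¬ p ∣ orderOf (u * (k : G) * u⁻¹)
    rw [h1]
    exact (hord k).1 hk
  · intro g
    constructor
    · rintro ⟨k, hk, rfl⟩
      exact ⟨k.2, (hord k).1 hk⟩
    · rintro ⟨hgC, hgo⟩
      exact ⟨⟨g, hgC⟩, (hord ⟨g, hgC⟩).2 hgo, rfl⟩

/-- An involution inverting `x ∈ P#` gives `InvData`. -/
theorem invData [Finite G] {p : ℕ} [Fact p.Prime] {P : Sylow p G} (hP : Nat.card P = p)
    {K : Subgroup G} (hK : ∀ u ∈ normalizer (P : Set G), ∀ k ∈ K, u * k * u⁻¹ ∈ K)
    {x w : G} (hx : x ∈ P) (hx1 : x ≠ 1) (hw : w * w = 1) (hwx : w * x * w⁻¹ = x⁻¹) :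
    InvData x K w := by
  have hp : p.Prime := Fact.out
  refine ⟨hw, hwx, hK w ?_⟩
  have hz := InvolColumn.zpowers_eq_of_card_prime hp hP x hx hx1
  refine mem_normalizer_iff.2 ?_
  have h1 : (zpowers x).map (MulAut.conj w).toMonoidHom = zpowers x := by
    rw [MonoidHom.map_zpowers]
    have : (MulAut.conj w).toMonoidHom x = x⁻¹ := hwx
    rw [this, zpowers_inv]
  intro g
  rw [hz]
  constructor
  · intro hg
    rw [← h1]
    exact ⟨g, hg, rfl⟩
  · intro hg
    rw [← h1] at hg
    obtain ⟨g', hg', hg''⟩ := hg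
    have : g' = g := (MulAut.conj w).injective hg''
    rwa [← this]

end Cfsg.Agent.SmallSimple.InvolPairsData
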