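import Mathlib
import Cfsg.Agent.SmallSimple.SelfCentPrime

/-!
Counting elements by conjugacy classes: if every element of a conjugation invariant subset has a
class of size divisible by `d`, then the subset has cardinality divisible by `d`.
-/

set_option autoImplicit false

namespace Cfsg.Agent.SmallSimple.ClassDvd

open Subgroup

/-- If the class of every element satisfying the conjugation invariant property `p` has size
divisible by `d`, then `d` divides the number of elements satisfying `p`. -/
theorem dvd_card_of_dvd_classes {G : Type*} [Group G] [Finite G] (p : G → Prop)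
    (hp : ∀ g x, p x → p (g * x * g⁻¹)) (d : ℕ)
    (hd : ∀ x, p x → d ∣ Nat.card (ConjClasses.mk x).carrier) : d ∣ Nat.card {x // p x} := by
  classical
  have hconj : ∀ {x y : G}, IsConj x y → p x → p y := by
    intro x y hxy hx
    obtain ⟨g, rfl⟩ := isConj_iff.mp hxy
    exact hp g x hx
  let f : (Σ c : {c : ConjClasses G // ∃ g : G, ConjClasses.mk g = c ∧ p g},
      c.1.carrier) → {x : G // p x} :=
    fun a => ⟨a.2.1, by
      obtain ⟨⟨c, g, hg, hgo⟩, ⟨x, hx⟩⟩ := a
      subst hg
      have hx' : x ∈ (ConjClasses.mk g).carrier := hx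
      rw [ConjClasses.mem_carrier_iff_mk_eq, ConjClasses.mk_eq_mk_iff_isConj] at hx'
      exact hconj hx'.symm hgo⟩
  have hf : Function.Bijective f := by
    constructor
    · rintro ⟨⟨c, hc⟩, ⟨x, hx⟩⟩ ⟨⟨d, hd⟩, ⟨y, hy⟩⟩ h
      have hxy : x = y := congrArg Subtype.val h
      subst hxy
      rw [ConjClasses.mem_carrier_iff_mk_eq] at hx hy
      subst hx
      subst hy
      rfl
    · rintro ⟨x, hx⟩
      exact ⟨⟨⟨ConjClasses.mk x, x, rfl, hx⟩, ⟨x, ConjClasses.mem_carrier_mk⟩⟩, rfl⟩
  rw [← Nat.card_congr (Equiv.ofBijective f hf)]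
  have : Fintype {c : ConjClasses G // ∃ g : G, ConjClasses.mk g = c ∧ p g} :=
    Fintype.ofFinite _
  rw [Nat.card_sigma]
  apply Finset.dvd_sum
  rintro ⟨c, g, hg, hgo⟩ -
  subst hg
  exact hd g hgo

/-- The same with centralizers: `|C(x)|` divides `m` and `|G| = m * d`. -/
theorem dvd_card_of_centralizer {G : Type*} [Group G] [Finite G] (p : G → Prop)
    (hp : ∀ g x, p x → p (g * x * g⁻¹)) (d m : ℕ) (hG : Nat.card G = m * d)
    (hd : ∀ x, p x → Nat.card (centralizer ({x} : Set G)) ∣ m) : d ∣ Nat.card {x // p x} := by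
  apply dvd_card_of_dvd_classes p hp
  intro x hx
  obtain ⟨k, hk⟩ := hd x hx
  have h1 := SelfCentPrime.card_carrier_mul_card_centralizer x
  rw [hG, hk] at h1
  refine ⟨k, ?_⟩
  have hpos : 0 < Nat.card (centralizer ({x} : Set G)) := Nat.card_pos
  apply Nat.eq_of_mul_eq_mul_right hpos
  rw [h1]
  ring

theorem orderOf_conj {G : Type*} [Group G] (g x : G) : orderOf (g * x * g⁻¹) = orderOf x := by
  have := orderOf_injective (MulAut.conj g).toMonoidHom (MulAut.conj g).injective x
  simpa using this

/-- centralizers of conjugate elements have the same order -/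
theorem card_centralizer_conj {G : Type*} [Group G] [Finite G] {x y : G} (h : IsConj x y) :
    Nat.card (centralizer ({x} : Set G)) = Nat.card (centralizer ({y} : Set G)) := by
  have h1 := SelfCentPrime.card_carrier_mul_card_centralizer x
  have h2 := SelfCentPrime.card_carrier_mul_card_centralizer y
  rw [ConjClasses.mk_eq_mk_iff_isConj.2 h, ← h2] at h1
  have hpos : 0 < Nat.card (ConjClasses.mk y).carrier := by
    have : Nonempty (ConjClasses.mk y).carrier := ⟨⟨y, ConjClasses.mem_carrier_mk⟩⟩
    exact Nat.card_pos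
  exact Nat.eq_of_mul_eq_mul_left hpos h1

theorem centralizer_pow_le {G : Type*} [Group G] (x : G) (k : ℕ) :
    centralizer ({x} : Set G) ≤ centralizer ({x ^ k} : Set G) := by
  intro g hg
  rw [mem_centralizer_iff] at hg ⊢
  intro y hy
  rw [Set.mem_singleton_iff] at hy
  rw [hy]
  have h1 : Commute x g := hg x rfl
  exact h1.pow_left k

theorem mem_centralizer_singleton {G : Type*} [Group G] {x g : G} :
    g ∈ centralizer ({x} : Set G) ↔ x * g = g * x := by
  rw [mem_centralizer_iff]
  constructor
  · intro h
    exact h x rfl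
  · intro h y hy
    rw [Set.mem_singleton_iff] at hy
    rw [hy, h]

end Cfsg.Agent.SmallSimple.ClassDvd
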