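import Mathlib

/-!
A finite abelian group with an automorphism transitive on the non-zero elements is a finite field
with a multiplication: if `δ` is an injective endomorphism of `A` whose powers act transitively on
`A \ {0}` then `A` can be identified with the field `F` (`|F| = |A|`) so that `δ` is multiplication
by some `c : F`.
-/

set_option autoImplicit false

namespace Cfsg.Agent.SmallSimple.FieldFromCycle

open Polynomial

section
variable {A : Type*} [AddCommGroup A] (δ : AddMonoid.End A)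

/-- evaluation of integer polynomials at `δ` -/
noncomputable def ev : ℤ[X] →+* AddMonoid.End A := (aeval δ : ℤ[X] →ₐ[ℤ] AddMonoid.End A).toRingHom

theorem ev_X : ev δ X = δ := aeval_X δ

theorem ev_comm (f g : ℤ[X]) (a : A) : ev δ f (ev δ g a) = ev δ g (ev δ f a) := by
  have h1 : (ev δ f * ev δ g) a = (ev δ g * ev δ f) a := by
    rw [← map_mul, ← map_mul, mul_comm]
  exact h1

theorem ev_X_pow (k : ℕ) (a : A) : ev δ (X ^ k) a = δ^[k] a := by
  rw [map_pow, ev_X]
  exact congrFun (AddMonoid.End.coe_pow _ δ k) a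

variable {δ}

theorem iterate_ne_zero (hδ : Function.Injective δ) {a : A} (ha : a ≠ 0) (k : ℕ) :
    δ^[k] a ≠ 0 := by
  induction k with
  | zero => exact ha
  | succ k ih =>
    rw [Function.iterate_succ_apply']
    intro h
    exact ih (hδ (by rw [h, map_zero]))

/-- if `f(δ)` kills one nonzero element, then it is zero -/
theorem ev_eq_zero (hδ : Function.Injective δ) {a₀ : A}
    (htrans : ∀ a : A, a ≠ 0 → ∃ k : ℕ, δ^[k] a₀ = a) (f : ℤ[X]) {a : A} (ha : a ≠ 0)
    (h : ev δ f a = 0) : ev δ f = 0 := by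
  obtain ⟨k, rfl⟩ := htrans a ha
  have h1 : ev δ f a₀ = 0 := by
    by_contra hne
    have h2 := iterate_ne_zero hδ hne k
    rw [← ev_X_pow, ev_comm, ev_X_pow, h] at h2
    exact h2 rfl
  ext b
  by_cases hb : b = 0
  · rw [hb, map_zero, map_zero]
  · obtain ⟨m, rfl⟩ := htrans b hb
    rw [← ev_X_pow, ev_comm, h1, map_zero]
    rfl

end

/-- **Field structure from a cyclic automorphism group transitive on nonzero elements.** -/
theorem exists_equiv {A F : Type*} [AddCommGroup A] [Finite A] [Field F] [Finite F]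
    (hcard : Nat.card A = Nat.card F) (δ : AddMonoid.End A) (hδ : Function.Injective δ) (a₀ : A)
    (ha₀ : a₀ ≠ 0) (htrans : ∀ a : A, a ≠ 0 → ∃ k : ℕ, δ^[k] a₀ = a) :
    ∃ (α : F ≃+ A) (c : F), α 1 = a₀ ∧ ∀ x, α (c * x) = δ (α x) := by
  classical
  set I : Ideal ℤ[X] := RingHom.ker (ev δ) with hI
  have hprime : I.IsPrime := by
    refine ⟨?_, ?_⟩
    · intro h
      have h1 : (1 : ℤ[X]) ∈ I := h ▸ Submodule.mem_top
      rw [hI, RingHom.mem_ker, map_one] at h1
      have h2 : (1 : AddMonoid.End A) a₀ = (0 : AddMonoid.End A) a₀ := by rw [h1]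
      exact ha₀ h2
    · intro f g hfg
      by_cases hg : ev δ g a₀ = 0
      · right
        exact ev_eq_zero hδ htrans g ha₀ hg
      · left
        refine ev_eq_zero hδ htrans f hg ?_
        have h1 : ev δ (f * g) = 0 := hfg
        rw [map_mul] at h1
        have h2 : (ev δ f * ev δ g) a₀ = (0 : AddMonoid.End A) a₀ := by rw [h1]
        exact h2
  have hdom : IsDomain (ℤ[X] ⧸ I) := Ideal.Quotient.isDomain I
  have hkinj : Function.Injective (RingHom.kerLift (ev δ)) := RingHom.kerLift_injective _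
  -- evaluation at `a₀` on the quotient
  have hev_inj : Function.Injective (fun r : ℤ[X] ⧸ I => (RingHom.kerLift (ev δ) r) a₀) := by
    intro r s hrs
    have h1 : (RingHom.kerLift (ev δ) (r - s)) a₀ = 0 := by
      rw [map_sub]
      exact sub_eq_zero.2 hrs
    obtain ⟨f, hf⟩ := Ideal.Quotient.mk_surjective (r - s)
    rw [← hf] at h1
    have h2 : ev δ f a₀ = 0 := h1
    have h3 := ev_eq_zero hδ htrans f ha₀ h2
    have h4 : f ∈ I := h3
    rw [← Ideal.Quotient.eq_zero_iff_mem, hf] at h4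
    exact sub_eq_zero.1 h4
  have hev_surj : Function.Surjective (fun r : ℤ[X] ⧸ I => (RingHom.kerLift (ev δ) r) a₀) := by
    intro a
    by_cases ha : a = 0
    · refine ⟨0, ?_⟩
      show (RingHom.kerLift (ev δ) 0) a₀ = a
      rw [map_zero, ha]
      rfl
    · obtain ⟨k, rfl⟩ := htrans a ha
      refine ⟨Ideal.Quotient.mk I (X ^ k), ?_⟩
      show ev δ (X ^ k) a₀ = _
      rw [ev_X_pow]
  have hfin : Finite (ℤ[X] ⧸ I) := Finite.of_injective _ hev_inj
  have hfield : IsField (ℤ[X] ⧸ I) := Finite.isField_of_domain _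
  have hmax : I.IsMaximal := Ideal.Quotient.maximal_of_isField I hfield
  let _ : Field (ℤ[X] ⧸ I) := Ideal.Quotient.field I
  have hcard2 : Nat.card (ℤ[X] ⧸ I) = Nat.card F := by
    rw [← hcard]
    exact Nat.card_congr (Equiv.ofBijective _ ⟨hev_inj, hev_surj⟩)
  let _ : Fintype F := Fintype.ofFinite F
  let _ : Fintype (ℤ[X] ⧸ I) := Fintype.ofFinite _
  let e : F ≃+* (ℤ[X] ⧸ I) := FiniteField.ringEquivOfCardEq (by
    rw [← Nat.card_eq_fintype_card, ← Nat.card_eq_fintype_card, hcard2])
  let ψ : F →+* AddMonoid.End A := (RingHom.kerLift (ev δ)).comp (e : F →+* (ℤ[X] ⧸ I))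
  let α₀ : F →+ A := AddMonoidHom.mk' (fun x => ψ x a₀) (by
    intro x y
    show ψ (x + y) a₀ = ψ x a₀ + ψ y a₀
    rw [map_add]
    rfl)
  have hα : Function.Bijective α₀ := by
    have h1 : Function.Bijective (fun r : ℤ[X] ⧸ I => (RingHom.kerLift (ev δ) r) a₀) :=
      ⟨hev_inj, hev_surj⟩
    have h2 : Function.Bijective ((fun r : ℤ[X] ⧸ I => (RingHom.kerLift (ev δ) r) a₀) ∘ e) :=
      h1.comp e.bijective
    exact h2
  refine ⟨AddEquiv.ofBijective α₀ hα, e.symm (Ideal.Quotient.mk I X), ?_, ?_⟩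
  · show ψ 1 a₀ = a₀
    rw [map_one]
    rfl
  · intro x
    show ψ (e.symm (Ideal.Quotient.mk I X) * x) a₀ = δ (ψ x a₀)
    have h1 : ψ (e.symm (Ideal.Quotient.mk I X)) = δ := by
      show RingHom.kerLift (ev δ) (e (e.symm (Ideal.Quotient.mk I X))) = δ
      rw [e.apply_symm_apply]
      exact ev_X δ
    rw [map_mul, h1]
    rfl

end Cfsg.Agent.SmallSimple.FieldFromCycle
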