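import Mathlib

/-!
The action of `SL(2, F)` on the projective line `OnePoint F`, and the recognition principle: a
finite group `G` with `|G| = |PSL(2, F)|` acting faithfully on `OnePoint F` by Moebius
transformations (of determinant one) is isomorphic to `PSL(2, F)`.
-/

set_option autoImplicit false

namespace Cfsg.Agent.SmallSimple.MobiusHom

open Matrix MulAction

section mob
variable (F : Type*) [Field F] [DecidableEq F]

/-- The action of `SL(2, F)` on the projective line by Moebius transformations. -/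
noncomputable def mob : SpecialLinearGroup (Fin 2) F →* Equiv.Perm (OnePoint F) :=
  (MulAction.toPermHom (GL (Fin 2) F) (OnePoint F)).comp SpecialLinearGroup.toGL

variable {F}

theorem mob_infty (A : SpecialLinearGroup (Fin 2) F) :
    mob F A OnePoint.infty = if A.1 1 0 = 0 then OnePoint.infty
      else ((A.1 0 0 / A.1 1 0 : F) : OnePoint F) :=
  OnePoint.smul_infty_eq_ite _

theorem mob_coe (A : SpecialLinearGroup (Fin 2) F) (x : F) :
    mob F A (x : OnePoint F) = if A.1 1 0 * x + A.1 1 1 = 0 then OnePoint.infty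
      else (((A.1 0 0 * x + A.1 0 1) / (A.1 1 0 * x + A.1 1 1) : F) : OnePoint F) :=
  OnePoint.smul_some_eq_ite

theorem center_le_ker : Subgroup.center (SpecialLinearGroup (Fin 2) F) ≤ (mob F).ker := by
  intro A hA
  rw [Matrix.SpecialLinearGroup.mem_center_iff] at hA
  obtain ⟨r, hr, hrA⟩ := hA
  have hr0 : r ≠ 0 := by
    rintro rfl
    norm_num at hr
  have h00 : A.1 0 0 = r := by rw [← hrA]; simp
  have h11 : A.1 1 1 = r := by rw [← hrA]; simp
  have h01 : A.1 0 1 = 0 := by rw [← hrA]; simp
  have h10 : A.1 1 0 = 0 := by rw [← hrA]; simp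
  rw [MonoidHom.mem_ker]
  apply Equiv.ext
  intro x
  induction x using OnePoint.rec with
  | infty => rw [mob_infty, if_pos h10]; rfl
  | coe x =>
    rw [mob_coe, h10, h11, h00, h01, zero_mul, zero_add, if_neg hr0, add_zero,
      mul_div_cancel_left₀ _ hr0]
    rfl

/-- the translation `x ↦ x + b` -/
def tr (b : F) : SpecialLinearGroup (Fin 2) F := ⟨!![1, b; 0, 1], by simp [Matrix.det_fin_two]⟩

/-- the dilation `x ↦ r² x` -/
def dil (r : F) (hr : r ≠ 0) : SpecialLinearGroup (Fin 2) F :=
  ⟨!![r, 0; 0, r⁻¹], by simp [Matrix.det_fin_two, hr]⟩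

/-- the map `x ↦ - 1 / x` -/
def wel : SpecialLinearGroup (Fin 2) F := ⟨!![0, 1; -1, 0], by simp [Matrix.det_fin_two]⟩

theorem mob_tr_infty (b : F) : mob F (tr b) OnePoint.infty = OnePoint.infty := by
  rw [mob_infty, if_pos (by simp [tr])]

theorem mob_tr_coe (b x : F) : mob F (tr b) (x : OnePoint F) = ((x + b : F) : OnePoint F) := by
  rw [mob_coe, if_neg (by simp [tr])]
  congr 1
  simp [tr]

theorem mob_dil_infty (r : F) (hr : r ≠ 0) :
    mob F (dil r hr) OnePoint.infty = OnePoint.infty := by
  rw [mob_infty, if_pos (by simp [dil])]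

theorem mob_dil_coe (r : F) (hr : r ≠ 0) (x : F) :
    mob F (dil r hr) (x : OnePoint F) = ((r * r * x : F) : OnePoint F) := by
  rw [mob_coe, if_neg (by simp [dil, hr])]
  congr 1
  simp [dil]
  ring

theorem mob_wel_infty : mob F wel OnePoint.infty = ((0 : F) : OnePoint F) := by
  rw [mob_infty, if_neg (by simp [wel])]
  congr 1
  simp [wel]

theorem mob_wel_zero : mob F wel ((0 : F) : OnePoint F) = OnePoint.infty := by
  rw [mob_coe, if_pos (by simp [wel])]

theorem mob_wel_coe (x : F) (hx : x ≠ 0) :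
    mob F wel (x : OnePoint F) = ((-x⁻¹ : F) : OnePoint F) := by
  rw [mob_coe, if_neg (by simp [wel, hx])]
  congr 1
  simp [wel, div_neg]

/-- recognition principle -/
theorem nonempty_mulEquiv_of_range_le [Finite F] {G : Type*} [Group G] [Finite G]
    (Ψ : G →* Equiv.Perm (OnePoint F)) (hΨ : Function.Injective Ψ)
    (hle : Ψ.range ≤ (mob F).range)
    (hcard : Nat.card G = Nat.card (Matrix.ProjectiveSpecialLinearGroup (Fin 2) F)) :
    Nonempty (G ≃* Matrix.ProjectiveSpecialLinearGroup (Fin 2) F) := by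
  let φ : Matrix.ProjectiveSpecialLinearGroup (Fin 2) F →* Equiv.Perm (OnePoint F) :=
    QuotientGroup.lift _ (mob F) center_le_ker
  have hφr : φ.range = (mob F).range := by
    ext σ
    constructor
    · rintro ⟨x, rfl⟩
      obtain ⟨A, rfl⟩ := QuotientGroup.mk_surjective x
      exact ⟨A, rfl⟩
    · rintro ⟨A, rfl⟩
      exact ⟨(A : Matrix.ProjectiveSpecialLinearGroup (Fin 2) F), rfl⟩
  have hfin : Finite (Matrix.ProjectiveSpecialLinearGroup (Fin 2) F) := by
    apply Nat.finite_of_card_ne_zero
    rw [← hcard]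
    exact Nat.card_pos.ne'
  have hfin2 : Finite (OnePoint F) := inferInstanceAs (Finite (Option F))
  have h1 : Nat.card G = Nat.card Ψ.range :=
    Nat.card_congr (MonoidHom.ofInjective hΨ).toEquiv
  have h2 : Nat.card φ.range ≤ Nat.card (Matrix.ProjectiveSpecialLinearGroup (Fin 2) F) :=
    Nat.card_le_card_of_surjective φ.rangeRestrict φ.rangeRestrict_surjective
  have hle' : Ψ.range ≤ φ.range := hφr ▸ hle
  have heq : Ψ.range = φ.range := by
    apply Subgroup.eq_of_le_of_card_ge hle'
    rw [← h1, hcard]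
    exact h2
  have hbij : Function.Bijective φ.rangeRestrict := by
    refine (Nat.bijective_iff_surjective_and_card _).2 ⟨φ.rangeRestrict_surjective, ?_⟩
    rw [← heq, ← h1, hcard]
  exact ⟨(MonoidHom.ofInjective hΨ).trans ((MulEquiv.subgroupCongr heq).trans
    (MulEquiv.ofBijective _ hbij).symm)⟩

end mob

end Cfsg.Agent.SmallSimple.MobiusHom
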