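import Mathlib
import Cfsg.Agent.SmallSimple.FieldFromCycle
import Cfsg.Agent.SmallSimple.MobiusHom
import Cfsg.Agent.SmallSimple.PSLTwoPart

/-!
Recognition of `PSL(2, q)`, `q` a power of two, as a sharply 3-transitive group: the stabilizer of a
point `i` contains an elementary abelian group `S` of order `q` which is regular on the other
points, and there are elements `d`, `t` with `t d t⁻¹ = d⁻¹`, `t² = 1`, `t i ≠ i`, `d i = i`,
such that the powers of `d` act transitively (by conjugation) on the nonidentity elements of `S`.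
-/

set_option autoImplicit false

namespace Cfsg.Agent.SmallSimple.PSL2EvenRecog

open MulAction Cfsg.Agent.SmallSimple.MobiusHom

theorem card_orbit_mul {G Ω : Type*} [Group G] [Finite G] [MulAction G Ω] (K : Subgroup G) (x : Ω) :
    Nat.card (orbit K x) * Nat.card (K ⊓ stabilizer G x : Subgroup G) = Nat.card K := by
  have h1 : (stabilizer G x).subgroupOf K = stabilizer K x := by
    ext k
    rfl
  have h2 : Nat.card (stabilizer K x) = Nat.card (K ⊓ stabilizer G x : Subgroup G) := by
    rw [← h1, ← Subgroup.inf_subgroupOf_left]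
    exact Nat.card_congr (Subgroup.subgroupOfEquivOfLe inf_le_left).toEquiv
  have h3 : (stabilizer K x).index = Nat.card (orbit K x) := MulAction.index_stabilizer K x
  rw [← h2, ← h3]
  exact Subgroup.index_mul_card _

/-- lower bound for the order of a subgroup acting 3-transitively -/
theorem card_ge_of_three_trans {G Ω : Type*} [Group G] [Finite G] [MulAction G Ω] [Finite Ω]
    (K : Subgroup G) (i o w : Ω) (h1 : ∀ x : Ω, ∃ k ∈ K, k • i = x)
    (h2 : ∀ x : Ω, x ≠ i → ∃ k ∈ K, k • i = i ∧ k • o = x)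
    (h3 : ∀ x : Ω, x ≠ i → x ≠ o → ∃ k ∈ K, k • i = i ∧ k • o = o ∧ k • w = x) {q : ℕ}
    (hq : Nat.card Ω = q + 1) (hio : o ≠ i) : (q + 1) * (q * (q - 1)) ≤ Nat.card K := by
  classical
  rw [← card_orbit_mul K i, ← card_orbit_mul (K ⊓ stabilizer G i) o,
    ← card_orbit_mul ((K ⊓ stabilizer G i) ⊓ stabilizer G o) w]
  have c1 : q + 1 ≤ Nat.card (orbit K i) := by
    rw [← hq]
    refine Nat.card_le_card_of_injective (fun x : Ω => (⟨x, ?_⟩ : orbit K i)) ?_
    · obtain ⟨k, hk, hk2⟩ := h1 x
      exact ⟨⟨k, hk⟩, hk2⟩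
    · intro x y hxy
      exact congrArg Subtype.val hxy
  have hcardne : Nat.card {x : Ω // x ≠ i} = q := by
    have : Fintype Ω := Fintype.ofFinite Ω
    rw [Nat.card_eq_fintype_card] at hq ⊢
    rw [Fintype.card_subtype_compl, Fintype.card_subtype_eq, hq]
    rfl
  have c2 : q ≤ Nat.card (orbit (K ⊓ stabilizer G i : Subgroup G) o) := by
    rw [← hcardne]
    refine Nat.card_le_card_of_injective (fun x : {x : Ω // x ≠ i} =>
      (⟨x.1, ?_⟩ : orbit (K ⊓ stabilizer G i : Subgroup G) o)) ?_
    · obtain ⟨k, hk, hk2, hk3⟩ := h2 x.1 x.2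
      exact ⟨⟨k, hk, hk2⟩, hk3⟩
    · intro x y hxy
      have h := congrArg Subtype.val hxy
      exact Subtype.ext h
  have hcardne2 : Nat.card {x : Ω // x ≠ i ∧ x ≠ o} = q - 1 := by
    have : Fintype Ω := Fintype.ofFinite Ω
    have h4 : Nat.card {x : Ω // ¬ (x = i ∨ x = o)} = q - 1 := by
      rw [Nat.card_eq_fintype_card] at hq ⊢
      rw [Fintype.card_subtype_compl, hq]
      have : Fintype.card {x : Ω // x = i ∨ x = o} = 2 := by
        rw [Fintype.card_subtype]
        have : (Finset.univ.filter (fun x : Ω => x = i ∨ x = o)) = {i, o} := by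
          ext x; simp
        rw [this, Finset.card_pair (Ne.symm hio)]
      rw [this]
      omega
    rw [← h4]
    apply Nat.card_congr
    exact Equiv.subtypeEquivRight (fun x => by tauto)
  have c3 : q - 1 ≤ Nat.card (orbit ((K ⊓ stabilizer G i) ⊓ stabilizer G o : Subgroup G) w) := by
    rw [← hcardne2]
    refine Nat.card_le_card_of_injective (fun x : {x : Ω // x ≠ i ∧ x ≠ o} =>
      (⟨x.1, ?_⟩ : orbit ((K ⊓ stabilizer G i) ⊓ stabilizer G o : Subgroup G) w)) ?_
    · obtain ⟨k, hk, hk2, hk3, hk4⟩ := h3 x.1 x.2.1 x.2.2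
      exact ⟨⟨k, ⟨hk, hk2⟩, hk3⟩, hk4⟩
    · intro x y hxy
      have h := congrArg Subtype.val hxy
      exact Subtype.ext h
  have c4 : 1 ≤ Nat.card ((K ⊓ stabilizer G i ⊓ stabilizer G o) ⊓ stabilizer G w : Subgroup G) :=
    Nat.card_pos
  calc (q + 1) * (q * (q - 1)) = (q + 1) * (q * ((q - 1) * 1)) := by rw [mul_one]
    _ ≤ _ := by gcongr

/-- **Recognition of `PSL(2, q)`, `q` even.** -/
theorem psl2_even_of_perm {G Ω F : Type*} [Group G] [Finite G] [MulAction G Ω] [FaithfulSMul G Ω]
    [Field F] [Finite F] [CharP F 2] (S : Subgroup G) (hS : ∀ s ∈ S, s * s = 1)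
    (hcard : Nat.card S = Nat.card F) (i : Ω) (d t : G)
    (hSi : ∀ s ∈ S, s • i = i) (hti : t • i ≠ i)
    (hreg : ∀ ω, ω ≠ i → ∃ s ∈ S, s • t • i = ω)
    (hfree : ∀ s ∈ S, s • t • i = t • i → s = 1)
    (hd : ∀ s ∈ S, d * s * d⁻¹ ∈ S)
    (hdtrans : ∀ s ∈ S, s ≠ 1 → ∀ s' ∈ S, s' ≠ 1 → ∃ k : ℕ, d ^ k * s * (d ^ k)⁻¹ = s')
    (hdi : d • i = i) (ht : t * t = 1) (htd : t * d * t⁻¹ = d⁻¹)
    (hG : Nat.card G = Nat.card F * (Nat.card F ^ 2 - 1)) :
    Nonempty (G ≃* Matrix.ProjectiveSpecialLinearGroup (Fin 2) F) := by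
  classical
  have _ : Fintype F := Fintype.ofFinite F
  set q := Nat.card F with hq
  have hq1 : 1 < q := Finite.one_lt_card
  set o := t • i with ho
  have hto : t • o = i := by rw [ho, ← mul_smul, ht, one_smul]
  have hdt : d * t = t * d⁻¹ := by
    rw [← htd]
    rw [← mul_assoc, ← mul_assoc, ht, one_mul]
    have : t⁻¹ = t := inv_eq_of_mul_eq_one_left ht
    rw [this]
  have hdo : d • o = o := by
    rw [ho, ← mul_smul, hdt, mul_smul, inv_smul_eq_iff.2 hdi.symm]
  -- S is commutative
  have hcomm : ∀ a b : S, a * b = b * a := by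
    intro a b
    have h1 := hS a a.2
    have h2 := hS b b.2
    have h3 := hS (a * b) (S.mul_mem a.2 b.2)
    apply Subtype.ext
    show (a : G) * b = b * a
    have ha : (a : G)⁻¹ = a := inv_eq_of_mul_eq_one_left h1
    have hb : (b : G)⁻¹ = b := inv_eq_of_mul_eq_one_left h2
    have hab : ((a : G) * b)⁻¹ = a * b := inv_eq_of_mul_eq_one_left h3
    rw [← hab, mul_inv_rev, ha, hb]
  let _ : CommGroup S := { (inferInstance : Group S) with mul_comm := hcomm }
  -- card of Ω
  have hne : ∀ s ∈ S, s • o ≠ i := by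
    intro s hs h
    have h1 : s • o = s • i := by rw [h, hSi s hs]
    exact hti (smul_left_cancel s h1)
  let e₀ : S ≃ {ω : Ω // ω ≠ i} := Equiv.ofBijective
    (fun s => (⟨(s : G) • o, hne s s.2⟩ : {ω : Ω // ω ≠ i})) ⟨by
      intro s s' h
      have h1 : (s : G) • o = (s' : G) • o := congrArg Subtype.val h
      have h2 : ((s' : G)⁻¹ * s) • o = o := by
        rw [mul_smul, h1, inv_smul_smul]
      have h3 := hfree _ (S.mul_mem (S.inv_mem s'.2) s.2) h2
      rw [inv_mul_eq_one] at h3
      exact Subtype.ext h3.symm, by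
      rintro ⟨ω, hω⟩
      obtain ⟨s, hs, hs2⟩ := hreg ω hω
      exact ⟨⟨s, hs⟩, Subtype.ext hs2⟩⟩
  have hfin1 : Finite {ω : Ω // ω ≠ i} := Finite.of_equiv _ e₀
  have hΩfin : Finite Ω := Finite.of_equiv _ (Equiv.optionSubtypeNe i)
  have _ : Fintype Ω := Fintype.ofFinite Ω
  have hΩ : Nat.card Ω = q + 1 := by
    rw [← Nat.card_congr (Equiv.optionSubtypeNe i), Finite.card_option, ← Nat.card_congr e₀, hcard]
  -- q is even
  have hq2 : 2 ∣ q := by
    have h1 : 1 < Nat.card S := hcard ▸ hq1
    have : Nontrivial S := Finite.one_lt_card_iff_nontrivial.1 h1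
    obtain ⟨s, hs⟩ := exists_ne (1 : S)
    have h2 : orderOf s = 2 := orderOf_eq_prime (by
      rw [pow_two]; exact Subtype.ext (hS s s.2)) hs
    rw [← hcard, ← h2]
    exact orderOf_dvd_natCard s
  -- a fixed point of t
  obtain ⟨w, hw⟩ : ∃ w : Ω, t • w = w := by
    have h1 : ¬ 2 ∣ Fintype.card Ω := by
      rw [← Nat.card_eq_fintype_card, hΩ]
      omega
    obtain ⟨w, hw⟩ := Equiv.Perm.exists_fixed_point_of_prime (p := 2) (n := 1) h1
      (σ := toPermHom G Ω t) (by rw [← map_pow, pow_one, pow_two, ht, map_one])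
    exact ⟨w, hw⟩
  have hwi : w ≠ i := by rintro rfl; exact hti hw
  have hwo : w ≠ o := by
    rintro rfl
    rw [hto] at hw
    exact hti hw.symm
  obtain ⟨s₀, hs₀, hs₀w⟩ := hreg w hwi
  have hs₀1 : s₀ ≠ 1 := by
    rintro rfl
    rw [one_smul] at hs₀w
    exact hwo hs₀w.symm
  -- the conjugation by `d`
  let δm : S →* S :=
    { toFun := fun s => ⟨d * s * d⁻¹, hd s s.2⟩
      map_one' := by
        apply Subtype.ext
        show d * 1 * d⁻¹ = 1
        group
      map_mul' := by
        intro a b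
        apply Subtype.ext
        show d * (a * b) * d⁻¹ = (d * a * d⁻¹) * (d * b * d⁻¹)
        group }
  let δ : AddMonoid.End (Additive S) := MonoidHom.toAdditive δm
  have hδinj : Function.Injective δ := by
    intro a b hab
    have h1 : d * (a.toMul : G) * d⁻¹ = d * (b.toMul : G) * d⁻¹ := congrArg (fun z : Additive S => (z.toMul : G)) hab
    have h2 : (a.toMul : G) = (b.toMul : G) := mul_left_cancel (mul_right_cancel h1)
    exact Additive.toMul.injective (Subtype.ext h2)
  have hδk : ∀ (k : ℕ) (a : Additive S), ((δ^[k] a).toMul : G) = d ^ k * (a.toMul : G) * (d ^ k)⁻¹ := by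
    intro k
    induction k with
    | zero => intro a; simp
    | succ k ih =>
      intro a
      rw [Function.iterate_succ_apply']
      show d * ((δ^[k] a).toMul : G) * d⁻¹ = _
      rw [ih, pow_succ']
      group
  obtain ⟨α, c, hα1, hαc⟩ := FieldFromCycle.exists_equiv (A := Additive S) (F := F)
    hcard δ hδinj (Additive.ofMul ⟨s₀, hs₀⟩) (by
      intro h
      apply hs₀1
      exact congrArg (fun z : Additive S => (z.toMul : G)) h) (by
      intro a ha
      obtain ⟨k, hk⟩ := hdtrans s₀ hs₀ hs₀1 (a.toMul : G) a.toMul.2 (by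
        intro h
        apply ha
        exact Additive.toMul.injective (Subtype.ext h))
      refine ⟨k, ?_⟩
      apply Additive.toMul.injective
      apply Subtype.ext
      rw [hδk]
      exact hk)
  -- the elements of `S` as a function on `F`
  set a : F → G := fun x => ((α x).toMul : G) with ha
  have haS : ∀ x, a x ∈ S := fun x => (α x).toMul.2
  have hadd : ∀ x y, a (x + y) = a x * a y := by
    intro x y
    show ((α (x + y)).toMul : G) = ((α x).toMul : G) * ((α y).toMul : G)
    rw [map_add]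
    rfl
  have ha0 : a 0 = 1 := by
    show ((α 0).toMul : G) = 1
    rw [map_zero]
    rfl
  have ha1 : a 1 = s₀ := by
    show ((α 1).toMul : G) = s₀
    rw [hα1]
    rfl
  have hac : ∀ x, a (c * x) = d * a x * d⁻¹ := by
    intro x
    show ((α (c * x)).toMul : G) = d * ((α x).toMul : G) * d⁻¹
    rw [hαc]
    rfl
  have hack : ∀ (k : ℕ) (x : F), a (c ^ k * x) = d ^ k * a x * (d ^ k)⁻¹ := by
    intro k
    induction k with
    | zero => intro x; simp
    | succ k ih =>
      intro x
      rw [pow_succ', mul_assoc, hac, ih, pow_succ']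
      group
  have hasurj : ∀ s ∈ S, ∃ x, a x = s := by
    intro s hs
    obtain ⟨x, hx⟩ := α.surjective (Additive.ofMul ⟨s, hs⟩)
    refine ⟨x, ?_⟩
    show ((α x).toMul : G) = s
    rw [hx]
    rfl
  have hainj : Function.Injective a := by
    intro x y hxy
    apply α.injective
    exact Additive.toMul.injective (Subtype.ext hxy)
  have hane : ∀ x, x ≠ 0 → a x ≠ 1 := fun x hx h => hx (hainj (h.trans ha0.symm))
  have hcpow : ∀ x : F, x ≠ 0 → ∃ k : ℕ, x = c ^ k := by
    intro x hx
    obtain ⟨k, hk⟩ := hdtrans s₀ hs₀ hs₀1 (a x) (haS x) (hane x hx)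
    refine ⟨k, ?_⟩
    apply hainj
    rw [← mul_one (c ^ k), hack, ha1, hk]
  have hc0 : c ≠ 0 := by
    rintro rfl
    have h1 := hac 1
    rw [zero_mul, ha0, ha1] at h1
    apply hs₀1
    have h2 : s₀ = d⁻¹ * (d * s₀ * d⁻¹) * d := by group
    rw [h2, ← h1]
    group
  -- the bijection with the projective line
  let m : OnePoint F → Ω := fun x => x.elim i (fun x => a x • o)
  have mi : m OnePoint.infty = i := rfl
  have mx : ∀ x : F, m (x : OnePoint F) = a x • o := fun x => rfl
  have hm : Function.Bijective m := by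
    constructor
    · intro x y hxy
      induction x using OnePoint.rec with
      | infty =>
        induction y using OnePoint.rec with
        | infty => rfl
        | coe y =>
          rw [mi, mx] at hxy
          exact absurd hxy.symm (hne _ (haS y))
      | coe x =>
        induction y using OnePoint.rec with
        | infty =>
          rw [mi, mx] at hxy
          exact absurd hxy (hne _ (haS x))
        | coe y =>
          rw [mx, mx] at hxy
          have h1 : e₀ ⟨a x, haS x⟩ = e₀ ⟨a y, haS y⟩ := Subtype.ext hxy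
          have h2 := congrArg Subtype.val (e₀.injective h1)
          have h3 : x = y := hainj h2
          rw [h3]
    · intro ω
      by_cases hω : ω = i
      · exact ⟨OnePoint.infty, hω.symm⟩
      · obtain ⟨s, hs, hsω⟩ := hreg ω hω
        obtain ⟨x, hx⟩ := hasurj s hs
        exact ⟨(x : OnePoint F), by rw [mx, hx, hsω]⟩
  let e : OnePoint F ≃ Ω := Equiv.ofBijective m hm
  have he : ∀ x, e x = m x := fun x => rfl
  let Ψ : G →* Equiv.Perm (OnePoint F) := (e.symm.permCongrHom).toMonoidHom.comp (toPermHom G Ω)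
  have hΨ : ∀ g x, Ψ g x = e.symm (g • e x) := fun g x => rfl
  have hΨinj : Function.Injective Ψ := by
    intro g h hgh
    apply toPerm_injective (α := G) (β := Ω)
    apply e.symm.permCongrHom.injective
    exact hgh
  have hmem : ∀ (g : G) (A : Matrix.SpecialLinearGroup (Fin 2) F),
      (∀ x, m (mob F A x) = g • m x) → g ∈ (mob F).range.comap Ψ := by
    intro g A h
    refine ⟨A, ?_⟩
    apply Equiv.ext
    intro x
    rw [hΨ, Equiv.eq_symm_apply, he, he, h x]
  set H : Subgroup G := (mob F).range.comap Ψ with hH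
  -- translations
  have hSH : ∀ s ∈ S, s ∈ H := by
    intro s hs
    obtain ⟨b, hb⟩ := hasurj s hs
    refine hmem s (tr b) ?_
    intro x
    induction x using OnePoint.rec with
    | infty =>
      rw [mob_tr_infty, mi, hSi s hs]
    | coe x =>
      rw [mob_tr_coe, mx, mx, add_comm, hadd, mul_smul, hb]
  -- diagonal maps
  have hdH : d ∈ H := by
    obtain ⟨r, hr⟩ : IsSquare c := FiniteField.isSquare_of_char_two (ringChar.eq F 2) c
    have hr0 : r ≠ 0 := by
      rintro rfl
      apply hc0
      rw [hr, mul_zero]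
    refine hmem d (dil r hr0) ?_
    intro x
    induction x using OnePoint.rec with
    | infty =>
      rw [mob_dil_infty, mi, hdi]
    | coe x =>
      rw [mob_dil_coe, mx, mx]
      have h1 : d • a x • o = a (c * x) • o := by
        rw [hac, mul_smul, mul_smul, inv_smul_eq_iff.2 hdo.symm]
      rw [h1, hr]
  -- the inversion
  have htH : t ∈ H := by
    refine hmem t wel ?_
    intro x
    induction x using OnePoint.rec with
    | infty =>
      rw [mob_wel_infty, mi, mx, ha0, one_smul]
    | coe x =>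
      by_cases hx : x = 0
      · rw [hx, mob_wel_zero, mi, mx, ha0, one_smul, hto]
      · obtain ⟨k, hk⟩ := hcpow x hx
        rw [mob_wel_coe x hx, mx, mx, CharTwo.neg_eq]
        have e1 : ∀ (y : F), d ^ k • a y • o = a (c ^ k * y) • o := by
          intro y
          have h2 : (d ^ k)⁻¹ • o = o := by
            rw [inv_smul_eq_iff]
            exact (mem_stabilizer_iff.1 (Subgroup.pow_mem (stabilizer G o) hdo k)).symm
          rw [hack, mul_smul, mul_smul, h2]
        have e2 : a x • o = d ^ k • w := by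
          rw [hk, ← mul_one (c ^ k), ← e1, ha1, hs₀w]
        have e3 : d ^ k • a (x⁻¹) • o = w := by
          rw [e1, ← hk, mul_inv_cancel₀ hx, ha1, hs₀w]
        have e4 : ∀ k : ℕ, t * d ^ k = (d ^ k)⁻¹ * t := by
          intro k
          have h3 : t * d ^ k * t⁻¹ = (d ^ k)⁻¹ := by
            rw [← conj_pow, htd, inv_pow]
          rw [← h3]
          group
        have e5 : t • a x • o = a (x⁻¹) • o := by
          rw [e2, ← mul_smul, e4, mul_smul, hw, inv_smul_eq_iff, e3]
        rw [e5]
  -- `H` is everything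
  have hcardH := card_ge_of_three_trans H i o w (by
    intro x
    by_cases hx : x = i
    · exact ⟨1, H.one_mem, by rw [one_smul, hx]⟩
    · obtain ⟨s, hs, hsx⟩ := hreg x hx
      exact ⟨s * t, H.mul_mem (hSH s hs) htH, by rw [mul_smul]; exact hsx⟩) (by
    intro x hx
    obtain ⟨s, hs, hsx⟩ := hreg x hx
    exact ⟨s, hSH s hs, hSi s hs, hsx⟩) (by
    intro x hxi hxo
    obtain ⟨s, hs, hsx⟩ := hreg x hxi
    have hs1 : s ≠ 1 := by
      rintro rfl
      rw [one_smul] at hsx
      exact hxo hsx.symm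
    obtain ⟨k, hk⟩ := hdtrans s₀ hs₀ hs₀1 s hs hs1
    refine ⟨d ^ k, H.pow_mem hdH k, Subgroup.pow_mem (stabilizer G i) hdi k,
      Subgroup.pow_mem (stabilizer G o) hdo k, ?_⟩
    have h2 : (d ^ k)⁻¹ • o = o := by
      rw [inv_smul_eq_iff]
      exact (mem_stabilizer_iff.1 (Subgroup.pow_mem (stabilizer G o) hdo k)).symm
    rw [← hsx, ← hk, mul_smul, mul_smul, h2, hs₀w]) hΩ hti
  have hcardG : Nat.card G ≤ Nat.card H := by
    refine le_trans (le_of_eq ?_) hcardH
    rw [hG]
    clear_value q
    obtain ⟨r, rfl⟩ : ∃ r, q = r + 1 := ⟨q - 1, by omega⟩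
    have : (r + 1) ^ 2 - 1 = r * (r + 2) := by
      have : (r + 1) ^ 2 = r * (r + 2) + 1 := by ring
      omega
    rw [this, Nat.add_sub_cancel]
    ring
  have hHtop : H = ⊤ := by
    apply Subgroup.eq_top_of_le_card
    exact hcardG
  refine nonempty_mulEquiv_of_range_le Ψ hΨinj ?_ ?_
  · rintro _ ⟨g, rfl⟩
    have : g ∈ H := hHtop ▸ Subgroup.mem_top g
    exact this
  · rw [hG, Cfsg.Agent.SmallSimple.PSLTwoPart.card_psl_two_even, ← Nat.card_eq_fintype_card]
    rw [← Nat.card_eq_fintype_card]
    exact (even_iff_two_dvd).2 hq2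

end Cfsg.Agent.SmallSimple.PSL2EvenRecog
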