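import Mathlib
import Cfsg.Agent.SmallSimple.BurnsideNC
import Cfsg.Agent.SmallSimple.SylowPrimeCount
import Cfsg.Agent.SmallSimple.SelfCentPrime
import Cfsg.Agent.SmallSimple.Parity
import Cfsg.Agent.SmallSimple.PSL2EvenRecog
import Cfsg.Agent.Transfer.ThompsonTransfer

/-!
Local structure of a simple group of order 504.
-/

set_option autoImplicit false

namespace Cfsg.Agent.SmallSimple.Simple504

open Subgroup MulAction Cfsg.Agent.SmallSimple.PSqQR Cfsg.Agent.SmallSimple.BurnsideNC

/-- fixed points of an element of prime order -/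
theorem card_fixedBy_modEq {G : Type*} [Group G] {X : Type*} [MulAction G X] [Finite X] {p : ℕ}
    [hp : Fact p.Prime] {u : G} (hu : orderOf u = p) :
    Nat.card X ≡ Nat.card (fixedBy X u) [MOD p] := by
  have h1 : IsPGroup p (zpowers u) :=
    IsPGroup.of_card (n := 1) (by rw [Nat.card_zpowers, hu, pow_one])
  have h2 := h1.card_modEq_card_fixedPoints X
  have h3 : fixedPoints (zpowers u) X = fixedBy X u := by
    ext a
    constructor
    · intro h
      exact h ⟨u, mem_zpowers u⟩
    · rintro h ⟨g, hg⟩
      obtain ⟨k, rfl⟩ := mem_zpowers_iff.1 hg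
      have h4 : u ∈ stabilizer G a := h
      exact zpow_mem h4 k
  rwa [h3] at h2

section
variable {G : Type*} [Group G] [Finite G] [IsSimpleGroup G] (h : Nat.card G = 504)
include h

theorem card_sylow_seven : Nat.card (Sylow 7 G) = 36 := by
  have f7 : Fact (Nat.Prime 7) := ⟨by norm_num⟩
  have f3 : Fact (Nat.Prime 3) := ⟨by norm_num⟩
  have hG7 : Nat.card G = 72 * 7 ^ 1 := by rw [h]; norm_num
  have hd := card_sylow_dvd_of_card_eq hG7 (by norm_num)
  have hm := card_sylow_modEq_one 7 G
  have h1 : Nat.card (Sylow 7 G) ≠ 1 :=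
    SylowCount.card_sylow_ne_one (p := 7) (by rw [h]; norm_num) (by rw [h]; norm_num)
  obtain ⟨P⟩ : Nonempty (Sylow 7 G) := inferInstance
  have hP : Nat.card P = 7 := by
    rw [card_sylow_of_card_eq hG7 (by norm_num) P, pow_one]
  -- the case of 8 subgroups is impossible
  have h8 : Nat.card (Sylow 7 G) ≠ 8 := by
    intro h8
    have hmul := card_sylow_mul_card_normalizer P
    rw [h, h8] at hmul
    have hN : Nat.card (normalizer (P : Set G)) = 63 := by omega
    have hNC := card_normalizer_eq (P : Subgroup G)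
    have hrel := relIndex_dvd_of_card_eq_prime P hP
    have hc : Nat.card (normalizer ((P : Subgroup G) : Set G)) = 63 := hN
    rw [hc] at hNC
    have hr : (centralizer ((P : Subgroup G) : Set G)).relIndex (normalizer ((P : Subgroup G) : Set G)) ∣ 6 := hrel
    have h3 : 3 ∣ Nat.card (centralizer ((P : Subgroup G) : Set G)) := by
      have hr6 := Nat.le_of_dvd (by norm_num) hr
      set r := (centralizer ((P : Subgroup G) : Set G)).relIndex (normalizer ((P : Subgroup G) : Set G))
      set c := Nat.card (centralizer ((P : Subgroup G) : Set G))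
      interval_cases r <;> omega
    obtain ⟨z, hz⟩ := exists_prime_orderOf_dvd_card' (G := centralizer ((P : Subgroup G) : Set G)) 3 h3
    have hz' : orderOf (z : G) = 3 := (Subgroup.orderOf_coe z).trans hz
    have hz1 : (z : G) ≠ 1 := by
      intro hh
      rw [hh, orderOf_one] at hz'
      norm_num at hz'
    have e1 := SylowPrimeCount.card_fixedBy_modEq_one P z.2
    have e2 := card_fixedBy_modEq (X := Sylow 7 G) hz'
    have e3 := SylowPrimeCount.card_fixedBy_lt h1 hz1
    rw [h8] at e2 e3
    unfold Nat.ModEq at e1 e2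
    omega
  have hle := Nat.le_of_dvd (by norm_num) hd
  unfold Nat.ModEq at hm
  set n := Nat.card (Sylow 7 G)
  clear_value n
  obtain ⟨k, hk⟩ : ∃ k, n = 7 * k + 1 := ⟨n / 7, by omega⟩
  subst hk
  have hk10 : k ≤ 10 := by omega
  interval_cases k <;> omega

theorem card_centralizer_seven (P : Sylow 7 G) :
    Nat.card (normalizer (P : Set G)) = 14 ∧ Nat.card (centralizer (P : Set G)) = 7 := by
  have f7 : Fact (Nat.Prime 7) := ⟨by norm_num⟩
  have hG7 : Nat.card G = 72 * 7 ^ 1 := by rw [h]; norm_num
  have hP : Nat.card P = 7 := by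
    rw [card_sylow_of_card_eq hG7 (by norm_num) P, pow_one]
  obtain ⟨e, he1, he2, he3, he4, he5, he6⟩ := exists_automizer_of_card_eq_prime (p := 7)
    (by rw [h]; norm_num) P hP
  rw [h, card_sylow_seven h] at he5
  have hN : Nat.card (normalizer (P : Set G)) = 14 := by omega
  refine ⟨hN, ?_⟩
  rw [hN] at he4
  have he7 := Nat.le_of_dvd (by norm_num) he1
  obtain ⟨c, hc⟩ := he6
  have hc' : Nat.card (centralizer (P : Set G)) = 7 * c := hc
  rw [hc] at he4
  rw [hc']
  interval_cases e <;> omega

theorem exists_sylow_seven_eq {y : G} (hy : orderOf y = 7) :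
    ∃ P : Sylow 7 G, (P : Subgroup G) = zpowers y := by
  have f7 : Fact (Nat.Prime 7) := ⟨by norm_num⟩
  have hG7 : Nat.card G = 72 * 7 ^ 1 := by rw [h]; norm_num
  have hpg : IsPGroup 7 (zpowers y) :=
    IsPGroup.of_card (n := 1) (by rw [Nat.card_zpowers, hy, pow_one])
  obtain ⟨P, hP⟩ := hpg.exists_le_sylow
  refine ⟨P, ?_⟩
  symm
  apply Subgroup.eq_of_le_of_card_ge hP
  have hPc : Nat.card P = 7 := by
    rw [card_sylow_of_card_eq hG7 (by norm_num) P, pow_one]
  have hPc' : Nat.card (P : Subgroup G) = 7 := hPc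
  rw [hPc', Nat.card_zpowers, hy]

theorem card_centralizer_of_orderOf_seven {y : G} (hy : orderOf y = 7) :
    Nat.card (centralizer ({y} : Set G)) = 7 := by
  obtain ⟨P, hP⟩ := exists_sylow_seven_eq h hy
  have h2 := (card_centralizer_seven h P).2
  rw [← SelfCentPrime.centralizer_zpowers, ← hP]
  exact h2

/-- an element commuting with an element of order 7 has order dividing 7 -/
theorem orderOf_dvd_seven {y u : G} (hy : orderOf y = 7) (hc : Commute y u) : orderOf u ∣ 7 := by
  have hu : u ∈ centralizer ({y} : Set G) := by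
    rw [mem_centralizer_iff]
    intro z hz
    rw [Set.mem_singleton_iff] at hz
    rw [hz]
    exact hc
  have := Subgroup.orderOf_dvd_natCard _ hu
  rwa [card_centralizer_of_orderOf_seven h hy] at this

/-- every Sylow `7`-subgroup is normalized by an involution -/
theorem exists_involution (P : Sylow 7 G) : ∃ t : G, orderOf t = 2 ∧ t ∈ normalizer (P : Set G) := by
  have f2 : Fact (Nat.Prime 2) := ⟨by norm_num⟩
  obtain ⟨t, ht⟩ := exists_prime_orderOf_dvd_card' (G := normalizer (P : Set G)) 2
    (by rw [(card_centralizer_seven h P).1]; norm_num)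
  exact ⟨t, (Subgroup.orderOf_coe t).trans ht, t.2⟩

/-- an involution normalizing a Sylow `7`-subgroup has small centralizer -/
theorem card_centralizer_involution_le (P : Sylow 7 G) {t : G} (ht : orderOf t = 2)
    (htN : t ∈ normalizer (P : Set G)) : Nat.card (centralizer ({t} : Set G)) ≤ 12 := by
  have f7 : Fact (Nat.Prime 7) := ⟨by norm_num⟩
  have hG7 : Nat.card G = 72 * 7 ^ 1 := by rw [h]; norm_num
  have hP : Nat.card P = 7 := by
    rw [card_sylow_of_card_eq hG7 (by norm_num) P, pow_one]
  have htC : t ∉ centralizer (P : Set G) := by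
    intro hc
    obtain ⟨y, hy⟩ := exists_prime_orderOf_dvd_card' (G := P) 7 (by rw [hP])
    have hy' : orderOf (y : G) = 7 := (Subgroup.orderOf_coe y).trans hy
    have := orderOf_dvd_seven h hy' (mem_centralizer_iff.1 hc y y.2)
    rw [ht] at this
    norm_num at this
  have hfix := SylowPrimeCount.mul_card_fixedBy_le P hP htN htC
  rw [card_sylow_seven h] at hfix
  have hfix6 : Nat.card (fixedBy (Sylow 7 G) t) ≤ 6 := by omega
  have horb := PSL2EvenRecog.card_orbit_mul (centralizer ({t} : Set G)) P
  have h1 : Nat.card (orbit (centralizer ({t} : Set G)) P) ≤ 6 := by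
    refine le_trans ?_ hfix6
    refine Nat.card_le_card_of_injective (fun x => (⟨x.1, ?_⟩ : fixedBy (Sylow 7 G) t)) ?_
    · obtain ⟨g, hg⟩ := x.2
      show t • x.1 = x.1
      rw [← hg]
      show t • (g : G) • P = (g : G) • P
      have hgt : t * g = g * t := mem_centralizer_iff.1 g.2 t rfl
      rw [← mul_smul, hgt, mul_smul, Sylow.smul_eq_iff_mem_normalizer.2 htN]
    · intro x y hxy
      have := congrArg Subtype.val hxy
      exact Subtype.ext this
  have h2 : Nat.card (centralizer ({t} : Set G) ⊓ stabilizer G P : Subgroup G) ≤ 2 := by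
    have h3 : Nat.card (centralizer ({t} : Set G) ⊓ stabilizer G P : Subgroup G) ∣ 14 := by
      rw [← (card_centralizer_seven h P).1, Sylow.stabilizer_eq_normalizer]
      exact Subgroup.card_dvd_of_le inf_le_right
    have h4 : ¬ 7 ∣ Nat.card (centralizer ({t} : Set G) ⊓ stabilizer G P : Subgroup G) := by
      intro hd
      obtain ⟨y, hy⟩ := exists_prime_orderOf_dvd_card' (G := (centralizer ({t} : Set G) ⊓ stabilizer G P : Subgroup G)) 7 hd
      have hy' : orderOf (y : G) = 7 := (Subgroup.orderOf_coe y).trans hy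
      have hyt : t * y = y * t := mem_centralizer_iff.1 y.2.1 t rfl
      have := orderOf_dvd_seven h hy' hyt.symm
      rw [ht] at this
      norm_num at this
    have h5 := Nat.le_of_dvd (by norm_num) h3
    set n := Nat.card (centralizer ({t} : Set G) ⊓ stabilizer G P : Subgroup G)
    clear_value n
    interval_cases n <;> omega
  rw [← horb]
  calc _ ≤ 6 * 2 := Nat.mul_le_mul h1 h2
    _ = 12 := by norm_num

end

end Cfsg.Agent.SmallSimple.Simple504
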