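import Mathlib
import Cfsg.Agent.SmallSimple.Simple504
import Cfsg.Agent.SmallSimple.ClassDvd

/-!
A simple group of order 504 has no element of order 4.
-/

set_option autoImplicit false

namespace Cfsg.Agent.SmallSimple.Simple504B

open Subgroup MulAction Cfsg.Agent.SmallSimple.PSqQR Cfsg.Agent.SmallSimple.BurnsideNC
open Cfsg.Agent.SmallSimple.Simple504 Cfsg.Agent.SmallSimple.ClassDvd

variable {G : Type*} [Group G] [Finite G] [IsSimpleGroup G] (h : Nat.card G = 504)
include h

/-- If there is an element `v` of order 4, all involutions are conjugate to `v ^ 2`. -/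
theorem isConj_of_orderOf_four {v : G} (hv : orderOf v = 4) {w : G} (hw : orderOf w = 2) :
    IsConj w (v ^ 2) := by
  by_contra hcon
  have hidx : (zpowers v).index = 2 * 63 := by
    have h1 := (zpowers v).card_mul_index
    rw [Nat.card_zpowers, hv, h] at h1
    omega
  obtain ⟨f, hf⟩ := Cfsg.Agent.Transfer.ThompsonTransfer.exists_hom_eq_neg_one (zpowers v) hidx
    (by decide) w (by rw [← hw, pow_orderOf_eq_one]) (by
    intro g hg
    apply hcon
    rw [isConj_iff]
    refine ⟨g, ?_⟩
    have ho : orderOf (g * w * g⁻¹) = 2 := by rw [orderOf_conj, hw]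
    classical
    obtain ⟨k, hk1, hk2⟩ := Finset.mem_image.1 (mem_zpowers_iff_mem_range_orderOf.1 hg)
    rw [Finset.mem_range, hv] at hk1
    rw [← hk2] at ho ⊢
    interval_cases k
    · simp at ho
    · rw [pow_one, hv] at ho
      norm_num at ho
    · rfl
    · exfalso
      rw [orderOf_pow, hv] at ho
      norm_num at ho)
  rw [Parity.unitsInt_hom_eq_one (by rw [h]; norm_num) f w] at hf
  exact absurd hf (by decide)

/-- If there is an element of order 4 every involution has centralizer of order 8. -/
theorem card_centralizer_of_four {v : G} (hv : orderOf v = 4) {w : G} (hw : orderOf w = 2) :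
    Nat.card (centralizer ({w} : Set G)) = 8 := by
  have f2 : Fact (Nat.Prime 2) := ⟨by norm_num⟩
  have hG2 : Nat.card G = 63 * 2 ^ 3 := by rw [h]; norm_num
  -- upper bound
  obtain ⟨P⟩ : Nonempty (Sylow 7 G) := inferInstance
  obtain ⟨t, ht, htN⟩ := exists_involution h P
  have hle := card_centralizer_involution_le h P ht htN
  rw [card_centralizer_conj (isConj_of_orderOf_four h hv ht)] at hle
  rw [card_centralizer_conj (isConj_of_orderOf_four h hv hw)]
  -- lower bound
  obtain ⟨S⟩ : Nonempty (Sylow 2 G) := inferInstance
  have hS : Nat.card S = 8 := by rw [card_sylow_of_card_eq hG2 (by norm_num) S]; norm_num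
  have hnt : Nontrivial S := by
    rw [← Finite.one_lt_card_iff_nontrivial]
    have : Nat.card S = 8 := hS
    omega
  have hc := S.isPGroup'.center_nontrivial
  have hcard : 2 ∣ Nat.card (center S) := by
    have h1 : IsPGroup 2 (center S) := S.isPGroup'.to_subgroup _
    have h2 := h1.card_eq_or_dvd
    rcases h2 with h2 | h2
    · exfalso
      have := Finite.one_lt_card_iff_nontrivial.2 hc
      omega
    · exact h2
  obtain ⟨z, hz⟩ := exists_prime_orderOf_dvd_card' (G := center S) 2 hcard
  have hz' : orderOf ((z : S) : G) = 2 := by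
    rw [Subgroup.orderOf_coe, Subgroup.orderOf_coe, hz]
  have hle2 : (S : Subgroup G) ≤ centralizer ({((z : S) : G)} : Set G) := by
    intro x hx
    rw [mem_centralizer_singleton]
    have h1 := (mem_center_iff.mp z.2) ⟨x, hx⟩
    exact (congrArg Subtype.val h1).symm
  have hdvd := Subgroup.card_dvd_of_le hle2
  have hS' : Nat.card (S : Subgroup G) = 8 := hS
  rw [hS', card_centralizer_conj (isConj_of_orderOf_four h hv hz')] at hdvd
  have hpos : 0 < Nat.card (centralizer ({v ^ 2} : Set G)) := Nat.card_pos
  omega

/-- orders of elements if there is an element of order 4 -/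
theorem orderOf_dvd_of_four {v : G} (hv : orderOf v = 4) (g : G) :
    orderOf g ∣ 8 ∨ orderOf g ∣ 7 ∨ orderOf g ∣ 9 := by
  have f2 : Fact (Nat.Prime 2) := ⟨by norm_num⟩
  have f7 : Fact (Nat.Prime 7) := ⟨by norm_num⟩
  have hg : orderOf g ∣ 504 := h ▸ orderOf_dvd_natCard g
  have hpos : 0 < orderOf g := orderOf_pos g
  by_cases h2 : 2 ∣ orderOf g
  · left
    have hw : orderOf (g ^ (orderOf g / 2)) = 2 := orderOf_pow_orderOf_div hpos.ne' h2
    have hmem : g ∈ centralizer ({g ^ (orderOf g / 2)} : Set G) := by
      rw [mem_centralizer_singleton]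
      exact ((Commute.refl g).pow_left _).eq
    have := Subgroup.orderOf_dvd_natCard _ hmem
    rwa [card_centralizer_of_four h hv hw] at this
  · by_cases h7 : 7 ∣ orderOf g
    · right; left
      have hw : orderOf (g ^ (orderOf g / 7)) = 7 := orderOf_pow_orderOf_div hpos.ne' h7
      exact orderOf_dvd_seven h hw ((Commute.refl g).pow_left _)
    · right; right
      have c2 : Nat.Coprime (orderOf g) 8 := by
        have : Nat.Coprime (orderOf g) 2 := by
          rw [Nat.coprime_comm, Nat.Prime.coprime_iff_not_dvd Nat.prime_two]; exact h2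
        have h8 : (8 : ℕ) = 2 ^ 3 := by norm_num
        rw [h8]
        exact Nat.Coprime.pow_right 3 this
      have c7 : Nat.Coprime (orderOf g) 7 := by
        rw [Nat.coprime_comm, Nat.Prime.coprime_iff_not_dvd (by norm_num)]; exact h7
      have h504 : (504 : ℕ) = 8 * (7 * 9) := by norm_num
      rw [h504] at hg
      exact c7.dvd_of_dvd_mul_left (c2.dvd_of_dvd_mul_left hg)

/-- A simple group of order 504 has no element of order 4. -/
theorem orderOf_ne_four (v : G) : orderOf v ≠ 4 := by
  intro hv
  have f2 : Fact (Nat.Prime 2) := ⟨by norm_num⟩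
  have f3 : Fact (Nat.Prime 3) := ⟨by norm_num⟩
  have f7 : Fact (Nat.Prime 7) := ⟨by norm_num⟩
  have hord := orderOf_dvd_of_four h hv
  have hC := fun {w : G} (hw : orderOf w = 2) => card_centralizer_of_four h hv hw
  -- the four classes of elements
  have c1 : 63 ∣ Nat.card {x : G // orderOf x = 2} := by
    apply dvd_card_of_centralizer (fun x : G => orderOf x = 2)
      (fun g x hx => by rw [orderOf_conj, hx]) 63 8 (by rw [h])
    intro x hx
    rw [hC hx]
  have c2 : 63 ∣ Nat.card {x : G // orderOf x = 4 ∨ orderOf x = 8} := by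
    apply dvd_card_of_centralizer (fun x : G => orderOf x = 4 ∨ orderOf x = 8)
      (fun g x hx => by rw [orderOf_conj]; exact hx) 63 8 (by rw [h])
    intro x hx
    have h2 : 2 ∣ orderOf x := by omega
    have hw : orderOf (x ^ (orderOf x / 2)) = 2 :=
      orderOf_pow_orderOf_div (orderOf_pos x).ne' h2
    rw [← hC hw]
    exact Subgroup.card_dvd_of_le (centralizer_pow_le x _)
  have c7 : 72 ∣ Nat.card {x : G // orderOf x = 7} := by
    apply dvd_card_of_centralizer (fun x : G => orderOf x = 7)
      (fun g x hx => by rw [orderOf_conj, hx]) 72 7 (by rw [h])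
    intro x hx
    rw [card_centralizer_of_orderOf_seven h hx]
  have c3 : 56 ∣ Nat.card {x : G // orderOf x = 3 ∨ orderOf x = 9} := by
    apply dvd_card_of_centralizer (fun x : G => orderOf x = 3 ∨ orderOf x = 9)
      (fun g x hx => by rw [orderOf_conj]; exact hx) 56 9 (by rw [h])
    intro x hx
    have hd : Nat.card (centralizer ({x} : Set G)) ∣ 504 := by
      rw [← h]; exact Subgroup.card_subgroup_dvd_card _
    have n2 : ¬ 2 ∣ Nat.card (centralizer ({x} : Set G)) := by
      intro hd2
      obtain ⟨w, hw⟩ := exists_prime_orderOf_dvd_card' (G := centralizer ({x} : Set G)) 2 hd2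
      have hw' : orderOf (w : G) = 2 := (Subgroup.orderOf_coe w).trans hw
      have hxw : x ∈ centralizer ({(w : G)} : Set G) := by
        rw [mem_centralizer_singleton]
        exact (mem_centralizer_singleton.1 w.2).symm
      have := Subgroup.orderOf_dvd_natCard _ hxw
      rw [hC hw'] at this
      rcases hx with hx | hx <;> rw [hx] at this <;> norm_num at this
    have n7 : ¬ 7 ∣ Nat.card (centralizer ({x} : Set G)) := by
      intro hd2
      obtain ⟨w, hw⟩ := exists_prime_orderOf_dvd_card' (G := centralizer ({x} : Set G)) 7 hd2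
      have hw' : orderOf (w : G) = 7 := (Subgroup.orderOf_coe w).trans hw
      have := orderOf_dvd_seven h hw' (show Commute (w : G) x from (mem_centralizer_singleton.1 w.2).symm)
      rcases hx with hx | hx <;> rw [hx] at this <;> norm_num at this
    have k2 : Nat.Coprime (Nat.card (centralizer ({x} : Set G))) 8 := by
      have : Nat.Coprime (Nat.card (centralizer ({x} : Set G))) 2 := by
        rw [Nat.coprime_comm, Nat.Prime.coprime_iff_not_dvd Nat.prime_two]; exact n2
      have h8 : (8 : ℕ) = 2 ^ 3 := by norm_num
      rw [h8]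
      exact Nat.Coprime.pow_right 3 this
    have k7 : Nat.Coprime (Nat.card (centralizer ({x} : Set G))) 7 := by
      rw [Nat.coprime_comm, Nat.Prime.coprime_iff_not_dvd (by norm_num)]; exact n7
    have h504 : (504 : ℕ) = 8 * (7 * 9) := by norm_num
    rw [h504] at hd
    exact k7.dvd_of_dvd_mul_left (k2.dvd_of_dvd_mul_left hd)
  -- the total count
  have hsum : Nat.card G = 1 + Nat.card {x : G // orderOf x = 2}
      + Nat.card {x : G // orderOf x = 4 ∨ orderOf x = 8}
      + Nat.card {x : G // orderOf x = 7} + Nat.card {x : G // orderOf x = 3 ∨ orderOf x = 9} := by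
    classical
    have _ : Fintype G := Fintype.ofFinite G
    have e1 : 1 = ∑ x : G, (if orderOf x = 1 then 1 else 0) := by
      rw [← Finset.card_filter]
      have : (Finset.univ.filter (fun x : G => orderOf x = 1)) = {1} := by
        ext x
        simp
      rw [this, Finset.card_singleton]
    rw [Nat.card_eq_fintype_card, Nat.card_eq_fintype_card, Nat.card_eq_fintype_card,
      Nat.card_eq_fintype_card, Nat.card_eq_fintype_card,
      Fintype.card_subtype, Fintype.card_subtype, Fintype.card_subtype, Fintype.card_subtype,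
      Finset.card_filter, Finset.card_filter, Finset.card_filter, Finset.card_filter]
    conv_rhs => rw [e1]
    rw [← Finset.sum_add_distrib, ← Finset.sum_add_distrib, ← Finset.sum_add_distrib,
      ← Finset.sum_add_distrib, ← Finset.card_univ, Finset.card_eq_sum_ones]
    apply Finset.sum_congr rfl
    intro x _
    have hpos := orderOf_pos x
    have hcases : orderOf x = 1 ∨ orderOf x = 2 ∨ orderOf x = 4 ∨ orderOf x = 8 ∨ orderOf x = 7 ∨
        orderOf x = 3 ∨ orderOf x = 9 := by
      rcases hord x with hx | hx | hx
      · have := Nat.le_of_dvd (by norm_num) hx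
        set n := orderOf x
        clear_value n
        interval_cases n <;> omega
      · have := Nat.le_of_dvd (by norm_num) hx
        set n := orderOf x
        clear_value n
        interval_cases n <;> omega
      · have := Nat.le_of_dvd (by norm_num) hx
        set n := orderOf x
        clear_value n
        interval_cases n <;> omega
    rcases hcases with hx | hx | hx | hx | hx | hx | hx <;> simp [hx]
  -- nonemptiness
  have p1 : 0 < Nat.card {x : G // orderOf x = 2} := by
    have : Nonempty {x : G // orderOf x = 2} := ⟨⟨v ^ 2, by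
      rw [orderOf_pow, hv]; norm_num⟩⟩
    exact Nat.card_pos
  have p2 : 0 < Nat.card {x : G // orderOf x = 4 ∨ orderOf x = 8} := by
    have : Nonempty {x : G // orderOf x = 4 ∨ orderOf x = 8} := ⟨⟨v, Or.inl hv⟩⟩
    exact Nat.card_pos
  rw [h] at hsum
  omega

end Cfsg.Agent.SmallSimple.Simple504B
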