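import Cfsg.Agent.SmallSimple.AvgFormula

/-!
# Counting products of two involutions in `x V`

`P` a subgroup of odd prime order `p`, `C(P) = P × V`, `1 ≠ x ∈ P`, `j` an involution inverting `x`.
The number of `(u, v, y)` with `u ∼ a`, `v ∼ b`, `y ∈ V`, `u v = x y` is `p k(a) k(b)`, where `k(a)`
is the number of conjugates of `a` in `j V`.
-/

set_option autoImplicit false
set_option linter.unusedSectionVars false

namespace Cfsg.Agent.SmallSimple.AvgCount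

open Cfsg Subgroup Cfsg.Agent.Characters.Core Cfsg.Agent.SmallSimple.AvgFormula

universe u
variable {G : Type u} [Group G]

/-- The number of conjugates of `a` in `j V`. -/
noncomputable def kNum (V : Subgroup G) (j a : G) : ℕ := Nat.card {s : V // IsConj a (j * s)}

section

variable [Finite G] {p : ℕ} [hp : Fact p.Prime] {P V : Subgroup G}

theorem conj_of_mem (hP : Nat.card P = p) {x j : G} (hx : x ∈ P) (hx1 : x ≠ 1)
    (hjx : j * x * j⁻¹ = x⁻¹) {r : G} (hr : r ∈ P) : j * r * j⁻¹ = r⁻¹ := by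
  rw [InvolColumn.zpowers_eq_of_card_prime hp.out hP x hx hx1] at hr
  obtain ⟨n, rfl⟩ := mem_zpowers_iff.1 hr
  rw [← conj_zpow, hjx, inv_zpow]

theorem sqrt_mul_self (hP : Nat.card P = p) (hp2 : p ≠ 2) {r : G} (hr : r ∈ P) :
    r ^ ((p + 1) / 2) * r ^ ((p + 1) / 2) = r := by
  have hodd : Odd p := hp.out.odd_of_ne_two hp2
  obtain ⟨m, hm⟩ := hodd
  rw [← pow_add]
  have h1 : (p + 1) / 2 + (p + 1) / 2 = p + 1 := by omega
  have h2 : r ^ p = 1 := by
    have := pow_card_eq_one' (x := (⟨r, hr⟩ : P))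
    rw [hP] at this
    exact congrArg Subtype.val this
  rw [h1, pow_succ, h2, one_mul]

theorem sqrt_sq (hP : Nat.card P = p) (hp2 : p ≠ 2) {r : G} (hr : r ∈ P) :
    (r * r) ^ ((p + 1) / 2) = r := by
  rw [(Commute.refl r).mul_pow, sqrt_mul_self hP hp2 hr]

theorem comm_P (hP : Nat.card P = p) {r s : G} (hr : r ∈ P) (hs : s ∈ P) : Commute r s := by
  have := PrimeDual.comm_of_card hp.out (Q := P) hP ⟨r, hr⟩ ⟨s, hs⟩
  exact congrArg Subtype.val this

theorem sq_inj (hP : Nat.card P = p) (hp2 : p ≠ 2) {r s : G} (hr : r ∈ P) (hs : s ∈ P)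
    (h : r * r = s * s) : r = s := by
  rw [← sqrt_sq hP hp2 hr, ← sqrt_sq hP hp2 hs, h]

theorem mul_inj (h : Compl p P V) (hP : Nat.card P = p) {r r' s s' : G} (hr : r ∈ P)
    (hr' : r' ∈ P) (hs : s ∈ V) (hs' : s' ∈ V) (heq : r * s = r' * s') : r = r' ∧ s = s' := by
  obtain ⟨k, hk⟩ := exists_pow_eq h hP
  have h3 : r = r' := by rw [← hk r hr s hs, ← hk r' hr' s' hs', heq]
  exact ⟨h3, by rw [h3] at heq; exact mul_left_cancel heq⟩

/-- The conjugate of `j s` by `r ∈ P`. -/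
theorem conj_js (h : Compl p P V) (hP : Nat.card P = p) {x j : G} (hx : x ∈ P) (hx1 : x ≠ 1)
    (hjx : j * x * j⁻¹ = x⁻¹) {r s : G} (hr : r ∈ P) (hs : s ∈ V) :
    r * (j * s) * r⁻¹ = j * ((r⁻¹ * r⁻¹) * s) := by
  have h1 := conj_of_mem hP hx hx1 hjx (inv_mem hr)
  rw [inv_inv] at h1
  have h2 : r * j = j * r⁻¹ := by
    calc r * j = (j * r⁻¹ * j⁻¹) * j := by rw [h1]
      _ = j * r⁻¹ := by group
  have h3 : Commute r⁻¹ s := h.comm (inv_mem hr) hs
  calc r * (j * s) * r⁻¹ = (r * j) * (s * r⁻¹) := by group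
    _ = (j * r⁻¹) * (r⁻¹ * s) := by rw [h2, h3.eq]
    _ = _ := by group

/-- Involutions inverting `x` are conjugate under `P` to elements of `j V`. -/
theorem exists_eq_conj (h : Compl p P V) (hP : Nat.card P = p) (hp2 : p ≠ 2) {x j : G}
    (hx : x ∈ P) (hx1 : x ≠ 1) (hj : j * j = 1) (hjx : j * x * j⁻¹ = x⁻¹) {u : G}
    (hu : u * x * u⁻¹ = x⁻¹) : ∃ r ∈ P, ∃ s ∈ V, u = r * (j * s) * r⁻¹ := by
  have hj' : j⁻¹ = j := inv_eq_of_mul_eq_one_right hj
  have h1 : j * u ∈ centralizer (P : Set G) := by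
    rw [mem_centralizer_iff_comm hP hx hx1]
    calc j * u * x * (j * u)⁻¹ = j * (u * x * u⁻¹) * j⁻¹ := by group
      _ = (j * x * j⁻¹)⁻¹ := by rw [hu]; group
      _ = x := by rw [hjx, inv_inv]
  obtain ⟨c, hc, s, hs, hcs⟩ := exists_mul_eq h hP h1
  refine ⟨(c⁻¹) ^ ((p + 1) / 2), pow_mem (inv_mem hc) _, s, hs, ?_⟩
  rw [conj_js h hP hx hx1 hjx (pow_mem (inv_mem hc) _) hs]
  have h2 : ((c⁻¹) ^ ((p + 1) / 2))⁻¹ * ((c⁻¹) ^ ((p + 1) / 2))⁻¹ = c := by
    rw [← mul_inv_rev, sqrt_mul_self hP hp2 (inv_mem hc), inv_inv]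
  rw [h2, hcs, ← mul_assoc, hj, one_mul]

theorem conj_inv_of_mul (h : Compl p P V) (hP : Nat.card P = p) {x y u v : G}
    (hx : x ∈ P) (hy : y ∈ V) (hu : u * u = 1) (hv : v * v = 1) (huv : u * v = x * y) :
    u * x * u⁻¹ = x⁻¹ ∧ v * x * v⁻¹ = x⁻¹ := by
  obtain ⟨k, hk⟩ := exists_pow_eq h hP
  have hu' : u⁻¹ = u := inv_eq_of_mul_eq_one_right hu
  have hv' : v⁻¹ = v := inv_eq_of_mul_eq_one_right hv
  have h1 : u * (x * y) * u⁻¹ = (x * y)⁻¹ := by
    rw [← huv, mul_inv_rev, hu', hv', ← mul_assoc, hu, one_mul]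
  have h2 : v * (x * y) * v⁻¹ = (x * y)⁻¹ := by
    rw [← huv, mul_inv_rev, hu', hv', mul_assoc, mul_assoc, hv, mul_one]
  have h3 : ∀ w : G, w * (x * y) * w⁻¹ = (x * y)⁻¹ → w * x * w⁻¹ = x⁻¹ := by
    intro w hw
    have h4 := congrArg (· ^ k) hw
    simp only [conj_pow, inv_pow, hk x hx y hy] at h4
    exact h4
  exact ⟨h3 u h1, h3 v h2⟩

/-- The number of `(u, v, y)`. -/
theorem count_eq (h : Compl p P V) (hP : Nat.card P = p) (hp2 : p ≠ 2) {x j : G}
    (hx : x ∈ P) (hx1 : x ≠ 1) (hj : j * j = 1) (hjx : j * x * j⁻¹ = x⁻¹) {a b : G}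
    (ha : a * a = 1) (hb : b * b = 1) :
    Nat.card {q : G × G × V // IsConj a q.1 ∧ IsConj b q.2.1 ∧ q.1 * q.2.1 = x * q.2.2} =
      p * (kNum V j a * kNum V j b) := by
  set w := x ^ ((p + 1) / 2) with hw
  have hwP : w ∈ P := pow_mem hx _
  have hww : w * w = x := sqrt_mul_self hP hp2 hx
  have hj' : j⁻¹ = j := inv_eq_of_mul_eq_one_right hj
  have hinvol : ∀ {a u : G}, a * a = 1 → IsConj a u → u * u = 1 := by
    intro a u ha hau
    obtain ⟨c, rfl⟩ := isConj_iff.1 hau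
    calc c * a * c⁻¹ * (c * a * c⁻¹) = c * (a * a) * c⁻¹ := by group
      _ = 1 := by rw [ha]; group
  have hjV : ∀ s ∈ V, j * s * j ∈ V := by
    intro s hs
    have hjN : j * s * j⁻¹ ∈ centralizer (P : Set G) := by
      rw [mem_centralizer_iff]
      intro z hz
      have h1 := conj_of_mem hP hx hx1 hjx (inv_mem hz)
      rw [inv_inv] at h1
      have h2 : Commute z⁻¹ s := h.comm (inv_mem hz) hs
      calc z * (j * s * j⁻¹) = (j * z⁻¹ * j⁻¹) * (j * s * j⁻¹) := by rw [h1]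
        _ = j * (z⁻¹ * s) * j⁻¹ := by group
        _ = j * (s * z⁻¹) * j⁻¹ := by rw [h2.eq]
        _ = j * s * j⁻¹ * (j * z⁻¹ * j⁻¹) := by group
        _ = j * s * j⁻¹ * z := by rw [h1]
    have h3 : j * s * j⁻¹ ∈ V := by
      rw [h.mem]
      exact ⟨hjN, by rw [conj_pow, ((h.mem s).1 hs).2, mul_one, mul_inv_cancel]⟩
    rwa [hj'] at h3
  -- the product of two conjugates
  have hprod : ∀ r ∈ P, ∀ r' ∈ P, ∀ s ∈ V, ∀ s' ∈ V,
      r * (j * s) * r⁻¹ * (r' * (j * s') * r'⁻¹) = (r * r * (r'⁻¹ * r'⁻¹)) * (j * s * j * s') := by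
    intro r hr r' hr' s hs s' hs'
    rw [conj_js h hP hx hx1 hjx hr' hs']
    have h1 : r * (j * s) * r⁻¹ = (r * r) * (j * s) := by
      have h2 := conj_of_mem hP hx hx1 hjx (inv_mem hr)
      rw [inv_inv] at h2
      have h3 : Commute r⁻¹ s := h.comm (inv_mem hr) hs
      calc r * (j * s) * r⁻¹ = r * j * (s * r⁻¹) := by group
        _ = r * j * (r⁻¹ * s) := by rw [h3.eq]
        _ = r * (j * r⁻¹ * j⁻¹) * (j * s) := by group
        _ = _ := by rw [h2]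
    have h4 : Commute (r'⁻¹ * r'⁻¹) (j * s * j) :=
      h.comm (mul_mem (inv_mem hr') (inv_mem hr')) (hjV s hs)
    calc r * (j * s) * r⁻¹ * (j * (r'⁻¹ * r'⁻¹ * s')) =
        (r * r) * (j * s) * (j * (r'⁻¹ * r'⁻¹ * s')) := by rw [h1]
      _ = (r * r) * ((j * s * j) * (r'⁻¹ * r'⁻¹)) * s' := by group
      _ = (r * r) * ((r'⁻¹ * r'⁻¹) * (j * s * j)) * s' := by rw [h4.eq]
      _ = _ := by group
  have hsq : ∀ r ∈ P, r * r * ((r * w⁻¹)⁻¹ * (r * w⁻¹)⁻¹) = x := by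
    intro r hr
    have h1 : Commute r w := comm_P hP hr hwP
    rw [mul_inv_rev, inv_inv]
    calc r * r * (w * r⁻¹ * (w * r⁻¹)) = r * (r * w) * r⁻¹ * w * r⁻¹ := by group
      _ = r * (w * r) * r⁻¹ * w * r⁻¹ := by rw [h1.eq]
      _ = r * (w * w) * r⁻¹ := by group
      _ = r * x * r⁻¹ := by rw [hww]
      _ = x := by rw [(comm_P hP hr hx).eq, mul_inv_cancel_right]
  have hkey : p * (kNum V j a * kNum V j b) =
      Nat.card (P × ({s : V // IsConj a (j * s)} × {s : V // IsConj b (j * s)})) := by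
    rw [Nat.card_prod, Nat.card_prod, hP]
    rfl
  rw [hkey]
  let f : P × ({s : V // IsConj a (j * s)} × {s : V // IsConj b (j * s)}) →
      {q : G × G × V // IsConj a q.1 ∧ IsConj b q.2.1 ∧ q.1 * q.2.1 = x * q.2.2} := fun q =>
    ⟨(q.1 * (j * q.2.1.1) * (q.1 : G)⁻¹, q.1 * w⁻¹ * (j * q.2.2.1) * (q.1 * w⁻¹)⁻¹,
      ⟨j * q.2.1.1 * j * q.2.2.1, mul_mem (hjV _ q.2.1.1.2) q.2.2.1.2⟩),
      q.2.1.2.trans (isConj_iff.2 ⟨q.1, rfl⟩), q.2.2.2.trans (isConj_iff.2 ⟨q.1 * w⁻¹, rfl⟩), by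
      rw [hprod q.1 q.1.2 _ (mul_mem q.1.2 (inv_mem hwP)) _ q.2.1.1.2 _ q.2.2.1.2, hsq _ q.1.2]⟩
  have hbij : Function.Bijective f := by
    constructor
    · rintro ⟨r, ⟨s, hs⟩, ⟨s', hs'⟩⟩ ⟨r₁, ⟨s₁, hs₁⟩, ⟨s₁', hs₁'⟩⟩ heq
      have h1 := congrArg (fun q => q.1.1) heq
      have h2 := congrArg (fun q => q.1.2.1) heq
      simp only [f] at h1 h2
      rw [conj_js h hP hx hx1 hjx r.2 s.2, conj_js h hP hx hx1 hjx r₁.2 s₁.2] at h1
      obtain ⟨h3, h4⟩ := mul_inj h hP (mul_mem (inv_mem r.2) (inv_mem r.2))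
        (mul_mem (inv_mem r₁.2) (inv_mem r₁.2)) s.2 s₁.2 (mul_left_cancel h1)
      have h5 := sq_inj hP hp2 (inv_mem r.2) (inv_mem r₁.2) h3
      have h6 : (r : G) = r₁ := inv_injective h5
      have h7 : r = r₁ := Subtype.ext h6
      subst h7
      have h8 : s = s₁ := Subtype.ext h4
      subst h8
      have h9 : (s' : G) = s₁' := by
        have := mul_left_cancel (mul_right_cancel h2)
        exact mul_left_cancel this
      have h10 : s' = s₁' := Subtype.ext h9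
      subst h10
      rfl
    · rintro ⟨⟨u, v, y⟩, hau, hbv, huv⟩
      simp only at hau hbv huv
      obtain ⟨hux, hvx⟩ := conj_inv_of_mul h hP hx y.2 (hinvol ha hau) (hinvol hb hbv) huv
      obtain ⟨r, hr, s, hs, hus⟩ := exists_eq_conj h hP hp2 hx hx1 hj hjx hux
      obtain ⟨r', hr', s', hs', hvs⟩ := exists_eq_conj h hP hp2 hx hx1 hj hjx hvx
      have h1 := hprod r hr r' hr' s hs s' hs'
      rw [← hus, ← hvs, huv] at h1
      obtain ⟨h2, h3⟩ := mul_inj h hP hx (mul_mem (mul_mem hr hr)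
        (mul_mem (inv_mem hr') (inv_mem hr'))) y.2 (mul_mem (hjV s hs) hs') h1
      have h4 : r' = r * w⁻¹ := by
        refine sq_inj hP hp2 hr' (mul_mem hr (inv_mem hwP)) ?_
        have h5 : r * r * (r'⁻¹ * r'⁻¹) = r * r * ((r * w⁻¹)⁻¹ * (r * w⁻¹)⁻¹) := by
          rw [← h2, hsq r hr]
        have h6 := congrArg Inv.inv (mul_left_cancel h5)
        simpa only [mul_inv_rev, inv_inv] using h6
      have hs1 : IsConj a (j * s) := by
        rw [hus] at hau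
        exact hau.trans (isConj_iff.2 ⟨r⁻¹, by group⟩)
      have hs2 : IsConj b (j * s') := by
        rw [hvs] at hbv
        exact hbv.trans (isConj_iff.2 ⟨r'⁻¹, by group⟩)
      refine ⟨⟨⟨r, hr⟩, ⟨⟨s, hs⟩, hs1⟩, ⟨⟨s', hs'⟩, hs2⟩⟩, ?_⟩
      apply Subtype.ext
      simp only [f]
      rw [hus, hvs, ← h4]
      refine Prod.ext rfl (Prod.ext rfl (Subtype.ext h3.symm))
  exact (Nat.card_congr (Equiv.ofBijective f hbij)).symm

theorem kNum_le (j a : G) : kNum V j a ≤ Nat.card V :=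
  Nat.card_le_card_of_injective _ Subtype.val_injective

theorem kNum_congr {j a b : G} (hab : IsConj a b) : kNum V j a = kNum V j b :=
  Nat.card_congr (Equiv.subtypeEquivRight fun _ => ⟨hab.symm.trans, hab.trans⟩)

theorem kNum_add_le {j a b : G} (hab : ¬ IsConj a b) :
    kNum V j a + kNum V j b ≤ Nat.card V := by
  classical
  have := Fintype.ofFinite V
  have hdisj : Disjoint (fun s : V => IsConj a (j * s)) fun s : V => IsConj b (j * s) := by
    rw [Pi.disjoint_iff]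
    intro s
    rw [Prop.disjoint_iff]
    rintro ⟨h1, h2⟩
    exact hab (h1.trans h2.symm)
  unfold kNum
  rw [Nat.card_eq_fintype_card, Nat.card_eq_fintype_card, Nat.card_eq_fintype_card,
    ← Fintype.card_subtype_or_disjoint _ _ hdisj]
  exact Fintype.card_subtype_le _

/-- **The number of `(u, v, y)` for involutions.** The number `k` does not depend on `x`. -/
theorem exists_count (h : Compl p P V) (hP : Nat.card P = p) (hp2 : p ≠ 2) :
    ∃ k : G → ℕ, (∀ x ∈ P, x ≠ 1 → ∀ a b : G, a * a = 1 → b * b = 1 →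
      Nat.card {q : G × G × V // IsConj a q.1 ∧ IsConj b q.2.1 ∧ q.1 * q.2.1 = x * q.2.2} =
      p * (k a * k b)) ∧ (∀ a, k a ≤ Nat.card V) ∧ (∀ a b, IsConj a b → k a = k b) ∧
      (∀ a b, ¬ IsConj a b → k a + k b ≤ Nat.card V) ∧
      ∀ a, k a ≠ 0 → ∃ u, IsConj a u ∧ ∀ x ∈ P, u * x * u⁻¹ = x⁻¹ := by
  by_cases hj : ∃ j : G, j * j = 1 ∧ ∀ x ∈ P, j * x * j⁻¹ = x⁻¹
  · obtain ⟨j, hj1, hj2⟩ := hj
    refine ⟨kNum V j, fun x hx hx1 a b ha hb => count_eq h hP hp2 hx hx1 hj1 (hj2 x hx) ha hb,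
      kNum_le j, fun a b => kNum_congr, fun a b => kNum_add_le, fun a ha => ?_⟩
    have h1 : Nonempty {s : V // IsConj a (j * s)} := by
      by_contra hcon
      rw [not_nonempty_iff] at hcon
      exact ha Nat.card_of_isEmpty
    obtain ⟨s, hs⟩ := h1
    refine ⟨j * s, hs, fun x hx => ?_⟩
    have h2 := (h.comm hx s.2).eq
    calc j * s * x * (j * s)⁻¹ = j * (s * x) * (s : G)⁻¹ * j⁻¹ := by group
      _ = j * (x * s) * (s : G)⁻¹ * j⁻¹ := by rw [h2]
      _ = j * x * j⁻¹ := by group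
      _ = x⁻¹ := hj2 x hx
  · refine ⟨fun _ => 0, fun x hx hx1 a b ha hb => ?_, fun _ => Nat.zero_le _, fun _ _ _ => rfl,
      fun _ _ _ => Nat.zero_le _, fun a ha => absurd rfl ha⟩
    have : IsEmpty {q : G × G × V // IsConj a q.1 ∧ IsConj b q.2.1 ∧
        q.1 * q.2.1 = x * q.2.2} := by
      refine ⟨fun q => hj ?_⟩
      obtain ⟨⟨u, v, y⟩, hau, hbv, huv⟩ := q
      simp only at hau hbv huv
      have hinvol : ∀ {a u : G}, a * a = 1 → IsConj a u → u * u = 1 := by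
        intro a u ha hau
        obtain ⟨c, rfl⟩ := isConj_iff.1 hau
        calc c * a * c⁻¹ * (c * a * c⁻¹) = c * (a * a) * c⁻¹ := by group
          _ = 1 := by rw [ha]; group
      have h1 := (conj_inv_of_mul h hP hx y.2 (hinvol ha hau) (hinvol hb hbv) huv).1
      exact ⟨u, hinvol ha hau, fun r hr => conj_of_mem hP hx hx1 h1 hr⟩
    rw [Nat.card_of_isEmpty, mul_zero, mul_zero]

end

end Cfsg.Agent.SmallSimple.AvgCount
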