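import Mathlib
import Cfsg.Agent.S0925
import Cfsg.Agent.Blocks.PPart
import Cfsg.Agent.Blocks.Basic
import Cfsg.Agent.Blocks.PrincipalSection
import Cfsg.Agent.Characters.Core
import Cfsg.Agent.M23.Adm

/-!
# Intersections of blocks for two different primes

If `G` has no elements of order `p * q`, then for every `p`-block `B` and every `q`-block `B'`
the sum of `χ x * conj (χ y)` over `B ∩ B'` vanishes for `x` `p`-singular and `y` `q`-singular
(`sum_inter_eq_zero`).  `sum_V_mul_V`: the sum of `V P χ * V Q χ` over the intersection of the two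
principal blocks vanishes, `V P χ` being the sum of `χ` over the nontrivial elements of `P`
(`= (p - 1) ε` for nonexceptional and `= - d e` for exceptional characters: `V_NE`, `V_X`).
-/

set_option autoImplicit false
set_option linter.unusedSectionVars false

namespace Cfsg.Agent.SmallSimple.BlockInter

open Cfsg
open Cfsg.Agent.Characters.Core
open Cfsg.Agent.M23.Adm (V V_eq V_const V_sum_hom)
open scoped ComplexConjugate

universe u
variable {G : Type u} [Group G] [Finite G]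

/-- an element of order divisible by `p` and `q` has a power of order `p * q` -/
theorem exists_orderOf_mul {p q : ℕ} (hp : p.Prime) (hq : q.Prime) (hpq : p ≠ q) {g : G}
    (h1 : p ∣ orderOf g) (h2 : q ∣ orderOf g) : ∃ h : G, orderOf h = p * q := by
  have h3 : p * q ∣ orderOf g :=
    Nat.Coprime.mul_dvd_of_dvd_of_dvd ((Nat.coprime_primes hp hq).2 hpq) h1 h2
  obtain ⟨k, hk⟩ := h3
  refine ⟨g ^ k, ?_⟩
  have hk0 : k ≠ 0 := by
    rintro rfl
    have := orderOf_pos g
    omega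
  rw [orderOf_pow_of_dvd hk0 ⟨p * q, by rw [hk, mul_comm]⟩, hk, Nat.mul_div_cancel _ (Nat.pos_of_ne_zero hk0)]

theorem isPPart_ne_one {p : ℕ} {g x : G} (h : IsPPart p g x) (hg : p ∣ orderOf g) : x ≠ 1 := by
  rintro rfl
  obtain ⟨y, rfl, -, -, hy⟩ := h
  rw [one_mul] at hg
  exact hy hg

theorem dvd_orderOf_of_isPPart {p : ℕ} (hp : p.Prime) {g x : G} (h : IsPPart p g x) (hx : x ≠ 1) :
    p ∣ orderOf g := by
  obtain ⟨y, rfl, hc, ⟨k, hk⟩, hy⟩ := h
  have hk0 : k ≠ 0 := by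
    rintro rfl
    rw [pow_zero, orderOf_eq_one_iff] at hk
    exact hx hk
  have hcop : Nat.Coprime (orderOf x) (orderOf y) := by
    rw [hk]
    exact Nat.Coprime.pow_left _ ((Nat.Prime.coprime_iff_not_dvd hp).2 hy)
  rw [hc.orderOf_mul_eq_mul_orderOf_of_coprime hcop, hk]
  exact Dvd.dvd.mul_right (dvd_pow_self p hk0) _

/-- The general intersection rule. -/
theorem sum_inter_eq_zero {p q : ℕ} [Fact p.Prime] [Fact q.Prime] (hpq : p ≠ q)
    {M M' : Ideal AlgInt} (hM : IsPModular p M) (hM' : IsPModular q M')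
    {B B' : Set (IrrCharacter G)} (hB : IsPBlock M B) (hB' : IsPBlock M' B')
    (hno : ∀ g : G, orderOf g ≠ p * q) {x y : G} (hx : p ∣ orderOf x) (hy : q ∣ orderOf y) :
    ∑ᶠ χ ∈ B ∩ B', (χ : G → ℂ) x * conj ((χ : G → ℂ) y) = 0 := by
  classical
  have := finite_irr (G := G)
  have := Fintype.ofFinite (IrrCharacter G)
  have hp : p.Prime := Fact.out
  have hq : q.Prime := Fact.out
  obtain ⟨xp, hxp⟩ := Blocks.PPart.exists_isPPart p x
  obtain ⟨yq, hyq⟩ := Blocks.PPart.exists_isPPart q y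
  have hxp1 := isPPart_ne_one hxp hx
  have hyq1 := isPPart_ne_one hyq hy
  let θ : G → ℂ := ∑ ψ : IrrCharacter G, (if ψ ∈ B then (ψ : G → ℂ) x⁻¹ else 0) • (ψ : G → ℂ)
  have hθcl : IsClassFunction G θ := by
    intro g h
    simp only [θ, Finset.sum_apply, Pi.smul_apply, smul_eq_mul]
    refine Finset.sum_congr rfl fun ψ _ => ?_
    rw [Blocks.Basic.irr_conj ψ.2]
  have hθ0 : ∀ g : G, q ∣ orderOf g → θ g = 0 := by
    intro g hg
    have hpg : ¬ p ∣ orderOf g := by
      intro h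
      obtain ⟨h', hh⟩ := exists_orderOf_mul hp hq hpq h hg
      exact hno h' hh
    have h1 := (S0925.result (G := G) p M hM).2 g x 1 xp (Blocks.PPart.isPPart_of_not_dvd hpg) hxp
      (fun h => hxp1 (isConj_one_right.1 h)) B hB
    rw [← h1, finsum_mem_eq_finite_toFinset_sum _ (Set.toFinite B)]
    simp only [θ, Finset.sum_apply, Pi.smul_apply, smul_eq_mul, ite_mul, zero_mul]
    rw [← Finset.sum_filter]
    refine Finset.sum_congr ?_ fun ψ _ => mul_comm _ _
    ext ψ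
    simp
  have h2 := (S0925.result (G := G) q M' hM').1 θ hθcl yq (by
      obtain ⟨-, -, -, h, -⟩ := hyq; exact h)
    (fun u z hu hz => hθ0 u (dvd_orderOf_of_isPPart hq hu (fun h => hyq1 (by
      rw [h] at hz; exact isConj_one_left.1 hz)))) B' hB' y yq hyq (IsConj.refl _)
  have h3 : blockPart B' θ y =
      ∑ᶠ ψ ∈ B ∩ B', (ψ : G → ℂ) x⁻¹ * (ψ : G → ℂ) y := by
    let _ : Fintype G := Fintype.ofFinite G
    change ∑ᶠ χ ∈ B', classInner θ (χ : G → ℂ) * (χ : G → ℂ) y = _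
    rw [finsum_mem_eq_finite_toFinset_sum _ (Set.toFinite B'),
      finsum_mem_eq_finite_toFinset_sum _ (Set.toFinite (B ∩ B'))]
    simp only [θ, classInner_sum_smul_irr, ite_mul, zero_mul]
    rw [← Finset.sum_filter]
    refine Finset.sum_congr ?_ fun ψ _ => rfl
    ext ψ
    simp [and_comm]
  rw [h3] at h2
  have h4 : ∑ᶠ ψ ∈ B ∩ B', (ψ : G → ℂ) x * conj ((ψ : G → ℂ) y) =
      conj (∑ᶠ ψ ∈ B ∩ B', (ψ : G → ℂ) x⁻¹ * (ψ : G → ℂ) y) := by
    rw [finsum_mem_eq_finite_toFinset_sum _ (Set.toFinite (B ∩ B')),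
      finsum_mem_eq_finite_toFinset_sum _ (Set.toFinite (B ∩ B')), map_sum]
    refine Finset.sum_congr rfl fun ψ _ => ?_
    rw [map_mul, Cfsg.Agent.Blocks.Orthogonality.irr_apply_inv ψ.2, Complex.conj_conj]
  rw [h4, h2, map_zero]

/-- The intersection rule for principal blocks, summed over the nontrivial elements. -/
theorem sum_V_mul_V {p q : ℕ} [Fact p.Prime] [Fact q.Prime] (hpq : p ≠ q)
    {M M' : Ideal AlgInt} (hM : IsPModular p M) (hM' : IsPModular q M')
    [DecidableEq (IrrCharacter G)] {T T' : Finset (IrrCharacter G)}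
    (hT : ∀ χ : IrrCharacter G, χ ∈ principalBlock M G ↔ χ ∈ T)
    (hT' : ∀ χ : IrrCharacter G, χ ∈ principalBlock M' G ↔ χ ∈ T')
    (hno : ∀ g : G, orderOf g ≠ p * q) {P Q : Subgroup G}
    (hP : ∀ x ∈ P, x ≠ 1 → p ∣ orderOf x) (hQ : ∀ y ∈ Q, y ≠ 1 → q ∣ orderOf y) :
    ∑ χ ∈ T ∩ T', V P (χ : G → ℂ) * V Q (χ : G → ℂ) = 0 := by
  classical
  have := finite_irr (G := G)
  have hB : IsPBlock M (principalBlock M G) := ⟨⟨fun _ => 1, isIrr_one⟩, rfl⟩
  have hB' : IsPBlock M' (principalBlock M' G) := ⟨⟨fun _ => 1, isIrr_one⟩, rfl⟩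
  have := Fintype.ofFinite {x : P // x ≠ 1}
  have := Fintype.ofFinite {y : Q // y ≠ 1}
  have h1 : ∀ (x : {x : P // x ≠ 1}) (y : {y : Q // y ≠ 1}),
      ∑ χ ∈ T ∩ T', (χ : G → ℂ) (x : P) * (χ : G → ℂ) (y : Q) = 0 := by
    intro x y
    have hx : p ∣ orderOf ((x : P) : G) := hP _ x.1.2 fun h => x.2 (Subtype.ext h)
    have hy : q ∣ orderOf (((y : Q) : G)⁻¹) := by
      rw [orderOf_inv]
      exact hQ _ y.1.2 fun h => y.2 (Subtype.ext h)
    have h2 := sum_inter_eq_zero hpq hM hM' hB hB' hno hx hy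
    rw [finsum_mem_eq_finite_toFinset_sum _ (Set.toFinite _)] at h2
    rw [← h2]
    refine Finset.sum_congr ?_ fun χ _ => ?_
    · ext χ
      simp [hT, hT']
    · rw [Cfsg.Agent.Blocks.Orthogonality.irr_apply_inv χ.2, Complex.conj_conj]
  simp only [V_eq, Finset.sum_mul_sum]
  rw [Finset.sum_comm]
  refine Finset.sum_eq_zero fun x _ => ?_
  rw [Finset.sum_comm]
  exact Finset.sum_eq_zero fun y _ => h1 x y

section Values

variable {p : ℕ} [hp : Fact p.Prime] {P : Sylow p G} {e t : ℕ} {M : Ideal AlgInt}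
  {NE X : Finset (IrrCharacter G)} {ε : IrrCharacter G → ℤ} {d : ℤ}
  {S : IrrCharacter G → Finset (P →* ℂˣ)}

theorem V_NE (B : M23.Block.Blk p P e t M NE X ε d S) (hP : Nat.card P = p) {χ : IrrCharacter G}
    (hχ : χ ∈ NE) : V (P : Subgroup G) (χ : G → ℂ) = ((p : ℂ) - 1) * ε χ := by
  have h1 : ¬ p ∣ orderOf (1 : G) := by
    rw [orderOf_one]; exact fun h => hp.out.one_lt.ne' (Nat.dvd_one.1 h)
  have h2 := V_const (P : Subgroup G) (χ := (χ : G → ℂ)) (c := ε χ) fun x hx hx1 => by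
    have := B.val_NE χ hχ x hx hx1 1 (Subgroup.one_mem _) h1
    rwa [mul_one] at this
  have hP' : Nat.card (P : Subgroup G) = p := hP
  rw [h2, hP', Nat.cast_sub hp.out.one_lt.le, Nat.cast_one]

theorem V_X (B : M23.Block.Blk p P e t M NE X ε d S) {χ : IrrCharacter G}
    (hχ : χ ∈ X) : V (P : Subgroup G) (χ : G → ℂ) = -d * e := by
  obtain ⟨h1, h2, h3⟩ := B.val_X χ hχ
  have h4 : ¬ p ∣ orderOf (1 : G) := by
    rw [orderOf_one]; exact fun h => hp.out.one_lt.ne' (Nat.dvd_one.1 h)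
  rw [V_sum_hom (P := (P : Subgroup G)) h2 (d := d) (fun x hx => by
    have := h3 x hx 1 (Subgroup.one_mem _) h4
    rwa [mul_one] at this), h1]

end Values

end Cfsg.Agent.SmallSimple.BlockInter
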