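import Cfsg.Agent.SmallSimple.FlatBlock
import Cfsg.Agent.SmallSimple.DegreeData

/-!
# Shared characters of two principal blocks

`B` the principal `p`-block with `e = p - 1` (`Flat`); if there is no element of order `p * q` then
`B` and the principal `q`-block share a nontrivial character with "opposite signs":
`exists_shared_flat`, `exists_shared_data`.
-/

set_option autoImplicit false
set_option linter.unusedSectionVars false

namespace Cfsg.Agent.SmallSimple.BlockShared

open Cfsg Subgroup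
open Cfsg.Agent.Characters.Core
open Cfsg.Agent.M23Order.Base (dg dg_eq)
open Cfsg.Agent.M23.Adm (V V_eq V_const V_sum_hom)
open Cfsg.Agent.SmallSimple.FlatBlock Cfsg.Agent.SmallSimple.DegreeData

universe u

variable {G : Type u} [Group G] [Finite G]

/-- nontrivial elements of a Sylow subgroup of order `p` have order `p` -/
theorem dvd_orderOf {p : ℕ} [Fact p.Prime] {P : Sylow p G} (hP : Nat.card P = p) :
    ∀ x ∈ (P : Subgroup G), x ≠ 1 → p ∣ orderOf x := by
  intro x hx hx1
  have h1 : orderOf x ∣ p := by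
    have := orderOf_dvd_natCard (⟨x, hx⟩ : (P : Subgroup G))
    have hP' : Nat.card (P : Subgroup G) = p := hP
    rw [hP'] at this
    simpa using this
  rcases (Nat.dvd_prime (Fact.out : p.Prime)).1 h1 with h | h
  · exact absurd (orderOf_eq_one_iff.1 h) hx1
  · rw [h]

/-- The intersection rule for a flat principal `p`-block and the principal `q`-block. -/
theorem sum_inter {p q : ℕ} [Fact p.Prime] [Fact q.Prime] (hpq : p ≠ q) {P : Sylow p G}
    (hP : Nat.card P = p) {Q : Sylow q G} (hQ : Nat.card Q = q) {M M' : Ideal AlgInt}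
    {B : Finset (IrrCharacter G)} {ε : IrrCharacter G → ℤ} (h : Flat p P M B ε)
    (hM' : IsPModular q M') [DecidableEq (IrrCharacter G)] {T : Finset (IrrCharacter G)}
    (hT : ∀ χ : IrrCharacter G, χ ∈ principalBlock M' G ↔ χ ∈ T) {w : IrrCharacter G → ℤ}
    (hw : ∀ χ ∈ T, V (Q : Subgroup G) (χ : G → ℂ) = w χ) (hno : ∀ g : G, orderOf g ≠ p * q) :
    ∑ χ ∈ B ∩ T, ε χ * w χ = 0 := by
  have h1 := BlockInter.sum_V_mul_V hpq h.modular hM' h.mem_iff hT hno (dvd_orderOf hP)
    (dvd_orderOf hQ)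
  have h2 : ((p : ℂ) - 1) * ((∑ χ ∈ B ∩ T, ε χ * w χ : ℤ) : ℂ) = 0 := by
    rw [← h1]
    push_cast
    rw [Finset.mul_sum]
    refine Finset.sum_congr rfl fun χ hχ => ?_
    rw [Finset.mem_inter] at hχ
    rw [h.V_eq hP hχ.1, hw χ hχ.2]
    ring
  have hp : ((p : ℂ) - 1) ≠ 0 := by
    intro h3
    have h4 : (p : ℂ) = 1 := by linear_combination h3
    have h5 : p = 1 := by exact_mod_cast h4
    exact (Fact.out : p.Prime).one_lt.ne' h5
  have h3 := (mul_eq_zero.1 h2).resolve_left hp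
  exact_mod_cast h3

/-- There is a shared nontrivial character contributing negatively. -/
theorem exists_neg {p q : ℕ} [Fact p.Prime] [Fact q.Prime] (hpq : p ≠ q) {P : Sylow p G}
    (hP : Nat.card P = p) {Q : Sylow q G} (hQ : Nat.card Q = q) {M M' : Ideal AlgInt}
    {B : Finset (IrrCharacter G)} {ε : IrrCharacter G → ℤ} (h : Flat p P M B ε)
    (hM' : IsPModular q M') {T : Finset (IrrCharacter G)}
    (hT : ∀ χ : IrrCharacter G, χ ∈ principalBlock M' G ↔ χ ∈ T) {w : IrrCharacter G → ℤ}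
    (hw : ∀ χ ∈ T, V (Q : Subgroup G) (χ : G → ℂ) = w χ) (hno : ∀ g : G, orderOf g ≠ p * q)
    (h1 : tr G ∈ T) (h2 : 0 < w (tr G)) :
    ∃ χ ∈ B, χ ∈ T ∧ χ ≠ tr G ∧ ε χ * w χ < 0 := by
  classical
  by_contra hcon
  push Not at hcon
  have h3 := sum_inter hpq hP hQ h hM' hT hw hno
  rw [← Finset.add_sum_erase _ _ (Finset.mem_inter.2 ⟨h.one_mem, h1⟩), h.ε_one, one_mul] at h3
  have h4 : 0 ≤ ∑ χ ∈ (B ∩ T).erase (tr G), ε χ * w χ := by
    refine Finset.sum_nonneg fun χ hχ => ?_
    rw [Finset.mem_erase, Finset.mem_inter] at hχ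
    exact hcon χ hχ.2.1 hχ.2.2 hχ.1
  linarith

/-- Two flat blocks share a nontrivial character with opposite signs. -/
theorem exists_shared_flat {p q : ℕ} [Fact p.Prime] [Fact q.Prime] (hpq : p ≠ q) {P : Sylow p G}
    (hP : Nat.card P = p) {Q : Sylow q G} (hQ : Nat.card Q = q) {M M' : Ideal AlgInt}
    {B B' : Finset (IrrCharacter G)} {ε ε' : IrrCharacter G → ℤ} (h : Flat p P M B ε)
    (h' : Flat q Q M' B' ε') (hno : ∀ g : G, orderOf g ≠ p * q) :
    ∃ χ ∈ B, χ ∈ B' ∧ χ ≠ tr G ∧ ε' χ = -ε χ := by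
  have hq : 0 < (q : ℤ) - 1 := by
    have := (Fact.out : q.Prime).one_lt
    omega
  obtain ⟨χ, h1, h2, h3, h4⟩ := exists_neg hpq hP hQ h h'.modular h'.mem_iff
    (w := fun χ => ((q : ℤ) - 1) * ε' χ) (fun χ hχ => by
      rw [h'.V_eq hQ hχ]; push_cast; ring) hno h'.one_mem (by
      rw [h'.ε_one, mul_one]; exact hq)
  refine ⟨χ, h1, h2, h3, ?_⟩
  rcases h.ε_mem χ h1 with h5 | h5 <;> rcases h'.ε_mem χ h2 with h6 | h6 <;>
    rw [h5, h6] at h4 <;> rw [h5, h6] <;> first | (exfalso; linarith) | norm_num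

/-- The sum of the products of signs over the intersection of two flat blocks. -/
theorem sum_shared_flat {p q : ℕ} [Fact p.Prime] [Fact q.Prime] (hpq : p ≠ q) {P : Sylow p G}
    (hP : Nat.card P = p) {Q : Sylow q G} (hQ : Nat.card Q = q) {M M' : Ideal AlgInt}
    {B B' : Finset (IrrCharacter G)} {ε ε' : IrrCharacter G → ℤ} (h : Flat p P M B ε)
    (h' : Flat q Q M' B' ε') (hno : ∀ g : G, orderOf g ≠ p * q)
    [DecidableEq (IrrCharacter G)] : ∑ χ ∈ B ∩ B', ε χ * ε' χ = 0 := by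
  have hq : (q : ℤ) - 1 ≠ 0 := by
    have := (Fact.out : q.Prime).one_lt
    omega
  have h1 := sum_inter hpq hP hQ h h'.modular h'.mem_iff
    (w := fun χ => ((q : ℤ) - 1) * ε' χ) (fun χ hχ => by
      rw [h'.V_eq hQ hχ]; push_cast; ring) hno
  have h2 : ((q : ℤ) - 1) * ∑ χ ∈ B ∩ B', ε χ * ε' χ = 0 := by
    rw [← h1, Finset.mul_sum]
    exact Finset.sum_congr rfl fun χ _ => by ring
  exact (mul_eq_zero.1 h2).resolve_left hq

section Data

variable {q e t : ℕ} [Fact q.Prime] {Q : Sylow q G} {M' : Ideal AlgInt}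

theorem one_eq (D : BlockData q M' Q e t) : D.one = tr G := Subtype.ext (by rw [D.coe_one, coe_tr])

theorem V_mem (D : BlockData q M' Q e t) (hQ : Nat.card Q = q) {χ : IrrCharacter G}
    (hχ : χ ∈ D.one :: D.l) : V (Q : Subgroup G) (χ : G → ℂ) = ((q : ℂ) - 1) * D.ε χ := by
  rw [V_const (Q : Subgroup G) (c := D.ε χ) fun x hx hx1 => D.val' hχ hx hx1]
  have hQ' : Nat.card (Q : Subgroup G) = q := hQ
  rw [hQ', Nat.cast_sub (Fact.out : q.Prime).one_lt.le, Nat.cast_one]

theorem V_exc (D : BlockData q M' Q e t) {Θ : IrrCharacter G}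
    (hΘ : Θ ∈ D.X) : V (Q : Subgroup G) (Θ : G → ℂ) = -D.d * e := by
  rw [V_sum_hom (P := (Q : Subgroup G)) (D.one_notMem_S Θ hΘ) (d := D.d)
    (fun x hx => D.val_X' hΘ x hx), D.card_S Θ hΘ]

open scoped Classical in
/-- A flat `p`-block and the principal `q`-block (any `e`) share a nontrivial character with
"opposite signs". -/
theorem exists_shared_data {p : ℕ} [Fact p.Prime] (hpq : p ≠ q) {P : Sylow p G}
    (hP : Nat.card P = p) (hQ : Nat.card Q = q) {M : Ideal AlgInt}
    {B : Finset (IrrCharacter G)} {ε : IrrCharacter G → ℤ} (h : Flat p P M B ε)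
    (hM' : IsPModular q M') (D : BlockData q M' Q e t) (hno : ∀ g : G, orderOf g ≠ p * q) :
    ∃ χ ∈ B, χ ≠ tr G ∧ ((χ ∈ D.l ∧ D.ε χ = -ε χ) ∨ (χ ∈ D.X ∧ D.d = ε χ)) := by
  have hq : 0 < (q : ℤ) - 1 := by
    have := (Fact.out : q.Prime).one_lt
    omega
  have hmem : ∀ χ : IrrCharacter G, χ ∈ principalBlock M' G ↔
      χ ∈ (D.one :: D.l).toFinset ∪ D.X := by
    intro χ
    rw [D.mem_block, Finset.mem_union, List.mem_toFinset]
  have h1 : tr G ∈ D.one :: D.l := by rw [one_eq D]; exact List.mem_cons_self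
  obtain ⟨χ, h2, h3, h4, h5⟩ := exists_neg hpq hP hQ h hM' hmem
    (w := fun χ => if χ ∈ D.one :: D.l then ((q : ℤ) - 1) * D.ε χ else -D.d * e) (fun χ hχ => by
      rw [Finset.mem_union, List.mem_toFinset] at hχ
      by_cases h2 : χ ∈ D.one :: D.l
      · rw [if_pos h2, V_mem D hQ h2]; push_cast; ring
      · rw [if_neg h2, V_exc D (hχ.resolve_left h2)]; push_cast; ring) hno
    (Finset.mem_union_left _ (List.mem_toFinset.2 h1)) (by
      rw [if_pos h1, ← one_eq D, D.ε_one, mul_one]; exact hq)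
  refine ⟨χ, h2, h4, ?_⟩
  by_cases h6 : χ ∈ D.one :: D.l
  · left
    have h7 : χ ∈ D.l := by
      rcases List.mem_cons.1 h6 with h7 | h7
      · exact absurd (h7.trans (one_eq D)) h4
      · exact h7
    refine ⟨h7, ?_⟩
    rw [if_pos h6] at h5
    rcases h.ε_mem χ h2 with h8 | h8 <;> rcases D.ε_mem χ h6 with h9 | h9 <;>
      rw [h8, h9] at h5 <;> rw [h8, h9] <;> first | (exfalso; linarith) | norm_num
  · right
    rw [Finset.mem_union, List.mem_toFinset] at h3
    refine ⟨h3.resolve_left h6, ?_⟩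
    rw [if_neg h6] at h5
    have he : (0 : ℤ) ≤ e := Int.natCast_nonneg _
    rcases h.ε_mem χ h2 with h8 | h8 <;> rcases D.d_mem with h9 | h9 <;>
      rw [h8, h9] at h5 <;> rw [h8, h9] <;> exfalso <;> linarith

/-- Class integrality for the nonexceptional characters. -/
theorem mul_dvd_card (D : BlockData q M' Q e t) (hQ : Nat.card Q = q) {K : Subgroup G}
    (hK : Nat.card (centralizer (Q : Set G)) = q * Nat.card K) {χ : IrrCharacter G}
    (hχ : χ ∈ D.one :: D.l) : dg χ * (q * Nat.card K) ∣ Nat.card G := by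
  obtain ⟨x, hx, hx1⟩ := BlockIndex.exists_ne_one (P := (Q : Subgroup G)) hQ
  have h1 := InvolColumn.dvd_index_mul χ.2 (D.val' hχ hx hx1)
  have h3 : dg χ ∣ (centralizer ({x} : Set G)).index := by
    rcases D.ε_mem χ hχ with h2 | h2
    · rw [h2, mul_one] at h1
      exact_mod_cast h1
    · rw [h2, mul_neg, mul_one, dvd_neg] at h1
      exact_mod_cast h1
  have h2 : centralizer ({x} : Set G) = centralizer (Q : Set G) :=
    BlockIndex.centralizer_eq (P := (Q : Subgroup G)) hQ hx hx1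
  rw [h2] at h3
  rw [← card_mul_index (centralizer (Q : Set G)), hK, mul_comm]
  exact Nat.mul_dvd_mul_left _ h3

end Data

/-- An element of order `p * q` from an element of order `q` in the complement of `C(P)`. -/
theorem exists_orderOf {p : ℕ} [Fact p.Prime] {P : Sylow p G} (hP : Nat.card P = p) {e : ℕ}
    {K : Subgroup G} (h : PrimeLocal.IsLocal p P e K) {q : ℕ} (hq : q.Prime) (hpq : p ≠ q)
    (hK : q ∣ Nat.card K) : ∃ g : G, orderOf g = p * q := by
  have := Fact.mk hq
  have hp : p.Prime := Fact.out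
  obtain ⟨k, hk⟩ := exists_prime_orderOf_dvd_card' q hK
  obtain ⟨x, hx, hx1⟩ := BlockIndex.exists_ne_one (P := (P : Subgroup G)) hP
  have h1 : orderOf x = p := by
    have h2 : orderOf x ∣ p := by
      have := orderOf_dvd_natCard (⟨x, hx⟩ : (P : Subgroup G))
      have hP' : Nat.card (P : Subgroup G) = p := hP
      rw [hP'] at this
      simpa using this
    rcases (Nat.dvd_prime hp).1 h2 with h | h
    · exact absurd (orderOf_eq_one_iff.1 h) hx1
    · exact h
  have h2 : orderOf (k : G) = q := by rw [Subgroup.orderOf_coe, hk]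
  have h3 : Commute x (k : G) :=
    mem_centralizer_iff.1 ((h.mem_iff _).1 k.2).1 x hx
  refine ⟨x * k, ?_⟩
  rw [h3.orderOf_mul_eq_mul_orderOf_of_coprime, h1, h2]
  rw [h1, h2]
  exact (Nat.coprime_primes hp hq).2 hpq

end Cfsg.Agent.SmallSimple.BlockShared
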