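import Mathlib

/-!
# Arithmetic of degrees for S0996 (Brauer's theorem), part C1

`p = e t + 1`, `|G| = p e (1 + n p)`, `2 n < p + 3`.  Everything here is about natural numbers and
integers only.
-/

set_option autoImplicit false

namespace Cfsg.Agent.SmallSimple.BrauerArith

/-- Divisor lemma. -/
theorem divisor_lemma {p n u : ℕ} (hp : 3 ≤ p) (h2n : 2 * n < p + 3)
    (hd : u * p + 1 ∣ (p - 1) * (1 + n * p)) : u = 0 ∨ u = n := by
  obtain ⟨m, hm⟩ := hd
  rcases Nat.eq_zero_or_pos u with hu | hu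
  · left; exact hu
  right
  obtain ⟨q, rfl⟩ : ∃ q, p = q + 1 := ⟨p - 1, by omega⟩
  simp only [Nat.add_sub_cancel] at hm
  -- `m ≡ -1 mod p`
  have hm1 : (q + 1) ∣ m + 1 := by
    have h1 : ((q + 1 : ℕ) : ℤ) ∣ (m : ℤ) + 1 := by
      refine ⟨q * n + 1 - u * m, ?_⟩
      have h2 : (q : ℤ) * (1 + n * (q + 1)) = (u * (q + 1) + 1) * m := by exact_mod_cast hm
      push_cast
      linear_combination -h2
    exact_mod_cast h1
  obtain ⟨h', hh'⟩ := hm1
  have hh'pos : 0 < h' := by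
    rcases Nat.eq_zero_or_pos h' with h0 | h0
    · rw [h0] at hh'; omega
    · exact h0
  obtain ⟨h, rfl⟩ : ∃ h, h' = h + 1 := ⟨h' - 1, by omega⟩
  -- `m = h (q+1) + q`
  have hmq : m = h * (q + 1) + q := by
    have : (q + 1) * (h + 1) = h * (q + 1) + q + 1 := by ring
    omega
  rw [hmq] at hm
  -- `q n = u h (q+1) + u q + h`
  have key : q * n = u * h * (q + 1) + u * q + h := by
    have h3 : q * (1 + n * (q + 1)) = q + (q * n) * (q + 1) := by ring
    have h4 : (u * (q + 1) + 1) * (h * (q + 1) + q) =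
        q + (u * h * (q + 1) + u * q + h) * (q + 1) := by ring
    rw [h3, h4] at hm
    exact Nat.eq_of_mul_eq_mul_right (Nat.succ_pos q) (Nat.add_left_cancel hm)
  rcases Nat.eq_zero_or_pos h with hh | hh
  · rw [hh] at key
    have h5 : q * n = q * u := by rw [key]; ring
    exact (Nat.eq_of_mul_eq_mul_left (by omega) h5).symm
  exfalso
  -- `q ∣ (u+1) h`
  have hq : q ∣ (u + 1) * h := by
    have h6 : (u + 1) * h + q * (u * h + u) = q * n := by rw [key]; ring
    exact (Nat.dvd_add_left (Dvd.intro _ rfl)).1 (h6 ▸ Dvd.intro _ rfl)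
  obtain ⟨r, hr⟩ := hq
  have hr0 : 0 < r := by
    rcases Nat.eq_zero_or_pos r with h0 | h0
    · rw [h0] at hr
      have : 0 < (u + 1) * h := Nat.mul_pos (by omega) hh
      omega
    · exact h0
  have hn : n = u * h + u + r := by
    have h6 : q * n = q * (u * h + u + r) := by
      rw [key]
      have : q * (u * h + u + r) = q * (u * h + u) + q * r := by ring
      rw [this, ← hr]; ring
    exact Nat.eq_of_mul_eq_mul_left (by omega) h6
  -- `2 n (u+1) ≥ (p+3)(u+1)`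
  obtain ⟨v, rfl⟩ : ∃ v, u = v + 1 := ⟨u - 1, by omega⟩
  obtain ⟨s, rfl⟩ : ∃ s, r = s + 1 := ⟨r - 1, by omega⟩
  have h7 : (q + 1 + 3) * (v + 2) ≤ 2 * n * (v + 2) := by
    have h8 : 2 * n * (v + 2) = 2 * (v + 1) * ((v + 1 + 1) * h) + 2 * (v + 1 + (s + 1)) * (v + 2) := by
      rw [hn]; ring
    rw [h8, hr]
    nlinarith [Nat.zero_le (v * q), Nat.zero_le (v * v), Nat.zero_le (s * q), Nat.zero_le (v * s * q),
      Nat.zero_le (v * s)]
  have h9 : q + 1 + 3 ≤ 2 * n := Nat.le_of_mul_le_mul_right h7 (by omega)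
  omega

/-- Divisors of `(p-1)(1+np)` that are `1` mod `p`. -/
theorem eq_of_modEq_one {p n f : ℕ} (hp : 3 ≤ p) (h2n : 2 * n < p + 3)
    (hd : f ∣ (p - 1) * (1 + n * p)) (hf : (f : ℤ) ≡ 1 [ZMOD p]) : f = 1 ∨ f = 1 + n * p := by
  have hfm : f % p = 1 := by
    have h0 : f ≡ 1 [MOD p] := by
      rw [← Int.natCast_modEq_iff]; exact_mod_cast hf
    have h1 : f % p = 1 % p := h0
    rw [h1]; exact Nat.mod_eq_of_lt (by omega)
  obtain ⟨u, hu⟩ : ∃ u, f = u * p + 1 := ⟨f / p, by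
    have := Nat.div_add_mod f p
    rw [hfm] at this
    rw [Nat.mul_comm]; omega⟩
  subst hu
  rcases divisor_lemma hp h2n hd with h2 | h2
  · left; rw [h2]; ring
  · right; rw [h2]; ring

/-- Divisors of `(p-1)(1+np)` that are `-1` mod `p` : the cofactor is `1` or `1+np`. -/
theorem eq_of_modEq_neg_one {p n f : ℕ} (hp : 3 ≤ p) (h2n : 2 * n < p + 3)
    (hd : f ∣ (p - 1) * (1 + n * p)) (hf : (f : ℤ) ≡ -1 [ZMOD p]) :
    f = (p - 1) * (1 + n * p) ∨ f = p - 1 := by
  obtain ⟨m, hm⟩ := hd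
  have hm1 : (m : ℤ) ≡ 1 [ZMOD p] := by
    have h1 : ((p : ℤ) - 1) * (1 + n * p) = f * m := by
      have : (((p - 1 : ℕ) : ℤ)) * (1 + n * p) = f * m := by exact_mod_cast hm
      rwa [Nat.cast_sub (by omega), Nat.cast_one] at this
    have h2 : ((p : ℤ) - 1) * (1 + n * p) ≡ -1 [ZMOD p] := by
      rw [Int.modEq_iff_dvd]
      exact ⟨-1 + n - n * p, by ring⟩
    have h3 : (f : ℤ) * m ≡ -1 * m [ZMOD p] := hf.mul_right _
    have h4 : (-1 : ℤ) * m ≡ -1 [ZMOD p] := (h3.symm.trans (h1 ▸ Int.ModEq.refl _)).trans h2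
    have h5 := h4.mul_left (-1)
    simpa using h5
  rcases eq_of_modEq_one hp h2n (Dvd.intro_left f hm.symm) hm1 with h | h
  · left; rw [hm, h, mul_one]
  · right
    rw [h] at hm
    exact (Nat.eq_of_mul_eq_mul_right (by omega) hm).symm

section Setup

variable {p e t n : ℕ}

/-- Non-exceptional degree with positive sign. -/
theorem deg_pos (hp : 3 ≤ p) (het : e * t + 1 = p) (h2n : 2 * n < p + 3) {f : ℕ}
    (hd : f ∣ e * (1 + n * p)) (hf : (f : ℤ) ≡ 1 [ZMOD p]) : f = 1 ∨ f = 1 + n * p := by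
  apply eq_of_modEq_one hp h2n _ hf
  have : p - 1 = e * t := by omega
  rw [this]
  exact hd.trans ⟨t, by ring⟩

/-- Non-exceptional degree with negative sign. -/
theorem deg_neg (hp : 3 ≤ p) (het : e * t + 1 = p) (hn : 1 ≤ n) (h2n : 2 * n < p + 3) {f : ℕ}
    (hd : f ∣ e * (1 + n * p)) (hf : (f : ℤ) ≡ -1 [ZMOD p])
    (hsq : f ^ 2 ≤ p * e * (1 + n * p)) : f = p - 1 ∧ t ∣ n + 1 := by
  have hpe : p - 1 = e * t := by omega
  have he0 : 0 < e := by
    rcases Nat.eq_zero_or_pos e with h | h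
    · rw [h] at het; omega
    · exact h
  have h1 : f ∣ (p - 1) * (1 + n * p) := by rw [hpe]; exact hd.trans ⟨t, by ring⟩
  rcases eq_of_modEq_neg_one hp h2n h1 hf with h | h
  · exfalso
    have hle : f ≤ e * (1 + n * p) := Nat.le_of_dvd (by positivity) hd
    rw [h] at hle
    have h2 : p - 1 ≤ e := Nat.le_of_mul_le_mul_right hle (by positivity)
    have h3 : e = p - 1 := by
      apply le_antisymm _ h2
      rw [hpe]
      exact Nat.le_mul_of_pos_right e (by
        rcases Nat.eq_zero_or_pos t with h0 | h0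
        · rw [h0] at het; omega
        · exact h0)
    rw [h, h3] at hsq
    obtain ⟨q, rfl⟩ : ∃ q, p = q + 1 := ⟨p - 1, by omega⟩
    simp only [Nat.add_sub_cancel] at hsq
    have h4 : (q * (1 + n * (q + 1))) * (q * (1 + n * (q + 1))) ≤
        (q + 1) * (q * (1 + n * (q + 1))) := by
      calc (q * (1 + n * (q + 1))) * (q * (1 + n * (q + 1))) = (q * (1 + n * (q + 1))) ^ 2 := by ring
        _ ≤ _ := hsq
        _ = _ := by ring
    have h5 : q * (1 + n * (q + 1)) ≤ q + 1 := Nat.le_of_mul_le_mul_right h4 (by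
      apply Nat.mul_pos (by omega); positivity)
    have h6 : 1 * (1 + 1 * (q + 1)) ≤ q * (1 + n * (q + 1)) :=
      Nat.mul_le_mul (by omega) (Nat.add_le_add_left (Nat.mul_le_mul_right _ hn) _)
    omega
  · refine ⟨h, ?_⟩
    rw [h, hpe] at hd
    have h2 : t ∣ 1 + n * p := Nat.dvd_of_mul_dvd_mul_left he0 hd
    have h3 : 1 + n * p = (n + 1) + t * (e * n) := by rw [← het]; ring
    rw [h3] at h2
    exact (Nat.dvd_add_left (Dvd.intro _ rfl)).1 h2

/-- Exceptional degree, sign `-1`. -/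
theorem exc_neg (hp : 3 ≤ p) (het : e * t + 1 = p) (h2n : 2 * n < p + 3) {c : ℕ}
    (hd : c ∣ e * (1 + n * p)) (hc : (c : ℤ) ≡ -e [ZMOD p]) (hc1 : c ≠ 1) :
    t * c = 1 + n * p := by
  have h1 : ((t * c : ℕ) : ℤ) ≡ 1 [ZMOD p] := by
    have h2 : ((t : ℤ) * c) ≡ t * (-e) [ZMOD p] := hc.mul_left _
    push_cast
    refine h2.trans ?_
    rw [Int.modEq_iff_dvd]
    refine ⟨1, ?_⟩
    have : (e : ℤ) * t + 1 = p := by exact_mod_cast het
    linear_combination this
  have h3 : t * c ∣ (p - 1) * (1 + n * p) := by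
    have hpe : p - 1 = t * e := by rw [Nat.mul_comm]; omega
    rw [hpe, mul_assoc]
    exact Nat.mul_dvd_mul_left t hd
  rcases eq_of_modEq_one hp h2n h3 h1 with h | h
  · exact absurd (Nat.eq_one_of_mul_eq_one_left h) hc1
  · exact h

/-- Exceptional degree, sign `+1`. -/
theorem exc_pos (hp : 3 ≤ p) (het : e * t + 1 = p) (hn : 1 ≤ n) (h2n : 2 * n < p + 3) {c : ℕ}
    (hd : c ∣ e * (1 + n * p)) (hc : (c : ℤ) ≡ e [ZMOD p])
    (hsq : c ^ 2 ≤ p * e * (1 + n * p)) : c = e := by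
  have he0 : 0 < e := by
    rcases Nat.eq_zero_or_pos e with h | h
    · rw [h] at het; omega
    · exact h
  have ht0 : 0 < t := by
    rcases Nat.eq_zero_or_pos t with h | h
    · rw [h] at het; omega
    · exact h
  have hpe : p - 1 = t * e := by rw [Nat.mul_comm]; omega
  have h1 : ((t * c : ℕ) : ℤ) ≡ -1 [ZMOD p] := by
    have h2 : ((t : ℤ) * c) ≡ t * e [ZMOD p] := hc.mul_left _
    push_cast
    refine h2.trans ?_
    rw [Int.modEq_iff_dvd]
    refine ⟨-1, ?_⟩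
    have : (e : ℤ) * t + 1 = p := by exact_mod_cast het
    linear_combination -this
  have h3 : t * c ∣ (p - 1) * (1 + n * p) := by
    rw [hpe, mul_assoc]
    exact Nat.mul_dvd_mul_left t hd
  rcases eq_of_modEq_neg_one hp h2n h3 h1 with h | h
  · exfalso
    rw [hpe, mul_assoc] at h
    have h4 : c = e * (1 + n * p) := Nat.eq_of_mul_eq_mul_left ht0 h
    rw [h4] at hsq
    have h5 : (e * (1 + n * p)) * (e * (1 + n * p)) ≤ p * (e * (1 + n * p)) := by
      calc (e * (1 + n * p)) * (e * (1 + n * p)) = (e * (1 + n * p)) ^ 2 := by ring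
        _ ≤ _ := hsq
        _ = _ := by ring
    have h6 : e * (1 + n * p) ≤ p := Nat.le_of_mul_le_mul_right h5 (by positivity)
    have h7 : 1 * (1 + 1 * p) ≤ e * (1 + n * p) :=
      Nat.mul_le_mul (by omega) (Nat.add_le_add_left (Nat.mul_le_mul_right _ hn) _)
    omega
  · rw [hpe] at h
    exact Nat.eq_of_mul_eq_mul_left ht0 h

/-- Case 2 (exceptional degree `e`). -/
theorem case_two (hp : 3 ≤ p) {x y : ℕ} (hxy : x + y + 1 = e)
    (hrel : 1 + (x : ℤ) * (1 + n * p) - y * (p - 1) = e) :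
    x * (n + 1) + 1 = e ∧ y = n * x := by
  have hp0 : (p : ℤ) ≠ 0 := by exact_mod_cast (by omega : p ≠ 0)
  have hxy' : (x : ℤ) + y + 1 = e := by exact_mod_cast hxy
  have h1 : (x : ℤ) * (n + 1) + 1 = e := by
    have h2 : (p : ℤ) * (x * (n + 1) + 1) = p * e := by
      linear_combination hrel + (p - 1) * hxy'
    exact mul_left_cancel₀ hp0 h2
  refine ⟨by exact_mod_cast h1, ?_⟩
  have h3 : (y : ℤ) = n * x := by linear_combination hxy' - h1
  exact_mod_cast h3

/-- Case 1 (exceptional degree `(1+np)/t`). -/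
theorem case_one (hp : 3 ≤ p) (het : e * t + 1 = p) {x y c : ℕ} (hxy : x + y + 1 = e)
    (hc : t * c = 1 + n * p)
    (hrel : 1 + (x : ℤ) * (1 + n * p) - y * (p - 1) = -c) :
    (n + 1) * (t * x + 1) + t + 1 = p ∧ t * y = 1 + n * (t * x + 1) := by
  have hp0 : (p : ℤ) ≠ 0 := by exact_mod_cast (by omega : p ≠ 0)
  have hxy' : (x : ℤ) + y + 1 = e := by exact_mod_cast hxy
  have het' : (e : ℤ) * t + 1 = p := by exact_mod_cast het
  have hc' : (t : ℤ) * c = 1 + n * p := by exact_mod_cast hc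
  have h1 : ((n : ℤ) + 1) * (t * x + 1) + t + 1 = p := by
    have h2 : (p : ℤ) * (((n : ℤ) + 1) * (t * x + 1) + t + 1) = p * p := by
      linear_combination t * hrel + t * (p - 1) * hxy' + (p - 1) * het' - hc'
    exact mul_left_cancel₀ hp0 h2
  refine ⟨by exact_mod_cast h1, ?_⟩
  have h3 : (t : ℤ) * y = 1 + n * (t * x + 1) := by
    linear_combination t * hxy' + het' - h1
  exact_mod_cast h3

/-- Sum of squares, case 2. -/
theorem sum_sq_case_two (hp : 3 ≤ p) (het : e * t + 1 = p) {x y D : ℕ}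
    (hx : x * (n + 1) + 1 = e) (hy : y = n * x)
    (hsum : 1 + x * (1 + n * p) ^ 2 + y * (p - 1) ^ 2 + t * e ^ 2 + p ^ 2 * D =
      p * e * (1 + n * p)) : D = n := by
  have hp0 : (p : ℤ) ≠ 0 := by exact_mod_cast (by omega : p ≠ 0)
  have hx' : (x : ℤ) * (n + 1) + 1 = e := by exact_mod_cast hx
  have hy' : (y : ℤ) = n * x := by exact_mod_cast hy
  have het' : (e : ℤ) * t + 1 = p := by exact_mod_cast het
  have hsum' : 1 + (x : ℤ) * (1 + n * p) ^ 2 + y * (p - 1) ^ 2 + t * e ^ 2 + p ^ 2 * D =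
      p * e * (1 + n * p) := by
    have : ((1 + x * (1 + n * p) ^ 2 + y * (p - 1) ^ 2 + t * e ^ 2 + p ^ 2 * D : ℕ) : ℤ) =
      (p * e * (1 + n * p) : ℕ) := by rw [hsum]
    push_cast at this
    rwa [Nat.cast_sub (by omega), Nat.cast_one] at this
  have h1 : (p : ℤ) ^ 2 * D = p ^ 2 * n := by
    rw [hy'] at hsum'
    have het2 : (t : ℤ) * e ^ 2 = e * (p - 1) := by linear_combination e * het'
    rw [het2] at hsum'
    linear_combination hsum' - (1 + n * p ^ 2) * hx'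
  have h2 : (D : ℤ) = n := mul_left_cancel₀ (pow_ne_zero 2 hp0) h1
  exact_mod_cast h2

/-- Sum of squares, case 1. -/
theorem sum_sq_case_one (hp : 3 ≤ p) (het : e * t + 1 = p) {x y c D : ℕ}
    (hx : (n + 1) * (t * x + 1) + t + 1 = p) (hy : t * y = 1 + n * (t * x + 1))
    (hc : t * c = 1 + n * p)
    (hsum : 1 + x * (1 + n * p) ^ 2 + y * (p - 1) ^ 2 + t * c ^ 2 + p ^ 2 * D =
      p * e * (1 + n * p)) : D = n := by
  have hp0 : (p : ℤ) ≠ 0 := by exact_mod_cast (by omega : p ≠ 0)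
  have ht0 : (t : ℤ) ≠ 0 := by
    rintro h
    have : t = 0 := by exact_mod_cast h
    rw [this] at het; omega
  have hx' : ((n : ℤ) + 1) * (t * x + 1) + t + 1 = p := by exact_mod_cast hx
  have hy' : (t : ℤ) * y = 1 + n * (t * x + 1) := by exact_mod_cast hy
  have hc' : (t : ℤ) * c = 1 + n * p := by exact_mod_cast hc
  have het' : (e : ℤ) * t + 1 = p := by exact_mod_cast het
  have hsum' : 1 + (x : ℤ) * (1 + n * p) ^ 2 + y * (p - 1) ^ 2 + t * c ^ 2 + p ^ 2 * D =
      p * e * (1 + n * p) := by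
    have : ((1 + x * (1 + n * p) ^ 2 + y * (p - 1) ^ 2 + t * c ^ 2 + p ^ 2 * D : ℕ) : ℤ) =
      (p * e * (1 + n * p) : ℕ) := by rw [hsum]
    push_cast at this
    rwa [Nat.cast_sub (by omega), Nat.cast_one] at this
  have h1 : (t : ℤ) * (p ^ 2 * D) = t * (p ^ 2 * n) := by
    have e1 : (t : ℤ) * (t * c ^ 2) = (1 + n * p) ^ 2 := by rw [← hc']; ring
    have e2 : (t : ℤ) * (y * (p - 1) ^ 2) = (1 + n * (t * x + 1)) * (p - 1) ^ 2 := by
      rw [← hy']; ring
    have e3 : (t : ℤ) * (p * e * (1 + n * p)) = p * (p - 1) * (1 + n * p) := by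
      linear_combination p * (1 + n * p) * het'
    have e4 : (t : ℤ) * (1 + x * (1 + n * p) ^ 2 + y * (p - 1) ^ 2 + t * c ^ 2 + p ^ 2 * D) =
        t * (p * e * (1 + n * p)) := by rw [hsum']
    linear_combination e4 - e1 - e2 + e3
      - (1 + n * p ^ 2) * hx'
  have h2 : (D : ℤ) = n := mul_left_cancel₀ (pow_ne_zero 2 hp0) (mul_left_cancel₀ ht0 h1)
  exact_mod_cast h2

/-- Part C3: in case 2 the square of an exceptional character forces `n = 1`, `t = 2`. -/
theorem case_two_end (het : e * t + 1 = p) (he : 2 ≤ e) (ht : 2 ≤ t) (hn : 1 ≤ n) {M F₀ : ℕ}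
    (h1 : (n + 1) * M + F₀ + 1 = e) (h2 : 1 + M * (1 + n * p) + p * F₀ ≤ e ^ 2) :
    n = 1 ∧ t = 2 := by
  have key : (t : ℤ) * ((e : ℤ) - 1 - M) ≤ (e : ℤ) - 1 := by
    have het' : (e : ℤ) * t + 1 = p := by exact_mod_cast het
    have h1' : ((n : ℤ) + 1) * M + F₀ + 1 = e := by exact_mod_cast h1
    have h2' : 1 + (M : ℤ) * (1 + n * p) + p * F₀ ≤ e ^ 2 := by exact_mod_cast h2
    have he0 : (0 : ℤ) < e := by exact_mod_cast (by omega : 0 < e)
    have h3 : (e : ℤ) * (t * ((e : ℤ) - 1 - M) + 1) ≤ e * e := by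
      have h4 : (e : ℤ) * (t * ((e : ℤ) - 1 - M) + 1) = 1 + (M : ℤ) * (1 + n * p) + p * F₀ := by
        linear_combination (e - 1 - M) * het' - p * h1'
      rw [h4]; nlinarith
    have h5 := le_of_mul_le_mul_left h3 he0
    linarith
  have hM : 1 ≤ M := by
    rcases Nat.eq_zero_or_pos M with h | h
    · exfalso
      rw [h] at key
      have he' : (1 : ℤ) ≤ (e : ℤ) - 1 := by
        have : (2 : ℤ) ≤ e := by exact_mod_cast he
        linarith
      have ht' : (2 : ℤ) ≤ t := by exact_mod_cast ht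
      push_cast at key
      nlinarith
    · exact h
  have h1' : ((n : ℤ) + 1) * M + F₀ + 1 = e := by exact_mod_cast h1
  have hF : (0 : ℤ) ≤ F₀ := by positivity
  have hM' : (1 : ℤ) ≤ M := by exact_mod_cast hM
  have ht' : (2 : ℤ) ≤ t := by exact_mod_cast ht
  have hn' : (1 : ℤ) ≤ n := by exact_mod_cast hn
  -- `(t-1)(n+1) M ≤ t M`
  have h6 : ((t : ℤ) - 1) * (n + 1) * M ≤ t * M := by
    have h7 : ((t : ℤ) - 1) * (((n : ℤ) + 1) * M + F₀) ≤ t * M := by
      have h8 : (e : ℤ) - 1 = ((n : ℤ) + 1) * M + F₀ := by linarith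
      rw [h8] at key
      linarith
    nlinarith
  have h9 : ((t : ℤ) - 1) * (n + 1) ≤ t := le_of_mul_le_mul_right h6 (by linarith)
  have h10 : (t : ℤ) ≤ 2 := by nlinarith
  have h11 : (t : ℤ) = 2 := le_antisymm h10 ht'
  rw [h11] at h9
  refine ⟨?_, by exact_mod_cast h11⟩
  have : (n : ℤ) = 1 := by linarith
  exact_mod_cast this

/-- Prime-to-`p` divisors. -/
theorem dvd_of_not_dvd (pp : p.Prime) {f m : ℕ} (hf : ¬ p ∣ f) (hd : f ∣ p * m) : f ∣ m :=
  Nat.Coprime.dvd_of_dvd_mul_left ((Nat.Prime.coprime_iff_not_dvd pp).2 hf).symm hd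

/-- The full case analysis of the degree equation (part C1). `s` is the set of non-trivial
non-exceptional characters, `f` their degrees, `ε` their signs, `c` the exceptional degree,
`d` its sign, `D` the sum of the squares of `degree / p` over the characters of defect zero. -/
theorem degrees {ι : Type*} (pp : p.Prime) (het : e * t + 1 = p) (he : 2 ≤ e) (hn : 1 ≤ n)
    (h2n : 2 * n < p + 3) (s : Finset ι) (hcard : s.card + 1 = e) (f : ι → ℕ) (ε : ι → ℤ)
    (hε : ∀ i ∈ s, ε i = 1 ∨ ε i = -1) (hf1 : ∀ i ∈ s, f i ≠ 1)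
    (hdiv : ∀ i ∈ s, f i ∣ p * e * (1 + n * p)) (hmod : ∀ i ∈ s, (f i : ℤ) ≡ ε i [ZMOD p])
    (c : ℕ) (hc1 : c ≠ 1) (hcdiv : c ∣ p * e * (1 + n * p)) (d : ℤ) (hd : d = 1 ∨ d = -1)
    (hcmod : (c : ℤ) ≡ d * e [ZMOD p]) (hrel : 1 + ∑ i ∈ s, ε i * f i = d * c) (D : ℕ)
    (hsum : 1 + ∑ i ∈ s, f i ^ 2 + t * c ^ 2 + p ^ 2 * D = p * e * (1 + n * p)) :
    ∃ x y : ℕ, x = (s.filter (fun i => ε i = 1)).card ∧ y = (s.filter (fun i => ε i = -1)).card ∧
      x + y + 1 = e ∧
      (∀ i ∈ s, (ε i = 1 ∧ f i = 1 + n * p) ∨ (ε i = -1 ∧ f i = p - 1)) ∧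
      D = n ∧ 1 ≤ y ∧ t ∣ n + 1 ∧
      ((d = 1 ∧ c = e ∧ x * (n + 1) + 1 = e ∧ y = n * x) ∨
       (d = -1 ∧ t * c = 1 + n * p ∧ (n + 1) * (t * x + 1) + t + 1 = p ∧
        t * y = 1 + n * (t * x + 1))) := by
  classical
  have ht0 : 0 < t := by
    rcases Nat.eq_zero_or_pos t with h | h
    · rw [h] at het; have := pp.two_le; omega
    · exact h
  have hep : e < p := by
    have : e ≤ e * t := Nat.le_mul_of_pos_right e ht0
    omega
  have hp3 : 3 ≤ p := by omega
  have hp0 : (p : ℤ) ≠ 0 := by exact_mod_cast pp.ne_zero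
  have hassoc : p * e * (1 + n * p) = p * (e * (1 + n * p)) := by ring
  -- squares are bounded
  have hsq : ∀ i ∈ s, f i ^ 2 ≤ p * e * (1 + n * p) := by
    intro i hi
    have h1 : f i ^ 2 ≤ ∑ j ∈ s, f j ^ 2 :=
      Finset.single_le_sum (f := fun j => f j ^ 2) (fun j _ => Nat.zero_le _) hi
    omega
  have hcsq : c ^ 2 ≤ p * e * (1 + n * p) := by
    have h1 : c ^ 2 ≤ t * c ^ 2 := Nat.le_mul_of_pos_left _ ht0
    omega
  have hcop : ∀ i ∈ s, f i ∣ e * (1 + n * p) := by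
    intro i hi
    apply dvd_of_not_dvd pp _ (hassoc ▸ hdiv i hi)
    intro hpd
    have h1 : ((f i : ℕ) : ℤ) ≡ 0 [ZMOD p] := by
      rw [Int.modEq_zero_iff_dvd]; exact_mod_cast hpd
    have h2 : ε i ≡ 0 [ZMOD p] := (hmod i hi).symm.trans h1
    rw [Int.modEq_zero_iff_dvd] at h2
    have h3 : (p : ℤ) ∣ 1 := by
      rcases hε i hi with h | h
      · rwa [h] at h2
      · rw [h] at h2; exact (dvd_neg.1 h2)
    have h4 : p ∣ 1 := by exact_mod_cast h3
    exact pp.one_lt.ne' (Nat.dvd_one.1 h4)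
  have hccop : c ∣ e * (1 + n * p) := by
    apply dvd_of_not_dvd pp _ (hassoc ▸ hcdiv)
    intro hpd
    have h1 : ((c : ℕ) : ℤ) ≡ 0 [ZMOD p] := by
      rw [Int.modEq_zero_iff_dvd]; exact_mod_cast hpd
    have h2 : d * e ≡ 0 [ZMOD p] := hcmod.symm.trans h1
    rw [Int.modEq_zero_iff_dvd] at h2
    have h3 : (p : ℤ) ∣ e := by
      rcases hd with h | h
      · rwa [h, one_mul] at h2
      · rw [h, neg_one_mul] at h2; exact (dvd_neg.1 h2)
    have h4 : p ∣ e := by exact_mod_cast h3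
    exact absurd (Nat.le_of_dvd (by omega) h4) (by omega)
  have hpos : ∀ i ∈ s, ε i = 1 → f i = 1 + n * p := by
    intro i hi h1
    have h2 := hmod i hi
    rw [h1] at h2
    exact (deg_pos hp3 het h2n (hcop i hi) h2).resolve_left (hf1 i hi)
  have hneg : ∀ i ∈ s, ε i = -1 → f i = p - 1 ∧ t ∣ n + 1 := by
    intro i hi h1
    have h2 := hmod i hi
    rw [h1] at h2
    exact deg_neg hp3 het hn h2n (hcop i hi) h2 (hsq i hi)
  set sp := s.filter (fun i => ε i = 1) with hsp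
  set sn := s.filter (fun i => ε i = -1) with hsn
  have hsn' : s.filter (fun i => ¬ ε i = 1) = sn := by
    apply Finset.filter_congr
    intro i hi
    constructor
    · intro h; exact (hε i hi).resolve_left h
    · intro h; rw [h]; norm_num
  have hxy : sp.card + sn.card + 1 = e := by
    rw [← hcard, ← hsn', Finset.card_filter_add_card_filter_not]
  have hsumrel : ∑ i ∈ s, ε i * f i = (sp.card : ℤ) * (1 + n * p) - sn.card * (p - 1) := by
    rw [← Finset.sum_filter_add_sum_filter_not s (fun i => ε i = 1), hsn']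
    have h1 : ∑ i ∈ sp, ε i * f i = ∑ i ∈ sp, ((1 : ℤ) + n * p) := by
      apply Finset.sum_congr rfl
      intro i hi
      rw [hsp, Finset.mem_filter] at hi
      rw [hi.2, hpos i hi.1 hi.2]; push_cast; ring
    have h2 : ∑ i ∈ sn, ε i * f i = ∑ i ∈ sn, (-((p : ℤ) - 1)) := by
      apply Finset.sum_congr rfl
      intro i hi
      rw [hsn, Finset.mem_filter] at hi
      rw [hi.2, (hneg i hi.1 hi.2).1, Nat.cast_sub (by omega)]; push_cast; ring
    rw [h1, h2, Finset.sum_const, Finset.sum_const, nsmul_eq_mul, nsmul_eq_mul]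
    ring
  have hsumsq : ∑ i ∈ s, f i ^ 2 = sp.card * (1 + n * p) ^ 2 + sn.card * (p - 1) ^ 2 := by
    rw [← Finset.sum_filter_add_sum_filter_not s (fun i => ε i = 1), hsn']
    have h1 : ∑ i ∈ sp, f i ^ 2 = ∑ i ∈ sp, (1 + n * p) ^ 2 := by
      apply Finset.sum_congr rfl
      intro i hi
      rw [hsp, Finset.mem_filter] at hi
      rw [hpos i hi.1 hi.2]
    have h2 : ∑ i ∈ sn, f i ^ 2 = ∑ i ∈ sn, (p - 1) ^ 2 := by
      apply Finset.sum_congr rfl
      intro i hi
      rw [hsn, Finset.mem_filter] at hi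
      rw [(hneg i hi.1 hi.2).1]
    rw [h1, h2, Finset.sum_const, Finset.sum_const, smul_eq_mul, smul_eq_mul]
  have hall : ∀ i ∈ s, (ε i = 1 ∧ f i = 1 + n * p) ∨ (ε i = -1 ∧ f i = p - 1) := by
    intro i hi
    rcases hε i hi with h | h
    · left; exact ⟨h, hpos i hi h⟩
    · right; exact ⟨h, (hneg i hi h).1⟩
  have hdvd : 1 ≤ sn.card → t ∣ n + 1 := by
    intro h
    obtain ⟨i, hi⟩ := Finset.card_pos.1 h
    rw [hsn, Finset.mem_filter] at hi
    exact (hneg i hi.1 hi.2).2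
  rw [hsumrel] at hrel
  rw [hsumsq] at hsum
  rcases hd with hd1 | hd1
  · -- case 2
    rw [hd1, one_mul] at hcmod hrel
    have hce : c = e := exc_pos hp3 het hn h2n hccop hcmod hcsq
    rw [hce] at hrel hsum
    obtain ⟨h1, h2⟩ := case_two (n := n) hp3 hxy (by linarith)
    have hy1 : 1 ≤ sn.card := by
      rw [h2]
      apply Nat.mul_pos (by omega)
      rcases Nat.eq_zero_or_pos sp.card with h | h
      · rw [h] at h1; omega
      · exact h
    refine ⟨sp.card, sn.card, rfl, rfl, hxy, hall, ?_, hy1, hdvd hy1, Or.inl ⟨hd1, hce, h1, h2⟩⟩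
    exact sum_sq_case_two hp3 het h1 h2 (by rw [← hsum]; ring)
  · -- case 1
    rw [hd1, neg_one_mul] at hcmod hrel
    have htc : t * c = 1 + n * p := exc_neg hp3 het h2n hccop hcmod hc1
    obtain ⟨h1, h2⟩ := case_one hp3 het hxy htc (by linarith)
    have hy1 : 1 ≤ sn.card := by
      rcases Nat.eq_zero_or_pos sn.card with h | h
      · rw [h] at h2; omega
      · exact h
    refine ⟨sp.card, sn.card, rfl, rfl, hxy, hall, ?_, hy1, hdvd hy1, Or.inr ⟨hd1, htc, h1, h2⟩⟩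
    exact sum_sq_case_one hp3 het h1 h2 htc (by rw [← hsum]; ring)

end Setup

end Cfsg.Agent.SmallSimple.BrauerArith
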