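import Cfsg.Agent.M23.Block
import Cfsg.Agent.M23Order.Base
import Cfsg.Agent.SmallSimple.PrimeDual
import Cfsg.Agent.SmallSimple.BlockInter
import Cfsg.Agent.SmallSimple.BlockIndex
import Cfsg.Agent.M23.SylowTools
import Cfsg.Agent.SmallSimple.InvolFour

/-!
# The principal block for `|P| = p`, `|N(P) : C(P)| = p - 1`

All `p` characters are treated alike: `Flat p P M B ε`.

* `exists_flat`, `flat_of_blk`
* `Flat.modEq`, `Flat.sum_sd` : congruences and the relation for the signed degrees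
* `Flat.exists_list` : the nontrivial characters sorted by signed degree
* `Flat.dvd_index` : the degrees divide `|G : C(x)|`, `x ∈ P`
* `Flat.inter` : the intersection rule with another block
-/

set_option autoImplicit false
set_option linter.unusedSectionVars false

namespace Cfsg.Agent.SmallSimple.FlatBlock

open Cfsg Subgroup
open Cfsg.Agent.Characters.Core
open Cfsg.Agent.Blocks.Basic (irr_one_eq_charDegree)
open Cfsg.Agent.M23Order.Base (dg dg_eq dg_of_eq dg_ne_zero dg_dvd sum_dg_sq_le)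
open scoped ComplexConjugate

universe u

variable {G : Type u} [Group G]

/-- The trivial character. -/
noncomputable def tr (G : Type u) [Group G] : IrrCharacter G := ⟨1, isIrr_one⟩

theorem coe_tr : ((tr G : IrrCharacter G) : G → ℂ) = 1 := rfl

theorem dg_tr : dg (tr G) = 1 := dg_of_eq (by rw [coe_tr]; simp)

variable [Finite G]

/-- Sylow's congruence for the order of the complement of `C(P)`. -/
theorem local_modEq {p : ℕ} [Fact p.Prime] {P : Sylow p G} {e : ℕ} {K : Subgroup G}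
    (h : PrimeLocal.IsLocal p P e K) {m : ℕ} (hm : Nat.card G = p * m) :
    e * Nat.card K ≡ m [MOD p] := by
  have hp : p.Prime := Fact.out
  have h1 := h.card_eq
  rw [hm] at h1
  have h2 : m = Nat.card (Sylow p G) * (e * Nat.card K) := by
    apply Nat.eq_of_mul_eq_mul_left hp.pos
    rw [h1]; ring
  rw [h2]
  have h3 := (card_sylow_modEq_one p G).mul_right (e * Nat.card K)
  rw [one_mul] at h3
  exact h3.symm

/-- If `P` commutes with no element of order `q` then there are no elements of order `p * q`. -/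
theorem dvd_card_of_orderOf {p : ℕ} [Fact p.Prime] {P : Sylow p G} (hP : Nat.card P = p) {e : ℕ}
    {K : Subgroup G} (h : PrimeLocal.IsLocal p P e K) {q : ℕ} (hq : q.Prime) {g : G}
    (hg : orderOf g = p * q) : q ∣ Nat.card K := by
  have hp : p.Prime := Fact.out
  have h1 : orderOf (g ^ q) = p := by
    rw [orderOf_pow_of_dvd hq.ne_zero (by rw [hg]; exact dvd_mul_left _ _), hg,
      Nat.mul_div_cancel _ hq.pos]
  obtain ⟨c, hc⟩ := InvolFour.exists_conj_mem_sylow P h1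
  have hc1 : c * g ^ q * c⁻¹ ≠ 1 := by
    intro h2
    have h3 : g ^ q = 1 := by
      have h4 : g ^ q = c⁻¹ * (c * g ^ q * c⁻¹) * c := by group
      rw [h4, h2, mul_one, inv_mul_cancel]
    rw [h3, orderOf_one] at h1
    exact hp.one_lt.ne h1
  have h2 : centralizer ({c * g ^ q * c⁻¹} : Set G) = centralizer (P : Set G) :=
    BlockIndex.centralizer_eq (P := (P : Subgroup G)) hP hc hc1
  have h3 : c * g * c⁻¹ ∈ centralizer ({c * g ^ q * c⁻¹} : Set G) := by
    rw [mem_centralizer_singleton_iff]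
    have h4 : c * g ^ q * c⁻¹ = (c * g * c⁻¹) ^ q := by rw [conj_pow]
    rw [h4, ← pow_succ, ← pow_succ']
  rw [h2] at h3
  have h4 : orderOf (c * g * c⁻¹) = p * q := by
    rw [← hg]
    exact (MulAut.conj c).orderOf_eq g
  have h5 : orderOf (c * g * c⁻¹) ∣ Nat.card (centralizer (P : Set G)) :=
    Subgroup.orderOf_dvd_natCard _ h3
  rw [h4, h.card_centralizer] at h5
  exact Nat.dvd_of_mul_dvd_mul_left hp.pos h5

/-- Data of the principal `p`-block if `|P| = p` and `|N(P) : C(P)| = p - 1`. -/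
structure Flat (p : ℕ) (P : Sylow p G) (M : Ideal AlgInt) (B : Finset (IrrCharacter G))
    (ε : IrrCharacter G → ℤ) : Prop where
  modular : IsPModular p M
  mem_iff : ∀ χ : IrrCharacter G, χ ∈ principalBlock M G ↔ χ ∈ B
  card : B.card = p
  one_mem : tr G ∈ B
  ε_one : ε (tr G) = 1
  ε_mem : ∀ χ ∈ B, ε χ = 1 ∨ ε χ = -1
  val : ∀ χ ∈ B, ∀ x ∈ P, x ≠ 1 → ∀ y ∈ centralizer (P : Set G), ¬ p ∣ orderOf y →
    (χ : G → ℂ) (x * y) = ε χ
  rel : ∀ g : G, ¬ p ∣ orderOf g → ∑ χ ∈ B, (ε χ : ℂ) * (χ : G → ℂ) g = 0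

theorem sum_hom_of_card {p : ℕ} (hp : p.Prime) {Q : Type*} [Group Q] [Finite Q]
    (hQ : Nat.card Q = p) {S : Finset (Q →* ℂˣ)} (hS : S.card = p - 1) (h1 : 1 ∉ S) {x : Q}
    (hx : x ≠ 1) : ∑ l ∈ S, ((l x : ℂˣ) : ℂ) = -1 := by
  classical
  have := PrimeDual.finite_dual hp hQ
  have := Fintype.ofFinite (Q →* ℂˣ)
  have h2 : S = Finset.univ.erase 1 := by
    apply Finset.eq_of_subset_of_card_le
    · intro l hl
      rw [Finset.mem_erase]
      exact ⟨fun h => h1 (h ▸ hl), Finset.mem_univ _⟩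
    · rw [Finset.card_erase_of_mem (Finset.mem_univ _), Finset.card_univ, ← Nat.card_eq_fintype_card,
        PrimeDual.card_dual hp hQ, hS]
  have h3 := PrimeDual.sum_dual_eq_zero hp hQ hx
  rw [← Finset.add_sum_erase _ _ (Finset.mem_univ (1 : Q →* ℂˣ)), ← h2] at h3
  simp only [MonoidHom.one_apply, Units.val_one] at h3
  exact (neg_eq_of_add_eq_zero_right h3).symm

theorem flat_of_blk {p e t : ℕ} [Fact p.Prime] {P : Sylow p G} {M : Ideal AlgInt}
    {NE X : Finset (IrrCharacter G)} {ε : IrrCharacter G → ℤ} {d : ℤ}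
    {S : IrrCharacter G → Finset (P →* ℂˣ)} (hP : Nat.card P = p)
    (B : M23.Block.Blk p P e t M NE X ε d S) (he : e = p - 1) (ht : t = 1) :
    ∃ (B' : Finset (IrrCharacter G)) (ε' : IrrCharacter G → ℤ), Flat p P M B' ε' ∧
      ∃ Θ ∈ X, ∀ F : IrrCharacter G → ℂ,
        ∑ χ ∈ B', ε' χ * F χ = ∑ χ ∈ NE, ε χ * F χ - d * F Θ := by
  classical
  subst he ht
  have hp : p.Prime := Fact.out
  obtain ⟨Θ, hΘ⟩ := Finset.card_eq_one.1 B.kb.card_X
  subst hΘ
  have hnot : Θ ∉ NE := fun h => Finset.disjoint_left.1 B.kb.disj h (Finset.mem_singleton_self _)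
  have hne : ∀ χ ∈ NE, χ ≠ Θ := fun χ hχ h => hnot (h ▸ hχ)
  refine ⟨insert Θ NE, fun χ => if χ = Θ then -d else ε χ, ⟨B.modular, ?_, ?_, ?_, ?_, ?_, ?_, ?_⟩,
    Θ, Finset.mem_singleton_self _, ?_⟩
  · intro χ
    rw [B.mem_iff, Finset.mem_insert, Finset.mem_singleton, or_comm]
  · rw [Finset.card_insert_of_notMem hnot, B.kb.card_NE]
    have := hp.two_le
    omega
  · exact Finset.mem_insert_of_mem B.kb.one_mem
  · have h1 : tr G ≠ Θ := hne _ B.kb.one_mem
    rw [if_neg h1]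
    exact B.kb.eps_one
  · intro χ hχ
    rcases Finset.mem_insert.1 hχ with rfl | hχ
    · rw [if_pos rfl]
      rcases B.kb.hd with h | h <;> rw [h] <;> simp
    · rw [if_neg (hne _ hχ)]
      exact B.kb.eps χ hχ
  · intro χ hχ x hx hx1 y hy hy'
    rcases Finset.mem_insert.1 hχ with rfl | hχ
    · rw [if_pos rfl]
      obtain ⟨h1, h2, h3⟩ := B.val_X χ (Finset.mem_singleton_self _)
      have h4 := h3 ⟨x, hx⟩ (fun h => hx1 (congrArg Subtype.val h)) y hy hy'
      rw [h4, sum_hom_of_card hp hP h1 h2 (fun h => hx1 (congrArg Subtype.val h))]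
      push_cast
      ring
    · rw [if_neg (hne _ hχ)]
      exact B.val_NE χ hχ x hx hx1 y hy hy'
  · intro g hg
    rw [Finset.sum_insert hnot]
    have h1 := B.kb.rel Θ (Finset.mem_singleton_self _) g hg
    rw [if_pos rfl]
    have h2 : ∑ χ ∈ NE, (((if χ = Θ then -d else ε χ) : ℤ) : ℂ) * (χ : G → ℂ) g =
        ∑ χ ∈ NE, (ε χ : ℂ) * (χ : G → ℂ) g :=
      Finset.sum_congr rfl fun χ hχ => by rw [if_neg (hne _ hχ)]
    rw [h2, h1]
    push_cast
    ring
  · intro F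
    rw [Finset.sum_insert hnot]
    beta_reduce
    rw [if_pos rfl]
    have h2 : ∑ χ ∈ NE, (((if χ = Θ then -d else ε χ) : ℤ) : ℂ) * F χ =
        ∑ χ ∈ NE, (ε χ : ℂ) * F χ :=
      Finset.sum_congr rfl fun χ hχ => by rw [if_neg (hne _ hχ)]
    rw [h2]
    push_cast
    ring

theorem exists_flat [IsSimpleGroup G] (hG : ¬ (Nat.card G).Prime) (p : ℕ) [Fact p.Prime]
    (hp2 : p ≠ 2) (P : Sylow p G) (hP : Nat.card P = p)
    (he : (centralizer (P : Set G)).relIndex (normalizer (P : Set G)) = p - 1) :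
    ∃ M B ε, Flat p P M B ε := by
  obtain ⟨M, NE, X, ε, d, S, hB⟩ := M23.Block.exists_blk hG p hp2 P hP (p - 1) 1 he (mul_one _)
  obtain ⟨B', ε', h, -⟩ := flat_of_blk hP hB rfl rfl
  exact ⟨M, B', ε', h⟩

/-- `Flat` together with the local data and the pair formula for involutions.
`k a` is the number of conjugates of `a` in the coset of `K` inverting `P`. -/
structure FlatLoc (p : ℕ) (P : Sylow p G) (K : Subgroup G) (M : Ideal AlgInt)
    (B : Finset (IrrCharacter G)) (ε : IrrCharacter G → ℤ) : Prop extends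
    Flat p P M B ε where
  loc : PrimeLocal.IsLocal p P (p - 1) K
  pair : ∃ k : G → ℕ, (∀ a b : G, a * a = 1 → b * b = 1 →
      (p * (k a * k b) : ℂ) * Nat.card G = (centralizer ({a} : Set G)).index *
        (centralizer ({b} : Set G)).index * Nat.card K *
        ∑ χ ∈ B, ε χ * ((χ : G → ℂ) a * (χ : G → ℂ) b / (χ : G → ℂ) 1)) ∧
      (∀ a, k a ≤ Nat.card K) ∧ (∀ a b, IsConj a b → k a = k b) ∧
      (∀ a b, ¬ IsConj a b → k a + k b ≤ Nat.card K) ∧
      (∀ a, k a ≠ 0 → ∃ u, IsConj a u ∧ ∀ x ∈ P, u * x * u⁻¹ = x⁻¹)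

theorem exists_flatLoc [IsSimpleGroup G] (hG : ¬ (Nat.card G).Prime) (p : ℕ) [Fact p.Prime]
    (hp2 : p ≠ 2) (P : Sylow p G) (hP : Nat.card P = p) {K : Subgroup G}
    (hK : PrimeLocal.IsLocal p P (p - 1) K) :
    ∃ M B ε, FlatLoc p P K M B ε := by
  obtain ⟨M, NE, X, ε, d, S, hB⟩ := M23.Block.exists_blk hG p hp2 P hP (p - 1) 1
    (BlockIndex.relIndex_eq hK) (mul_one _)
  obtain ⟨B', ε', h, Θ, hΘ, hF⟩ := flat_of_blk hP hB rfl rfl
  obtain ⟨k, hk1, hk2, hk3, hk4, hk5, -⟩ := BlockIndex.exists_pair hB hP hp2 hK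
  refine ⟨M, B', ε', ⟨h, hK, k, fun a b ha hb => ?_, hk2, hk3, hk4, hk5⟩⟩
  rw [hF]
  exact hk1 Θ hΘ a b ha hb

namespace Flat

variable {p : ℕ} [Fact p.Prime] {P : Sylow p G} {M : Ideal AlgInt} {B : Finset (IrrCharacter G)}
  {ε : IrrCharacter G → ℤ}

theorem val' (h : Flat p P M B ε) {χ : IrrCharacter G} (hχ : χ ∈ B) {x : G} (hx : x ∈ P)
    (hx1 : x ≠ 1) : (χ : G → ℂ) x = ε χ := by
  have := h.val χ hχ x hx hx1 1 (Subgroup.one_mem _)
    (by rw [orderOf_one]; exact fun h => (Fact.out : p.Prime).one_lt.ne' (Nat.dvd_one.1 h))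
  rwa [mul_one] at this

theorem ε_mul_self (h : Flat p P M B ε) {χ : IrrCharacter G} (hχ : χ ∈ B) : ε χ * ε χ = 1 := by
  rcases h.ε_mem χ hχ with h | h <;> rw [h] <;> norm_num

theorem modEq (h : Flat p P M B ε) (hP : Nat.card P = p) {χ : IrrCharacter G} (hχ : χ ∈ B) :
    ε χ * (dg χ : ℤ) ≡ 1 [ZMOD p] :=
  DegreeData.nonexc_modEq (P := (P : Subgroup G)) hP (h.ε_mem χ hχ) fun _ hx hx1 => h.val' hχ hx hx1

/-- a value at a `p`-regular element commuting with `P` -/
theorem val_modEq (h : Flat p P M B ε) (hP : Nat.card P = p) {χ : IrrCharacter G} (hχ : χ ∈ B)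
    {y : G} (hy : y ∈ centralizer (P : Set G)) (hyp : ¬ p ∣ orderOf y) {z : ℤ}
    (hz : (χ : G → ℂ) y = z) : z ≡ ε χ [ZMOD p] := by
  have h1 := M23.SylowTools.dvd_sub_of_mul_eq h.modular (P := (P : Subgroup G)) hP χ.2 hy hyp
    (fun x hx hx1 => by rw [h.val χ hχ x hx hx1 y hy hyp, h.val' hχ hx hx1])
    (n := (dg χ : ℤ)) (z := z) (by rw [dg_eq]; push_cast; rfl) hz
  have h2 := h.modEq hP hχ
  have h3 : (dg χ : ℤ) ≡ ε χ [ZMOD p] := by
    have h4 := h2.mul_left (ε χ)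
    rw [← mul_assoc, h.ε_mul_self hχ, one_mul, mul_one] at h4
    exact h4
  exact ((Int.modEq_iff_dvd.2 h1).trans h3)

theorem sum_sd (h : Flat p P M B ε) : ∑ χ ∈ B, ε χ * (dg χ : ℤ) = 0 := by
  have h1 := h.rel 1 (by
    rw [orderOf_one]; exact fun h => (Fact.out : p.Prime).one_lt.ne' (Nat.dvd_one.1 h))
  have h2 : ((∑ χ ∈ B, ε χ * (dg χ : ℤ) : ℤ) : ℂ) = 0 := by
    rw [← h1]
    push_cast
    exact Finset.sum_congr rfl fun χ _ => by rw [dg_eq]
  exact_mod_cast h2

theorem natAbs_sd (h : Flat p P M B ε) {χ : IrrCharacter G} (hχ : χ ∈ B) :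
    (ε χ * (dg χ : ℤ)).natAbs = dg χ := by
  rcases h.ε_mem χ hχ with h | h <;> simp [h]

theorem ε_of_pos (h : Flat p P M B ε) {χ : IrrCharacter G} (hχ : χ ∈ B)
    (h1 : 0 < ε χ * (dg χ : ℤ)) : ε χ = 1 ∧ ε χ * (dg χ : ℤ) = dg χ := by
  rcases h.ε_mem χ hχ with h | h
  · rw [h, one_mul]; exact ⟨rfl, rfl⟩
  · rw [h] at h1; omega

theorem ε_of_neg (h : Flat p P M B ε) {χ : IrrCharacter G} (hχ : χ ∈ B)
    (h1 : ε χ * (dg χ : ℤ) < 0) : ε χ = -1 ∧ ε χ * (dg χ : ℤ) = -dg χ := by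
  rcases h.ε_mem χ hχ with h | h
  · rw [h] at h1; omega
  · rw [h]; exact ⟨rfl, by ring⟩

/-- The nontrivial characters of the block, sorted by signed degree. -/
theorem exists_list (h : Flat p P M B ε) :
    ∃ l : List (IrrCharacter G), (tr G :: l).Nodup ∧ (∀ χ, χ ∈ B ↔ χ ∈ tr G :: l) ∧
      l.length + 1 = p ∧ (l.map fun χ => ε χ * (dg χ : ℤ)).Pairwise (· ≤ ·) ∧
      1 + (l.map fun χ => ε χ * (dg χ : ℤ)).sum = 0 ∧
      (∀ g : G, ¬ p ∣ orderOf g →
        1 + (l.map fun χ => (ε χ : ℂ) * (χ : G → ℂ) g).sum = 0) := by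
  classical
  obtain ⟨l, h1, h2, h3⟩ := DegreeData.exists_sorted (B.erase (tr G))
    (fun χ => ε χ * (dg χ : ℤ))
  have hmem : ∀ χ, χ ∈ l ↔ χ ≠ tr G ∧ χ ∈ B := by
    intro χ
    rw [← List.mem_toFinset, h2, Finset.mem_erase]
  have hsum : ∀ {α : Type} [AddCommMonoid α] (F : IrrCharacter G → α),
      ∑ χ ∈ B, F χ = F (tr G) + (l.map F).sum := by
    intro α _ F
    rw [← Finset.add_sum_erase B F h.one_mem, ← h2, List.sum_toFinset F h1]
  refine ⟨l, ?_, ?_, ?_, h3, ?_, ?_⟩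
  · rw [List.nodup_cons]
    exact ⟨fun h' => ((hmem _).1 h').1 rfl, h1⟩
  · intro χ
    rw [List.mem_cons, hmem]
    constructor
    · intro h'
      by_cases h4 : χ = tr G
      · exact Or.inl h4
      · exact Or.inr ⟨h4, h'⟩
    · rintro (rfl | h')
      · exact h.one_mem
      · exact h'.2
  · have h4 : l.toFinset.card = p - 1 := by
      rw [h2, Finset.card_erase_of_mem h.one_mem, h.card]
    rw [List.toFinset_card_of_nodup h1] at h4
    have := (Fact.out : p.Prime).two_le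
    omega
  · have h4 := h.sum_sd
    rw [hsum, h.ε_one, dg_tr] at h4
    simpa using h4
  · intro g hg
    have h4 := h.rel g hg
    rw [hsum, h.ε_one, coe_tr] at h4
    simpa using h4

/-- Sum of squares of the nontrivial characters. -/
theorem sum_sq_le (h : Flat p P M B ε) {l : List (IrrCharacter G)} (h1 : (tr G :: l).Nodup)
    (h2 : ∀ χ, χ ∈ B ↔ χ ∈ tr G :: l) :
    1 + (l.map fun χ => (ε χ * (dg χ : ℤ)).natAbs ^ 2).sum ≤ Nat.card G := by
  classical
  have h3 := sum_dg_sq_le (tr G :: l).toFinset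
  rw [List.sum_toFinset _ h1, List.map_cons, List.sum_cons, dg_tr, one_pow] at h3
  refine le_trans (le_of_eq ?_) h3
  congr 2
  refine List.map_congr_left fun χ hχ => ?_
  rw [h.natAbs_sd ((h2 χ).2 (List.mem_cons_of_mem _ hχ))]

/-- Class sum integrality. -/
theorem dvd_index (h : Flat p P M B ε) {χ : IrrCharacter G} (hχ : χ ∈ B) {x : G} (hx : x ∈ P)
    (hx1 : x ≠ 1) : dg χ ∣ (centralizer ({x} : Set G)).index := by
  have h1 := InvolColumn.dvd_index_mul χ.2 (h.val' hχ hx hx1)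
  rcases h.ε_mem χ hχ with h2 | h2
  · rw [h2, mul_one] at h1
    exact_mod_cast h1
  · rw [h2, mul_neg, mul_one, dvd_neg] at h1
    exact_mod_cast h1

/-- Class sum integrality, in terms of the complement. -/
theorem mul_dvd_card (h : Flat p P M B ε) (hP : Nat.card P = p) {K : Subgroup G}
    (hK : Nat.card (centralizer (P : Set G)) = p * Nat.card K) {χ : IrrCharacter G}
    (hχ : χ ∈ B) : dg χ * (p * Nat.card K) ∣ Nat.card G := by
  obtain ⟨x, hx, hx1⟩ := BlockIndex.exists_ne_one (P := (P : Subgroup G)) hP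
  have h1 := h.dvd_index hχ hx hx1
  have h2 : centralizer ({x} : Set G) = centralizer (P : Set G) :=
    BlockIndex.centralizer_eq (P := (P : Subgroup G)) hP hx hx1
  rw [h2] at h1
  rw [← card_mul_index (centralizer (P : Set G)), hK, mul_comm]
  exact Nat.mul_dvd_mul_left _ h1

/-- The sum over the nontrivial elements of `P`. -/
theorem V_eq (h : Flat p P M B ε) (hP : Nat.card P = p) {χ : IrrCharacter G} (hχ : χ ∈ B) :
    M23.Adm.V (P : Subgroup G) (χ : G → ℂ) = ((p : ℂ) - 1) * ε χ := by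
  rw [M23.Adm.V_const (P : Subgroup G) (c := ε χ) fun x hx hx1 => h.val' hχ hx hx1]
  have hP' : Nat.card (P : Subgroup G) = p := hP
  rw [hP', Nat.cast_sub (Fact.out : p.Prime).one_lt.le, Nat.cast_one]

end Flat

end Cfsg.Agent.SmallSimple.FlatBlock
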