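import Cfsg.Agent.Blocks.CyclicLower
import Cfsg.Agent.Blocks.CyclicLower2
import Cfsg.Agent.Blocks.CyclicLower3
import Cfsg.Agent.Blocks.CyclicLower4
import Cfsg.Agent.Blocks.CyclicSimple

/-!
# Simple modules attached to central idempotents of a complement in the normalizer

`F` a field of characteristic `p`, `P ≤ G` of order `p`, `H` a `p'`-subgroup of `N(P)`.
For a central idempotent `a` of `F[H]`, a vector `v` of a module is *good* for `a` when it is fixed
by `P`, `a v = v`, and `v` is not in the image of the sum of the elements of `P`.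

* every nonzero `a` has a simple module with a good vector;
* a simple module does not have good vectors for two orthogonal idempotents;
* a class function vanishing on the centralizer of `P` acts as zero on a simple module with a good
  vector.
-/

set_option autoImplicit false

namespace Cfsg.Agent.SmallSimple.GoodIdem

open MonoidAlgebra
open Cfsg.Agent.Blocks.CyclicLower Cfsg.Agent.Blocks.CyclicLower2
open Cfsg.Agent.Blocks.CyclicLower3

/-- An element of the group algebra of `H` in the group algebra of `G`. -/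
noncomputable def em {F : Type*} [Field F] {G : Type*} [Group G] [Finite G] {H : Subgroup G}
    (a : H → F) : MonoidAlgebra F G :=
  haveI := Fintype.ofFinite H
  ∑ h : H, a h • el F (h : G)

section Basic

variable {F : Type*} [Field F] {G : Type*} [Group G] [Finite G] {P H : Subgroup G}

theorem em_def [Fintype H] (a : H → F) : em a = ∑ h : H, a h • el F (h : G) := by
  unfold em
  rw [Subsingleton.elim (Fintype.ofFinite H) ‹Fintype H›]

/-- Convolution. -/
noncomputable def conv (a b : H → F) (h : H) : F :=
  haveI := Fintype.ofFinite H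
  ∑ g : H, a g * b (g⁻¹ * h)

theorem conv_def [Fintype H] (a b : H → F) (h : H) : conv a b h = ∑ g : H, a g * b (g⁻¹ * h) := by
  unfold conv
  rw [Subsingleton.elim (Fintype.ofFinite H) ‹Fintype H›]

theorem em_mul (a b : H → F) : em a * em b = em (conv a b) := by
  classical
  have := Fintype.ofFinite H
  rw [em_def, em_def, em_def, Finset.sum_mul]
  have h1 : ∀ g : H, (a g • el F (g : G)) * ∑ h : H, b h • el F (h : G) =
      ∑ h : H, (a g * b (g⁻¹ * h)) • el F (h : G) := by
    intro g
    rw [Finset.mul_sum, ← Equiv.sum_comp (Equiv.mulLeft g)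
      (fun h : H => (a g * b (g⁻¹ * h)) • el F (h : G))]
    refine Finset.sum_congr rfl fun h _ => ?_
    rw [Equiv.coe_mulLeft, inv_mul_cancel_left, smul_mul_assoc, mul_smul_comm, el_mul, smul_smul,
      Subgroup.coe_mul]
  rw [Finset.sum_congr rfl fun g _ => h1 g, Finset.sum_comm]
  refine Finset.sum_congr rfl fun h _ => ?_
  rw [← Finset.sum_smul, conv_def]

/-- A class function on `H`. -/
def IsCls (a : H → F) : Prop := ∀ g h : H, a (g * h * g⁻¹) = a h

theorem el_comm_em {a : H → F} (ha : IsCls a) (g : H) : el F (g : G) * em a = em a * el F (g : G) := by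
  classical
  have := Fintype.ofFinite H
  rw [em_def, Finset.mul_sum, Finset.sum_mul, ← Equiv.sum_comp (MulAut.conj g).toEquiv
    (fun h : H => (a h • el F (h : G)) * el F (g : G))]
  refine Finset.sum_congr rfl fun h _ => ?_
  simp only [MulEquiv.toEquiv_eq_coe, EquivLike.coe_coe, MulAut.conj_apply]
  rw [ha, mul_smul_comm, smul_mul_assoc, el_mul, el_mul]
  congr 2
  simp only [Subgroup.coe_mul, Subgroup.coe_inv]
  group

theorem em_comm_tr (hH : H ≤ Subgroup.normalizer (P : Set G)) (a : H → F) :
    em a * tr P F = tr P F * em a := by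
  have := Fintype.ofFinite H
  rw [em_def, Finset.sum_mul, Finset.mul_sum]
  refine Finset.sum_congr rfl fun h _ => ?_
  rw [smul_mul_assoc, mul_smul_comm, el_comm_tr (hH h.2)]

variable {V : Type*} [AddCommGroup V] [Module F V] [Module (MonoidAlgebra F G) V]
  [IsScalarTower F (MonoidAlgebra F G) V]

theorem em_smul [Fintype H] (a : H → F) (v : V) : em a • v = ∑ h : H, a h • (el F (h : G) • v) := by
  rw [em_def, Finset.sum_smul]
  exact Finset.sum_congr rfl fun h _ => smul_assoc _ _ _

omit [Finite G] [Module F V] [IsScalarTower F (MonoidAlgebra F G) V] in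
/-- The normalizer permutes the fixed vectors of `P`. -/
theorem fix_el {n : G} (hn : n ∈ Subgroup.normalizer (P : Set G)) {v : V}
    (hv : ∀ y ∈ P, el F y • v = v) : ∀ y ∈ P, el F y • (el F n • v) = el F n • v := by
  intro y hy
  have h1 : n⁻¹ * y * n ∈ P := by
    have := (Subgroup.mem_normalizer_iff.1 (inv_mem hn) y).1 hy
    rwa [inv_inv] at this
  have h2 : y * n = n * (n⁻¹ * y * n) := by group
  rw [smul_smul, el_mul, h2, ← el_mul, mul_smul, hv _ h1]

theorem fix_em (hH : H ≤ Subgroup.normalizer (P : Set G)) (a : H → F) {v : V}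
    (hv : ∀ y ∈ P, el F y • v = v) : ∀ y ∈ P, el F y • (em a • v) = em a • v := by
  have := Fintype.ofFinite H
  intro y hy
  rw [em_smul, Finset.smul_sum]
  refine Finset.sum_congr rfl fun h _ => ?_
  rw [smul_comm', fix_el (hH h.2) hv y hy]

end Basic

/-- A good vector for `a`. -/
structure Good {F : Type*} [Field F] {G : Type*} [Group G] [Finite G] (P : Subgroup G)
    {H : Subgroup G} (a : H → F)
    {V : Type*} [AddCommGroup V] [Module F V] [Module (MonoidAlgebra F G) V] (v : V) : Prop where
  fix : ∀ y ∈ P, el F y • v = v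
  idem : em a • v = v
  not_tr : ∀ b : V, tr P F • b ≠ v

section Exists

variable {F : Type*} [Field F] {G : Type*} [Group G] [Finite G] {P H : Subgroup G} {a : H → F}

theorem Good.map {V W : Type*} [AddCommGroup V] [Module F V] [Module (MonoidAlgebra F G) V]
    [AddCommGroup W] [Module F W] [Module (MonoidAlgebra F G) W]
    (e : V ≃ₗ[MonoidAlgebra F G] W) {v : V} (h : Good P a v) : Good P a (e v) := by
  refine ⟨fun y hy => ?_, ?_, fun b hb => ?_⟩
  · rw [← map_smul, h.fix y hy]
  · rw [← map_smul, h.idem]
  · apply h.not_tr (e.symm b)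
    apply e.injective
    rw [map_smul, e.apply_symm_apply, hb]

theorem Good.ne_zero {V : Type*} [AddCommGroup V] [Module F V] [Module (MonoidAlgebra F G) V]
    {v : V} (h : Good P a v) : v ≠ 0 := by
  rintro rfl
  exact h.not_tr 0 (smul_zero _)

/-- Any module with a good vector has a simple subquotient with a good vector. -/
theorem exists_simple_of_good (hH : H ≤ Subgroup.normalizer (P : Set G))
    (hidem : em a * em a = em a) (n : ℕ) :
    ∀ (V : Type*) [AddCommGroup V] [Module F V] [Module (MonoidAlgebra F G) V]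
      [IsScalarTower F (MonoidAlgebra F G) V] [FiniteDimensional F V],
      Module.finrank F V = n → ∀ v : V, Good P a v →
      ∃ L : Submodule (MonoidAlgebra F G) (MonoidAlgebra F G),
        IsSimpleModule (MonoidAlgebra F G) (MonoidAlgebra F G ⧸ L) ∧
        ∃ w : MonoidAlgebra F G ⧸ L, Good P a w := by
  induction n using Nat.strong_induction_on with
  | _ n ih =>
  intro V _ _ _ _ _ hn v hv
  by_cases hs : IsSimpleModule (MonoidAlgebra F G) V
  · refine ⟨LinearMap.ker (LinearMap.toSpanSingleton (MonoidAlgebra F G) V v), ?_, ?_⟩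
    · exact IsSimpleModule.congr ((LinearMap.toSpanSingleton (MonoidAlgebra F G) V
        v).quotKerEquivOfSurjective (IsSimpleModule.toSpanSingleton_surjective _ hv.ne_zero))
    · exact ⟨_, hv.map ((LinearMap.toSpanSingleton (MonoidAlgebra F G) V
        v).quotKerEquivOfSurjective
          (IsSimpleModule.toSpanSingleton_surjective _ hv.ne_zero)).symm⟩
  · have hnt : Nontrivial V := ⟨v, 0, hv.ne_zero⟩
    have hex : ∃ L : Submodule (MonoidAlgebra F G) V, L ≠ ⊥ ∧ L ≠ ⊤ := by
      by_contra hcon
      push Not at hcon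
      apply hs
      rw [isSimpleModule_iff]
      exact { eq_bot_or_eq_top := fun L => by
                by_cases hL : L = ⊥
                · exact Or.inl hL
                · exact Or.inr (hcon L hL) }
    obtain ⟨L, hL0, hL1⟩ := hex
    have : FiniteDimensional F L :=
      inferInstanceAs (FiniteDimensional F (L.restrictScalars F))
    have hfin : Module.finrank F L + Module.finrank F (V ⧸ L) = Module.finrank F V := by
      have := Submodule.finrank_quotient_add_finrank (L.restrictScalars F)
      rw [add_comm]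
      exact this
    have hLpos : 0 < Module.finrank F L := by
      have : Nontrivial L := Submodule.nontrivial_iff_ne_bot.2 hL0
      exact Module.finrank_pos
    have hQpos : 0 < Module.finrank F (V ⧸ L) := by
      have : Nontrivial (V ⧸ L) := Submodule.Quotient.nontrivial_iff.2 hL1
      exact Module.finrank_pos
    have hq1 : ∀ y ∈ P, el F y • L.mkQ v = L.mkQ v := by
      intro y hy
      rw [← map_smul, hv.fix y hy]
    have hq2 : em a • L.mkQ v = L.mkQ v := by
      rw [← map_smul, hv.idem]
    by_cases hq : ∀ b : V ⧸ L, tr P F • b ≠ L.mkQ v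
    · exact ih (Module.finrank F (V ⧸ L)) (by omega) (V ⧸ L) rfl _ ⟨hq1, hq2, hq⟩
    · push Not at hq
      obtain ⟨b', hb'⟩ := hq
      obtain ⟨b, rfl⟩ := L.mkQ_surjective b'
      have hl : v - tr P F • b ∈ L := by
        rw [← map_smul, eq_comm] at hb'
        exact (Submodule.Quotient.eq L).1 hb'
      set l := v - tr P F • b with hldef
      have hlP : ∀ y ∈ P, el F y • l = l := by
        intro y hy
        rw [hldef, smul_sub, hv.fix y hy, smul_smul, el_mul_tr hy]
      have hl' : em a • l ∈ L := L.smul_mem _ hl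
      have hE := fix_em hH a hlP
      by_cases hgl : ∀ c : L, tr P F • c ≠ ⟨em a • l, hl'⟩
      · refine ih (Module.finrank F L) (by omega) L rfl ⟨em a • l, hl'⟩ ⟨?_, ?_, hgl⟩
        · intro y hy
          exact Subtype.ext (hE y hy)
        · apply Subtype.ext
          show em a • (em a • l) = em a • l
          rw [smul_smul, hidem]
      · exfalso
        push Not at hgl
        obtain ⟨c, hc⟩ := hgl
        have hc' : tr P F • (c : V) = em a • l := congrArg Subtype.val hc
        apply hv.not_tr (em a • b + (c : V))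
        rw [smul_add, hc', smul_smul, ← em_comm_tr hH, ← smul_smul, ← smul_add, hldef,
          add_sub_cancel, hv.idem]

end Exists

section Start

variable {F : Type*} [Field F] {G : Type*} [Group G] [Finite G] {P H : Subgroup G} {a : H → F}

/-- The generator. -/
noncomputable def gen (P : Subgroup G) (a : H → F) : MonoidAlgebra F G := em a * tr P F

theorem tr_mul_el {y : G} (hy : y ∈ P) : tr P F * el F y = tr P F := by
  classical
  have : Fintype P := Fintype.ofFinite P
  rw [tr_def, Finset.sum_mul]
  refine Fintype.sum_equiv (Equiv.mulRight (⟨y, hy⟩ : P)) _ _ fun z => ?_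
  rw [el_mul]
  rfl

theorem gen_mul_el {y : G} (hy : y ∈ P) : gen P a * el F y = gen P a := by
  rw [gen, mul_assoc, tr_mul_el hy]

theorem coeff_el_mul (g x : G) (w : MonoidAlgebra F G) : (el F g * w).coeff x = w.coeff (g⁻¹ * x) := by
  change (single g (1 : F) * w).coeff x = _
  rw [coeff_single_mul_apply, one_mul]

theorem coeff_mul_el (g x : G) (w : MonoidAlgebra F G) : (w * el F g).coeff x = w.coeff (x * g⁻¹) := by
  change (w * single g (1 : F)).coeff x = _
  rw [coeff_mul_single_apply, mul_one]

theorem coeff_gen (hdisj : ∀ x ∈ P, x ∈ H → x = 1) (h : H) : (gen P a).coeff (h : G) = a h := by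
  classical
  have := Fintype.ofFinite H
  have := Fintype.ofFinite P
  rw [gen, em_def, tr_def, Finset.sum_mul, coeff_sum, Finsupp.finsetSum_apply]
  have h1 : ∀ g : H, ((a g • el F (g : G)) * ∑ y : P, el F (y : G)).coeff (h : G) =
      if g = h then a h else 0 := by
    intro g
    rw [Finset.mul_sum, coeff_sum, Finsupp.finsetSum_apply]
    have h2 : ∀ y : P, ((a g • el F (g : G)) * el F (y : G)).coeff (h : G) =
        if y = 1 then (if g = h then a h else 0) else 0 := by
      intro y
      rw [smul_mul_assoc, el_mul, coeff_smul_apply]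
      change a g • (single ((g : G) * y) (1 : F)).coeff (h : G) = _
      rw [coeff_single, Finsupp.single_apply]
      by_cases hy : y = 1
      · subst hy
        rw [if_pos rfl]
        by_cases hg : g = h
        · subst hg; simp
        · rw [if_neg hg, if_neg, smul_zero]
          intro h3
          apply hg
          apply Subtype.ext
          simpa using h3
      · rw [if_neg hy, if_neg, smul_zero]
        intro h3
        apply hy
        apply Subtype.ext
        apply hdisj _ y.2
        have : (y : G) = ((g⁻¹ * h : H) : G) := by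
          rw [Subgroup.coe_mul, Subgroup.coe_inv, ← h3]; group
        rw [this]
        exact (g⁻¹ * h).2
    rw [Finset.sum_congr rfl fun y _ => h2 y, Finset.sum_ite_eq', if_pos (Finset.mem_univ _)]
  rw [Finset.sum_congr rfl fun g _ => h1 g, Finset.sum_ite_eq', if_pos (Finset.mem_univ _)]

theorem exists_good (hH : H ≤ Subgroup.normalizer (P : Set G)) (hdisj : ∀ x ∈ P, x ∈ H → x = 1)
    (hidem : em a * em a = em a) (ha : ∃ h, a h ≠ 0) (hP : (Nat.card P : F) = 0) :
    ∃ v : Submodule.span (MonoidAlgebra F G) {gen P a}, Good P a v := by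
  classical
  have : Fintype P := Fintype.ofFinite P
  refine ⟨⟨gen P a, Submodule.mem_span_singleton_self _⟩, fun y hy => ?_, ?_, ?_⟩
  · apply Subtype.ext
    show el F y * gen P a = gen P a
    rw [gen, em_comm_tr hH, ← mul_assoc, el_mul_tr hy]
  · apply Subtype.ext
    show em a * gen P a = gen P a
    rw [gen, ← mul_assoc, hidem]
  · rintro ⟨c, hc⟩ hEq
    obtain ⟨b, rfl⟩ := Submodule.mem_span_singleton.1 hc
    have h1 : tr P F * (b * gen P a) = gen P a := congrArg Subtype.val hEq
    obtain ⟨h, hh⟩ := ha
    have h2 : (tr P F * (b * gen P a)).coeff (h : G) = 0 := by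
      rw [tr_def, Finset.sum_mul, coeff_sum, Finsupp.finsetSum_apply]
      rw [Finset.sum_congr rfl (g := fun _ => (b * gen P a).coeff (h : G))]
      · rw [Finset.sum_const, Finset.card_univ, ← Nat.card_eq_fintype_card,
          ← Nat.cast_smul_eq_nsmul F, hP, zero_smul]
      · intro y _
        have h3 : (h : G)⁻¹ * (y : G) * h ∈ P := by
          have := (Subgroup.mem_normalizer_iff.1 (inv_mem (hH h.2)) (y : G)).1 y.2
          rwa [inv_inv] at this
        rw [coeff_el_mul]
        have h4 : (b * gen P a).coeff ((y : G)⁻¹ * h) =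
            (b * gen P a * el F ((h : G)⁻¹ * (y : G) * h)⁻¹).coeff ((y : G)⁻¹ * h) := by
          rw [mul_assoc, gen_mul_el (inv_mem h3)]
        rw [h4, coeff_mul_el]
        congr 1
        group
    rw [h1, coeff_gen hdisj] at h2
    exact hh h2

/-- For every nonzero idempotent there is a simple module with a good vector. -/
theorem exists_simple (hH : H ≤ Subgroup.normalizer (P : Set G)) (hdisj : ∀ x ∈ P, x ∈ H → x = 1)
    (hidem : em a * em a = em a) (ha : ∃ h, a h ≠ 0) (hP : (Nat.card P : F) = 0) :
    ∃ L : Submodule (MonoidAlgebra F G) (MonoidAlgebra F G),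
        IsSimpleModule (MonoidAlgebra F G) (MonoidAlgebra F G ⧸ L) ∧
        ∃ w : MonoidAlgebra F G ⧸ L, Good P a w := by
  obtain ⟨v, hv⟩ := exists_good hH hdisj hidem ha hP
  have : FiniteDimensional F (Submodule.span (MonoidAlgebra F G) {gen P a}) :=
    inferInstanceAs (FiniteDimensional F
      ((Submodule.span (MonoidAlgebra F G) {gen P a}).restrictScalars F))
  exact exists_simple_of_good hH hidem _ _ rfl v hv

end Start

section Unique

variable {F : Type*} [Field F] {p : ℕ} [hp : Fact p.Prime] [CharP F p]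
  {G : Type*} [Group G] [Finite G] {P H : Subgroup G}
  {V : Type*} [AddCommGroup V] [Module F V] [Module (MonoidAlgebra F G) V]
  [IsScalarTower F (MonoidAlgebra F G) V]

/-- The trace over `N / P` as a sum over a complement. -/
theorem sum_reps_eq (hH : H ≤ Subgroup.normalizer (P : Set G)) (hdisj : ∀ x ∈ P, x ∈ H → x = 1)
    (hgen : ∀ n ∈ Subgroup.normalizer (P : Set G), ∃ h ∈ H, ∃ y ∈ P, h * y = n)
    {π : V →ₗ[F] V} (hπ : ∀ y ∈ P, ∀ s : V, π (el F y • s) = el F y • π s) [Fintype H] (u : V) :
    ∑ q ∈ reps P, cj π q.out u = ∑ h : H, cj π (h : G) u := by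
  classical
  symm
  refine Finset.sum_bij (fun (h : H) _ => (QuotientGroup.mk (h : G) : G ⧸ P)) ?_ ?_ ?_ ?_
  · intro h _
    rw [mem_reps]
    have h1 : (QuotientGroup.mk (h : G) : G ⧸ P) =
        QuotientGroup.mk ((QuotientGroup.mk (h : G) : G ⧸ P).out) := (QuotientGroup.out_eq' _).symm
    rw [QuotientGroup.eq] at h1
    have h2 := mul_mem (hH h.2) (Subgroup.le_normalizer h1)
    rwa [mul_inv_cancel_left] at h2
  · intro g _ h _ hgh
    have hgh' : (QuotientGroup.mk (g : G) : G ⧸ P) = QuotientGroup.mk (h : G) := hgh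
    rw [QuotientGroup.eq] at hgh'
    have h1 : (g : G)⁻¹ * h ∈ H := mul_mem (inv_mem g.2) h.2
    have h2 := hdisj _ hgh' h1
    exact Subtype.ext (inv_mul_eq_one.1 h2)
  · intro q hq
    rw [mem_reps] at hq
    obtain ⟨h, hh, y, hy, hhy⟩ := hgen _ hq
    refine ⟨⟨h, hh⟩, Finset.mem_univ _, ?_⟩
    show (QuotientGroup.mk h : G ⧸ P) = q
    rw [← QuotientGroup.out_eq' q, QuotientGroup.eq, ← hhy, inv_mul_cancel_left]
    exact hy
  · intro h _
    show cj π (h : G) u = cj π (QuotientGroup.mk (h : G) : G ⧸ P).out u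
    have h1 : (QuotientGroup.mk (h : G) : G ⧸ P) =
        QuotientGroup.mk ((QuotientGroup.mk (h : G) : G ⧸ P).out) := (QuotientGroup.out_eq' _).symm
    rw [QuotientGroup.eq] at h1
    have h2 : (QuotientGroup.mk (h : G) : G ⧸ P).out =
        (h : G) * ((h : G)⁻¹ * (QuotientGroup.mk (h : G) : G ⧸ P).out) := by group
    rw [h2, cj_mul_of_comm hπ _ h1]

/-- **Uniqueness.** A simple module does not have good vectors for two orthogonal idempotents. -/
theorem false_of_good [IsAlgClosed F] [FiniteDimensional F V]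
    [IsSimpleModule (MonoidAlgebra F G) V] (hP : Nat.card P = p)
    (hH : H ≤ Subgroup.normalizer (P : Set G)) (hdisj : ∀ x ∈ P, x ∈ H → x = 1)
    (hgen : ∀ n ∈ Subgroup.normalizer (P : Set G), ∃ h ∈ H, ∃ y ∈ P, h * y = n)
    (hN : (Nat.card H : F) ≠ 0) {a b : H → F} (ha : IsCls a) (hb : IsCls b)
    (hab : em b * em a = 0) {v w : V} (hv : Good P a v) (hw : Good P b w) : False := by
  classical
  have := Fintype.ofFinite H
  -- a generator
  have hcyc : IsCyclic P := isCyclic_of_prime_card hP
  obtain ⟨⟨x, hxP⟩, hgenx⟩ := hcyc.exists_generator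
  have hPx : P = Subgroup.zpowers x := by
    ext y
    constructor
    · intro hy
      obtain ⟨k, hk⟩ := Subgroup.mem_zpowers_iff.1 (hgenx ⟨y, hy⟩)
      exact Subgroup.mem_zpowers_iff.2 ⟨k, by simpa using congrArg Subtype.val hk⟩
    · intro hy
      obtain ⟨k, hk⟩ := Subgroup.mem_zpowers_iff.1 hy
      rw [← hk]; exact zpow_mem hxP k
  have hx : orderOf x = p := by
    rw [← Nat.card_zpowers, ← hPx, hP]
  set X := el F x - 1 with hXdef
  have htrX : tr P F = X ^ (p - 1) := tr_eq_pow x hx hPx
  obtain ⟨h, v', hv'v, hmax⟩ := exists_height x hx hv.not_tr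
  rw [← hXdef] at hv'v hmax
  have hXfix : ∀ u : V, (∀ y ∈ P, el F y • u = u) → X • u = 0 := by
    intro u hu
    rw [hXdef, sub_smul, one_smul, hu x hxP, sub_self]
  have hXv : X • v = 0 := hXfix v hv.fix
  -- the height is less than `p - 1`
  have hhp : h + 1 ≤ p - 1 := by
    by_contra hcon
    have h1 : p - 1 ≤ h := by omega
    apply hv.not_tr (X ^ (h - (p - 1)) • v')
    rw [htrX, smul_smul, ← pow_add, Nat.add_sub_cancel' h1, hv'v]
  -- the subspace to be killed
  let L : V →ₗ[F] V :=
    { toFun := fun a => X ^ (h + 1) • a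
      map_add' := fun a b => smul_add _ _ _
      map_smul' := fun c a => smul_comm' _ _ _ }
  have hvW : v ∉ LinearMap.range L := by
    rintro ⟨c, hc⟩
    exact hmax c hc
  obtain ⟨f, hfv, hfW⟩ := Submodule.exists_dual_map_eq_bot_of_notMem hvW inferInstance
  have hfX : ∀ a : V, f (X ^ (h + 1) • a) = 0 := by
    intro a
    have h9 : f (L a) ∈ (LinearMap.range L).map f := Submodule.mem_map_of_mem ⟨a, rfl⟩
    exact (Submodule.mem_bot F).1 (hfW ▸ h9)
  have hftr : ∀ a : V, f (tr P F • a) = 0 := by
    intro a
    have h1 : tr P F • a = X ^ (h + 1) • (X ^ (p - 1 - (h + 1)) • a) := by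
      rw [smul_smul, ← pow_add, htrX]
      congr 2
      omega
    rw [h1]
    exact hfX _
  have hXv' : X ^ (h + 1) • v' = 0 := by
    rw [pow_succ', mul_smul, hv'v, hXv]
  let π := pi0 X h f v'
  -- values on fixed vectors
  have hπfix : ∀ u : V, X • u = 0 → π u = f u • v := by
    intro u hu
    change pi0 X h f v' u = _
    rw [pi0_apply, Finset.sum_range_succ', Finset.sum_eq_zero, zero_add, pow_zero, one_smul,
      Nat.sub_zero, hv'v]
    intro r _
    rw [pow_succ, mul_smul, hu, smul_zero, map_zero, zero_smul]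
  -- π commutes with P
  have hπX : ∀ s, π (X • s) = X • π s := fun s => pi0_comm X h f v' s hfX hXv'
  have hπx : ∀ s, π (el F x • s) = el F x • π s := by
    intro s
    have h1 : el F x = X + 1 := by rw [hXdef, sub_add_cancel]
    rw [h1, add_smul, add_smul, map_add, hπX, one_smul, one_smul]
  have hπpow : ∀ (k : ℕ) (s : V), π (el F (x ^ k) • s) = el F (x ^ k) • π s := by
    intro k
    induction k with
    | zero => intro s; rw [pow_zero, el_one, one_smul, one_smul]
    | succ k ih =>
      intro s
      rw [pow_succ, ← el_mul, mul_smul, mul_smul, ih, hπx]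
  have hπ : ∀ y ∈ P, ∀ s : V, π (el F y • s) = el F y • π s := by
    intro y hy s
    rw [hPx] at hy
    obtain ⟨k, hk⟩ := (mem_powers_iff_mem_zpowers.2 hy : y ∈ Submonoid.powers x)
    have hk' : x ^ k = y := hk
    rw [← hk']
    exact hπpow k s
  obtain ⟨θ, hθ⟩ := exists_trace hπ
  -- Schur
  obtain ⟨c, hc⟩ := (IsSimpleModule.algebraMap_end_bijective_of_isAlgClosed
    (A := MonoidAlgebra F G) (V := V) F).2 θ
  have hc' : ∀ s : V, θ s = c • s := by
    intro s
    rw [← hc]
    rfl
  -- the average
  let T : V →ₗ[F] V :=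
    { toFun := fun s => ∑ g : H, f (el F ((g : G)⁻¹) • s) • (el F (g : G) • v)
      map_add' := fun s t => by
        rw [← Finset.sum_add_distrib]
        exact Finset.sum_congr rfl fun g _ => by rw [smul_add, map_add, add_smul]
      map_smul' := fun d s => by
        rw [RingHom.id_apply, Finset.smul_sum]
        exact Finset.sum_congr rfl fun g _ => by rw [smul_comm', map_smul, smul_assoc] }
  have hT : ∀ s, T s = ∑ g : H, f (el F ((g : G)⁻¹) • s) • (el F (g : G) • v) := fun _ => rfl
  have hθT : ∀ u : V, (∀ y ∈ P, el F y • u = u) → ∃ d : V, c • u = T u + tr P F • d := by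
    intro u hu
    obtain ⟨d, hd⟩ := trace_apply (F := F) hP hπ hu
    refine ⟨d, ?_⟩
    rw [← hc', hθ, hd, sum_reps_eq hH hdisj hgen hπ, hT]
    congr 1
    refine Finset.sum_congr rfl fun g _ => ?_
    rw [cj_def, hπfix _ (hXfix _ (fix_el (inv_mem (hH g.2)) hu)), smul_comm']
  -- T has values fixed by P
  have hTfix : ∀ s, ∀ y ∈ P, el F y • T s = T s := by
    intro s y hy
    rw [hT, Finset.smul_sum]
    refine Finset.sum_congr rfl fun g _ => ?_
    rw [smul_comm', fix_el (hH g.2) hv.fix y hy]
  have hTa : ∀ s, em a • T s = T s := by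
    intro s
    rw [hT, Finset.smul_sum]
    refine Finset.sum_congr rfl fun g _ => ?_
    rw [smul_comm', smul_smul, ← el_comm_em ha g, mul_smul, hv.idem]
  -- T commutes with H
  have hTH : ∀ (g : H) s, T (el F (g : G) • s) = el F (g : G) • T s := by
    intro g s
    rw [hT, hT, Finset.smul_sum, ← Equiv.sum_comp (Equiv.mulLeft g)]
    refine Finset.sum_congr rfl fun k _ => ?_
    rw [Equiv.coe_mulLeft, Subgroup.coe_mul, mul_inv_rev, smul_smul, el_mul, mul_assoc,
      inv_mul_cancel, mul_one, smul_comm', smul_smul, el_mul]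
  have hTb : ∀ s, T (em b • s) = em b • T s := by
    intro s
    rw [em_smul, em_smul, map_sum]
    refine Finset.sum_congr rfl fun g _ => ?_
    rw [map_smul, hTH]
  -- T kills w
  have hTw : T w = 0 := by
    have h1 : T w = em b • T w := by
      conv_lhs => rw [← hw.idem, hTb]
    rw [h1, ← hTa w, smul_smul, hab, zero_smul]
  have hc0 : c = 0 := by
    by_contra hc0
    obtain ⟨d, hd⟩ := hθT w hw.fix
    rw [hTw, zero_add] at hd
    apply hw.not_tr (c⁻¹ • d)
    rw [smul_comm', ← hd, smul_smul, inv_mul_cancel₀ hc0, one_smul]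
  -- T kills the traces
  have hTtr : ∀ d : V, T (tr P F • d) = 0 := by
    intro d
    rw [hT]
    refine Finset.sum_eq_zero fun g _ => ?_
    rw [smul_smul, el_comm_tr (inv_mem (hH g.2)), mul_smul, hftr, zero_smul]
  have hT3 : T ^ 3 = 0 := by
    ext s
    show T (T (T s)) = 0
    obtain ⟨d, hd⟩ := hθT (T s) (hTfix s)
    rw [hc0, zero_smul] at hd
    have h1 : T (T s) = tr P F • (-d) := by
      rw [smul_neg, eq_neg_iff_add_eq_zero]
      exact hd.symm
    rw [h1, hTtr]
  have htr0 : LinearMap.trace F V T = 0 := by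
    have h1 : IsNilpotent T := ⟨3, hT3⟩
    exact (LinearMap.isNilpotent_trace_of_isNilpotent h1).eq_zero
  -- the trace of T
  have htr1 : LinearMap.trace F V T = (Nat.card H : F) * f v := by
    let A : H → V →ₗ[F] V := fun g =>
      { toFun := fun s => el F ((g : G)⁻¹) • s
        map_add' := fun s t => smul_add _ _ _
        map_smul' := fun d s => smul_comm' _ _ _ }
    have hA : ∀ (g : H) s, A g s = el F ((g : G)⁻¹) • s := fun _ _ => rfl
    have h1 : T = ∑ g : H, (f ∘ₗ A g).smulRight (el F (g : G) • v) := by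
      ext s
      rw [LinearMap.sum_apply, hT]
      refine Finset.sum_congr rfl fun g _ => ?_
      rw [LinearMap.smulRight_apply, LinearMap.comp_apply, hA]
    rw [h1, map_sum]
    have h2 : ∀ g : H, LinearMap.trace F V ((f ∘ₗ A g).smulRight (el F (g : G) • v)) = f v := by
      intro g
      rw [LinearMap.trace_smulRight, LinearMap.comp_apply, hA, smul_smul, el_mul, inv_mul_cancel,
        el_one, one_smul]
    rw [Finset.sum_congr rfl fun g _ => h2 g, Finset.sum_const, Finset.card_univ, nsmul_eq_mul,
      Nat.card_eq_fintype_card]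
  rw [htr0] at htr1
  exact mul_ne_zero hN hfv htr1.symm

end Unique

section Cls

variable {F : Type*} [Field F] {p : ℕ} [hp : Fact p.Prime] [CharP F p]
  {G : Type*} [Group G] [Finite G] {P H : Subgroup G}
  {V : Type*} [AddCommGroup V] [Module F V] [Module (MonoidAlgebra F G) V]
  [IsScalarTower F (MonoidAlgebra F G) V]

/-- A class function vanishing on the centralizer of `P` acts as zero on a simple module with a
good vector. -/
theorem cls_smul_eq_zero [IsAlgClosed F] [Fintype G] [FiniteDimensional F V]
    [IsSimpleModule (MonoidAlgebra F G) V] (hP : Nat.card P = p) {a : H → F} {v : V}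
    (hv : Good P a v) (f : G → F) (hf : ∀ g h : G, f (h * g * h⁻¹) = f g)
    (hf0 : ∀ g ∈ Subgroup.centralizer (P : Set G), f g = 0) (s : V) :
    ∑ g : G, f g • (el F g • s) = 0 := by
  classical
  have : Fintype P := Fintype.ofFinite P
  -- the operator
  let θ₀ : V →ₗ[F] V :=
    { toFun := fun s => ∑ g : G, f g • (el F g • s)
      map_add' := fun a b => by
        rw [← Finset.sum_add_distrib]
        exact Finset.sum_congr rfl fun g _ => by rw [smul_add, smul_add]
      map_smul' := fun c a => by
        rw [RingHom.id_apply, Finset.smul_sum]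
        exact Finset.sum_congr rfl fun g _ => by
          rw [smul_comm', smul_smul, smul_smul, mul_comm] }
  have hθ₀ : ∀ s, θ₀ s = ∑ g : G, f g • (el F g • s) := fun s => rfl
  let θ : V →ₗ[MonoidAlgebra F G] V :=
    MonoidAlgebra.equivariantOfLinearOfComm θ₀ fun h v => by
      change θ₀ (el F h • v) = el F h • θ₀ v
      rw [hθ₀, hθ₀, Finset.smul_sum]
      rw [← Equiv.sum_comp (MulAut.conj h).toEquiv]
      refine Finset.sum_congr rfl fun g _ => ?_
      simp only [MulEquiv.toEquiv_eq_coe, EquivLike.coe_coe, MulAut.conj_apply]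
      rw [hf, smul_comm', smul_smul, smul_smul, el_mul, el_mul]
      congr 3
      group
  have hθ : ∀ s, θ s = θ₀ s := fun s => rfl
  obtain ⟨c, hc⟩ := (IsSimpleModule.algebraMap_end_bijective_of_isAlgClosed
    (A := MonoidAlgebra F G) (V := V) F).2 θ
  have hc' : ∀ s : V, θ₀ s = c • s := by
    intro s
    rw [← hθ, ← hc]
    rfl
  -- elements outside the centralizer
  let act : P → G → G := fun y g => (y : G) * g * (y : G)⁻¹
  have hact : ∀ (y : P) (g : G), act y g = (y : G) * g * (y : G)⁻¹ := fun _ _ => rfl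
  have act1 : ∀ g, act 1 g = g := by intro g; rw [hact]; simp
  have act2 : ∀ y z g, act (y * z) g = act y (act z g) := by
    intro y z g
    rw [hact, hact, hact, Subgroup.coe_mul]
    group
  let D : Finset G := Finset.univ.filter (fun g : G => g ∉ Subgroup.centralizer (P : Set G))
  have hD : ∀ g : G, g ∈ D ↔ g ∉ Subgroup.centralizer (P : Set G) := by
    intro g
    exact Finset.mem_filter.trans ⟨fun h => h.2, fun h => ⟨Finset.mem_univ _, h⟩⟩
  have hDs : ∀ (y : P) (d : G), d ∈ D → act y d ∈ D := by
    intro y d hd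
    rw [hact]
    refine (hD _).2 fun hcen => (hD d).1 hd ?_
    have hyC : (y : G)⁻¹ * ((y : G) * d * (y : G)⁻¹) * (y : G) ∈
        Subgroup.centralizer (P : Set G) := by
      rw [Subgroup.mem_centralizer_iff] at hcen ⊢
      intro z hz
      have h1 := hcen ((y : G) * z * (y : G)⁻¹)
        (P.mul_mem (P.mul_mem y.2 hz) (P.inv_mem y.2))
      have h2 : (y : G)⁻¹ * ((y : G) * z * (y : G)⁻¹ * ((y : G) * d * (y : G)⁻¹)) * (y : G) =
          (y : G)⁻¹ * ((y : G) * d * (y : G)⁻¹ * ((y : G) * z * (y : G)⁻¹)) * (y : G) :=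
        congrArg (fun t => (y : G)⁻¹ * t * (y : G)) h1
      calc z * ((y : G)⁻¹ * ((y : G) * d * (y : G)⁻¹) * (y : G))
          = (y : G)⁻¹ * ((y : G) * z * (y : G)⁻¹ * ((y : G) * d * (y : G)⁻¹)) *
            (y : G) := by group
        _ = (y : G)⁻¹ * ((y : G) * d * (y : G)⁻¹ * ((y : G) * z * (y : G)⁻¹)) *
            (y : G) := h2
        _ = _ := by group
    have h3 : (y : G)⁻¹ * ((y : G) * d * (y : G)⁻¹) * (y : G) = d := by group
    rw [h3] at hyC
    exact hyC
  have hDf : ∀ (y : P) (d : G), d ∈ D → act y d = d → y = 1 := by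
    intro y d hd h
    by_contra hy
    apply (hD d).1 hd
    rw [hact] at h
    have hcomm : (y : G) * d = d * y := by
      conv_rhs => rw [← h]
      group
    have hgen : Subgroup.zpowers (y : G) = P := by
      apply Subgroup.eq_of_le_of_card_ge
      · rw [Subgroup.zpowers_le]; exact y.2
      · rw [Nat.card_zpowers, hP]
        have h3 : orderOf (y : G) = orderOf y := Subgroup.orderOf_coe y
        have h4 : orderOf y ∣ p := hP ▸ orderOf_dvd_natCard y
        rcases (Nat.dvd_prime hp.out).1 h4 with h5 | h5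
        · exact absurd (orderOf_eq_one_iff.1 h5) hy
        · rw [h3, h5]
    rw [Subgroup.mem_centralizer_iff]
    intro z hz
    have hz' : z ∈ Subgroup.zpowers (y : G) := by rw [hgen]; exact hz
    obtain ⟨k, rfl⟩ := Subgroup.mem_zpowers_iff.1 hz'
    exact (Commute.zpow_left (show Commute (y : G) d from hcomm) k)
  obtain ⟨b, hb⟩ := Cfsg.Agent.Blocks.CyclicLower4.exists_tr_of_free' (F := F) (P := P) (V := V)
    act act1 act2 D hDs hDf
    (fun g => f g • (el F g • v))
    (fun y g hg => by
      change f ((y : G) * g * (y : G)⁻¹) • (el F ((y : G) * g * (y : G)⁻¹) • v) = _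
      rw [hf, ← el_mul, ← el_mul, mul_smul, hv.fix _ (inv_mem y.2), mul_smul, smul_comm'])
  have hev : c • v = tr P F • b := by
    rw [← hc', hθ₀, hb]
    have h1 : ∑ g : G, f g • (el F g • v) =
        ∑ g ∈ Finset.univ \ D, f g • (el F g • v) + ∑ g ∈ D, f g • (el F g • v) :=
      (Finset.sum_sdiff (Finset.subset_univ D)).symm
    rw [h1, Finset.sum_eq_zero, zero_add]
    intro g hg
    rw [Finset.mem_sdiff] at hg
    have hg' : g ∈ Subgroup.centralizer (P : Set G) := by
      by_contra hcon
      exact hg.2 ((hD _).2 hcon)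
    rw [hf0 g hg', zero_smul]
  have hc0 : c = 0 := by
    by_contra hne
    apply hv.not_tr (c⁻¹ • b)
    rw [smul_comm', ← hev, smul_smul, inv_mul_cancel₀ hne, one_smul]
  rw [← hθ₀, hc', hc0, zero_smul]

/-- Pairwise inequivalent irreducible representations from pairwise orthogonal idempotents. -/
theorem exists_reps_family [IsAlgClosed F] [Fintype G] (hP : Nat.card P = p)
    (hH : H ≤ Subgroup.normalizer (P : Set G)) (hdisj : ∀ x ∈ P, x ∈ H → x = 1)
    (hgen : ∀ n ∈ Subgroup.normalizer (P : Set G), ∃ h ∈ H, ∃ y ∈ P, h * y = n)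
    (hN : (Nat.card H : F) ≠ 0) {ι : Type*} (a : ι → H → F) (hcls : ∀ i, IsCls (a i))
    (hne : ∀ i, ∃ h, a i h ≠ 0) (hidem : ∀ i, em (a i) * em (a i) = em (a i))
    (hort : ∀ i j, i ≠ j → em (a i) * em (a j) = 0) :
    ∃ (n : ι → ℕ) (ρ : ∀ i, Representation F G (Fin (n i) → F)),
      (∀ i, (ρ i).IsIrreducible) ∧
      (∀ i j, i ≠ j → IsEmpty (Representation.Equiv (ρ i) (ρ j))) ∧
      ∀ i (f : G → F), (∀ g h : G, f (h * g * h⁻¹) = f g) →
        (∀ g ∈ Subgroup.centralizer (P : Set G), f g = 0) → ∑ g : G, f g • ρ i g = 0 := by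
  classical
  have hPF : (Nat.card P : F) = 0 := by rw [hP]; exact CharP.cast_eq_zero F p
  choose L hL w hw using fun i => exists_simple hH hdisj (hidem i) (hne i) hPF
  choose n ρ b hirr hb using fun i =>
    (have := hL i; Cfsg.Agent.Blocks.CyclicSimple.exists_rep (F := F) (G := G)
      (MonoidAlgebra F G ⧸ L i))
  refine ⟨n, ρ, hirr, ?_, ?_⟩
  · intro i j hij
    refine ⟨fun φ => ?_⟩
    let f : (MonoidAlgebra F G ⧸ L i) ≃ₗ[F] (MonoidAlgebra F G ⧸ L j) :=
      ((b i).trans φ.toLinearEquiv).trans (b j).symm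
    obtain ⟨E⟩ := Cfsg.Agent.Blocks.CyclicSimple.exists_linearEquiv (F := F) (G := G) f
      (fun g s => by
        apply (b j).injective
        rw [hb j]
        simp only [f, LinearEquiv.trans_apply, LinearEquiv.apply_symm_apply]
        rw [hb i]
        exact Representation.IntertwiningMap.isIntertwining _ _ φ.toIntertwiningMap g (b i s))
    have hE : Good (P : Subgroup G) (a i) (E (w i)) := (hw i).map E
    have := hL j
    exact false_of_good (p := p) hP hH hdisj hgen hN (hcls i) (hcls j)
      (hort j i fun h => hij h.symm) hE (hw j)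
  · intro i f hf hf0
    have := hL i
    refine LinearMap.ext fun v => ?_
    obtain ⟨s, rfl⟩ := (b i).surjective v
    rw [LinearMap.sum_apply, LinearMap.zero_apply]
    have h1 := cls_smul_eq_zero (p := p) hP (hw i) f hf hf0 s
    have h2 := congrArg (b i) h1
    rw [map_sum, map_zero] at h2
    rw [← h2]
    refine Finset.sum_congr rfl fun g _ => ?_
    rw [LinearMap.smul_apply, map_smul, hb]

end Cls

end Cfsg.Agent.SmallSimple.GoodIdem
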