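import Cfsg.Agent.SmallSimple.InvolPairs
import Cfsg.Agent.SmallSimple.DegreeData

/-!
# The pair identity for the principal block

`D : BlockData p M P e t`, `C(P) = P × K`.

* `outside`: characters outside the principal block have average `0` over `x K`;
* `pair_sum`: `∑ ε χ(a) χ(b) / χ(1) - d Θ(a) Θ(b) / Θ(1) = (1 / |K|) ∑_k structSum a b (x k)`;
* `pair_sum_inv`: `= p |C(a)| |C(b)| |I_a| |I_b| / (|G| |K|)` if the involution `w` inverts `x`
  and normalises `K`;
* `pair_sum_zero`: `= 0` if no conjugate of `a` inverts `x`.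
(file of helper241)
-/

set_option autoImplicit false
set_option linter.unusedSectionVars false

namespace Cfsg.Agent.SmallSimple.InvolPairsBlock

open Cfsg Subgroup
open Cfsg.Agent.SmallSimple.DegreeData Cfsg.Agent.SmallSimple.InvolPairs
open Cfsg.Agent.Characters.Core
open scoped ComplexConjugate

universe u
variable {G : Type u} [Group G]

section

variable [Finite G] {p : ℕ} [Fact p.Prime] {M : Ideal AlgInt} {P : Sylow p G} {e t : ℕ}

theorem not_dvd_orderOf {x : G} {K : Subgroup G} (h : CentData p x K) (k : K) :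
    ¬ p ∣ orderOf (k : G) := by
  intro hd
  have h1 := h.cop k k.2
  have h2 : p ∣ 1 := by
    have := Nat.dvd_gcd hd dvd_rfl
    rwa [Nat.Coprime.gcd_eq_one h1] at this
  exact (Fact.out : p.Prime).one_lt.ne' (Nat.dvd_one.1 h2)

theorem mem_centralizer (hP : Nat.card P = p) {x : G} (hx : x ∈ P) (hx1 : x ≠ 1)
    {K : Subgroup G} (h : CentData p x K) (k : K) : (k : G) ∈ centralizer (P : Set G) := by
  have h1 := Blocks.CyclicOrtho.centralizer_eq P hP hx hx1
  have h2 : (k : G) ∈ centralizer ({x} : Set G) := by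
    rw [mem_centralizer_singleton_iff]
    exact h.comm k k.2
  rw [h1] at h2
  exact h2

theorem sum_nonexc (D : BlockData p M P e t) (hP : Nat.card P = p) {x : G} (hx : x ∈ P)
    (hx1 : x ≠ 1) {K : Subgroup G} [Fintype K] (h : CentData p x K) {χ : IrrCharacter G}
    (hχ : χ ∈ D.one :: D.l) : ∑ k : K, conj ((χ : G → ℂ) (x * k)) = Nat.card K * D.ε χ := by
  rw [Finset.sum_congr rfl fun k _ => by
    rw [D.val χ hχ x hx hx1 k (mem_centralizer hP hx hx1 h k) (not_dvd_orderOf h k)]]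
  rw [Finset.sum_const, Finset.card_univ, nsmul_eq_mul, Nat.card_eq_fintype_card, map_intCast]

theorem sum_exc (D : BlockData p M P e t) (hP : Nat.card P = p) {x : G} (hx : x ∈ P)
    (hx1 : x ≠ 1) {K : Subgroup G} [Fintype K] (h : CentData p x K) {χ : IrrCharacter G}
    (hχ : χ ∈ D.X) : ∑ k : K, conj ((χ : G → ℂ) (x * k)) = Nat.card K * conj ((χ : G → ℂ) x) := by
  have hx1' : (⟨x, hx⟩ : P) ≠ 1 := fun h => hx1 (congrArg Subtype.val h)
  have h1 := D.val_X' hχ ⟨x, hx⟩ hx1'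
  have h2 : ∀ k : K, (χ : G → ℂ) (x * k) = (χ : G → ℂ) x := by
    intro k
    rw [h1]
    exact D.val_X χ hχ ⟨x, hx⟩ hx1' k (mem_centralizer hP hx hx1 h k) (not_dvd_orderOf h k)
  rw [Finset.sum_congr rfl fun k _ => by rw [h2 k]]
  rw [Finset.sum_const, Finset.card_univ, nsmul_eq_mul, Nat.card_eq_fintype_card]

/-- Characters outside the principal block have average `0` over `x K`. -/
theorem outside (D : BlockData p M P e t) (hM : IsPModular p M) (hP : Nat.card P = p)
    {x : G} (hx : x ∈ P) (hx1 : x ≠ 1) {K : Subgroup G} [Fintype K] (h : CentData p x K)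
    {χ : IrrCharacter G} (hχ : χ ∉ principalBlock M G) :
    ∑ k : K, conj ((χ : G → ℂ) (x * k)) = 0 := by
  classical
  have := finite_irr (G := G)
  have := Fintype.ofFinite (IrrCharacter G)
  have := Fintype.ofFinite G
  have hcol := sum_avg_norm h (fun _ => (1 : ℂ)) (fun _ _ _ _ => rfl)
  simp only [one_mul, map_one, mul_one, Finset.sum_const, Finset.card_univ, nsmul_eq_mul] at hcol
  rw [← Nat.card_eq_fintype_card (α := K)] at hcol
  have hgram := Blocks.CyclicOrtho.gram P hP hM hx hx1 hx hx1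
  rw [if_pos (IsConj.refl x)] at hgram
  set B : Finset (IrrCharacter G) := (D.one :: D.l).toFinset ∪ D.X with hBdef
  have hB : ∀ χ : IrrCharacter G, χ ∈ principalBlock M G ↔ χ ∈ B := by
    intro χ; rw [D.mem_block, hBdef, Finset.mem_union, List.mem_toFinset]
  have hgram' : ∑ χ ∈ B, (χ : G → ℂ) x * conj ((χ : G → ℂ) x) = p := by
    rw [← hgram, ← finsum_mem_coe_finset]
    refine finsum_mem_congr ?_ fun _ _ => rfl
    ext χ
    exact (hB χ).symm
  have hval : ∀ χ ∈ B, (∑ k : K, conj ((χ : G → ℂ) (x * k))) *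
      conj (∑ k : K, conj ((χ : G → ℂ) (x * k))) =
      (Nat.card K : ℂ) ^ 2 * ((χ : G → ℂ) x * conj ((χ : G → ℂ) x)) := by
    intro χ hχ
    rw [hBdef, Finset.mem_union, List.mem_toFinset] at hχ
    rcases hχ with hχ | hχ
    · rw [sum_nonexc D hP hx hx1 h hχ, D.val' hχ hx hx1]
      simp only [map_mul, map_natCast, map_intCast]
      ring
    · rw [sum_exc D hP hx hx1 h hχ]
      simp only [map_mul, map_natCast, Complex.conj_conj]
      ring
  rw [← Finset.sum_sdiff (Finset.subset_univ B), Finset.sum_congr rfl hval, ← Finset.mul_sum,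
    hgram'] at hcol
  have h0 : ∑ χ ∈ Finset.univ \ B, (∑ k : K, conj ((χ : G → ℂ) (x * k))) *
      conj (∑ k : K, conj ((χ : G → ℂ) (x * k))) = 0 := by
    have : ((p * Nat.card K : ℕ) : ℂ) * (Nat.card K : ℂ) = (Nat.card K : ℂ) ^ 2 * p := by
      push_cast; ring
    rw [this] at hcol
    exact add_eq_right.1 hcol
  have h0' : ∑ χ ∈ Finset.univ \ B, Complex.normSq (∑ k : K, conj ((χ : G → ℂ) (x * k))) = 0 := by
    have : ((∑ χ ∈ Finset.univ \ B,
        Complex.normSq (∑ k : K, conj ((χ : G → ℂ) (x * k))) : ℝ) : ℂ) = 0 := by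
      rw [← h0]
      push_cast
      refine Finset.sum_congr rfl fun χ _ => ?_
      rw [Complex.mul_conj]
    exact_mod_cast this
  have h11 := (Finset.sum_eq_zero_iff_of_nonneg (fun χ _ => Complex.normSq_nonneg _)).1 h0' χ
    (by rw [Finset.mem_sdiff]; exact ⟨Finset.mem_univ _, fun h => hχ ((hB χ).2 h)⟩)
  exact Complex.normSq_eq_zero.1 h11

/-- Any function of the characters, constant on the exceptional ones, against the averaged
column `x K`. -/
theorem sum_avg (D : BlockData p M P e t) (hM : IsPModular p M) (hP : Nat.card P = p)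
    {x : G} (hx : x ∈ P) (hx1 : x ≠ 1) {K : Subgroup G} [Fintype K] (h : CentData p x K)
    [Fintype (IrrCharacter G)] (F : IrrCharacter G → ℂ) {Θ : IrrCharacter G}
    (hF : ∀ Θ' ∈ D.X, F Θ' = F Θ) :
    ∑ χ : IrrCharacter G, F χ * ∑ k : K, conj ((χ : G → ℂ) (x * k)) =
      Nat.card K * ((D.one :: D.l).map (fun χ => D.ε χ * F χ)).sum +
        Nat.card K * (F Θ * ∑ χ ∈ D.X, conj ((χ : G → ℂ) x)) := by
  classical
  set B : Finset (IrrCharacter G) := (D.one :: D.l).toFinset ∪ D.X with hBdef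
  have hB : ∀ χ : IrrCharacter G, χ ∈ principalBlock M G ↔ χ ∈ B := by
    intro χ; rw [D.mem_block, hBdef, Finset.mem_union, List.mem_toFinset]
  have h1 : ∑ χ : IrrCharacter G, F χ * ∑ k : K, conj ((χ : G → ℂ) (x * k)) =
      ∑ χ ∈ B, F χ * ∑ k : K, conj ((χ : G → ℂ) (x * k)) := by
    refine (Finset.sum_subset (Finset.subset_univ _) fun χ _ hχ => ?_).symm
    rw [outside D hM hP hx hx1 h (fun hc => hχ ((hB χ).1 hc)), mul_zero]
  have hdisj : Disjoint (D.one :: D.l).toFinset D.X := by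
    rw [Finset.disjoint_left]
    intro χ hχ
    rw [List.mem_toFinset] at hχ
    exact D.notMem_X χ hχ
  rw [h1, hBdef, Finset.sum_union hdisj]
  congr 1
  · rw [← List.sum_toFinset _ D.nodup, Finset.mul_sum]
    refine Finset.sum_congr rfl fun χ hχ => ?_
    rw [List.mem_toFinset] at hχ
    rw [sum_nonexc D hP hx hx1 h hχ]; ring
  · rw [Finset.mul_sum, Finset.mul_sum]
    refine Finset.sum_congr rfl fun χ hχ => ?_
    rw [sum_exc D hP hx hx1 h hχ, hF χ hχ]; ring

theorem not_dvd_one : ¬ p ∣ orderOf (1 : G) := by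
  rw [orderOf_one]; exact fun h => (Fact.out : p.Prime).one_lt.ne' (Nat.dvd_one.1 h)

theorem X_eq (D : BlockData p M P e t) {Θ Θ' : IrrCharacter G} (hΘ : Θ ∈ D.X) (hΘ' : Θ' ∈ D.X)
    {g : G} (hg : ¬ p ∣ orderOf g) : (Θ' : G → ℂ) g = (Θ : G → ℂ) g := by
  have h1 := (D.rel Θ' hΘ' g hg).symm.trans (D.rel Θ hΘ g hg)
  have hd : (D.d : ℂ) ≠ 0 := by
    rcases D.d_mem with h | h <;> rw [h] <;> norm_num
  exact mul_left_cancel₀ hd h1

theorem rel_cons (D : BlockData p M P e t) {Θ : IrrCharacter G} (hΘ : Θ ∈ D.X)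
    {g : G} (hg : ¬ p ∣ orderOf g) :
    ((D.one :: D.l).map (fun χ => (D.ε χ : ℂ) * (χ : G → ℂ) g)).sum = D.d * (Θ : G → ℂ) g := by
  rw [← D.rel Θ hΘ g hg, List.map_cons, List.sum_cons, D.ε_one, D.coe_one]
  simp

/-- The exceptional characters sum to `-d` at `x`. -/
theorem sum_X (D : BlockData p M P e t) (hM : IsPModular p M) (hP : Nat.card P = p)
    {x : G} (hx : x ∈ P) (hx1 : x ≠ 1) {K : Subgroup G} (h : CentData p x K)
    {Θ : IrrCharacter G} (hΘ : Θ ∈ D.X) :
    ∑ χ ∈ D.X, conj ((χ : G → ℂ) x) = -D.d := by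
  classical
  have := finite_irr (G := G)
  have := Fintype.ofFinite (IrrCharacter G)
  have := Fintype.ofFinite K
  have h1 := sum_avg D hM hP hx hx1 h (fun χ => (χ : G → ℂ) 1) (Θ := Θ)
    (fun Θ' hΘ' => X_eq D hΘ hΘ' not_dvd_one)
  have h2 : ∑ χ : IrrCharacter G, (χ : G → ℂ) 1 * ∑ k : K, conj ((χ : G → ℂ) (x * k)) = 0 := by
    simp_rw [Finset.mul_sum]
    rw [Finset.sum_comm]
    refine Finset.sum_eq_zero fun k _ => ?_
    have h3 : ¬ IsConj (1 : G) (x * k) := by
      intro h4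
      have h5 := isConj_one_right.1 h4
      have h6 : x ∈ K := by
        rw [eq_inv_of_mul_eq_one_left h5]; exact K.inv_mem k.2
      have h7 : x ^ (1 : ℤ) = 1 := h.eq_one (by rw [zpow_one]; exact h6)
      rw [zpow_one] at h7
      exact hx1 h7
    have h4 := (Cfsg.Agent.S0145.result (1 : G) (x * k)).2 h3
    rwa [finsum_eq_sum_of_fintype] at h4
  have h3 := rel_cons D hΘ (g := 1) not_dvd_one
  rw [h2, h3] at h1
  have hK : (Nat.card K : ℂ) ≠ 0 := by exact_mod_cast Nat.card_pos.ne'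
  have h5 : (Θ : G → ℂ) 1 ≠ 0 := Cfsg.Agent.Blocks.Basic.irr_one_ne_zero Θ.2
  have h6 : (Nat.card K : ℂ) * (Θ : G → ℂ) 1 * (D.d + ∑ χ ∈ D.X, conj ((χ : G → ℂ) x)) = 0 := by
    rw [h1]; ring
  exact eq_neg_of_add_eq_zero_right ((mul_eq_zero.1 h6).resolve_left (mul_ne_zero hK h5))

/-- **The pair identity for the principal block.** -/
theorem pair_sum (D : BlockData p M P e t) (hM : IsPModular p M) (hP : Nat.card P = p)
    {x : G} (hx : x ∈ P) (hx1 : x ≠ 1) {K : Subgroup G} [Fintype K] (h : CentData p x K)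
    [Fintype (IrrCharacter G)] {Θ : IrrCharacter G} (hΘ : Θ ∈ D.X) {a b : G}
    (ha : ¬ p ∣ orderOf a) (hb : ¬ p ∣ orderOf b) :
    Nat.card K * (((D.one :: D.l).map (fun χ => (D.ε χ : ℂ) *
      ((χ : G → ℂ) a * (χ : G → ℂ) b / (χ : G → ℂ) 1))).sum -
        D.d * ((Θ : G → ℂ) a * (Θ : G → ℂ) b / (Θ : G → ℂ) 1)) =
      ∑ k : K, structSum a b (x * k) := by
  have h1 := sum_avg D hM hP hx hx1 h
    (fun χ => (χ : G → ℂ) a * (χ : G → ℂ) b / (χ : G → ℂ) 1) (Θ := Θ)
    (fun Θ' hΘ' => by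
      rw [X_eq D hΘ hΘ' ha, X_eq D hΘ hΘ' hb, X_eq D hΘ hΘ' not_dvd_one])
  have h2 := sum_structSum (y := x) (K := K) a b (fun _ => (1 : ℂ))
  simp only [one_mul] at h2
  rw [h2, h1, sum_X D hM hP hx hx1 h hΘ]
  ring

/-- With an inverting involution. -/
theorem pair_sum_inv [Fintype G] (D : BlockData p M P e t) (hM : IsPModular p M)
    (hP : Nat.card P = p) {x : G} (hx : x ∈ P) (hx1 : x ≠ 1) {K : Subgroup G}
    (h : CentData p x K) {w : G} (hw : InvData x K w) {Θ : IrrCharacter G} (hΘ : Θ ∈ D.X) {a b : G}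
    (ha : a * a = 1) (hb : b * b = 1) (hap : ¬ p ∣ orderOf a) (hbp : ¬ p ∣ orderOf b) :
    ((D.one :: D.l).map (fun χ => (D.ε χ : ℂ) *
      ((χ : G → ℂ) a * (χ : G → ℂ) b / (χ : G → ℂ) 1))).sum -
        D.d * ((Θ : G → ℂ) a * (Θ : G → ℂ) b / (Θ : G → ℂ) 1) =
      (p * Nat.card (centralizer ({a} : Set G)) * Nat.card (centralizer ({b} : Set G)) *
        (invSet K w a).card * (invSet K w b).card : ℕ) / (Nat.card G * Nat.card K : ℕ) := by
  classical
  have := finite_irr (G := G)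
  have := Fintype.ofFinite (IrrCharacter G)
  have := Fintype.ofFinite K
  have h1 := pair_sum D hM hP hx hx1 h hΘ hap hbp
  have h2 := sum_pairs h hw ha hb (fun _ => (1 : ℂ))
  simp only [one_mul, Finset.sum_const, nsmul_eq_mul, mul_one] at h2
  rw [h2] at h1
  have hK : (Nat.card K : ℂ) ≠ 0 := by exact_mod_cast Nat.card_pos.ne'
  have hG : (Nat.card G : ℂ) ≠ 0 := by exact_mod_cast Nat.card_pos.ne'
  push_cast
  field_simp
  field_simp at h1
  linear_combination h1

/-- Without conjugates of `a` inverting `x`. -/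
theorem pair_sum_zero (D : BlockData p M P e t) (hM : IsPModular p M)
    (hP : Nat.card P = p) {x : G} (hx : x ∈ P) (hx1 : x ≠ 1) {K : Subgroup G}
    (h : CentData p x K) {Θ : IrrCharacter G} (hΘ : Θ ∈ D.X) {a b : G}
    (ha : a * a = 1) (hb : b * b = 1) (hap : ¬ p ∣ orderOf a) (hbp : ¬ p ∣ orderOf b)
    (hno : ∀ c, IsConj a c → c * x * c⁻¹ ≠ x⁻¹) :
    ((D.one :: D.l).map (fun χ => (D.ε χ : ℂ) *
      ((χ : G → ℂ) a * (χ : G → ℂ) b / (χ : G → ℂ) 1))).sum =
        D.d * ((Θ : G → ℂ) a * (Θ : G → ℂ) b / (Θ : G → ℂ) 1) := by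
  classical
  have := finite_irr (G := G)
  have := Fintype.ofFinite (IrrCharacter G)
  have := Fintype.ofFinite K
  have h1 := pair_sum D hM hP hx hx1 h hΘ hap hbp
  rw [Finset.sum_eq_zero fun k _ => structSum_eq_zero h ha hb hno k.2] at h1
  have hK : (Nat.card K : ℂ) ≠ 0 := by exact_mod_cast Nat.card_pos.ne'
  exact sub_eq_zero.1 ((mul_eq_zero.1 h1).resolve_left hK)

end

end Cfsg.Agent.SmallSimple.InvolPairsBlock
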