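import Cfsg.Agent.SmallSimple.Order5040
set_option autoImplicit false
namespace Cfsg.Agent.SmallSimple.Order5040B

open Subgroup MulAction
open Cfsg.Agent.SmallSimple.SylowPrime Cfsg.Agent.SmallSimple.SylowPrimeCount
open Cfsg.Agent.SmallSimple.FixCount Cfsg.Agent.SmallSimple.PrimeSylowAut
open Cfsg.Agent.SmallSimple.Order5040

variable {G : Type*} [Group G] [Finite G] [IsSimpleGroup G]

theorem n7_eq (hG : Nat.card G = 5040) : Nat.card (Sylow 7 G) = 120 := by
  rcases n7_mem hG with h | h | h | h
  · exact absurd h (n7_ne_8 hG)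
  · exact absurd h (n7_ne_15 hG)
  · exact absurd h (n7_ne_36 hG)
  · exact h

theorem card_normalizer7 (hG : Nat.card G = 5040) (P : Sylow 7 G) :
    Nat.card (normalizer (P : Set G)) = 42 := by
  have := fact7
  have := card_normalizer_mul P (n7_eq hG) hG
  omega

/-- No element of order 5 commutes with an element of order 7. -/
theorem not_comm_5_7 (hG : Nat.card G = 5040) {u v : G} (hu : orderOf u = 5)
    (hv : orderOf v = 7) : u * v ≠ v * u := by
  have := fact7
  intro huv
  obtain ⟨Q, hQ⟩ := exists_sylow_eq_zpowers (card_sylow7 hG) hv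
  have hv1 : v ≠ 1 := by rintro rfl; rw [orderOf_one] at hv; norm_num at hv
  have h1 : u ∈ centralizer ((Q : Subgroup G) : Set G) :=
    mem_centralizer_of_commute (by norm_num) (card_sylow7 hG Q) (by
      rw [hQ]; exact mem_zpowers v) hv1 huv
  have h2 := centralizer_le_normalizer' (Q : Subgroup G) h1
  have h3 : orderOf u ∣ Nat.card (normalizer (Q : Set G)) := by
    rw [← Subgroup.orderOf_mk u h2]; exact orderOf_dvd_natCard _
  rw [hu, card_normalizer7 hG Q] at h3
  norm_num at h3

/-- `7` does not divide the order of the centralizer of a Sylow 5-subgroup -/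
theorem not_seven_dvd_centralizer5 (hG : Nat.card G = 5040) (P : Sylow 5 G) :
    ¬ 7 ∣ Nat.card (centralizer (P : Set G)) := by
  have := fact7
  have := fact5
  intro h
  obtain ⟨⟨v, hvC⟩, hv⟩ := exists_prime_orderOf_dvd_card' 7 h
  rw [Subgroup.orderOf_mk] at hv
  have h5 : 5 ∣ Nat.card P := by rw [card_sylow5 hG P]
  obtain ⟨⟨u, huP⟩, hu⟩ := exists_prime_orderOf_dvd_card' 5 h5
  rw [Subgroup.orderOf_mk] at hu
  exact not_comm_5_7 hG hu hv (mem_centralizer_iff.1 hvC u huP)

theorem n5_ne_36 (hG : Nat.card G = 5040) : Nat.card (Sylow 5 G) ≠ 36 := by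
  have := fact5
  intro hn
  let P : Sylow 5 G := default
  have hN := card_normalizer_mul P hn hG
  obtain ⟨e, he1, he2, he3⟩ := automizer (by rw [hG]; norm_num) P (card_sylow5 hG P)
  have he4 : e ≤ 4 := Nat.le_of_dvd (by norm_num) he1
  have h7 := not_seven_dvd_centralizer5 hG P
  rw [he3] at hN
  norm_num at he1
  interval_cases e <;> omega

theorem n5_ne_16 (hG : Nat.card G = 5040) : Nat.card (Sylow 5 G) ≠ 16 := by
  have := fact5
  intro hn
  let P : Sylow 5 G := default
  have hN := card_normalizer_mul P hn hG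
  obtain ⟨e, he1, he2, he3⟩ := automizer (by rw [hG]; norm_num) P (card_sylow5 hG P)
  have he4 : e ≤ 4 := Nat.le_of_dvd (by norm_num) he1
  rw [he3] at hN
  norm_num at he1
  interval_cases e <;> omega

theorem n5_ne_336 (hG : Nat.card G = 5040) : Nat.card (Sylow 5 G) ≠ 336 := by
  have := fact5
  intro hn
  let P : Sylow 5 G := default
  have hN := card_normalizer_mul P hn hG
  obtain ⟨e, he1, he2, he3⟩ := automizer (by rw [hG]; norm_num) P (card_sylow5 hG P)
  have he4 : e ≤ 4 := Nat.le_of_dvd (by norm_num) he1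
  rw [he3] at hN
  norm_num at he1
  interval_cases e <;> omega

theorem n5_ne_6 (hG : Nat.card G = 5040) : Nat.card (Sylow 5 G) ≠ 6 := by
  have := fact5
  intro hn
  have h := SylowCount.card_dvd_factorial_card_sylow (G := G) (p := 5) (by rw [hG]; norm_num)
    (by rw [hG]; norm_num)
  rw [hn, hG] at h
  revert h
  decide

omit [Finite G] [IsSimpleGroup G] in
/-- A Sylow subgroup contained in the normalizer of another one is equal to it. -/
theorem sylow_eq_of_le_normalizer {p : ℕ} [Fact p.Prime] (P Q : Sylow p G)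
    (h : (P : Subgroup G) ≤ normalizer (Q : Set G)) : P = Q := by
  have h1 : (P : Subgroup G) ⊓ normalizer (Q : Set G) = (P : Subgroup G) ⊓ (Q : Subgroup G) :=
    IsPGroup.inf_normalizer_sylow P.2 Q
  have h2 : (P : Subgroup G) ≤ Q := by
    intro x hx
    have h3 : x ∈ (P : Subgroup G) ⊓ normalizer (Q : Set G) := ⟨hx, h hx⟩
    rw [h1] at h3
    exact h3.2
  exact Sylow.ext (P.3 Q.2 h2).symm

theorem n5_ne_56 (hG : Nat.card G = 5040) : Nat.card (Sylow 5 G) ≠ 56 := by
  have := fact5
  have := fact3
  intro hn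
  let P : Sylow 5 G := default
  have hN := card_normalizer_mul P hn hG
  obtain ⟨e, he1, he2, he3⟩ := automizer (by rw [hG]; norm_num) P (card_sylow5 hG P)
  have he4 : e ≤ 4 := Nat.le_of_dvd (by norm_num) he1
  have hC : Nat.card (centralizer (P : Set G)) = 45 := by
    rw [he3] at hN
    norm_num at he1
    interval_cases e <;> omega
  -- a Sylow 3-subgroup centralizing `P`
  obtain ⟨Q0⟩ : Nonempty (Sylow 3 (centralizer (P : Set G))) := inferInstance
  have hQ0 : Nat.card Q0 = 9 :=
    SylowPrimeInvol.card_sylow_of_card_eq Q0 (k := 2) (m := 5) (by rw [hC]; norm_num) (by norm_num)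
  have hQ0p : IsPGroup 3 ((Q0 : Subgroup (centralizer (P : Set G))).map
      (centralizer (P : Set G)).subtype) := Q0.2.map _
  obtain ⟨Q, hQ⟩ := hQ0p.exists_le_sylow
  have hQeq : (Q : Subgroup G) = (Q0 : Subgroup (centralizer (P : Set G))).map
      (centralizer (P : Set G)).subtype := by
    symm
    apply Subgroup.eq_of_le_of_card_ge hQ
    have h1 : Nat.card ((Q0 : Subgroup (centralizer (P : Set G))).map
      (centralizer (P : Set G)).subtype) = 9 := by
      rw [← hQ0]
      exact Nat.card_congr ((Q0 : Subgroup (centralizer (P : Set G))).equivMapOfInjective _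
        (Subgroup.subtype_injective _)).symm.toEquiv
    rw [h1]
    exact (card_sylow3 hG Q).le
  have hQC : (Q : Subgroup G) ≤ centralizer (P : Set G) := by
    rw [hQeq]
    rintro _ ⟨x, _, rfl⟩
    exact x.2
  have hPC : (P : Subgroup G) ≤ centralizer ((Q : Subgroup G) : Set G) := by
    intro x hx
    rw [mem_centralizer_iff]
    intro y hy
    exact (mem_centralizer_iff.1 (hQC hy) x hx).symm
  -- `C(P) ≤ N(Q)`
  have hCN : centralizer (P : Set G) ≤ normalizer (Q : Set G) := by
    set D := centralizer (P : Set G) ⊓ normalizer (Q : Set G) with hD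
    have h9 : 9 ∣ Nat.card D := by
      have h1 : (Q : Subgroup G) ≤ D := le_inf hQC le_normalizer
      have h2 := card_dvd_of_le h1
      rwa [card_sylow3 hG Q] at h2
    have h5 : 5 ∣ Nat.card D := by
      have h1 : (P : Subgroup G) ≤ D := by
        refine le_inf ?_ (hPC.trans (centralizer_le_normalizer' _))
        intro x hx
        rw [mem_centralizer_iff]
        intro y hy
        have hcyc : IsCyclic P := isCyclic_of_prime_card (card_sylow5 hG P)
        exact congrArg Subtype.val (hcyc.isMulCommutative.is_comm.comm (⟨y, hy⟩ : P) ⟨x, hx⟩)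
      have h2 := card_dvd_of_le h1
      rwa [card_sylow5 hG P] at h2
    have h45 : 45 ∣ Nat.card D := by
      have : Nat.Coprime 9 5 := by norm_num
      exact this.mul_dvd_of_dvd_of_dvd h9 h5
    have h1 : D = centralizer (P : Set G) := by
      apply Subgroup.eq_of_le_of_card_ge inf_le_left
      rw [hC]
      exact Nat.le_of_dvd Nat.card_pos h45
    rw [← h1]
    exact inf_le_right
  -- `N(P) ≤ N(Q)`
  have hNN : normalizer (P : Set G) ≤ normalizer (Q : Set G) := by
    intro x hx
    rw [← Sylow.smul_eq_iff_mem_normalizer]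
    apply sylow_eq_of_le_normalizer
    refine le_trans ?_ hCN
    intro y hy
    have h1 : x⁻¹ * y * x ∈ (Q : Subgroup G) := by
      obtain ⟨w, hw, hwy⟩ := hy
      have h3 : x * w * x⁻¹ = y := hwy
      have h4 : x⁻¹ * y * x = w := by rw [← h3]; group
      rw [h4]; exact hw
    have h4 := hQC h1
    rw [mem_centralizer_iff] at h4 ⊢
    intro w hw
    have h5 := h4 (x⁻¹ * w * x) (by
      have h9 := (mem_normalizer_iff.1 (inv_mem hx) w).1 hw
      rw [inv_inv] at h9
      exact h9)
    have h6 : x * (x⁻¹ * w * x * (x⁻¹ * y * x)) * x⁻¹ = x * (x⁻¹ * y * x * (x⁻¹ * w * x)) * x⁻¹ := by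
      rw [h5]
    have h7 : x * (x⁻¹ * w * x * (x⁻¹ * y * x)) * x⁻¹ = w * y := by group
    have h8 : x * (x⁻¹ * y * x * (x⁻¹ * w * x)) * x⁻¹ = y * w := by group
    rw [h7, h8] at h6
    exact h6
  obtain ⟨n, hn1, hn2⟩ := card_eq_mul_modEq_one P (normalizer (Q : Set G))
    (le_normalizer.trans hNN)
  have h1 : normalizer (Q : Set G) ⊓ normalizer (P : Set G) = normalizer (P : Set G) :=
    inf_eq_right.2 hNN
  rw [h1, he3, hC] at hn2
  have h2 := SylowPrimeInvol.card_normalizer_mul Q
  have he : e = 2 := by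
    rw [he3, hC] at hN
    omega
  have h3 := card_sylow_modEq_one 3 G
  have h4 : Nat.card (Sylow 3 G) ≠ 1 :=
    SylowPrimeInvol.card_sylow_ne_one (G := G) (p := 3) (k := 2) (m := 560) (by rw [hG]; norm_num)
    (by norm_num) (by norm_num) (by norm_num)
  rw [hn2, hG, he] at h2
  have h5 : n * Nat.card (Sylow 3 G) = 56 := by
    have : 45 * 2 * n * Nat.card (Sylow 3 G) = 90 * (n * Nat.card (Sylow 3 G)) := by ring
    omega
  generalize Nat.card (Sylow 3 G) = m at *
  unfold Nat.ModEq at hn1 h3
  have h6 : n ∣ 56 := ⟨m, h5.symm⟩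
  have h7 : n ≤ 56 := Nat.le_of_dvd (by norm_num) h6
  interval_cases n <;> omega

end Cfsg.Agent.SmallSimple.Order5040B
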