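import Cfsg.Agent.SmallSimple.Order5040B
set_option autoImplicit false
namespace Cfsg.Agent.SmallSimple.Order5040D

open Subgroup MulAction
open Cfsg.Agent.SmallSimple.SylowPrime Cfsg.Agent.SmallSimple.SylowPrimeCount
open Cfsg.Agent.SmallSimple.FixCount Cfsg.Agent.SmallSimple.PrimeSylowAut
open Cfsg.Agent.SmallSimple.Order5040 Cfsg.Agent.SmallSimple.Order5040B

variable {G : Type*} [Group G] [Finite G] [IsSimpleGroup G]

/-- The element `w` of order divisible by 6 in `N(P)`. -/
theorem exists_six_dvd_orderOf (hG : Nat.card G = 5040) (P : Sylow 7 G)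
    (hC : Nat.card (centralizer (P : Set G)) = 7) :
    ∃ w ∈ normalizer (P : Set G), 6 ∣ orderOf w := by
  have := fact7
  obtain ⟨w, hw, hgen⟩ := exists_generator_mod_centralizer (p := 7) (by norm_num)
    (card_sylow7 hG P) (normalizer (P : Set G)) le_rfl
  refine ⟨w, hw, ?_⟩
  set N := normalizer (P : Set G) with hNdef
  set C := (centralizer (P : Set G)).subgroupOf N with hCdef
  have hnorm : C.Normal := inferInstance
  have hidx : C.index = 6 := by
    have h3 := card_mul_index C
    have h4 : Nat.card C = 7 := by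
      rw [← hC]
      exact Nat.card_congr
        (subgroupOfEquivOfLe (centralizer_le_normalizer' (P : Subgroup G))).toEquiv
    have h5 : Nat.card N = 42 := card_normalizer7 hG P
    rw [h4, h5] at h3
    omega
  have h1 : ∀ x : N ⧸ C, x ∈ zpowers (QuotientGroup.mk (⟨w, hw⟩ : N) : N ⧸ C) := by
    intro x
    obtain ⟨x, rfl⟩ := QuotientGroup.mk_surjective x
    obtain ⟨n, hn⟩ := hgen x.1 x.2
    rw [mem_zpowers_iff]
    refine ⟨-(n : ℤ), ?_⟩
    have h2 : x * (⟨w, hw⟩ : N) ^ n ∈ C := hn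
    have h3 : (QuotientGroup.mk (x * (⟨w, hw⟩ : N) ^ n) : N ⧸ C) = 1 :=
      (QuotientGroup.eq_one_iff _).2 h2
    rw [QuotientGroup.mk_mul, QuotientGroup.mk_pow] at h3
    rw [zpow_neg, zpow_natCast]
    exact (eq_inv_of_mul_eq_one_left h3).symm
  have h2 : orderOf (QuotientGroup.mk (⟨w, hw⟩ : N) : N ⧸ C) = 6 := by
    rw [← Nat.card_zpowers]
    have h3 : zpowers (QuotientGroup.mk (⟨w, hw⟩ : N) : N ⧸ C) = ⊤ := by
      rw [eq_top_iff]; intro x _; exact h1 x
    rw [h3, card_top]
    exact hidx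
  have h3 : orderOf (QuotientGroup.mk' C (⟨w, hw⟩ : N)) ∣ orderOf (⟨w, hw⟩ : N) :=
    orderOf_map_dvd _ _
  rw [Subgroup.orderOf_mk] at h3
  have h4 : orderOf (QuotientGroup.mk' C (⟨w, hw⟩ : N)) = 6 := h2
  rw [h4] at h3
  exact h3

/-- The involution `t` and the element `y` of order 3 of `N(P)`. -/
theorem exists_t_y (hG : Nat.card G = 5040) (P : Sylow 7 G)
    (hC : Nat.card (centralizer (P : Set G)) = 7) :
    ∃ t y : G, t ∈ normalizer (P : Set G) ∧ t ∉ centralizer (P : Set G) ∧ t ^ 2 = 1 ∧ t ≠ 1 ∧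
      orderOf y = 3 ∧ y * t = t * y ∧ ¬ 5 ∣ Nat.card (centralizer {t}) := by
  have := fact7
  have := fact5
  obtain ⟨w, hw, h6⟩ := exists_six_dvd_orderOf hG P hC
  have hw0 : orderOf w ≠ 0 := (orderOf_pos w).ne'
  have ht : orderOf (w ^ (orderOf w / 2)) = 2 :=
    orderOf_pow_orderOf_div hw0 (Dvd.dvd.trans (by norm_num) h6)
  have hy : orderOf (w ^ (orderOf w / 3)) = 3 :=
    orderOf_pow_orderOf_div hw0 (Dvd.dvd.trans (by norm_num) h6)
  set t := w ^ (orderOf w / 2) with htdef
  have ht2 : t ^ 2 = 1 := by rw [← ht]; exact pow_orderOf_eq_one t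
  have ht1 : t ≠ 1 := by intro h; rw [h, orderOf_one] at ht; norm_num at ht
  have htN : t ∈ normalizer (P : Set G) := pow_mem hw _
  have htC : t ∉ centralizer (P : Set G) := by
    intro h
    have h1 := orderOf_dvd_natCard (⟨t, h⟩ : centralizer (P : Set G))
    rw [Subgroup.orderOf_mk, ht, hC] at h1
    norm_num at h1
  refine ⟨t, w ^ (orderOf w / 3), htN, htC, ht2, ht1, hy, ?_, ?_⟩
  · exact (Commute.refl w).pow_pow _ _
  · intro h5
    have h1 := mul_card_fixedBy_le P (card_sylow7 hG P) htN htC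
    obtain ⟨k, h2⟩ := parity hG (X := Sylow 7 G) (t := t) ht2
    have h3 := card_fixedBy_sylow P t
    have h4 : P ∈ fixedBy (Sylow 7 G) t := Sylow.smul_eq_iff_mem_normalizer.2 htN
    have h5' : 0 < Nat.card (fixedBy (Sylow 7 G) t) := by
      have : Nonempty (fixedBy (Sylow 7 G) t) := ⟨⟨P, h4⟩⟩
      exact Nat.card_pos
    have h6 : 5 ∣ Nat.card (fixedBy (Sylow 7 G) t) * 42 := by
      rw [← card_normalizer7 hG P, h3]
      exact Dvd.dvd.mul_left h5 _
    have h7 : 5 ∣ Nat.card (fixedBy (Sylow 7 G) t) := by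
      rcases (Nat.Prime.dvd_mul (by norm_num)).1 h6 with h | h
      · exact h
      · norm_num at h
    rw [n7_eq hG] at h1 h2
    omega

theorem aux_240 (hG : Nat.card G = 5040)
    (h7 : ∀ P : Sylow 7 G, Nat.card (centralizer (P : Set G)) = 7)
    (P : Sylow 5 G) (h5 : Nat.card (normalizer (P : Set G)) = 40) {z : G}
    (hz : normalizer (P : Set G) ≤ centralizer {z})
    (hcz : Nat.card (centralizer {z}) = 240) : False := by
  have := fact7
  have := fact5
  have := fact3
  have := fact2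
  set H := centralizer {z} with hH
  have hidx : Nat.card (G ⧸ H) = 21 := by
    have h1 := H.card_mul_index
    rw [hcz, hG] at h1
    have h2 : H.index = Nat.card (G ⧸ H) := rfl
    omega
  obtain ⟨P7⟩ : Nonempty (Sylow 7 G) := inferInstance
  obtain ⟨t, y, htN, htC, ht2, ht1, hy, hyt, h5t⟩ := exists_t_y hG P7 (h7 P7)
  -- elements of order 7 have no fixed points
  have hfree : ∀ x : G ⧸ H, ∀ p ∈ (P7 : Subgroup G), p • x = x → p = 1 := by
    intro x p hp hpx
    obtain ⟨g, rfl⟩ := QuotientGroup.mk_surjective x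
    have h1 : g⁻¹ * p * g ∈ H := (mk_mem_fixedBy_iff H p g).1 hpx
    by_contra hp1
    have h2 : orderOf p = 7 := by
      have h8 := card_sylow7 hG P7
      have h9 := orderOf_dvd_natCard (⟨p, hp⟩ : (P7 : Subgroup G))
      rw [Subgroup.orderOf_mk] at h9
      have h10 := h9.trans (dvd_of_eq h8)
      rcases (Nat.dvd_prime (by norm_num)).1 h10 with h | h
      · exact absurd (orderOf_eq_one_iff.1 h) hp1
      · exact h
    have h3 : orderOf (g⁻¹ * p * g) = 7 := by
      rw [← h2]
      have := orderOf_injective (MulAut.conj g⁻¹).toMonoidHom (MulAut.conj g⁻¹).injective p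
      simpa using this
    have h4 : orderOf (g⁻¹ * p * g) ∣ Nat.card H := by
      rw [← Subgroup.orderOf_mk _ h1]; exact orderOf_dvd_natCard _
    rw [h3, hcz] at h4
    norm_num at h4
  have hfix : Nat.card (fixedBy (G ⧸ H) t) = 1 := by
    have h1 := Parity.card_mul_card_fixed_le (X := G ⧸ H) (P7 : Subgroup G) t
      (fun p hp => (mem_normalizer_iff.1 htN p).1 hp) (by
        intro p hp hc
        by_contra hp1
        exact htC (mem_centralizer_of_commute (by norm_num) (card_sylow7 hG P7) hp hp1 hc))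
    have h2 : Nat.card {x : G ⧸ H // ∀ p ∈ (P7 : Subgroup G), p • x = x → p = 1} = 21 := by
      rw [← hidx]
      exact Nat.card_congr (Equiv.subtypeUnivEquiv hfree)
    have h3 : Nat.card {x : G ⧸ H // t • x = x ∧ ∀ p ∈ (P7 : Subgroup G), p • x = x → p = 1} =
        Nat.card (fixedBy (G ⧸ H) t) := by
      refine Nat.card_congr (Equiv.subtypeEquivRight fun x => ?_)
      exact ⟨fun h => h.1, fun h => ⟨h, hfree x⟩⟩
    have h4 : Nat.card (P7 : Subgroup G) = 7 := card_sylow7 hG P7
    rw [h2, h3, h4] at h1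
    obtain ⟨k, h5⟩ := parity hG (X := G ⧸ H) (t := t) ht2
    rw [hidx] at h5
    omega
  -- the unique fixed coset
  obtain ⟨hss, ⟨x0, hx0⟩⟩ := Nat.card_eq_one_iff_unique.1 hfix
  obtain ⟨a, rfl⟩ := QuotientGroup.mk_surjective x0
  have ha : a⁻¹ * t * a ∈ H := (mk_mem_fixedBy_iff H t a).1 hx0
  have huniq : ∀ g : G, g⁻¹ * (a⁻¹ * t * a) * g ∈ H → g ∈ H := by
    intro g hg
    have h1 : (QuotientGroup.mk (a * g) : G ⧸ H) ∈ fixedBy (G ⧸ H) t := by
      rw [mk_mem_fixedBy_iff]
      have h2 : (a * g)⁻¹ * t * (a * g) = g⁻¹ * (a⁻¹ * t * a) * g := by group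
      rw [h2]; exact hg
    have h2 := congrArg Subtype.val (hss.elim ⟨_, h1⟩ ⟨_, hx0⟩)
    have h3 : (QuotientGroup.mk (a * g) : G ⧸ H) = QuotientGroup.mk a := h2
    rw [eq_comm, QuotientGroup.eq] at h3
    simpa using h3
  set t₁ := a⁻¹ * t * a with ht₁
  set y₁ := a⁻¹ * y * a with hy₁
  have ht₁2 : t₁ ^ 2 = 1 := by
    have : t₁ ^ 2 = a⁻¹ * t ^ 2 * a := by rw [ht₁, pow_two, pow_two]; group
    rw [this, ht2]; group
  have hyt₁ : y₁ * t₁ = t₁ * y₁ := by
    calc y₁ * t₁ = a⁻¹ * (y * t) * a := by rw [ht₁, hy₁]; group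
      _ = a⁻¹ * (t * y) * a := by rw [hyt]
      _ = t₁ * y₁ := by rw [ht₁, hy₁]; group
  have hy₁H : y₁ ∈ H := by
    apply huniq
    have : y₁⁻¹ * t₁ * y₁ = t₁ := by
      rw [mul_assoc, ← hyt₁, inv_mul_cancel_left]
    rw [this]; exact ha
  have hy₁o : orderOf y₁ = 3 := by
    rw [← hy]
    have := orderOf_injective (MulAut.conj a⁻¹).toMonoidHom (MulAut.conj a⁻¹).injective y
    simpa [hy₁] using this
  have h5t₁ : ¬ 5 ∣ Nat.card (centralizer {t₁}) := by
    intro h
    obtain ⟨⟨x, hxC⟩, hx⟩ := exists_prime_orderOf_dvd_card' 5 h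
    rw [Subgroup.orderOf_mk] at hx
    apply h5t
    rw [mem_centralizer_singleton_iff] at hxC
    have h1 : a * x * a⁻¹ ∈ centralizer {t} := by
      rw [mem_centralizer_singleton_iff]
      calc a * x * a⁻¹ * t = a * (x * t₁) * a⁻¹ := by rw [ht₁]; group
        _ = a * (t₁ * x) * a⁻¹ := by rw [hxC]
        _ = t * (a * x * a⁻¹) := by rw [ht₁]; group
    have h2 : orderOf (a * x * a⁻¹) = 5 := by
      rw [← hx]
      have := orderOf_injective (MulAut.conj a).toMonoidHom (MulAut.conj a).injective x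
      simpa using this
    rw [← h2, ← Subgroup.orderOf_mk _ h1]
    exact orderOf_dvd_natCard _
  have hPH : (P : Subgroup G) ≤ H := le_normalizer.trans hz
  set L := (normalizer (P : Set G)).subgroupOf H with hL
  have hLcard : Nat.card L = 40 := by
    rw [← h5]
    exact Nat.card_congr (subgroupOfEquivOfLe hz).toEquiv
  have hYcard : Nat.card (H ⧸ L) = 6 := by
    have h1 := L.card_mul_index
    rw [hcz, hLcard] at h1
    have h2 : L.index = Nat.card (H ⧸ L) := rfl
    omega
  set tH : H := ⟨t₁, ha⟩ with htH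
  set yH : H := ⟨y₁, hy₁H⟩ with hyH
  have hyF : ∀ x : H ⧸ L, yH • x ≠ x := by
    intro x hx
    obtain ⟨h, rfl⟩ := QuotientGroup.mk_surjective x
    have h1 : h⁻¹ * yH * h ∈ L := (mk_mem_fixedBy_iff L yH h).1 hx
    have h2 : orderOf (h⁻¹ * yH * h) = 3 := by
      have h3 := orderOf_injective (MulAut.conj h⁻¹).toMonoidHom (MulAut.conj h⁻¹).injective yH
      have h4 : orderOf yH = 3 := by rw [hyH, Subgroup.orderOf_mk, hy₁o]
      rw [h4] at h3
      simpa using h3
    have h3 : orderOf (h⁻¹ * yH * h) ∣ Nat.card L := by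
      rw [← Subgroup.orderOf_mk _ h1]; exact orderOf_dvd_natCard _
    rw [h2, hLcard] at h3
    norm_num at h3
  have hF3 : 3 ∣ Nat.card (fixedBy (H ⧸ L) tH) := by
    have h1 := card_fixedBy_modEq_inter (X := H ⧸ L) (q := 3) (u := tH) (v := yH)
      (by
        apply Subtype.ext
        show y₁ ^ 3 = 1
        rw [← hy₁o]; exact pow_orderOf_eq_one y₁)
      (by
        apply Subtype.ext
        exact hyt₁)
    have h2 : Nat.card {x : H ⧸ L // tH • x = x ∧ yH • x = x} = 0 := by
      rw [Nat.card_eq_zero]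
      left
      constructor
      rintro ⟨x, hx⟩
      exact hyF x hx.2
    rw [h2] at h1
    exact (Nat.modEq_zero_iff_dvd).1 h1
  have htH2 : tH ^ 2 = 1 := Subtype.ext ht₁2
  have hF2 := card_fixedBy_modEq (X := H ⧸ L) (q := 2) htH2
  have hFle : Nat.card (fixedBy (H ⧸ L) tH) ≤ 6 := by
    rw [← hYcard]; exact Finite.card_subtype_le _
  rw [hYcard] at hF2
  have hF : Nat.card (fixedBy (H ⧸ L) tH) = 0 ∨ Nat.card (fixedBy (H ⧸ L) tH) = 6 := by
    unfold Nat.ModEq at hF2
    omega
  rcases hF with hF | hF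
  · -- odd permutation
    classical
    have : Fintype (H ⧸ L) := Fintype.ofFinite _
    let φ : H →* ℤˣ := Equiv.Perm.sign.comp (MulAction.toPermHom H (H ⧸ L))
    have h1 : φ tH ≠ 1 := by
      intro h
      have h2 : (MulAction.toPermHom H (H ⧸ L) tH) ^ 2 = 1 := by rw [← map_pow, htH2, map_one]
      obtain ⟨k, h3⟩ := Parity.card_modEq_four_of_sign _ h2 h
      have h4 : Nat.card {x : H ⧸ L // (MulAction.toPermHom H (H ⧸ L) tH) x = x} =
        Nat.card (fixedBy (H ⧸ L) tH) := rfl
      rw [h4, hF, hYcard] at h3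
      omega
    have hnc : ¬ ∀ a b : G, a * b = b * a := by
      intro h
      apply Embed.not_comm_of_card_not_prime (G := G) (by rw [hG]; norm_num)
      exact ⟨⟨h⟩⟩
    have h2 := Parity.mem_commutator_of_unique_fixed hnc H t₁ ht₁2 ha huniq
    exact h1 (Abelianization.commutator_subset_ker φ h2)
  · -- trivial action
    have hall : ∀ h : H, h⁻¹ * tH * h ∈ L := by
      intro h
      have h1 : (fixedBy (H ⧸ L) tH) = Set.univ := by
        apply Set.eq_of_subset_of_ncard_le (Set.subset_univ _) _ (Set.toFinite _)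
        rw [Set.ncard_univ, hYcard]
        exact hF.ge
      have h2 : (QuotientGroup.mk h : H ⧸ L) ∈ fixedBy (H ⧸ L) tH := h1 ▸ Set.mem_univ _
      exact (mk_mem_fixedBy_iff L tH h).1 h2
    apply h5t₁
    -- `P ≤ C(t₁)`
    have hPC : (P : Subgroup G) ≤ centralizer {t₁} := by
      intro x hx
      rw [mem_centralizer_singleton_iff]
      by_contra hne
      set b := x * t₁ * x⁻¹ * t₁⁻¹ with hb
      have hb1 : b ≠ 1 := by
        intro h
        apply hne
        rw [hb] at h
        have h1 := mul_inv_eq_one.1 h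
        exact mul_inv_eq_iff_eq_mul.1 h1
      have ht₁N : t₁ ∈ normalizer (P : Set G) := by
        have := hall 1
        rw [mem_subgroupOf] at this
        simpa using this
      have hbP : b ∈ (P : Subgroup G) := by
        have h1 : t₁ * x⁻¹ * t₁⁻¹ ∈ (P : Subgroup G) :=
          (mem_normalizer_iff.1 ht₁N x⁻¹).1 (inv_mem hx)
        have h2 : b = x * (t₁ * x⁻¹ * t₁⁻¹) := by rw [hb]; group
        rw [h2]
        exact mul_mem hx h1
      have hbo : orderOf b = 5 := by
        have h8 := card_sylow5 hG P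
        have h9 := orderOf_dvd_natCard (⟨b, hbP⟩ : (P : Subgroup G))
        rw [Subgroup.orderOf_mk] at h9
        have h10 := h9.trans (dvd_of_eq h8)
        rcases (Nat.dvd_prime (by norm_num)).1 h10 with h | h
        · exact absurd (orderOf_eq_one_iff.1 h) hb1
        · exact h
      have hbR : ∀ h ∈ H, h * b * h⁻¹ ∈ normalizer (P : Set G) := by
        intro h hh
        have h1 := hall (⟨h, hh⟩ * ⟨x, hPH hx⟩)⁻¹
        have h2 := hall (⟨h, hh⟩)⁻¹
        rw [mem_subgroupOf] at h1 h2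
        have h3 : h * x * t₁ * x⁻¹ * h⁻¹ ∈ normalizer (P : Set G) := by
          simpa [mul_assoc] using h1
        have h4 : h * t₁ * h⁻¹ ∈ normalizer (P : Set G) := by
          simpa [mul_assoc] using h2
        have h5 : h * b * h⁻¹ = (h * x * t₁ * x⁻¹ * h⁻¹) * (h * t₁ * h⁻¹)⁻¹ := by
          rw [hb]; group
        rw [h5]
        exact mul_mem h3 (inv_mem h4)
      have hHN : H ≤ normalizer (P : Set G) := by
        intro h hh
        have h1 : orderOf (h * b * h⁻¹) = 5 := by
          rw [← hbo]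
          have := orderOf_injective (MulAut.conj h).toMonoidHom (MulAut.conj h).injective b
          simpa using this
        have h2 : h * b * h⁻¹ ∈ P := mem_of_mem_normalizer_sylow h1 (hbR h hh)
        have h3 : (h • P : Sylow 5 G) = P := by
          apply sylow_eq_of_le_normalizer
          rintro x' ⟨w, hw, hwx⟩
          have hwx' : h * w * h⁻¹ = x' := hwx
          obtain ⟨k, rfl⟩ := mem_zpowers_iff.1
            (mem_zpowers_of_card_prime (by norm_num) (card_sylow5 hG P) hbP hb1 hw)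
          apply le_normalizer
          rw [← hwx', ← conj_zpow]
          exact zpow_mem h2 k
        exact Sylow.smul_eq_iff_mem_normalizer.1 h3
      have h1 := card_dvd_of_le hHN
      rw [hcz, h5] at h1
      norm_num at h1
    have h1 := card_dvd_of_le hPC
    have h2 : Nat.card (P : Subgroup G) = 5 := card_sylow5 hG P
    rwa [h2] at h1

/-- Every involution centralized by `N(P)` has centralizer of order 40. -/
theorem card_centralizer_eq_40 (hG : Nat.card G = 5040)
    (h7 : ∀ P : Sylow 7 G, Nat.card (centralizer (P : Set G)) = 7)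
    (P : Sylow 5 G) (h5 : Nat.card (normalizer (P : Set G)) = 40) {z : G}
    (hz : normalizer (P : Set G) ≤ centralizer {z}) (hz2 : z ^ 2 = 1) (hz1 : z ≠ 1) :
    Nat.card (centralizer {z}) = 40 := by
  have := fact7
  have := fact5
  obtain ⟨m, hm1, hm2⟩ := card_eq_mul_modEq_one P (centralizer {z}) (le_normalizer.trans hz)
  rw [inf_eq_right.2 hz, h5] at hm2
  have hm3 := card_subgroup_dvd_card (centralizer {z})
  rw [hm2, hG] at hm3
  have hm4 : m ∣ 126 := by
    have : (5040 : ℕ) = 40 * 126 := by norm_num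
    rw [this] at hm3
    exact Nat.dvd_of_mul_dvd_mul_left (by norm_num) hm3
  have hm7 : ¬ 7 ∣ m := by
    intro h
    have h1 : 7 ∣ Nat.card (centralizer {z}) := by rw [hm2]; exact Dvd.dvd.mul_left h 40
    obtain ⟨⟨v, hvC⟩, hv⟩ := exists_prime_orderOf_dvd_card' 7 h1
    rw [Subgroup.orderOf_mk] at hv
    have hv1 : v ≠ 1 := by rintro rfl; rw [orderOf_one] at hv; norm_num at hv
    obtain ⟨Q, hQ⟩ := exists_sylow_eq_zpowers (card_sylow7 hG) hv
    rw [mem_centralizer_singleton_iff] at hvC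
    have h2 : z ∈ centralizer ((Q : Subgroup G) : Set G) :=
      mem_centralizer_of_commute (by norm_num) (card_sylow7 hG Q) (by
        rw [hQ]; exact mem_zpowers v) hv1 hvC.symm
    have h3 := orderOf_dvd_natCard (⟨z, h2⟩ : centralizer ((Q : Subgroup G) : Set G))
    rw [Subgroup.orderOf_mk] at h3
    replace h3 := h3.trans (dvd_of_eq (h7 Q))
    have h4 : orderOf z ∣ 2 := orderOf_dvd_of_pow_eq_one hz2
    have h5 : orderOf z ∣ 1 := by
      have := Nat.dvd_gcd h3 h4
      norm_num at this ⊢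
      exact this
    exact hz1 (orderOf_eq_one_iff.1 (Nat.dvd_one.1 h5))
  have hm : m = 1 ∨ m = 6 := by
    have h1 : ∀ m < 127, (m ∣ 126 ∧ m % 5 = 1 % 5 ∧ ¬ 7 ∣ m) → (m = 1 ∨ m = 6) := by
      decide +kernel
    exact h1 m (Nat.lt_succ_of_le (Nat.le_of_dvd (by norm_num) hm4)) ⟨hm4, hm1, hm7⟩
  rcases hm with rfl | rfl
  · exact hm2
  · exact (aux_240 hG h7 P h5 hz hm2).elim

end Cfsg.Agent.SmallSimple.Order5040D
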