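import Mathlib
import Cfsg.Agent.SmallSimple.PrimeIndex
import Cfsg.Agent.SmallSimple.PSqQR

set_option autoImplicit false

namespace Cfsg.Agent.SmallSimple.Order5724

open Subgroup Cfsg.Agent.SmallSimple.SylowCount

theorem dvd_aux (n : ℕ) (h : n ∣ 212) :
    n = 1 ∨ n = 2 ∨ n = 4 ∨ n = 53 ∨ n = 106 ∨ n = 212 := by
  have key : ∀ n ∈ Nat.divisors 212, n = 1 ∨ n = 2 ∨ n = 4 ∨ n = 53 ∨ n = 106 ∨ n = 212 := by
    decide +kernel
  exact key n (Nat.mem_divisors.2 ⟨h, by norm_num⟩)

/-- There is no simple group of order 5724 = 2^2 * 3^3 * 53. -/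
theorem not_simple_5724 {G : Type*} [Group G] [Finite G] [IsSimpleGroup G]
    (h : Nat.card G = 5724) : False := by
  have hp : Fact (Nat.Prime 3) := ⟨Nat.prime_three⟩
  have hG' : Nat.card G = 212 * 3 ^ 3 := by rw [h]; norm_num
  have hnp : ¬ (Nat.card G).Prime := by rw [h]; norm_num
  have hdvd : 3 ∣ Nat.card G := by rw [h]; norm_num
  have hne : Nat.card G ≠ 3 := by rw [h]; norm_num
  -- a subgroup of index 53 gives a contradiction
  have h53 : ∀ H : Subgroup G, H.index ≠ 53 := by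
    intro H hH
    have h1 := PrimeIndex.mul_pred_dvd_card hnp H (by rw [hH]; norm_num)
    rw [hH, h] at h1
    revert h1
    decide
  have h4 : ∀ H : Subgroup G, H ≠ ⊤ → ¬ H.index ≤ 4 := by
    intro H hH hH4
    have h1 := (card_dvd_factorial_index H hH).trans (Nat.factorial_dvd_factorial hH4)
    rw [h] at h1
    revert h1
    decide
  have hn := Cfsg.Agent.SmallSimple.PSqQR.card_sylow_dvd_of_card_eq hG' (by norm_num)
  have hn1 := card_sylow_ne_one hdvd hne
  have hn3 := card_sylow_modEq_one 3 G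
  obtain ⟨R⟩ : Nonempty (Sylow 3 G) := inferInstance
  have hmod : ¬ Nat.card (Sylow 3 G) ≡ 1 [MOD 3 ^ 2] := by
    rcases dvd_aux _ hn with h1 | h1 | h1 | h1 | h1 | h1
    · exact absurd h1 hn1
    · rw [h1]; decide
    · rw [h1]; decide
    · rw [h1]; decide
    · rw [h1]; decide
    · rw [h1]; decide
  obtain ⟨P, Q, -, -, -, hNtop, -, m, hm1, hm3, hm2⟩ :=
    PrimeIndex.exists_subgroup_of_not_modEq (by rw [h]; norm_num) hmod
  rw [Cfsg.Agent.SmallSimple.PSqQR.index_sylow_of_card_eq hG' (by norm_num) P] at hm2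
  set N := normalizer ((P ⊓ Q : Subgroup G) : Set G) with hN
  have hidx := h4 N hNtop
  have h53' := h53 N
  generalize N.index = n at *
  have hm : m = 4 ∨ m = 106 := by
    rcases dvd_aux _ (dvd_trans (Dvd.intro _ rfl) hm2) with h1 | h1 | h1 | h1 | h1 | h1
    · omega
    · rw [h1] at hm3; exact absurd hm3 (by decide)
    · exact Or.inl h1
    · rw [h1] at hm3; exact absurd hm3 (by decide)
    · exact Or.inr h1
    · rw [h1] at hm3; exact absurd hm3 (by decide)
  have hn5 : n ∣ 212 := dvd_trans (Dvd.intro_left _ rfl) hm2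
  have hle := Nat.le_of_dvd (by norm_num) hm2
  rcases dvd_aux _ hn5 with h1 | h1 | h1 | h1 | h1 | h1 <;> rcases hm with rfl | rfl <;> omega

end Cfsg.Agent.SmallSimple.Order5724
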