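import Mathlib

/-!
Integer matrices with Gram matrix `e J + I` and at least `e + t` nonzero rows: every row is
`± (1, ..., 1)` or `±` a unit vector. No distinguished row is needed.
-/

set_option autoImplicit false

namespace Cfsg.Agent.SmallSimple.RowForm

open Finset

variable {κ : Type*} [Fintype κ] [DecidableEq κ]

/-- The identity behind everything. -/
theorem form_identity (v : κ → ℤ) (s : Finset κ) (hs : ∀ a, a ∈ s ↔ v a ≠ 0) (t m : ℤ)
    (hm : (s.card : ℤ) = m) :
    2 * ((t + 1) * ∑ a, v a ^ 2 - (∑ a, v a) ^ 2 - t) =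
      ∑ a ∈ s, ∑ b ∈ s, (v a - v b) ^ 2 + 2 * (t + 1 - m) * ∑ a ∈ s, (v a ^ 2 - 1) +
        2 * ((m - 1) * (t - m)) := by
  have h1 : ∑ a, v a ^ 2 = ∑ a ∈ s, v a ^ 2 := by
    rw [← Finset.sum_subset (Finset.subset_univ s)]
    intro a _ ha
    have : v a = 0 := by by_contra h; exact ha ((hs a).2 h)
    rw [this]; norm_num
  have h2 : ∑ a, v a = ∑ a ∈ s, v a := by
    rw [← Finset.sum_subset (Finset.subset_univ s)]
    intro a _ ha
    by_contra h; exact ha ((hs a).2 h)
  have h3 : ∑ a ∈ s, ∑ b ∈ s, (v a - v b) ^ 2 =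
      2 * m * ∑ a ∈ s, v a ^ 2 - 2 * (∑ a ∈ s, v a) ^ 2 := by
    have h4 : ∀ a ∈ s, ∑ b ∈ s, (v a - v b) ^ 2 =
        m * v a ^ 2 - 2 * v a * ∑ b ∈ s, v b + ∑ b ∈ s, v b ^ 2 := by
      intro a _
      have : ∀ b ∈ s, (v a - v b) ^ 2 = v a ^ 2 - 2 * v a * v b + v b ^ 2 := fun b _ => by ring
      rw [Finset.sum_congr rfl this, Finset.sum_add_distrib, Finset.sum_sub_distrib,
        Finset.sum_const, nsmul_eq_mul, hm, ← Finset.mul_sum]
    rw [Finset.sum_congr rfl h4, Finset.sum_add_distrib, Finset.sum_sub_distrib, Finset.sum_const,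
      nsmul_eq_mul, hm, ← Finset.mul_sum, ← Finset.sum_mul, ← Finset.mul_sum]
    ring
  rw [h1, h2, h3, Finset.sum_sub_distrib, Finset.sum_const, nsmul_eq_mul, hm]
  ring

/-- A nonzero integer vector has `(t + 1) |v|² - (∑ v)² ≥ t`, with equality only for
`± (1, ..., 1)` and `±` unit vectors. -/
theorem form_ge (v : κ → ℤ) (hv : ∃ a, v a ≠ 0) :
    (Fintype.card κ : ℤ) ≤ (Fintype.card κ + 1) * ∑ a, v a ^ 2 - (∑ a, v a) ^ 2 ∧
    ((Fintype.card κ + 1) * ∑ a, v a ^ 2 - (∑ a, v a) ^ 2 = Fintype.card κ →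
      ∃ c : ℤ, (c = 1 ∨ c = -1) ∧ ((∀ a, v a = c) ∨ ∃ a₀, ∀ a, v a = if a = a₀ then c else 0)) := by
  classical
  let s : Finset κ := Finset.univ.filter fun a => v a ≠ 0
  have hs : ∀ a, a ∈ s ↔ v a ≠ 0 := fun a => by simp [s]
  obtain ⟨a₀, ha₀⟩ := hv
  have hm1 : (1 : ℤ) ≤ s.card := by
    exact_mod_cast Finset.card_pos.2 ⟨a₀, (hs a₀).2 ha₀⟩
  have hmt : (s.card : ℤ) ≤ Fintype.card κ := by exact_mod_cast Finset.card_le_univ s
  have hid := form_identity v s hs (Fintype.card κ) s.card rfl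
  have hA : 0 ≤ ∑ a ∈ s, ∑ b ∈ s, (v a - v b) ^ 2 :=
    Finset.sum_nonneg fun a _ => Finset.sum_nonneg fun b _ => sq_nonneg _
  have hBt : ∀ a ∈ s, 0 ≤ v a ^ 2 - 1 := by
    intro a ha
    have h1 : v a ≠ 0 := (hs a).1 ha
    have h2 : 0 < v a ^ 2 := by positivity
    omega
  have hB : 0 ≤ ∑ a ∈ s, (v a ^ 2 - 1) := Finset.sum_nonneg hBt
  have hB' : 0 ≤ 2 * ((Fintype.card κ : ℤ) + 1 - s.card) * ∑ a ∈ s, (v a ^ 2 - 1) :=
    mul_nonneg (by omega) hB
  have hC : 0 ≤ 2 * (((s.card : ℤ) - 1) * (Fintype.card κ - s.card)) :=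
    mul_nonneg (by norm_num) (mul_nonneg (by omega) (by omega))
  refine ⟨by omega, fun heq => ?_⟩
  have hA0 : ∑ a ∈ s, ∑ b ∈ s, (v a - v b) ^ 2 = 0 := by omega
  have hB0 : 2 * ((Fintype.card κ : ℤ) + 1 - s.card) * ∑ a ∈ s, (v a ^ 2 - 1) = 0 := by omega
  have hC0 : 2 * (((s.card : ℤ) - 1) * (Fintype.card κ - s.card)) = 0 := by omega
  have hB1 : ∑ a ∈ s, (v a ^ 2 - 1) = 0 := by
    rcases mul_eq_zero.1 hB0 with h | h
    · omega
    · exact h
  have hval : ∀ a ∈ s, v a = 1 ∨ v a = -1 := by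
    intro a ha
    have := (Finset.sum_eq_zero_iff_of_nonneg hBt).1 hB1 a ha
    have h2 : v a ^ 2 = 1 := by omega
    exact sq_eq_one_iff.1 h2
  have hconst : ∀ a ∈ s, v a = v a₀ := by
    intro a ha
    have h1 := (Finset.sum_eq_zero_iff_of_nonneg
      (fun a _ => Finset.sum_nonneg fun b _ => sq_nonneg _)).1 hA0 a ha
    have h2 := (Finset.sum_eq_zero_iff_of_nonneg (fun b _ => sq_nonneg _)).1 h1 a₀
      ((hs a₀).2 ha₀)
    have h3 : v a - v a₀ = 0 := by
      exact pow_eq_zero_iff (two_ne_zero) |>.1 h2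
    omega
  refine ⟨v a₀, hval a₀ ((hs a₀).2 ha₀), ?_⟩
  have hC1 : ((s.card : ℤ) - 1) * (Fintype.card κ - s.card) = 0 := by omega
  rcases mul_eq_zero.1 hC1 with h | h
  · right
    have h1 : s.card = 1 := by omega
    obtain ⟨b, hb⟩ := Finset.card_eq_one.1 h1
    have hb0 : a₀ = b := by
      have : a₀ ∈ s := (hs a₀).2 ha₀
      rw [hb] at this
      exact Finset.mem_singleton.1 this
    refine ⟨a₀, fun a => ?_⟩
    split_ifs with h2
    · rw [h2]
    · by_contra h3
      have : a ∈ s := (hs a).2 h3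
      rw [hb, Finset.mem_singleton] at this
      exact h2 (this.trans hb0.symm)
  · left
    have h1 : s.card = Fintype.card κ := by omega
    have h2 : s = Finset.univ := Finset.eq_univ_of_card s h1
    intro a
    exact hconst a (by rw [h2]; exact Finset.mem_univ a)

/-- Upper bound for the number of nonzero rows. -/
theorem card_le {ι : Type*} [Fintype ι] {e : ℕ} (r : ι → κ → ℤ)
    (hne : ∀ i, ∃ a, r i a ≠ 0)
    (hgram : ∀ a b, ∑ i, r i a * r i b = e + if a = b then 1 else 0)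
    (hκ : 1 ≤ Fintype.card κ) :
    Fintype.card ι ≤ e + Fintype.card κ := by
  classical
  set t : ℤ := ((Fintype.card κ : ℕ) : ℤ) with ht
  have htpos : 1 ≤ t := by rw [ht]; exact_mod_cast hκ
  have hQ := fun i => form_ge (r i) (hne i)
  have hsum1 : ∑ i, ∑ a, r i a ^ 2 = t * (e + 1) := by
    rw [Finset.sum_comm]
    have : ∀ a, ∑ i, r i a ^ 2 = e + 1 := by
      intro a
      have := hgram a a
      rw [if_pos rfl] at this
      rw [← this]
      exact Finset.sum_congr rfl fun i _ => by ring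
    rw [Finset.sum_congr rfl fun a _ => this a, Finset.sum_const, Finset.card_univ, nsmul_eq_mul]
  have hsum2 : ∑ i, (∑ a, r i a) ^ 2 = t * t * e + t := by
    have h1 : ∀ i, (∑ a, r i a) ^ 2 = ∑ a, ∑ b, r i a * r i b := by
      intro i
      rw [sq, Finset.sum_mul_sum]
    rw [Finset.sum_congr rfl fun i _ => h1 i, Finset.sum_comm]
    have h2 : ∀ a, ∑ i, ∑ b, r i a * r i b = t * e + 1 := by
      intro a
      rw [Finset.sum_comm, Finset.sum_congr rfl fun b _ => hgram a b, Finset.sum_add_distrib,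
        Finset.sum_const, Finset.card_univ, nsmul_eq_mul, Finset.sum_ite_eq]
      simp [ht]
    rw [Finset.sum_congr rfl fun a _ => h2 a, Finset.sum_const, Finset.card_univ, nsmul_eq_mul]
    ring
  have hsum : ∑ i, ((t + 1) * ∑ a, r i a ^ 2 - (∑ a, r i a) ^ 2) = t * (t + e) := by
    rw [Finset.sum_sub_distrib, ← Finset.mul_sum, hsum1, hsum2]
    ring
  have hge : ∀ i ∈ (Finset.univ : Finset ι), t ≤ (t + 1) * ∑ a, r i a ^ 2 - (∑ a, r i a) ^ 2 :=
    fun i _ => (hQ i).1
  have hle : (Fintype.card ι : ℤ) * t ≤ t * (t + e) := by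
    rw [← hsum]
    have := Finset.sum_le_sum hge
    rwa [Finset.sum_const, Finset.card_univ, nsmul_eq_mul] at this
  have hle2 : (Fintype.card ι : ℤ) ≤ t + e := by
    by_contra h
    push Not at h
    nlinarith
  have : (Fintype.card ι : ℤ) ≤ Fintype.card κ + e := by rw [← ht]; exact hle2
  omega

theorem rows {ι : Type*} [Fintype ι] [DecidableEq ι] {e : ℕ} (r : ι → κ → ℤ)
    (hne : ∀ i, ∃ a, r i a ≠ 0)
    (hgram : ∀ a b, ∑ i, r i a * r i b = e + if a = b then 1 else 0)
    (hcard : e + Fintype.card κ ≤ Fintype.card ι) (hκ : 1 ≤ Fintype.card κ) :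
    Fintype.card ι = e + Fintype.card κ ∧
    ∃ (NE : Finset ι) (f : ι → κ), NE.card = e ∧
      (∀ i ∈ NE, (∀ a, r i a = 1) ∨ ∀ a, r i a = -1) ∧
      (∀ i, i ∉ NE → ∃ c : ℤ, (c = 1 ∨ c = -1) ∧ ∀ a, r i a = if a = f i then c else 0) ∧
      (∀ i, i ∉ NE → ∀ j, j ∉ NE → f i = f j → i = j) := by
  classical
  set t : ℤ := ((Fintype.card κ : ℕ) : ℤ) with ht
  have htpos : 1 ≤ t := by rw [ht]; exact_mod_cast hκ
  have hQ := fun i => form_ge (r i) (hne i)
  have hsum1 : ∑ i, ∑ a, r i a ^ 2 = t * (e + 1) := by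
    rw [Finset.sum_comm]
    have : ∀ a, ∑ i, r i a ^ 2 = e + 1 := by
      intro a
      have := hgram a a
      rw [if_pos rfl] at this
      rw [← this]
      exact Finset.sum_congr rfl fun i _ => by ring
    rw [Finset.sum_congr rfl fun a _ => this a, Finset.sum_const, Finset.card_univ, nsmul_eq_mul]
  have hsum2 : ∑ i, (∑ a, r i a) ^ 2 = t * t * e + t := by
    have h1 : ∀ i, (∑ a, r i a) ^ 2 = ∑ a, ∑ b, r i a * r i b := by
      intro i
      rw [sq, Finset.sum_mul_sum]
    rw [Finset.sum_congr rfl fun i _ => h1 i, Finset.sum_comm]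
    have h2 : ∀ a, ∑ i, ∑ b, r i a * r i b = t * e + 1 := by
      intro a
      rw [Finset.sum_comm, Finset.sum_congr rfl fun b _ => hgram a b, Finset.sum_add_distrib,
        Finset.sum_const, Finset.card_univ, nsmul_eq_mul, Finset.sum_ite_eq]
      simp [ht]
    rw [Finset.sum_congr rfl fun a _ => h2 a, Finset.sum_const, Finset.card_univ, nsmul_eq_mul]
    ring
  have hsum : ∑ i, ((t + 1) * ∑ a, r i a ^ 2 - (∑ a, r i a) ^ 2) = t * (t + e) := by
    rw [Finset.sum_sub_distrib, ← Finset.mul_sum, hsum1, hsum2]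
    ring
  have hge : ∀ i ∈ (Finset.univ : Finset ι), t ≤ (t + 1) * ∑ a, r i a ^ 2 - (∑ a, r i a) ^ 2 :=
    fun i _ => (hQ i).1
  have hle : (Fintype.card ι : ℤ) * t ≤ t * (t + e) := by
    rw [← hsum]
    have := Finset.sum_le_sum hge
    rwa [Finset.sum_const, Finset.card_univ, nsmul_eq_mul] at this
  have hle2 : (Fintype.card ι : ℤ) ≤ t + e := by
    by_contra h
    push Not at h
    nlinarith
  have hcardeq : Fintype.card ι = e + Fintype.card κ := by
    have : (Fintype.card ι : ℤ) ≤ Fintype.card κ + e := by rw [← ht]; exact hle2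
    omega
  refine ⟨hcardeq, ?_⟩
  have heq : ∀ i ∈ (Finset.univ : Finset ι),
      t = (t + 1) * ∑ a, r i a ^ 2 - (∑ a, r i a) ^ 2 := by
    apply (Finset.sum_eq_sum_iff_of_le hge).1
    rw [hsum, Finset.sum_const, Finset.card_univ, nsmul_eq_mul, hcardeq]
    push_cast
    rw [← ht]
    ring
  have hrow := fun i => (hQ i).2 (heq i (Finset.mem_univ i)).symm
  -- the case of one column is special
  by_cases ht1 : Fintype.card κ = 1
  · obtain ⟨a₀, ha₀⟩ := Fintype.card_eq_one_iff.1 ht1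
    obtain ⟨NE, hNEs, hNE⟩ := Finset.exists_subset_card_eq (s := (Finset.univ : Finset ι)) (n := e)
      (by rw [Finset.card_univ]; omega)
    refine ⟨NE, fun _ => a₀, hNE, ?_, ?_, ?_⟩
    · intro i _
      obtain ⟨c, hc, h⟩ := hrow i
      have h1 : ∀ a, r i a = c := by
        rcases h with h | ⟨b, h⟩
        · exact h
        · intro a
          rw [h a, if_pos ((ha₀ a).trans (ha₀ b).symm)]
      rcases hc with rfl | rfl
      · exact Or.inl h1
      · exact Or.inr h1
    · intro i _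
      obtain ⟨c, hc, h⟩ := hrow i
      refine ⟨c, hc, fun a => ?_⟩
      rw [if_pos (ha₀ a)]
      rcases h with h | ⟨b, h⟩
      · exact h a
      · rw [h a, if_pos ((ha₀ a).trans (ha₀ b).symm)]
    · intro i hi j hj _
      by_contra hij
      have h1 : (Finset.univ \ NE).card = 1 := by
        rw [Finset.card_sdiff_of_subset hNEs, Finset.card_univ, hcardeq, hNE, ht1]
        omega
      have h2 : ({i, j} : Finset ι) ⊆ Finset.univ \ NE := by
        intro k hk
        rw [Finset.mem_insert, Finset.mem_singleton] at hk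
        rcases hk with rfl | rfl <;> simp [hi, hj]
      have h3 := Finset.card_le_card h2
      rw [Finset.card_pair hij, h1] at h3
      omega
  · have ht2 : 2 ≤ Fintype.card κ := by omega
    obtain ⟨a, b, hab⟩ := Fintype.exists_pair_of_one_lt_card (by omega : 1 < Fintype.card κ)
    let NE : Finset ι := Finset.univ.filter fun i => ∃ c : ℤ, (c = 1 ∨ c = -1) ∧ ∀ a, r i a = c
    have hmem : ∀ i, i ∈ NE ↔ ∃ c : ℤ, (c = 1 ∨ c = -1) ∧ ∀ a, r i a = c := fun i => by simp [NE]
    have hnot : ∀ i, i ∉ NE → ∃ c : ℤ, (c = 1 ∨ c = -1) ∧ ∃ a₀, ∀ a, r i a =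
        if a = a₀ then c else 0 := by
      intro i hi
      obtain ⟨c, hc, h | h⟩ := hrow i
      · exact absurd ((hmem i).2 ⟨c, hc, h⟩) hi
      · exact ⟨c, hc, h⟩
    have hNEcard : NE.card = e := by
      have h1 := hgram a b
      rw [if_neg hab, add_zero] at h1
      have h2 : ∑ i, r i a * r i b = ∑ i, if i ∈ NE then (1 : ℤ) else 0 := by
        refine Finset.sum_congr rfl fun i _ => ?_
        split_ifs with hi
        · obtain ⟨c, hc, h⟩ := (hmem i).1 hi
          rw [h, h]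
          rcases hc with rfl | rfl <;> norm_num
        · obtain ⟨c, -, a₁, h⟩ := hnot i hi
          rw [h, h]
          by_cases h3 : a = a₁
          · have h4 : b ≠ a₁ := fun h5 => hab (h3.trans h5.symm)
            rw [if_neg h4, mul_zero]
          · rw [if_neg h3, zero_mul]
      rw [h2, Finset.sum_ite_mem, Finset.univ_inter, Finset.sum_const, nsmul_eq_mul, mul_one] at h1
      exact_mod_cast h1
    have hf : ∀ i, ∃ a₁ : κ, i ∉ NE → ∃ c : ℤ, (c = 1 ∨ c = -1) ∧ ∀ a, r i a =
        if a = a₁ then c else 0 := by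
      intro i
      by_cases hi : i ∈ NE
      · exact ⟨a, fun h => absurd hi h⟩
      · obtain ⟨c, hc, a₁, h⟩ := hnot i hi
        exact ⟨a₁, fun _ => ⟨c, hc, h⟩⟩
    choose f hf using hf
    refine ⟨NE, f, hNEcard, ?_, hf, ?_⟩
    · intro i hi
      obtain ⟨c, hc, h⟩ := (hmem i).1 hi
      rcases hc with rfl | rfl
      · exact Or.inl h
      · exact Or.inr h
    · intro i hi j hj hij
      by_contra hne'
      have h1 := hgram (f i) (f i)
      rw [if_pos rfl] at h1
      have h2 : ∑ k ∈ NE ∪ {i, j}, r k (f i) * r k (f i) ≤ ∑ k, r k (f i) * r k (f i) :=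
        Finset.sum_le_sum_of_subset_of_nonneg (Finset.subset_univ _)
          fun k _ _ => mul_self_nonneg _
      have h3 : ∀ k ∈ NE ∪ {i, j}, r k (f i) * r k (f i) = 1 := by
        intro k hk
        rw [Finset.mem_union, Finset.mem_insert, Finset.mem_singleton] at hk
        rcases hk with hk | rfl | rfl
        · obtain ⟨c, hc, h⟩ := (hmem k).1 hk
          rw [h]
          rcases hc with rfl | rfl <;> norm_num
        · obtain ⟨c, hc, h⟩ := hf k hi
          rw [h, if_pos rfl]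
          rcases hc with rfl | rfl <;> norm_num
        · obtain ⟨c, hc, h⟩ := hf k hj
          rw [h, if_pos hij]
          rcases hc with rfl | rfl <;> norm_num
      rw [Finset.sum_congr rfl h3, h1, Finset.sum_const, nsmul_eq_mul, mul_one,
        Finset.card_union_of_disjoint, hNEcard, Finset.card_pair hne'] at h2
      · push_cast at h2
        omega
      · rw [Finset.disjoint_left]
        intro k hk hk'
        rw [Finset.mem_insert, Finset.mem_singleton] at hk'
        rcases hk' with rfl | rfl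
        · exact hi hk
        · exact hj hk

end Cfsg.Agent.SmallSimple.RowForm
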