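import Cfsg.Agent.SmallSimple.PrimeDual
import Cfsg.Agent.SmallSimple.RowForm

/-!
A family of characters of a group `P` of prime order, invariant under a subgroup `R` of `MulAut P`
of order `e`, with block orthogonality on `P#`: structure theorem (no principal character needed).
-/

set_option autoImplicit false
open Cfsg
open scoped ComplexConjugate

namespace Cfsg.Agent.SmallSimple.PrimeAct

open Cfsg.Agent.Characters.Core Cfsg.Agent.Characters.Linear
open Cfsg.Agent.SmallSimple.PrimeDual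

universe u

variable {P : Type u} [Group P] [Finite P]

/-- Twist of a linear character. -/
noncomputable def tw (r : MulAut P) (l : P →* ℂˣ) : P →* ℂˣ := l.comp r.toMonoidHom

theorem tw_apply (r : MulAut P) (l : P →* ℂˣ) (x : P) : tw r l x = l (r x) := rfl

theorem tw_mul (r s : MulAut P) (l : P →* ℂˣ) : tw (r * s) l = tw s (tw r l) := rfl

theorem tw_one (l : P →* ℂˣ) : tw 1 l = l := rfl

theorem tw_trivial (r : MulAut P) : tw r (1 : P →* ℂˣ) = 1 := rfl

theorem tw_ne_one {r : MulAut P} {l : P →* ℂˣ} (hl : l ≠ 1) : tw r l ≠ 1 := by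
  intro h
  apply hl
  have h1 : tw r⁻¹ (tw r l) = 1 := by rw [h, tw_trivial]
  rwa [← tw_mul, mul_inv_cancel, tw_one] at h1

theorem tw_injective {p : ℕ} (hp : p.Prime) (hP : Nat.card P = p) {l : P →* ℂˣ} (hl : l ≠ 1) :
    Function.Injective fun r : MulAut P => tw r l := by
  intro r s h
  ext x : 1
  apply injective_of_ne_one hp hP hl
  exact DFunLike.congr_fun h x

theorem apply_injective {p : ℕ} (hp : p.Prime) (hP : Nat.card P = p) {u : P} (hu : u ≠ 1) :
    Function.Injective fun r : MulAut P => r u := by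
  intro r s h
  ext x : 1
  have := Fact.mk hp
  obtain ⟨k, rfl⟩ := Subgroup.mem_zpowers_iff.1 (mem_zpowers_of_prime_card hP hu : x ∈ _)
  rw [map_zpow, map_zpow]
  exact congrArg (· ^ k) h

/-- Two linear characters in the same orbit of `R`. -/
def Rel (R : Subgroup (MulAut P)) (l l' : P →* ℂˣ) : Prop := ∃ r ∈ R, tw r l = l'

theorem rel_refl (R : Subgroup (MulAut P)) (l : P →* ℂˣ) : Rel R l l := ⟨1, R.one_mem, tw_one l⟩

theorem rel_symm {R : Subgroup (MulAut P)} {l l' : P →* ℂˣ} (h : Rel R l l') : Rel R l' l := by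
  obtain ⟨n, hn, rfl⟩ := h
  exact ⟨n⁻¹, R.inv_mem hn, by rw [← tw_mul, mul_inv_cancel, tw_one]⟩

theorem rel_trans {R : Subgroup (MulAut P)} {l l' l'' : P →* ℂˣ} (h : Rel R l l')
    (h' : Rel R l' l'') : Rel R l l'' := by
  obtain ⟨n, hn, rfl⟩ := h
  obtain ⟨m, hm, rfl⟩ := h'
  exact ⟨n * m, R.mul_mem hn hm, tw_mul n m l⟩

open scoped Classical in
theorem card_orbit {p : ℕ} (hp : p.Prime) (hP : Nat.card P = p) (R : Subgroup (MulAut P))
    [Fintype (P →* ℂˣ)] {l : P →* ℂˣ} (hl : l ≠ 1) :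
    (Finset.univ.filter (fun l' => Rel R l l')).card = Nat.card R := by
  rw [← Fintype.card_subtype, ← Nat.card_eq_fintype_card]
  refine (Nat.card_congr (Equiv.ofBijective (fun r : R => ⟨tw r.1 l, r.1, r.2, rfl⟩) ⟨?_, ?_⟩)).symm
  · intro r s h
    exact Subtype.ext (tw_injective hp hP hl (congrArg Subtype.val h))
  · rintro ⟨l', r, hr, rfl⟩
    exact ⟨⟨r, hr⟩, rfl⟩

open scoped Classical in
/-- Gram matrix of the shifted multiplicities. -/
theorem gram {p : ℕ} (hp : p.Prime) (hP : Nat.card P = p) (R : Subgroup (MulAut P))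
    {ι : Type*} [Fintype ι] (f : ι → P → ℂ) (hf : ∀ i, IsCharacter P (f i))
    (hinv : ∀ i, ∀ r ∈ R, ∀ x, f i (r x) = f i x)
    (hO : ∀ u v : P, u ≠ 1 → v ≠ 1 → ∑ i, f i u * conj (f i v) =
      if ∃ r ∈ R, r u = v then (p : ℂ) else 0) [Fintype (P →* ℂˣ)] :
    ∃ r : ι → (P →* ℂˣ) → ℤ,
      (∀ i, ∀ x : P, x ≠ 1 → f i x = ∑ l : P →* ℂˣ, (r i l : ℂ) * ((l x : ℂˣ) : ℂ)) ∧
      (∀ i, r i 1 = 0) ∧ (∀ i l, ∀ n ∈ R, r i (tw n l) = r i l) ∧
      ∀ l l', l ≠ 1 → l' ≠ 1 → ∑ i, r i l * r i l' =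
        (Nat.card R : ℤ) + if Rel R l l' then 1 else 0 := by
  have := Fintype.ofFinite P
  have := Fintype.ofFinite R
  have hpC : (p : ℂ) ≠ 0 := by exact_mod_cast hp.ne_zero
  choose m hm using fun i => exists_mult hp hP (hf i)
  have hcardP : (Nat.card P : ℂ) = p := by rw [hP]
  have hmul : ∀ i l, ∑ x : P, f i x * conj ((l x : ℂˣ) : ℂ) = (m i l : ℂ) * p := by
    intro i l
    have := sum_mul_conj_of_mult (m := fun l => (m i l : ℂ)) (hm i) l
    rw [hcardP] at this
    exact this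
  have hinv' : ∀ i l, ∀ n ∈ R, m i (tw n l) = m i l := by
    intro i l n hn
    have h1 : (m i (tw n l) : ℂ) * p = (m i l : ℂ) * p := by
      rw [← hmul, ← hmul]
      refine Fintype.sum_equiv n.toEquiv _ _ fun x => ?_
      rw [tw_apply]
      show _ = f i (n x) * _
      rw [hinv i n hn]
      rfl
    exact_mod_cast mul_right_cancel₀ hpC h1
  have hr : ∀ i l, (((m i l : ℤ) - (m i 1 : ℤ) : ℤ) : ℂ) * p =
      ∑ x : P, f i x * (conj ((l x : ℂˣ) : ℂ) - 1) := by
    intro i l
    push_cast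
    rw [sub_mul, ← hmul, ← hmul, ← Finset.sum_sub_distrib]
    refine Finset.sum_congr rfl fun x _ => ?_
    simp [mul_sub]
  refine ⟨fun i l => (m i l : ℤ) - m i 1, ?_, ?_, ?_, ?_⟩
  · intro i x hx
    have h1 := hm i x
    have h2 := sum_dual_eq_zero hp hP hx
    rw [h1]
    push_cast
    simp only [sub_mul, Finset.sum_sub_distrib, ← Finset.mul_sum, h2, mul_zero, sub_zero]
  · intro i; simp
  · intro i l n hn; simp only [hinv' i l n hn]
  · intro l l' hl hl'
    have hinner : ∀ u : P, u ≠ 1 → ∑ v : P, (((l' v : ℂˣ) : ℂ) - 1) *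
        (if ∃ r ∈ R, r u = v then (p : ℂ) else 0) =
        (p : ℂ) * ∑ n : R, (((tw n.1 l' u : ℂˣ) : ℂ) - 1) := by
      intro u hu
      have h1 : ∑ v : P, (((l' v : ℂˣ) : ℂ) - 1) * (if ∃ r ∈ R, r u = v then (p : ℂ) else 0) =
          (p : ℂ) * ∑ v ∈ Finset.univ.filter (fun v => ∃ r ∈ R, r u = v),
            (((l' v : ℂˣ) : ℂ) - 1) := by
        rw [Finset.sum_filter, Finset.mul_sum]
        refine Finset.sum_congr rfl fun v _ => ?_
        split_ifs <;> ring
      rw [h1]
      congr 1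
      have h2 : Finset.univ.filter (fun v => ∃ r ∈ R, r u = v) =
          Finset.univ.image (fun n : R => n.1 u) := by
        ext v
        simp
      rw [h2, Finset.sum_image]
      · rfl
      · intro a _ b _ hab
        exact Subtype.ext (apply_injective hp hP hu hab)
    have hmain : (∑ i, (((m i l : ℤ) - (m i 1 : ℤ) : ℤ) : ℂ) * p *
        ((((m i l' : ℤ) - (m i 1 : ℤ) : ℤ) : ℂ) * p)) =
        (p : ℂ) * ∑ n : R, ∑ u : P, (conj ((l u : ℂˣ) : ℂ) - 1) *
          (((tw n.1 l' u : ℂˣ) : ℂ) - 1) := by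
      have h1 : ∀ i, ((((m i l' : ℤ) - (m i 1 : ℤ) : ℤ) : ℂ) * p) =
          ∑ v : P, conj (f i v) * (((l' v : ℂˣ) : ℂ) - 1) := by
        intro i
        have h := congrArg conj (hr i l')
        rw [map_sum, map_mul, Complex.conj_natCast, map_intCast] at h
        rw [h]
        refine Finset.sum_congr rfl fun v _ => ?_
        rw [map_mul, map_sub, Complex.conj_conj, map_one]
      have h2 : ∑ i, (((m i l : ℤ) - (m i 1 : ℤ) : ℤ) : ℂ) * p *
          ((((m i l' : ℤ) - (m i 1 : ℤ) : ℤ) : ℂ) * p) =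
          ∑ u : P, (conj ((l u : ℂˣ) : ℂ) - 1) * ∑ v : P, (((l' v : ℂˣ) : ℂ) - 1) *
            ∑ i, f i u * conj (f i v) := by
        have h3 : ∀ i, (((m i l : ℤ) - (m i 1 : ℤ) : ℤ) : ℂ) * p *
            ((((m i l' : ℤ) - (m i 1 : ℤ) : ℤ) : ℂ) * p) =
            ∑ u : P, ∑ v : P, (conj ((l u : ℂˣ) : ℂ) - 1) * ((((l' v : ℂˣ) : ℂ) - 1) *
              (f i u * conj (f i v))) := by
          intro i
          rw [h1 i, hr i l, Finset.sum_mul_sum]
          refine Finset.sum_congr rfl fun u _ => Finset.sum_congr rfl fun v _ => by ring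
        simp only [h3]
        rw [Finset.sum_comm]
        refine Finset.sum_congr rfl fun u _ => ?_
        rw [Finset.sum_comm, Finset.mul_sum]
        refine Finset.sum_congr rfl fun v _ => ?_
        rw [Finset.mul_sum, Finset.mul_sum]
      rw [h2, Finset.sum_comm, Finset.mul_sum]
      refine Finset.sum_congr rfl fun u _ => ?_
      by_cases hu : u = 1
      · subst hu
        simp
      · have h4 : ∑ v : P, (((l' v : ℂˣ) : ℂ) - 1) * ∑ i, f i u * conj (f i v) =
            ∑ v : P, (((l' v : ℂˣ) : ℂ) - 1) *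
              (if ∃ r ∈ R, r u = v then (p : ℂ) else 0) := by
          refine Finset.sum_congr rfl fun v _ => ?_
          by_cases hv : v = 1
          · subst hv; simp
          · rw [hO u v hu hv]
            congr
        rw [h4, hinner u hu, ← Finset.mul_sum]
        ring
    have hinner2 : ∀ n : R, ∑ u : P, (conj ((l u : ℂˣ) : ℂ) - 1) *
          (((tw n.1 l' u : ℂˣ) : ℂ) - 1) = (if tw n.1 l' = l then (p : ℂ) else 0) + p := by
      intro n
      have h1 := sum_hom_mul_conj (tw n.1 l') l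
      have h2 := sum_hom_eq_zero (tw_ne_one (r := n.1) hl')
      have h3 : ∑ u : P, conj ((l u : ℂˣ) : ℂ) = 0 := by
        rw [← map_sum, sum_hom_eq_zero hl, map_zero]
      have h4 : ∀ u : P, (conj ((l u : ℂˣ) : ℂ) - 1) * (((tw n.1 l' u : ℂˣ) : ℂ) - 1) =
          ((tw n.1 l' u : ℂˣ) : ℂ) * conj ((l u : ℂˣ) : ℂ) - conj ((l u : ℂˣ) : ℂ) -
            ((tw n.1 l' u : ℂˣ) : ℂ) + 1 := fun u => by ring
      simp only [h4, Finset.sum_add_distrib, Finset.sum_sub_distrib, h1, h2, h3, sub_zero,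
        Finset.sum_const, Finset.card_univ, nsmul_eq_mul, mul_one]
      rw [← Nat.card_eq_fintype_card, hcardP]
    simp only [hinner2, Finset.sum_add_distrib, Finset.sum_const, Finset.card_univ,
      nsmul_eq_mul] at hmain
    have hf' : ∑ n : R, (if tw n.1 l' = l then (p : ℂ) else 0) = if Rel R l l' then (p : ℂ) else 0 := by
      split_ifs with hR
      · obtain ⟨n, hn, hnl⟩ := rel_symm hR
        rw [Finset.sum_eq_single (⟨n, hn⟩ : R)]
        · rw [if_pos hnl]
        · intro b _ hb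
          rw [if_neg]
          intro h
          apply hb
          exact Subtype.ext (tw_injective hp hP hl' (h.trans hnl.symm))
        · intro h; exact absurd (Finset.mem_univ _) h
      · refine Finset.sum_eq_zero fun n _ => ?_
        rw [if_neg]
        intro h
        exact hR (rel_symm ⟨n.1, n.2, h⟩)
    rw [hf', ← Nat.card_eq_fintype_card] at hmain
    have hfin : ((∑ i, ((m i l : ℤ) - (m i 1 : ℤ)) * ((m i l' : ℤ) - (m i 1 : ℤ)) : ℤ) : ℂ) =
        ((Nat.card R : ℤ) + (if Rel R l l' then 1 else 0 : ℤ) : ℤ) := by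
      have h5 : ∑ i, (((m i l : ℤ) - (m i 1 : ℤ) : ℤ) : ℂ) * p *
          ((((m i l' : ℤ) - (m i 1 : ℤ) : ℤ) : ℂ) * p) =
          (p : ℂ) ^ 2 * ((∑ i, ((m i l : ℤ) - (m i 1 : ℤ)) * ((m i l' : ℤ) - (m i 1 : ℤ)) : ℤ) : ℂ) := by
        push_cast
        rw [Finset.mul_sum]
        refine Finset.sum_congr rfl fun i _ => by ring
      rw [h5] at hmain
      have h6 : (p : ℂ) ^ 2 ≠ 0 := pow_ne_zero _ hpC
      apply mul_left_cancel₀ h6
      rw [hmain]
      by_cases hR : Rel R l l'
      · rw [if_pos hR, if_pos hR]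
        push_cast
        ring
      · rw [if_neg hR, if_neg hR]
        push_cast
        ring
    exact_mod_cast hfin

/-- The setoid of orbits on the nontrivial linear characters. -/
def setoidL (R : Subgroup (MulAut P)) : Setoid {l : P →* ℂˣ // l ≠ 1} where
  r a b := Rel R a.1 b.1
  iseqv := ⟨fun a => rel_refl R a.1, fun h => rel_symm h, fun h h' => rel_trans h h'⟩

/-- Upper bound for the number of rows. -/
theorem card_le {p : ℕ} (hp : p.Prime) (hP : Nat.card P = p) (R : Subgroup (MulAut P))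
    {e t : ℕ} (he : Nat.card R = e) (het : e * t = p - 1)
    {ι : Type*} [Fintype ι] [DecidableEq ι] (f : ι → P → ℂ) (hf : ∀ i, IsCharacter P (f i))
    (hinv : ∀ i, ∀ r ∈ R, ∀ x, f i (r x) = f i x)
    (hO : ∀ u v : P, u ≠ 1 → v ≠ 1 → ∑ i, f i u * conj (f i v) =
      open scoped Classical in if ∃ r ∈ R, r u = v then (p : ℂ) else 0)
    (hnz : ∀ i, ∃ x : P, x ≠ 1 ∧ f i x ≠ 0)
    :
    Fintype.card ι ≤ e + t := by
  classical
  have := finite_dual hp hP
  have := Fintype.ofFinite (P →* ℂˣ)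
  obtain ⟨r, hr1, hr2, hr3, hr4⟩ := gram hp hP R f hf hinv (fun u v hu hv => by
    rw [hO u v hu hv])
  rw [he] at hr4
  have hcardL : Fintype.card (P →* ℂˣ) = p := by
    rw [← Nat.card_eq_fintype_card, card_dual hp hP]
  have hcardL1 : Fintype.card {l : P →* ℂˣ // l ≠ 1} = p - 1 := by
    rw [Fintype.card_subtype_compl, hcardL, Fintype.card_subtype_eq]
  let s := setoidL R
  let κ := Quotient s
  have := Fintype.ofFinite κ
  have hp1 := hp.one_lt
  have hepos : 0 < e := by
    rcases Nat.eq_zero_or_pos e with h | h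
    · rw [h, zero_mul] at het; omega
    · exact h
  -- the fibres
  have hfib : ∀ q : κ, (Finset.univ.filter
      (fun l : P →* ℂˣ => ∃ h : l ≠ 1, (Quotient.mk s ⟨l, h⟩ : κ) = q)).card = e := by
    intro q
    obtain ⟨⟨l₀, hl₀⟩, rfl⟩ := Quotient.exists_rep q
    rw [← he, ← card_orbit hp hP R hl₀]
    congr 1
    ext l
    simp only [Finset.mem_filter, Finset.mem_univ, true_and]
    constructor
    · rintro ⟨h, h'⟩
      exact rel_symm (Quotient.exact h')
    · rintro h
      have hl : l ≠ 1 := by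
        obtain ⟨n, -, rfl⟩ := h
        exact tw_ne_one hl₀
      exact ⟨hl, Quotient.sound (rel_symm h)⟩
  have hκ : Fintype.card κ = t := by
    have h1 : Fintype.card {l : P →* ℂˣ // l ≠ 1} = ∑ q : κ, e := by
      rw [Fintype.card_subtype, Finset.card_eq_sum_card_fiberwise
        (f := fun l : P →* ℂˣ => if h : l ≠ 1 then some (Quotient.mk s ⟨l, h⟩ : κ) else none)
        (t := (Finset.univ : Finset κ).map ⟨some, Option.some_injective _⟩)]
      · rw [Finset.sum_map]
        refine Finset.sum_congr rfl fun q _ => ?_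
        rw [← hfib q]
        congr 1
        ext l
        simp only [Finset.mem_filter, Finset.mem_univ, true_and, Function.Embedding.coeFn_mk]
        constructor
        · rintro ⟨h, h'⟩
          rw [dif_pos h] at h'
          exact ⟨h, Option.some_injective _ h'⟩
        · rintro ⟨h, h'⟩
          refine ⟨h, ?_⟩
          rw [dif_pos h, h']
      · intro l hl
        have hl' : l ≠ 1 := by simpa using hl
        simp [hl']
    rw [hcardL1, Finset.sum_const, Finset.card_univ, smul_eq_mul, ← het, mul_comm] at h1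
    exact (Nat.eq_of_mul_eq_mul_right hepos h1).symm
  have htpos : 1 ≤ t := by
    rcases Nat.eq_zero_or_pos t with h | h
    · rw [h, mul_zero] at het; omega
    · exact h
  -- the rows
  have hrel : ∀ i (l : P →* ℂˣ) (hl : l ≠ 1),
      r i (Quotient.mk s ⟨l, hl⟩ : κ).out.1 = r i l := by
    intro i l hl
    have h1 : Rel R (Quotient.mk s ⟨l, hl⟩ : κ).out.1 l := Quotient.mk_out (s := s) ⟨l, hl⟩
    obtain ⟨n, hnR, hn⟩ := h1
    rw [← hr3 i _ n hnR, hn]
  have hgram : ∀ a b : κ, ∑ i, r i a.out.1 * r i b.out.1 = e + if a = b then 1 else 0 := by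
    intro a b
    rw [hr4 _ _ a.out.2 b.out.2]
    have : Rel R a.out.1 b.out.1 ↔ a = b := by
      constructor
      · intro h
        have h2 : Quotient.mk s a.out = Quotient.mk s b.out := Quotient.sound h
        rwa [Quotient.out_eq, Quotient.out_eq] at h2
      · rintro rfl
        exact rel_refl R _
    simp only [this]
  have hne : ∀ i, ∃ a : κ, r i a.out.1 ≠ 0 := by
    intro i
    obtain ⟨x, hx, hxi⟩ := hnz i
    by_contra hcon
    push Not at hcon
    apply hxi
    rw [hr1 i x hx]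
    refine Finset.sum_eq_zero fun l _ => ?_
    by_cases hl : l = 1
    · rw [hl, hr2]; simp
    · rw [← hrel i l hl, hcon]; simp
  have h := RowForm.card_le (fun (i : ι) (q : κ) => r i q.out.1) hne hgram
    (by rw [hκ]; exact htpos)
  rwa [hκ] at h

theorem exists_structure {p : ℕ} (hp : p.Prime) (hP : Nat.card P = p) (R : Subgroup (MulAut P))
    {e t : ℕ} (he : Nat.card R = e) (het : e * t = p - 1)
    {ι : Type*} [Fintype ι] [DecidableEq ι] (f : ι → P → ℂ) (hf : ∀ i, IsCharacter P (f i))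
    (hinv : ∀ i, ∀ r ∈ R, ∀ x, f i (r x) = f i x)
    (hO : ∀ u v : P, u ≠ 1 → v ≠ 1 → ∑ i, f i u * conj (f i v) =
      open scoped Classical in if ∃ r ∈ R, r u = v then (p : ℂ) else 0)
    (hnz : ∀ i, ∃ x : P, x ≠ 1 ∧ f i x ≠ 0)
    (hcard : e + t ≤ Fintype.card ι) :
    Fintype.card ι = e + t ∧
    ∃ (NE : Finset ι) (ε c : ι → ℤ) (S : ι → Finset (P →* ℂˣ)),
      NE.card = e ∧
      (∀ i ∈ NE, (ε i = 1 ∨ ε i = -1) ∧ ∀ x : P, x ≠ 1 → f i x = ε i) ∧
      (∀ i, i ∉ NE → (c i = 1 ∨ c i = -1) ∧ (S i).card = e ∧ 1 ∉ S i ∧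
        (∀ r ∈ R, ∀ l ∈ S i, tw r l ∈ S i) ∧
        ∀ x : P, x ≠ 1 → f i x = c i * ∑ l ∈ S i, ((l x : ℂˣ) : ℂ)) ∧
      (∀ i, i ∉ NE → ∀ j, j ∉ NE → i ≠ j → Disjoint (S i) (S j)) ∧
      (∀ l : P →* ℂˣ, l ≠ 1 → ∃ i, i ∉ NE ∧ l ∈ S i) := by
  classical
  have := finite_dual hp hP
  have := Fintype.ofFinite (P →* ℂˣ)
  obtain ⟨r, hr1, hr2, hr3, hr4⟩ := gram hp hP R f hf hinv (fun u v hu hv => by
    rw [hO u v hu hv])
  rw [he] at hr4
  have hcardL : Fintype.card (P →* ℂˣ) = p := by
    rw [← Nat.card_eq_fintype_card, card_dual hp hP]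
  have hcardL1 : Fintype.card {l : P →* ℂˣ // l ≠ 1} = p - 1 := by
    rw [Fintype.card_subtype_compl, hcardL, Fintype.card_subtype_eq]
  let s := setoidL R
  let κ := Quotient s
  have := Fintype.ofFinite κ
  have hp1 := hp.one_lt
  have hepos : 0 < e := by
    rcases Nat.eq_zero_or_pos e with h | h
    · rw [h, zero_mul] at het; omega
    · exact h
  -- the fibres
  have hfib : ∀ q : κ, (Finset.univ.filter
      (fun l : P →* ℂˣ => ∃ h : l ≠ 1, (Quotient.mk s ⟨l, h⟩ : κ) = q)).card = e := by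
    intro q
    obtain ⟨⟨l₀, hl₀⟩, rfl⟩ := Quotient.exists_rep q
    rw [← he, ← card_orbit hp hP R hl₀]
    congr 1
    ext l
    simp only [Finset.mem_filter, Finset.mem_univ, true_and]
    constructor
    · rintro ⟨h, h'⟩
      exact rel_symm (Quotient.exact h')
    · rintro h
      have hl : l ≠ 1 := by
        obtain ⟨n, -, rfl⟩ := h
        exact tw_ne_one hl₀
      exact ⟨hl, Quotient.sound (rel_symm h)⟩
  have hκ : Fintype.card κ = t := by
    have h1 : Fintype.card {l : P →* ℂˣ // l ≠ 1} = ∑ q : κ, e := by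
      rw [Fintype.card_subtype, Finset.card_eq_sum_card_fiberwise
        (f := fun l : P →* ℂˣ => if h : l ≠ 1 then some (Quotient.mk s ⟨l, h⟩ : κ) else none)
        (t := (Finset.univ : Finset κ).map ⟨some, Option.some_injective _⟩)]
      · rw [Finset.sum_map]
        refine Finset.sum_congr rfl fun q _ => ?_
        rw [← hfib q]
        congr 1
        ext l
        simp only [Finset.mem_filter, Finset.mem_univ, true_and, Function.Embedding.coeFn_mk]
        constructor
        · rintro ⟨h, h'⟩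
          rw [dif_pos h] at h'
          exact ⟨h, Option.some_injective _ h'⟩
        · rintro ⟨h, h'⟩
          refine ⟨h, ?_⟩
          rw [dif_pos h, h']
      · intro l hl
        have hl' : l ≠ 1 := by simpa using hl
        simp [hl']
    rw [hcardL1, Finset.sum_const, Finset.card_univ, smul_eq_mul, ← het, mul_comm] at h1
    exact (Nat.eq_of_mul_eq_mul_right hepos h1).symm
  have htpos : 1 ≤ t := by
    rcases Nat.eq_zero_or_pos t with h | h
    · rw [h, mul_zero] at het; omega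
    · exact h
  -- the rows
  have hrel : ∀ i (l : P →* ℂˣ) (hl : l ≠ 1),
      r i (Quotient.mk s ⟨l, hl⟩ : κ).out.1 = r i l := by
    intro i l hl
    have h1 : Rel R (Quotient.mk s ⟨l, hl⟩ : κ).out.1 l := Quotient.mk_out (s := s) ⟨l, hl⟩
    obtain ⟨n, hnR, hn⟩ := h1
    rw [← hr3 i _ n hnR, hn]
  have hgram : ∀ a b : κ, ∑ i, r i a.out.1 * r i b.out.1 = e + if a = b then 1 else 0 := by
    intro a b
    rw [hr4 _ _ a.out.2 b.out.2]
    have : Rel R a.out.1 b.out.1 ↔ a = b := by
      constructor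
      · intro h
        have h2 : Quotient.mk s a.out = Quotient.mk s b.out := Quotient.sound h
        rwa [Quotient.out_eq, Quotient.out_eq] at h2
      · rintro rfl
        exact rel_refl R _
    simp only [this]
  have hne : ∀ i, ∃ a : κ, r i a.out.1 ≠ 0 := by
    intro i
    obtain ⟨x, hx, hxi⟩ := hnz i
    by_contra hcon
    push Not at hcon
    apply hxi
    rw [hr1 i x hx]
    refine Finset.sum_eq_zero fun l _ => ?_
    by_cases hl : l = 1
    · rw [hl, hr2]; simp
    · rw [← hrel i l hl, hcon]; simp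
  obtain ⟨hcardeq, NE, g, hNE, hrow1, hrow2, hinj⟩ := RowForm.rows
    (fun (i : ι) (q : κ) => r i q.out.1) hne hgram (by rw [hκ]; exact hcard)
    (by rw [hκ]; exact htpos)
  rw [hκ] at hcardeq
  refine ⟨hcardeq, ?_⟩
  -- extraction
  have hsum : ∀ x : P, x ≠ 1 → ∀ c : ℤ, ∑ l : P →* ℂˣ, (if l = 1 then 0 else (c : ℂ)) *
      ((l x : ℂˣ) : ℂ) = -c := by
    intro x hx c
    have h1 := sum_dual_eq_zero hp hP hx
    have h2 : ∀ l : P →* ℂˣ, (if l = 1 then 0 else (c : ℂ)) * ((l x : ℂˣ) : ℂ) =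
        c * ((l x : ℂˣ) : ℂ) - if l = 1 then (c : ℂ) else 0 := by
      intro l
      split_ifs with h
      · rw [h]; simp
      · simp
    simp only [h2, Finset.sum_sub_distrib, ← Finset.mul_sum, h1]
    simp
  have hε : ∀ i, ∃ c : ℤ, i ∈ NE → (c = 1 ∨ c = -1) ∧ ∀ x : P, x ≠ 1 → f i x = c := by
    intro i
    by_cases hi : i ∈ NE
    · obtain ⟨c, hc, hcr⟩ : ∃ c : ℤ, (c = 1 ∨ c = -1) ∧ ∀ q : κ, r i q.out.1 = c := by
        rcases hrow1 i hi with h | h
        · exact ⟨1, Or.inl rfl, h⟩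
        · exact ⟨-1, Or.inr rfl, h⟩
      refine ⟨-c, fun _ => ⟨by rcases hc with h | h <;> omega, fun x hx => ?_⟩⟩
      rw [hr1 i x hx]
      have := hsum x hx c
      push_cast
      rw [← this]
      refine Finset.sum_congr rfl fun l _ => ?_
      by_cases hl : l = 1
      · rw [hl, hr2, if_pos rfl]; simp
      · rw [if_neg hl, ← hrel i l hl, hcr]
    · exact ⟨0, fun h => absurd h hi⟩
  choose ε hε using hε
  have hcS : ∀ i, ∃ c : ℤ, i ∉ NE → (c = 1 ∨ c = -1) ∧ ∀ x : P, x ≠ 1 → f i x = c *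
      ∑ l ∈ Finset.univ.filter (fun l : P →* ℂˣ => ∃ h : l ≠ 1, (Quotient.mk s ⟨l, h⟩ : κ) = g i),
        ((l x : ℂˣ) : ℂ) := by
    intro i
    by_cases hi : i ∈ NE
    · exact ⟨0, fun h => absurd hi h⟩
    · obtain ⟨c, hc, hcr⟩ := hrow2 i hi
      refine ⟨c, fun _ => ⟨hc, fun x hx => ?_⟩⟩
      rw [hr1 i x hx, Finset.mul_sum, Finset.sum_filter]
      refine Finset.sum_congr rfl fun l _ => ?_
      by_cases hl : l = 1
      · rw [hl, hr2, if_neg]
        · simp
        · rintro ⟨h, -⟩; exact h rfl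
      · by_cases hq : (Quotient.mk s ⟨l, hl⟩ : κ) = g i
        · rw [if_pos ⟨hl, hq⟩, ← hrel i l hl, hcr, if_pos hq]
        · rw [if_neg (fun h => hq h.2), ← hrel i l hl, hcr, if_neg hq]
          simp
  choose c hc using hcS
  refine ⟨NE, ε, c, fun i => Finset.univ.filter
    (fun l : P →* ℂˣ => ∃ h : l ≠ 1, (Quotient.mk s ⟨l, h⟩ : κ) = g i), hNE, hε, ?_, ?_, ?_⟩
  · intro i hi
    refine ⟨(hc i hi).1, hfib _, ?_, ?_, (hc i hi).2⟩
    · simp
    · intro n hn l hl
      simp only [Finset.mem_filter, Finset.mem_univ, true_and] at hl ⊢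
      obtain ⟨hl1, hl2⟩ := hl
      refine ⟨tw_ne_one hl1, ?_⟩
      rw [← hl2]
      exact Quotient.sound (rel_symm ⟨n, hn, rfl⟩)
  · intro i hi j hj hij
    rw [Finset.disjoint_left]
    intro l hl hl'
    simp only [Finset.mem_filter, Finset.mem_univ, true_and] at hl hl'
    obtain ⟨h1, h2⟩ := hl
    obtain ⟨h3, h4⟩ := hl'
    exact hij (hinj i hi j hj (h2.symm.trans h4))
  · intro l hl
    have hsurj : ∀ q : κ, ∃ i, i ∉ NE ∧ g i = q := by
      intro q
      have h1 : (Finset.univ \ NE : Finset ι).card = t := by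
        rw [Finset.card_sdiff_of_subset (Finset.subset_univ _), Finset.card_univ, hcardeq, hNE]
        omega
      have h2 : ((Finset.univ \ NE : Finset ι).image g).card = t := by
        rw [Finset.card_image_of_injOn, h1]
        intro i hi j hj hij
        have hi' : i ∉ NE := by simpa using hi
        have hj' : j ∉ NE := by simpa using hj
        exact hinj i hi' j hj' hij
      have h3 : (Finset.univ \ NE : Finset ι).image g = Finset.univ := by
        apply Finset.eq_univ_of_card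
        rw [h2, hκ]
      have h4 : q ∈ (Finset.univ \ NE : Finset ι).image g := h3 ▸ Finset.mem_univ q
      rw [Finset.mem_image] at h4
      obtain ⟨i, hi, hiq⟩ := h4
      exact ⟨i, by simpa using hi, hiq⟩
    obtain ⟨i, hi, hiq⟩ := hsurj (Quotient.mk s ⟨l, hl⟩)
    refine ⟨i, hi, ?_⟩
    simp only [Finset.mem_filter, Finset.mem_univ, true_and]
    exact ⟨hl, hiq.symm⟩

end Cfsg.Agent.SmallSimple.PrimeAct
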