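import Mathlib

/-!
Integer row combinatorics: if integer vectors `r i` (`i : ι`) indexed by `κ`, all nonzero, have
Gram matrix `I + e J` and there are exactly `e + |κ|` of them, then exactly `e` of them are
`± (1, ..., 1)` and the others are `±` the unit vectors, each once.
-/

set_option autoImplicit false

namespace Cfsg.Agent.SmallSimple.RowComb

open Finset

variable {ι κ : Type*} [Fintype ι] [Fintype κ]

/-- Lagrange identity. -/
theorem sum_sub_sq (r : κ → ℤ) : ∑ a, ∑ b, (r a - r b) ^ 2 =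
    2 * (Fintype.card κ * ∑ a, r a ^ 2 - (∑ a, r a) ^ 2) := by
  have h : ∀ a, ∑ b, (r a - r b) ^ 2 =
      Fintype.card κ * r a ^ 2 - 2 * (r a * ∑ b, r b) + ∑ b, r b ^ 2 := by
    intro a
    have : ∀ b, (r a - r b) ^ 2 = r a ^ 2 - 2 * (r a * r b) + r b ^ 2 := fun b => by ring
    simp only [this, sum_add_distrib, sum_sub_distrib, sum_const, card_univ, nsmul_eq_mul,
      ← mul_sum]
  simp only [h, sum_add_distrib, sum_sub_distrib, sum_const, card_univ, nsmul_eq_mul, ← mul_sum,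
    ← sum_mul]
  ring

theorem one_le_sq_add_sq {a b c : ℤ} (h : a ≠ b) : 1 ≤ (c - a) ^ 2 + (c - b) ^ 2 := by
  by_contra hcon
  have h1 : (c - a) ^ 2 + (c - b) ^ 2 = 0 := by nlinarith [sq_nonneg (c - a), sq_nonneg (c - b)]
  have h2 : (c - a) ^ 2 = 0 := by nlinarith [sq_nonneg (c - a), sq_nonneg (c - b)]
  have h3 : (c - b) ^ 2 = 0 := by nlinarith [sq_nonneg (c - a), sq_nonneg (c - b)]
  have h4 := pow_eq_zero_iff (two_ne_zero) |>.1 h2
  have h5 := pow_eq_zero_iff (two_ne_zero) |>.1 h3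
  apply h
  linarith

theorem two_mul_le_of_ne (r : κ → ℤ) {a₀ b₀ : κ} (h : r a₀ ≠ r b₀) :
    2 * ((Fintype.card κ : ℤ) - 1) ≤ ∑ a, ∑ b, (r a - r b) ^ 2 := by
  classical
  have hab : a₀ ≠ b₀ := fun h' => h (by rw [h'])
  set f : κ → ℤ := fun a => ∑ b, (r a - r b) ^ 2 with hf
  have h1 : ∀ a, 1 ≤ f a := by
    intro a
    have h2 : (r a - r a₀) ^ 2 + (r a - r b₀) ^ 2 ≤ f a := by
      rw [hf]
      have := sum_le_sum_of_subset_of_nonneg (s := ({a₀, b₀} : Finset κ)) (t := univ)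
        (f := fun b => (r a - r b) ^ 2) (subset_univ _) (fun _ _ _ => sq_nonneg _)
      rwa [sum_pair hab] at this
    exact (one_le_sq_add_sq h).trans h2
  have h3 : (Fintype.card κ : ℤ) ≤ f a₀ + f b₀ := by
    rw [hf]
    simp only
    rw [← sum_add_distrib]
    have : ∀ b ∈ (univ : Finset κ), (1 : ℤ) ≤ (r a₀ - r b) ^ 2 + (r b₀ - r b) ^ 2 := by
      intro b _
      have := one_le_sq_add_sq (c := r b) h
      have e1 : (r a₀ - r b) ^ 2 = (r b - r a₀) ^ 2 := by ring
      have e2 : (r b₀ - r b) ^ 2 = (r b - r b₀) ^ 2 := by ring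
      rw [e1, e2]; exact this
    have := card_nsmul_le_sum _ _ _ this
    simpa using this
  have h4 : ∑ a, f a = f a₀ + f b₀ + ∑ a ∈ univ \ {a₀, b₀}, f a := by
    rw [← sum_pair hab, add_comm, sum_sdiff (subset_univ _)]
  have h5 : ((univ \ {a₀, b₀} : Finset κ).card : ℤ) ≤ ∑ a ∈ univ \ {a₀, b₀}, f a := by
    have := card_nsmul_le_sum (univ \ {a₀, b₀} : Finset κ) f 1 (fun a _ => h1 a)
    simpa using this
  have h6 : ((univ \ {a₀, b₀} : Finset κ).card : ℤ) = Fintype.card κ - 2 := by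
    rw [card_sdiff_of_subset (subset_univ _), card_pair hab, card_univ]
    have : 2 ≤ Fintype.card κ := by
      rw [← card_pair hab, ← card_univ]; exact card_le_card (subset_univ _)
    omega
  show 2 * ((Fintype.card κ : ℤ) - 1) ≤ ∑ a, f a
  rw [h4]
  linarith

theorem eq_one_or_of_sq {c : ℤ} (h : c ^ 2 = 1) : c = 1 ∨ c = -1 := by
  have : (c - 1) * (c + 1) = 0 := by ring_nf; rw [h]; norm_num
  rcases mul_eq_zero.1 this with h | h
  · left; linarith
  · right; linarith

theorem rows [DecidableEq κ] {e : ℕ} (r : ι → κ → ℤ) (hne : ∀ i, ∃ a, r i a ≠ 0)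
    (hgram : ∀ a b, ∑ i, r i a * r i b = e + if a = b then 1 else 0)
    (hcard : Fintype.card ι = e + Fintype.card κ) (ht : 2 ≤ Fintype.card κ) :
    ∃ (NE : Finset ι) (f : ι → κ), NE.card = e ∧
      (∀ i ∈ NE, (∀ a, r i a = 1) ∨ (∀ a, r i a = -1)) ∧
      (∀ i, i ∉ NE → ∃ c : ℤ, (c = 1 ∨ c = -1) ∧ ∀ a, r i a = if a = f i then c else 0) ∧
      (∀ i, i ∉ NE → ∀ j, j ∉ NE → f i = f j → i = j) := by
  classical
  set t : ℕ := Fintype.card κ with htdef
  -- sums
  have hS2 : ∑ i, ∑ a, r i a ^ 2 = t * (e + 1) := by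
    rw [sum_comm]
    have : ∀ a, ∑ i, r i a ^ 2 = (e : ℤ) + 1 := by
      intro a
      have := hgram a a
      simp only [if_true, ← pow_two] at this
      exact this
    simp only [this, sum_const, card_univ, nsmul_eq_mul, ← htdef]
  have hS1 : ∑ i, (∑ a, r i a) ^ 2 = t * t * e + t := by
    have h1 : ∀ i, (∑ a, r i a) ^ 2 = ∑ a, ∑ b, r i a * r i b := by
      intro i; rw [pow_two, sum_mul_sum]
    simp only [h1]
    rw [sum_comm]
    have h2 : ∀ a, ∑ i, ∑ b, r i a * r i b = (t : ℤ) * e + 1 := by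
      intro a
      rw [sum_comm]
      simp only [hgram, sum_add_distrib, sum_const, card_univ, nsmul_eq_mul, sum_ite_eq,
        mem_univ, if_true, ← htdef]
    simp only [h2, sum_const, card_univ, nsmul_eq_mul, ← htdef]
    ring
  set NE : Finset ι := univ.filter (fun i => ∀ a b, r i a = r i b) with hNE
  set EX : Finset ι := univ.filter (fun i => ¬ ∀ a b, r i a = r i b) with hEX
  have hsplit : ∀ g : ι → ℤ, ∑ i, g i = ∑ i ∈ NE, g i + ∑ i ∈ EX, g i := by
    intro g
    rw [hNE, hEX, sum_filter_add_sum_filter_not]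
  have hcount : NE.card + EX.card = e + t := by
    rw [← hcard, hNE, hEX, card_filter_add_card_filter_not, card_univ]
  -- nonconstant rows
  have hD : ∀ i ∈ EX, ((t : ℤ) - 1) ≤ t * ∑ a, r i a ^ 2 - (∑ a, r i a) ^ 2 := by
    intro i hi
    rw [hEX, mem_filter] at hi
    have h2 := hi.2
    push Not at h2
    obtain ⟨a, b, hab⟩ := h2
    have h3 := two_mul_le_of_ne (r i) hab
    rw [sum_sub_sq] at h3
    rw [← htdef] at h3
    linarith
  have hD0 : ∀ i ∈ NE, 0 ≤ (t : ℤ) * ∑ a, r i a ^ 2 - (∑ a, r i a) ^ 2 := by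
    intro i _
    have h3 := sum_sub_sq (r i)
    have h4 : 0 ≤ ∑ a, ∑ b, (r i a - r i b) ^ 2 :=
      sum_nonneg fun a _ => sum_nonneg fun b _ => sq_nonneg _
    rw [← htdef] at h3
    linarith
  have hDsum : ∑ i, ((t : ℤ) * ∑ a, r i a ^ 2 - (∑ a, r i a) ^ 2) = t * (t - 1) := by
    rw [sum_sub_distrib, ← mul_sum, hS2, hS1]; ring
  have hn1 : (EX.card : ℤ) * (t - 1) ≤ t * (t - 1) := by
    rw [← hDsum, hsplit]
    have h1 := card_nsmul_le_sum EX _ _ hD
    have h2 := sum_nonneg hD0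
    rw [nsmul_eq_mul] at h1
    linarith
  have ht1 : (0 : ℤ) < t - 1 := by
    have : (2 : ℤ) ≤ t := by exact_mod_cast ht
    linarith
  have hn1' : (EX.card : ℤ) ≤ t := le_of_mul_le_mul_right hn1 ht1
  -- norms
  have hN0 : ∀ i ∈ NE, (t : ℤ) ≤ ∑ a, r i a ^ 2 := by
    intro i hi
    rw [hNE, mem_filter] at hi
    obtain ⟨a, ha⟩ := hne i
    have h1 : ∀ b ∈ (univ : Finset κ), (1 : ℤ) ≤ r i b ^ 2 := by
      intro b _
      rw [hi.2 b a]
      have := sq_pos_of_ne_zero ha
      linarith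
    have := card_nsmul_le_sum _ _ _ h1
    simpa [← htdef] using this
  have hN1 : ∀ i ∈ EX, (1 : ℤ) ≤ ∑ a, r i a ^ 2 := by
    intro i _
    obtain ⟨a, ha⟩ := hne i
    have h1 := single_le_sum (f := fun b => r i b ^ 2) (fun b _ => sq_nonneg _) (mem_univ a)
    have h2 := sq_pos_of_ne_zero ha
    linarith
  have hsum : (NE.card : ℤ) * t + EX.card ≤ t * (e + 1) := by
    rw [← hS2, hsplit]
    have h1 := card_nsmul_le_sum NE _ _ hN0
    have h2 := card_nsmul_le_sum EX _ _ hN1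
    rw [nsmul_eq_mul] at h1 h2
    linarith
  have hcount' : (NE.card : ℤ) = e + t - EX.card := by
    have : ((NE.card + EX.card : ℕ) : ℤ) = ((e + t : ℕ) : ℤ) := by rw [hcount]
    push_cast at this
    linarith
  have hEXt : (EX.card : ℤ) = t := by
    rw [hcount'] at hsum
    nlinarith
  have hNEe : NE.card = e := by
    have : (NE.card : ℤ) = e := by rw [hcount', hEXt]; ring
    exact_mod_cast this
  -- equality cases
  have hle1 := card_nsmul_le_sum NE _ _ hN0
  have hle2 := card_nsmul_le_sum EX _ _ hN1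
  rw [nsmul_eq_mul] at hle1 hle2
  have htot := hS2
  rw [hsplit] at htot
  have heq1 : ∑ i ∈ NE, ∑ a, r i a ^ 2 = ∑ i ∈ NE, (t : ℤ) := by
    rw [sum_const, nsmul_eq_mul]
    have : (NE.card : ℤ) = e := by exact_mod_cast hNEe
    rw [this] at hle1 ⊢
    rw [hEXt] at hle2
    linarith
  have heq2 : ∑ i ∈ EX, ∑ a, r i a ^ 2 = ∑ i ∈ EX, (1 : ℤ) := by
    rw [sum_const, nsmul_eq_mul]
    have : (NE.card : ℤ) = e := by exact_mod_cast hNEe
    rw [this] at hle1
    rw [hEXt] at hle2 ⊢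
    linarith
  have hNEr : ∀ i ∈ NE, (t : ℤ) = ∑ a, r i a ^ 2 :=
    (sum_eq_sum_iff_of_le hN0).1 heq1.symm
  have hEXr : ∀ i ∈ EX, (1 : ℤ) = ∑ a, r i a ^ 2 :=
    (sum_eq_sum_iff_of_le hN1).1 heq2.symm
  have hEXs : ∀ i ∈ EX, ∃ a, ∃ c : ℤ, (c = 1 ∨ c = -1) ∧ ∀ b, r i b = if b = a then c else 0 := by
    intro i hi
    obtain ⟨a, ha⟩ := hne i
    have h1 := hEXr i hi
    have h2 : ∑ b, r i b ^ 2 = r i a ^ 2 + ∑ b ∈ univ \ {a}, r i b ^ 2 := by
      rw [← sum_singleton (fun b => r i b ^ 2) a, add_comm, sum_sdiff (subset_univ _)]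
    have h3 : 0 ≤ ∑ b ∈ univ \ {a}, r i b ^ 2 := sum_nonneg fun b _ => sq_nonneg _
    have h4 := sq_pos_of_ne_zero ha
    have h5 : r i a ^ 2 = 1 := by linarith
    have h6 : ∑ b ∈ univ \ {a}, r i b ^ 2 = 0 := by linarith
    refine ⟨a, r i a, eq_one_or_of_sq h5, ?_⟩
    intro b
    by_cases hb : b = a
    · simp [hb]
    · rw [if_neg hb]
      have := (sum_eq_zero_iff_of_nonneg (fun b _ => sq_nonneg _)).1 h6 b (by simp [hb])
      exact pow_eq_zero_iff (two_ne_zero) |>.1 this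
  have hκ : Nonempty κ := by
    rw [← Fintype.card_pos_iff]; omega
  let f : ι → κ := fun i => if h : i ∈ EX then (hEXs i h).choose else Classical.arbitrary κ
  have hmem : ∀ i, i ∉ NE → i ∈ EX := by
    intro i hi
    rw [hEX, mem_filter]
    refine ⟨mem_univ _, fun h => hi ?_⟩
    rw [hNE, mem_filter]
    exact ⟨mem_univ _, h⟩
  have hf : ∀ i, i ∉ NE → ∃ c : ℤ, (c = 1 ∨ c = -1) ∧ ∀ a, r i a = if a = f i then c else 0 := by
    intro i hi
    have h := hmem i hi
    have : f i = (hEXs i h).choose := dif_pos h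
    rw [this]
    exact (hEXs i h).choose_spec
  refine ⟨NE, f, hNEe, ?_, hf, ?_⟩
  · intro i hi
    have h1 := hNEr i hi
    obtain ⟨a, ha⟩ := hne i
    rw [hNE, mem_filter] at hi
    have h2 : ∑ b, r i b ^ 2 = t * r i a ^ 2 := by
      have : ∀ b ∈ (univ : Finset κ), r i b ^ 2 = r i a ^ 2 := fun b _ => by rw [hi.2 b a]
      rw [sum_congr rfl this, sum_const, card_univ, nsmul_eq_mul]
    have h3 : (t : ℤ) * (r i a ^ 2 - 1) = 0 := by rw [mul_sub, ← h2, ← h1]; ring
    have ht0 : (t : ℤ) ≠ 0 := by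
      have : (2 : ℤ) ≤ t := by exact_mod_cast ht
      linarith
    have h4 : r i a ^ 2 = 1 := by
      rcases mul_eq_zero.1 h3 with h | h
      · exact absurd h ht0
      · linarith
    rcases eq_one_or_of_sq h4 with h | h
    · left; intro b; rw [hi.2 b a, h]
    · right; intro b; rw [hi.2 b a, h]
  · intro i hi j hj hij
    by_contra hne'
    obtain ⟨c, hc, hri⟩ := hf i hi
    obtain ⟨c', hc', hrj⟩ := hf j hj
    have h1 := hgram (f i) (f i)
    rw [if_pos rfl, hsplit] at h1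
    have h2 : ∑ k ∈ NE, r k (f i) * r k (f i) = e := by
      have : ∀ k ∈ NE, r k (f i) * r k (f i) = 1 := by
        intro k hk
        have h1 := hNEr k hk
        rw [hNE, mem_filter] at hk
        have h2 : ∑ b, r k b ^ 2 = t * r k (f i) ^ 2 := by
          have : ∀ b ∈ (univ : Finset κ), r k b ^ 2 = r k (f i) ^ 2 :=
            fun b _ => by rw [hk.2 b (f i)]
          rw [sum_congr rfl this, sum_const, card_univ, nsmul_eq_mul]
        have h3 : (t : ℤ) * (r k (f i) ^ 2 - 1) = 0 := by rw [mul_sub, ← h2, ← h1]; ring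
        have ht0 : (t : ℤ) ≠ 0 := by
          have : (2 : ℤ) ≤ t := by exact_mod_cast ht
          linarith
        rcases mul_eq_zero.1 h3 with h | h
        · exact absurd h ht0
        · rw [← pow_two]; linarith
      rw [sum_congr rfl this, sum_const, nsmul_eq_mul, hNEe, mul_one]
    rw [h2] at h1
    have h3 : ∑ k ∈ ({i, j} : Finset ι), r k (f i) * r k (f i) ≤
        ∑ k ∈ EX, r k (f i) * r k (f i) := by
      apply sum_le_sum_of_subset_of_nonneg
      · intro k hk
        rw [mem_insert, mem_singleton] at hk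
        rcases hk with rfl | rfl
        · exact hmem _ hi
        · exact hmem _ hj
      · intro k _ _
        exact mul_self_nonneg _
    rw [sum_pair hne', hri (f i), hrj (f i), if_pos rfl, if_pos hij] at h3
    have hcc : c * c = 1 := by rcases hc with rfl | rfl <;> norm_num
    have hcc' : c' * c' = 1 := by rcases hc' with rfl | rfl <;> norm_num
    rw [hcc, hcc'] at h3
    linarith

/-- The case `|κ| = 1`. -/
theorem rows_one {e : ℕ} (r : ι → ℤ) (hne : ∀ i, r i ≠ 0) (hgram : ∑ i, r i * r i = e + 1)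
    (hcard : Fintype.card ι = e + 1) (i : ι) : r i = 1 ∨ r i = -1 := by
  have h1 : ∀ i ∈ (univ : Finset ι), (1 : ℤ) ≤ r i * r i := by
    intro i _
    have := mul_self_pos.2 (hne i)
    linarith
  have h2 : ∑ i : ι, (1 : ℤ) = ∑ i, r i * r i := by
    rw [hgram]
    simp [hcard]
  have h3 := (sum_eq_sum_iff_of_le h1).1 h2 i (mem_univ i)
  have : (r i - 1) * (r i + 1) = 0 := by ring_nf; rw [pow_two, ← h3]; norm_num
  rcases mul_eq_zero.1 this with h | h
  · left; linarith
  · right; linarith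

/-- Uniform version, with a prescribed constant row `i₀`. -/
theorem rows_all [DecidableEq κ] {e : ℕ} (he : 1 ≤ e) (r : ι → κ → ℤ)
    (hne : ∀ i, ∃ a, r i a ≠ 0)
    (hgram : ∀ a b, ∑ i, r i a * r i b = e + if a = b then 1 else 0)
    (hcard : Fintype.card ι = e + Fintype.card κ) (ht : 1 ≤ Fintype.card κ)
    (i₀ : ι) (hi₀ : ∀ a, r i₀ a = -1) :
    ∃ (NE : Finset ι) (f : ι → κ), i₀ ∈ NE ∧ NE.card = e ∧
      (∀ i ∈ NE, (∀ a, r i a = 1) ∨ (∀ a, r i a = -1)) ∧
      (∀ i, i ∉ NE → ∃ c : ℤ, (c = 1 ∨ c = -1) ∧ ∀ a, r i a = if a = f i then c else 0) ∧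
      (∀ i, i ∉ NE → ∀ j, j ∉ NE → f i = f j → i = j) := by
  classical
  rcases Nat.lt_or_ge (Fintype.card κ) 2 with h1 | h2
  · have ht1 : Fintype.card κ = 1 := by omega
    obtain ⟨a₀, ha₀⟩ := Fintype.card_eq_one_iff.1 ht1
    have hr : ∀ i, r i a₀ = 1 ∨ r i a₀ = -1 := by
      intro i
      apply rows_one (e := e) (fun i => r i a₀)
      · intro i
        obtain ⟨a, ha⟩ := hne i
        rwa [ha₀ a] at ha
      · rw [hgram, if_pos rfl]
      · rw [hcard, ht1]
    obtain ⟨i₁, hi₁⟩ : ∃ i₁, i₁ ≠ i₀ := by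
      have : 1 < Fintype.card ι := by omega
      exact Fintype.exists_ne_of_one_lt_card this i₀
    refine ⟨univ.erase i₁, fun _ => a₀, ?_, ?_, ?_, ?_, ?_⟩
    · rw [mem_erase]; exact ⟨hi₁.symm, mem_univ _⟩
    · rw [card_erase_of_mem (mem_univ _), card_univ]; omega
    · intro i _
      rcases hr i with h | h
      · left; intro a; rw [ha₀ a, h]
      · right; intro a; rw [ha₀ a, h]
    · intro i _
      exact ⟨r i a₀, hr i, fun a => by rw [ha₀ a, if_pos rfl]⟩
    · intro i hi j hj _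
      rw [mem_erase, not_and_or, not_not] at hi hj
      have hi' : i = i₁ := by
        rcases hi with h | h
        · exact h
        · exact absurd (mem_univ _) h
      have hj' : j = i₁ := by
        rcases hj with h | h
        · exact h
        · exact absurd (mem_univ _) h
      rw [hi', hj']
  · obtain ⟨NE, f, h3, h4, h5, h6⟩ := rows r hne hgram hcard h2
    refine ⟨NE, f, ?_, h3, h4, h5, h6⟩
    by_contra hcon
    obtain ⟨c, -, hc⟩ := h5 i₀ hcon
    obtain ⟨b, hb⟩ := Fintype.exists_ne_of_one_lt_card (by omega) (f i₀)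
    have := hc b
    rw [hi₀, if_neg hb] at this
    omega

end Cfsg.Agent.SmallSimple.RowComb
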