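import Cfsg.Agent.SmallSimple.PrimeDual
import Cfsg.Agent.SmallSimple.SylowPrimeCount
import Cfsg.Agent.SmallSimple.RowComb

/-!
The action of `N(P)` on the linear characters of a Sylow subgroup `P` of prime order, and the
Gram matrix of the restrictions to `P` of a family of characters satisfying orthogonality on `P#`.
-/

set_option autoImplicit false
open Cfsg
open scoped ComplexConjugate

namespace Cfsg.Agent.SmallSimple.PrimeOrbits

open Subgroup
open Cfsg.Agent.Characters.Core Cfsg.Agent.Characters.Linear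
open Cfsg.Agent.SmallSimple.PrimeDual Cfsg.Agent.SmallSimple.SylowPrime
open Cfsg.Agent.SmallSimple.SylowPrimeCount

universe u

/-- Sum over the fibres of a map whose fibres are cosets. -/
theorem sum_fibre {N Y : Type*} [Group N] [Fintype N] [DecidableEq Y] (f : N → Y)
    (C : Subgroup N) (h : ∀ m n, f m = f n ↔ m⁻¹ * n ∈ C) (F : Y → ℂ) :
    ∑ n : N, F (f n) = (Nat.card C : ℂ) * ∑ y ∈ Finset.univ.image f, F y := by
  classical
  rw [Finset.sum_comp F f, Finset.mul_sum]
  refine Finset.sum_congr rfl fun y hy => ?_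
  rw [Finset.mem_image] at hy
  obtain ⟨n₀, -, rfl⟩ := hy
  have hcard : (Finset.univ.filter (fun a => f a = f n₀)).card = Nat.card C := by
    rw [← Fintype.card_subtype, ← Nat.card_eq_fintype_card]
    exact Nat.card_congr
      { toFun := fun a => ⟨n₀⁻¹ * a.1, (h n₀ a.1).1 a.2.symm⟩
        invFun := fun c => ⟨n₀ * c.1, ((h n₀ _).2 (by simp [c.2])).symm⟩
        left_inv := fun a => by simp
        right_inv := fun c => by simp }
  rw [hcard, nsmul_eq_mul]

variable {G : Type u} [Group G]

/-- The twist of a linear character of `P` by an element of the normalizer. -/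
noncomputable def tw (P : Subgroup G) (n : normalizer (P : Set G)) (l : P →* ℂˣ) : P →* ℂˣ :=
  l.comp (P.normalizerMonoidHom n).toMonoidHom

theorem tw_apply (P : Subgroup G) (n : normalizer (P : Set G)) (l : P →* ℂˣ) (x : P) :
    tw P n l x = l (P.normalizerMonoidHom n x) := rfl

theorem coe_nmh (P : Subgroup G) (n : normalizer (P : Set G)) (x : P) :
    ((P.normalizerMonoidHom n x : P) : G) = n * x * (n : G)⁻¹ := rfl

theorem tw_mul (P : Subgroup G) (m n : normalizer (P : Set G)) (l : P →* ℂˣ) :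
    tw P (m * n) l = tw P n (tw P m l) := by
  ext x
  rw [tw_apply, tw_apply, tw_apply, map_mul, MulAut.mul_apply]

theorem tw_one (P : Subgroup G) (l : P →* ℂˣ) : tw P 1 l = l := by
  ext x
  rw [tw_apply, map_one, MulAut.one_apply]

theorem tw_trivial (P : Subgroup G) (n : normalizer (P : Set G)) : tw P n 1 = 1 := by
  ext x
  rw [tw_apply, MonoidHom.one_apply, MonoidHom.one_apply]

theorem tw_ne_one {P : Subgroup G} {n : normalizer (P : Set G)} {l : P →* ℂˣ} (hl : l ≠ 1) :
    tw P n l ≠ 1 := by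
  intro h
  apply hl
  have h1 : tw P n⁻¹ (tw P n l) = 1 := by rw [h, tw_trivial]
  rwa [← tw_mul, mul_inv_cancel, tw_one] at h1

theorem tw_eq_tw_iff [Finite G] {p : ℕ} (hp : p.Prime) {P : Subgroup G} (hP : Nat.card P = p)
    {l : P →* ℂˣ} (hl : l ≠ 1) (m n : normalizer (P : Set G)) :
    tw P m l = tw P n l ↔ m⁻¹ * n ∈ (centralizer (P : Set G)).subgroupOf (normalizer (P : Set G)) := by
  rw [← normalizerMonoidHom_ker, MonoidHom.mem_ker, map_mul, map_inv, inv_mul_eq_one]
  constructor
  · intro h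
    ext x : 1
    apply injective_of_ne_one hp hP hl
    rw [← tw_apply, ← tw_apply, h]
  · intro h
    ext x
    rw [tw_apply, tw_apply, h]

theorem conj_eq_conj_iff {p : ℕ} (hp : p.Prime) {P : Subgroup G} (hP : Nat.card P = p)
    {u : P} (hu : u ≠ 1) (m n : normalizer (P : Set G)) :
    P.normalizerMonoidHom m u = P.normalizerMonoidHom n u ↔
      m⁻¹ * n ∈ (centralizer (P : Set G)).subgroupOf (normalizer (P : Set G)) := by
  rw [← normalizerMonoidHom_ker, MonoidHom.mem_ker, map_mul, map_inv, inv_mul_eq_one]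
  constructor
  · intro h
    ext x : 1
    have hu1 : (u : G) ≠ 1 := fun h => hu (Subtype.ext h)
    obtain ⟨k, hk⟩ := mem_zpowers_iff.1 (mem_zpowers_of_card_prime hp hP u.2 hu1 x.2)
    have hx : x = u ^ k := Subtype.ext (by rw [← hk]; rfl)
    rw [hx, map_zpow, map_zpow, h]
  · intro h; rw [h]

/-- Elements of `P#` conjugate in `G` are conjugate in `N(P)`. -/
theorem exists_conj_of_isConj [Finite G] {p : ℕ} (hp : p.Prime) {P : Subgroup G}
    (hP : Nat.card P = p) {u v : P} (hu : u ≠ 1) (h : IsConj (u : G) (v : G)) :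
    ∃ n : normalizer (P : Set G), P.normalizerMonoidHom n u = v := by
  obtain ⟨g, hg⟩ := isConj_iff.1 h
  have hu1 : (u : G) ≠ 1 := fun h => hu (Subtype.ext h)
  have hv1 : (v : G) ≠ 1 := by
    intro hv
    rw [hv, mul_inv_eq_one] at hg
    have : (u : G) = 1 := by
      have := congrArg (g⁻¹ * ·) hg
      simpa using this
    exact hu1 this
  have hgN : g ∈ normalizer (P : Set G) := by
    have key : ∀ w ∈ P, g * w * g⁻¹ ∈ P := by
      intro w hw
      obtain ⟨k, rfl⟩ := mem_zpowers_iff.1 (mem_zpowers_of_card_prime hp hP u.2 hu1 hw)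
      rw [← conj_zpow, hg]
      exact zpow_mem v.2 k
    have key2 : P.map (MulAut.conj g).toMonoidHom = P := by
      apply Subgroup.eq_of_le_of_card_ge
      · rintro _ ⟨w, hw, rfl⟩
        exact key w hw
      · rw [Nat.card_congr (P.equivMapOfInjective (MulAut.conj g).toMonoidHom (MulAut.conj g).injective).toEquiv]
    rw [mem_normalizer_iff]
    intro w
    constructor
    · exact key w
    · intro hw
      have hw' : g * w * g⁻¹ ∈ P.map (MulAut.conj g).toMonoidHom := by rw [key2]; exact hw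
      obtain ⟨w', hw'1, hw'2⟩ := hw'
      have : w' = w := (MulAut.conj g).injective hw'2
      rwa [← this]
  exact ⟨⟨g, hgN⟩, Subtype.ext hg⟩

theorem card_normalizer_eq [Finite G] (P : Subgroup G) :
    Nat.card (normalizer (P : Set G)) =
      Nat.card ((centralizer (P : Set G)).subgroupOf (normalizer (P : Set G))) *
      (centralizer (P : Set G)).relIndex (normalizer (P : Set G)) := by
  rw [relIndex, card_mul_index]

/-- The two linear characters are in the same orbit of the normalizer. -/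
def Rel (P : Subgroup G) (l l' : P →* ℂˣ) : Prop := ∃ n : normalizer (P : Set G), tw P n l = l'

theorem rel_refl (P : Subgroup G) (l : P →* ℂˣ) : Rel P l l := ⟨1, tw_one P l⟩

theorem rel_symm {P : Subgroup G} {l l' : P →* ℂˣ} (h : Rel P l l') : Rel P l' l := by
  obtain ⟨n, rfl⟩ := h
  exact ⟨n⁻¹, by rw [← tw_mul, mul_inv_cancel, tw_one]⟩

theorem rel_trans {P : Subgroup G} {l l' l'' : P →* ℂˣ} (h : Rel P l l') (h' : Rel P l' l'') :
    Rel P l l'' := by
  obtain ⟨n, rfl⟩ := h
  obtain ⟨m, rfl⟩ := h'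
  exact ⟨n * m, tw_mul P n m l⟩

open scoped Classical in
/-- The number of `l'` in the orbit of a nontrivial `l` is `[N(P) : C(P)]`. -/
theorem card_orbit [Finite G] {p : ℕ} (hp : p.Prime) {P : Subgroup G} (hP : Nat.card P = p)
    [Fintype (P →* ℂˣ)] {l : P →* ℂˣ} (hl : l ≠ 1) :
    (Finset.univ.filter (fun l' => Rel P l l')).card =
      (centralizer (P : Set G)).relIndex (normalizer (P : Set G)) := by
  have := Fintype.ofFinite (normalizer (P : Set G))
  have h1 := sum_fibre (fun n => tw P n l)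
    ((centralizer (P : Set G)).subgroupOf (normalizer (P : Set G)))
    (tw_eq_tw_iff hp hP hl) (fun _ => 1)
  have h2 : Finset.univ.image (fun n => tw P n l) = Finset.univ.filter (fun l' => Rel P l l') := by
    ext l'
    simp [Rel]
  rw [h2] at h1
  simp only [Finset.sum_const, nsmul_eq_mul, mul_one, Finset.card_univ] at h1
  rw [← Nat.card_eq_fintype_card, card_normalizer_eq P, Nat.cast_mul] at h1
  have hne : (Nat.card ((centralizer (P : Set G)).subgroupOf (normalizer (P : Set G))) : ℂ) ≠ 0 :=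
    card_ne_zero_complex
  have h3 := mul_left_cancel₀ hne h1
  exact_mod_cast h3.symm

open scoped Classical in
/-- Gram matrix of the (shifted) multiplicities on `P` of a family of characters satisfying block
orthogonality on `P#`. -/
theorem gram [Finite G] {p : ℕ} (hp : p.Prime) {P : Subgroup G} (hP : Nat.card P = p)
    {ι : Type*} [Fintype ι] (χ : ι → G → ℂ) (hχ : ∀ i, IsCharacter G (χ i))
    (hO : ∀ u v : P, u ≠ 1 → v ≠ 1 → ∑ i, χ i u * conj (χ i v) =
      if IsConj (u : G) (v : G) then (p : ℂ) else 0) [Fintype (P →* ℂˣ)] :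
    ∃ r : ι → (P →* ℂˣ) → ℤ,
      (∀ i, ∀ x : P, x ≠ 1 → χ i x = ∑ l : P →* ℂˣ, (r i l : ℂ) * ((l x : ℂˣ) : ℂ)) ∧
      (∀ i, r i 1 = 0) ∧ (∀ i l n, r i (tw P n l) = r i l) ∧
      ∀ l l', l ≠ 1 → l' ≠ 1 → ∑ i, r i l * r i l' =
        ((centralizer (P : Set G)).relIndex (normalizer (P : Set G)) : ℤ) +
          if Rel P l l' then 1 else 0 := by
  have := Fintype.ofFinite P
  have := Fintype.ofFinite (normalizer (P : Set G))
  have hpC : (p : ℂ) ≠ 0 := by exact_mod_cast hp.ne_zero
  choose m hm using fun i => exists_mult hp hP (isCharacter_comp P.subtype (hχ i))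
  have hcardP : (Nat.card P : ℂ) = p := by rw [hP]
  have hmul : ∀ i l, ∑ x : P, χ i x * conj ((l x : ℂˣ) : ℂ) = (m i l : ℂ) * p := by
    intro i l
    have := sum_mul_conj_of_mult (m := fun l => (m i l : ℂ)) (hm i) l
    rw [hcardP] at this
    exact this
  have hcl : ∀ i, IsClassFunction G (χ i) := fun i => isCharacter_isClassFunction (hχ i)
  have hinv : ∀ i l n, m i (tw P n l) = m i l := by
    intro i l n
    have h1 : (m i (tw P n l) : ℂ) * p = (m i l : ℂ) * p := by
      rw [← hmul, ← hmul]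
      refine Fintype.sum_equiv (P.normalizerMonoidHom n).toEquiv _ _ fun x => ?_
      rw [tw_apply]
      show _ = χ i ((P.normalizerMonoidHom n x : P) : G) * _
      rw [coe_nmh, hcl i]
      rfl
    exact_mod_cast mul_right_cancel₀ hpC h1
  have hr : ∀ i l, (((m i l : ℤ) - (m i 1 : ℤ) : ℤ) : ℂ) * p =
      ∑ x : P, χ i x * (conj ((l x : ℂˣ) : ℂ) - 1) := by
    intro i l
    push_cast
    rw [sub_mul, ← hmul, ← hmul, ← Finset.sum_sub_distrib]
    refine Finset.sum_congr rfl fun x _ => ?_
    simp [mul_sub]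
  refine ⟨fun i l => (m i l : ℤ) - m i 1, ?_, ?_, ?_, ?_⟩
  · intro i x hx
    have h1 := hm i x
    have h2 := sum_dual_eq_zero hp hP hx
    have h3 : χ i x = ∑ l : P →* ℂˣ, (m i l : ℂ) * ((l x : ℂˣ) : ℂ) := h1
    rw [h3]
    push_cast
    simp only [sub_mul, Finset.sum_sub_distrib, ← Finset.mul_sum, h2, mul_zero, sub_zero]
  · intro i; simp
  · intro i l n; simp only [hinv]
  · intro l l' hl hl'
    set C := (centralizer (P : Set G)).subgroupOf (normalizer (P : Set G)) with hC
    have hCne : (Nat.card C : ℂ) ≠ 0 := card_ne_zero_complex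
    have hinner : ∀ u : P, u ≠ 1 → (Nat.card C : ℂ) * ∑ v : P, (((l' v : ℂˣ) : ℂ) - 1) *
        (if IsConj (u : G) (v : G) then (p : ℂ) else 0) =
        (p : ℂ) * ∑ n : normalizer (P : Set G), (((tw P n l' u : ℂˣ) : ℂ) - 1) := by
      intro u hu
      have h1 := sum_fibre (fun n => P.normalizerMonoidHom n u) C
        (conj_eq_conj_iff hp hP hu) (fun v => ((l' v : ℂˣ) : ℂ) - 1)
      have h2 : Finset.univ.image (fun n => P.normalizerMonoidHom n u) =
          Finset.univ.filter (fun v : P => IsConj (u : G) (v : G)) := by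
        ext v
        simp only [Finset.mem_image, Finset.mem_univ, true_and, Finset.mem_filter]
        constructor
        · rintro ⟨n, rfl⟩
          rw [coe_nmh]
          exact isConj_iff.2 ⟨n, rfl⟩
        · intro h
          exact exists_conj_of_isConj hp hP hu h
      rw [h2] at h1
      have h3 : ∑ n : normalizer (P : Set G), (((tw P n l' u : ℂˣ) : ℂ) - 1) =
          ∑ n : normalizer (P : Set G), (((l' (P.normalizerMonoidHom n u) : ℂˣ) : ℂ) - 1) := rfl
      rw [h3, h1, Finset.sum_filter]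
      simp only [Finset.mul_sum, mul_ite, mul_zero]
      refine Finset.sum_congr rfl fun v _ => ?_
      split_ifs <;> ring
    have hmain : (Nat.card C : ℂ) * ((∑ i, (((m i l : ℤ) - (m i 1 : ℤ) : ℤ) : ℂ) * p *
        ((((m i l' : ℤ) - (m i 1 : ℤ) : ℤ) : ℂ) * p))) =
        (p : ℂ) * ∑ n : normalizer (P : Set G), ∑ u : P, (conj ((l u : ℂˣ) : ℂ) - 1) *
          (((tw P n l' u : ℂˣ) : ℂ) - 1) := by
      have h1 : ∀ i, ((((m i l' : ℤ) - (m i 1 : ℤ) : ℤ) : ℂ) * p) =
          ∑ v : P, conj (χ i v) * (((l' v : ℂˣ) : ℂ) - 1) := by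
        intro i
        have h := congrArg conj (hr i l')
        rw [map_sum, map_mul, Complex.conj_natCast, map_intCast] at h
        rw [h]
        refine Finset.sum_congr rfl fun v _ => ?_
        rw [map_mul, map_sub, Complex.conj_conj, map_one]
      have h2 : ∑ i, (((m i l : ℤ) - (m i 1 : ℤ) : ℤ) : ℂ) * p *
          ((((m i l' : ℤ) - (m i 1 : ℤ) : ℤ) : ℂ) * p) =
          ∑ u : P, (conj ((l u : ℂˣ) : ℂ) - 1) * ∑ v : P, (((l' v : ℂˣ) : ℂ) - 1) *
            ∑ i, χ i u * conj (χ i v) := by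
        have h3 : ∀ i, (((m i l : ℤ) - (m i 1 : ℤ) : ℤ) : ℂ) * p *
            ((((m i l' : ℤ) - (m i 1 : ℤ) : ℤ) : ℂ) * p) =
            ∑ u : P, ∑ v : P, (conj ((l u : ℂˣ) : ℂ) - 1) * ((((l' v : ℂˣ) : ℂ) - 1) *
              (χ i u * conj (χ i v))) := by
          intro i
          rw [h1 i, hr i l, Finset.sum_mul_sum]
          refine Finset.sum_congr rfl fun u _ => Finset.sum_congr rfl fun v _ => by ring
        simp only [h3]
        rw [Finset.sum_comm]
        refine Finset.sum_congr rfl fun u _ => ?_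
        rw [Finset.sum_comm, Finset.mul_sum]
        refine Finset.sum_congr rfl fun v _ => ?_
        rw [Finset.mul_sum, Finset.mul_sum]
      rw [h2, Finset.mul_sum]
      rw [Finset.sum_comm, Finset.mul_sum]
      refine Finset.sum_congr rfl fun u _ => ?_
      by_cases hu : u = 1
      · subst hu
        simp
      · have h4 : ∑ v : P, (((l' v : ℂˣ) : ℂ) - 1) * ∑ i, χ i u * conj (χ i v) =
            ∑ v : P, (((l' v : ℂˣ) : ℂ) - 1) *
              (if IsConj (u : G) (v : G) then (p : ℂ) else 0) := by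
          refine Finset.sum_congr rfl fun v _ => ?_
          by_cases hv : v = 1
          · subst hv; simp
          · rw [hO u v hu hv]
        rw [h4, mul_left_comm, hinner u hu, ← Finset.mul_sum]
        ring
    have hinner2 : ∀ n : normalizer (P : Set G), ∑ u : P, (conj ((l u : ℂˣ) : ℂ) - 1) *
          (((tw P n l' u : ℂˣ) : ℂ) - 1) = (if tw P n l' = l then (p : ℂ) else 0) + p := by
      intro n
      have h1 := sum_hom_mul_conj (tw P n l') l
      have h2 := sum_hom_eq_zero (tw_ne_one (n := n) hl')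
      have h3 : ∑ u : P, conj ((l u : ℂˣ) : ℂ) = 0 := by
        rw [← map_sum, sum_hom_eq_zero hl, map_zero]
      have h4 : ∀ u : P, (conj ((l u : ℂˣ) : ℂ) - 1) * (((tw P n l' u : ℂˣ) : ℂ) - 1) =
          ((tw P n l' u : ℂˣ) : ℂ) * conj ((l u : ℂˣ) : ℂ) - conj ((l u : ℂˣ) : ℂ) -
            ((tw P n l' u : ℂˣ) : ℂ) + 1 := fun u => by ring
      simp only [h4, Finset.sum_add_distrib, Finset.sum_sub_distrib, h1, h2, h3, sub_zero,
        Finset.sum_const, Finset.card_univ, nsmul_eq_mul, mul_one]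
      rw [← Nat.card_eq_fintype_card, hcardP]
    simp only [hinner2, Finset.sum_add_distrib, Finset.sum_const, Finset.card_univ,
      nsmul_eq_mul] at hmain
    have hf := sum_fibre (fun n => tw P n l') C (tw_eq_tw_iff hp hP hl')
      (fun y => if y = l then (p : ℂ) else 0)
    rw [Finset.sum_ite_eq'] at hf
    have hrel : (l ∈ Finset.univ.image (fun n => tw P n l')) ↔ Rel P l l' := by
      simp only [Finset.mem_image, Finset.mem_univ, true_and]
      constructor
      · intro h; exact rel_symm h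
      · intro h; exact rel_symm h
    rw [hf, ← Nat.card_eq_fintype_card, card_normalizer_eq P, Nat.cast_mul] at hmain
    have hfin : ((∑ i, ((m i l : ℤ) - (m i 1 : ℤ)) * ((m i l' : ℤ) - (m i 1 : ℤ)) : ℤ) : ℂ) =
        (((centralizer (P : Set G)).relIndex (normalizer (P : Set G)) : ℤ) +
          (if Rel P l l' then 1 else 0 : ℤ) : ℤ) := by
      have h5 : ∑ i, (((m i l : ℤ) - (m i 1 : ℤ) : ℤ) : ℂ) * p *
          ((((m i l' : ℤ) - (m i 1 : ℤ) : ℤ) : ℂ) * p) =
          (p : ℂ) ^ 2 * ((∑ i, ((m i l : ℤ) - (m i 1 : ℤ)) * ((m i l' : ℤ) - (m i 1 : ℤ)) : ℤ) : ℂ) := by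
        push_cast
        rw [Finset.mul_sum]
        refine Finset.sum_congr rfl fun i _ => by ring
      rw [h5] at hmain
      have h6 : (Nat.card C : ℂ) * (p : ℂ) ^ 2 ≠ 0 := mul_ne_zero hCne (pow_ne_zero _ hpC)
      apply mul_left_cancel₀ h6
      rw [mul_assoc, hmain]
      by_cases hR : Rel P l l'
      · rw [if_pos (hrel.2 hR), if_pos hR]
        push_cast
        ring
      · rw [if_neg (fun h => hR (hrel.1 h)), if_neg hR]
        push_cast
        ring
    exact_mod_cast hfin

end Cfsg.Agent.SmallSimple.PrimeOrbits
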