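import Cfsg.Agent.SmallSimple.TheoremCCor
import Cfsg.Agent.SmallSimple.BlockIndex
import Cfsg.Agent.M23Order.Base

/-!
# Rational values at elements of order `p` outside the principal block

Let `|P| = p`, `|N(P) : C(P)| = p - 1`, `C(P) = P × K`. If the irreducible character `χ` is not in
the principal `p`-block and has the constant integral value `v` on `P \ 1`, then `v = 0` or
`|v| ∈ {n, n m}` with `n ∣ |K|`, `m ∣ p - 1` and `1 + m n ^ 2 ≤ |K|` (Theorem C: `n = θ(1)` and `m`
is the length of the `N(P)`-orbit of `θ ∈ Irr K`).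
-/

set_option autoImplicit false
set_option linter.unusedSectionVars false
open Cfsg
open scoped ComplexConjugate

namespace Cfsg.Agent.SmallSimple.ThetaValue

open Subgroup
open Cfsg.Agent.Characters.Core Cfsg.Agent.Characters.Linear
open Cfsg.Agent.SmallSimple.PrimeDual Cfsg.Agent.SmallSimple.ThetaSetup
open Cfsg.Agent.SmallSimple.ThetaOrtho Cfsg.Agent.SmallSimple.ThetaGroup
open Cfsg.Agent.SmallSimple.ThetaCount Cfsg.Agent.SmallSimple.TheoremC
open Cfsg.Agent.SmallSimple.TheoremCCor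
open Cfsg.Agent.M23Order.Base (dg dg_eq dg_of_eq dg_dvd sum_dg_sq_le)

universe u

variable {G : Type u} [Group G] [Finite G] {p : ℕ} [Fact p.Prime] {P : Sylow p G}
  {K : Subgroup G}

theorem isComp_of_local {e : ℕ} (h : PrimeLocal.IsLocal p P e K) :
    IsComp p (P : Subgroup G) K := by
  intro y
  rw [h.mem_iff]
  refine and_congr_right fun hy => ⟨fun h1 h2 => h.not_dvd (h2.trans (orderOf_dvd_of_pow_eq_one h1)),
    fun h1 => ?_⟩
  have h2 : orderOf y ∣ p * Nat.card K := by
    rw [← h.card_centralizer]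
    exact Subgroup.orderOf_dvd_natCard _ hy
  have h3 : (orderOf y).Coprime p :=
    (((Fact.out : p.Prime).coprime_iff_not_dvd).2 h1).symm
  exact orderOf_dvd_iff_pow_eq_one.1 (h3.dvd_of_dvd_mul_left h2)

/-- Degrees are constant on orbits. -/
theorem orb_apply_one (hK : IsComp p (P : Subgroup G) K) {θ : K → ℂ} {θ' : IrrCharacter K}
    (h : θ' ∈ orb P K θ) : (θ' : K → ℂ) 1 = θ 1 := by
  obtain ⟨n, hn, h1⟩ := mem_orb.1 h
  rw [← h1, tw_apply hK _ hn]
  congr 1
  apply Subtype.ext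
  simp

/-- The trivial character is in no other orbit. -/
theorem eq_one_of_mem_orb (hK : IsComp p (P : Subgroup G) K) {θ : K → ℂ} {θ' : IrrCharacter K}
    (h : θ' ∈ orb P K θ) (h1 : (θ' : K → ℂ) = 1) : θ = 1 := by
  obtain ⟨n, hn, h2⟩ := mem_orb.1 h
  rw [h1] at h2
  funext y
  obtain ⟨z, hz⟩ := (cK hK hn).surjective y
  have h3 := congrFun h2 z
  rw [tw_apply hK _ hn] at h3
  have h4 : (⟨n * z * n⁻¹, conj_mem hK hn z.2⟩ : K) = y := by
    rw [← hz]; rfl
  rwa [h4] at h3

open Classical in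
/-- The number of conjugates of `θ ≠ 1` times `θ(1) ^ 2`. -/
theorem card_orb_mul (hK : IsComp p (P : Subgroup G) K) {θ : IrrCharacter K}
    (h : (θ : K → ℂ) ≠ 1) : 1 + (orb P K (θ : K → ℂ)).card * dg θ ^ 2 ≤ Nat.card K := by
  have h1 := sum_dg_sq_le (G := K) (insert (⟨1, isIrr_one⟩ : IrrCharacter K) (orb P K (θ : K → ℂ)))
  rw [Finset.sum_insert] at h1
  · have h2 : dg (⟨1, isIrr_one⟩ : IrrCharacter K) = 1 := dg_of_eq (by simp)
    rw [h2, one_pow, Finset.sum_congr rfl (g := fun _ => dg θ ^ 2), Finset.sum_const,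
      smul_eq_mul] at h1
    · exact h1
    · intro θ' hθ'
      have h3 := orb_apply_one hK hθ'
      rw [dg_eq, dg_eq] at h3
      have h4 : dg θ' = dg θ := by exact_mod_cast h3
      rw [h4]
  · intro h3
    exact h (eq_one_of_mem_orb hK h3 rfl)

/-- **Rational values outside the principal block.** -/
theorem value_mem (hp2 : p ≠ 2) (hP : Nat.card P = p) (hK : IsComp p (P : Subgroup G) K)
    {M : Ideal AlgInt} (hM : IsPModular p M)
    (he : (centralizer (P : Set G)).relIndex (normalizer (P : Set G)) = p - 1)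
    {χ : IrrCharacter G} (hχ : χ ∉ principalBlock M G) {v : ℤ}
    (hv : ∀ x ∈ P, x ≠ 1 → (χ : G → ℂ) x = v) :
    v = 0 ∨ ∃ n m : ℕ, n ∣ Nat.card K ∧ m ∣ p - 1 ∧ 0 < m ∧ 1 + m * n ^ 2 ≤ Nat.card K ∧
      (v.natAbs = n * m ∨ v.natAbs = n) := by
  classical
  have hp : p.Prime := Fact.out
  have := Fintype.ofFinite P
  have : Finite (IrrCharacter K) := finite_irr
  obtain ⟨x₀, hx₀P, hx₀⟩ := exists_ne_one (P := (P : Subgroup G)) hP
  by_cases hθ : ∃ θ : IrrCharacter K, χ ∈ Over P (θ : K → ℂ)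
  swap
  · left
    push Not at hθ
    have h1 := apply_eq_zero hK hP hθ (g := x₀) (by
      rw [Blocks.CyclicOrtho.orderOf_eq P hP hx₀P hx₀])
    rw [hv x₀ hx₀P hx₀] at h1
    exact_mod_cast h1
  obtain ⟨θ, hθ⟩ := hθ
  right
  have hθ1 : (θ : K → ℂ) ≠ 1 := by
    intro h1
    rw [h1, mem_Over_one_iff hK hP hp2 hM] at hθ
    exact hχ hθ
  have h1 := card_stabAct_mul_card_orb hK hP θ.2
  have he' : (centralizer ((P : Subgroup G) : Set G)).relIndex
      (normalizer ((P : Subgroup G) : Set G)) = p - 1 := he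
  rw [he'] at h1
  set m := (orb P K (θ : K → ℂ)).card with hm
  have hp1 : 0 < p - 1 := by have := hp.two_le; omega
  have hm0 : 0 < m := by
    rcases Nat.eq_zero_or_pos m with h | h
    · rw [h, mul_zero] at h1; omega
    · exact h
  obtain ⟨NE, X, ε, d, S, g1, g2, g3, g4, g5, g6, g7, g8, g9, g10, g11⟩ :=
    theoremC hK hP θ.2 (e := Nat.card (stabAct hK (θ : K → ℂ))) rfl h1
  have hsum1 : ∑ θ' ∈ orb P K (θ : K → ℂ), (θ' : K → ℂ) 1 = (m : ℂ) * dg θ := by
    rw [Finset.sum_congr rfl fun θ' h => orb_apply_one hK h, Finset.sum_const, ← hm, dg_eq,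
      nsmul_eq_mul]
  refine ⟨dg θ, m, dg_dvd θ, ⟨_, by rw [← h1, mul_comm]⟩, hm0, card_orb_mul hK hθ1, ?_⟩
  have hdd : (d * d : ℤ) = 1 := by rcases g6 with h | h <;> rw [h] <;> norm_num
  rcases (g1 χ).1 hθ with hNE | hX
  · left
    have h2 := apply_of_const hK hP θ.2 hθ (c := ε χ) (g7 χ hNE) (x := ⟨x₀, hx₀P⟩)
      (fun h => hx₀ (congrArg Subtype.val h)) 1
    rw [hsum1] at h2
    have h3 : ((⟨x₀, hx₀P⟩ : P) : G) * ((1 : K) : G) = x₀ := by simp
    rw [h3, hv x₀ hx₀P hx₀] at h2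
    have h4 : v = ε χ * (m * dg θ) := by exact_mod_cast h2
    rw [h4, Int.natAbs_mul]
    have h5 : (ε χ).natAbs = 1 := by rcases g5 χ hNE with h | h <;> rw [h] <;> rfl
    rw [h5, one_mul, Int.natAbs_mul, Int.natAbs_natCast, Int.natAbs_natCast, mul_comm]
  · right
    obtain ⟨k1, k2, k3, k4⟩ := g8 χ hX
    -- the sum over `P \ 1` of each part
    have h2 : ∀ θ' ∈ orb P K (θ : K → ℂ),
        ∑ x ∈ (Finset.univ.erase (1 : (P : Subgroup G))), part (θ' : K → ℂ) (χ : G → ℂ) (x : G) =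
          -(d * Nat.card (stabAct hK (θ : K → ℂ))) := by
      intro θ' hθ'
      obtain ⟨n, hn, h3⟩ := mem_orb.1 hθ'
      have h4 : ∑ x ∈ (Finset.univ.erase (1 : (P : Subgroup G))), part (θ' : K → ℂ) (χ : G → ℂ) (x : G) =
          ∑ x ∈ (Finset.univ.erase (1 : (P : Subgroup G))), part (θ : K → ℂ) (χ : G → ℂ) (x : G) := by
        refine Finset.sum_bij (fun x _ => cP hn x) ?_ ?_ ?_ ?_
        · intro x hx
          rw [Finset.mem_erase] at hx ⊢
          exact ⟨fun h => hx.1 ((MulEquiv.map_eq_one_iff (cP hn)).1 h), Finset.mem_univ _⟩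
        · intro x _ y _ h
          exact (cP hn).injective h
        · intro y hy
          obtain ⟨x, rfl⟩ := (cP hn).surjective y
          rw [Finset.mem_erase] at hy
          exact ⟨x, Finset.mem_erase.2 ⟨fun h => hy.1 (by rw [h, map_one]), Finset.mem_univ _⟩, rfl⟩
        · intro x _
          rw [← h3, coe_cP, part_conj hK (θ : K → ℂ) (isIrr_isClassFunction χ.2) hn]
      rw [h4]
      have h5 := TheoremBCor.sum_exc_off (Q := (P : Subgroup G))
        (f := fun x => part (θ : K → ℂ) (χ : G → ℂ) (x : G)) (d := (d : ℂ)) k2 k4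
      have h6 := Finset.add_sum_erase Finset.univ
        (fun x : (P : Subgroup G) => part (θ : K → ℂ) (χ : G → ℂ) (x : G)) (Finset.mem_univ 1)
      have h7 := h6.trans h5
      rw [k1] at h7
      linear_combination h7
    have h3 : ((p - 1 : ℕ) : ℂ) * v = dg θ * (m * (-(d * Nat.card (stabAct hK (θ : K → ℂ))))) := by
      calc ((p - 1 : ℕ) : ℂ) * v = ∑ x ∈ (Finset.univ.erase (1 : (P : Subgroup G))), (χ : G → ℂ) (x : G) := by
            rw [Finset.sum_congr rfl (g := fun _ => (v : ℂ)), Finset.sum_const,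
              Finset.card_erase_of_mem (Finset.mem_univ _), Finset.card_univ,
              ← Nat.card_eq_fintype_card, nsmul_eq_mul, hP]
            · intro x hx
              exact hv x x.2 fun h => (Finset.mem_erase.1 hx).1 (Subtype.ext h)
        _ = ∑ x ∈ (Finset.univ.erase (1 : (P : Subgroup G))), ∑ θ' ∈ orb P K (θ : K → ℂ),
              part (θ' : K → ℂ) (χ : G → ℂ) (x : G) * dg θ := by
            refine Finset.sum_congr rfl fun x hx => ?_
            have h4 := apply_mul_orb hK hP θ.2 hθ (Finset.mem_erase.1 hx).1 1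
            rw [OneMemClass.coe_one, mul_one] at h4
            rw [h4]
            exact Finset.sum_congr rfl fun θ' h => by rw [orb_apply_one hK h, dg_eq]
        _ = dg θ * ∑ θ' ∈ orb P K (θ : K → ℂ), ∑ x ∈ (Finset.univ.erase (1 : (P : Subgroup G))),
              part (θ' : K → ℂ) (χ : G → ℂ) (x : G) := by
            rw [Finset.sum_comm, Finset.mul_sum]
            refine Finset.sum_congr rfl fun θ' _ => ?_
            rw [← Finset.sum_mul, mul_comm]
        _ = _ := by
            rw [Finset.sum_congr rfl h2, Finset.sum_const, ← hm, nsmul_eq_mul]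
    have h4 : ((p - 1 : ℕ) : ℤ) * v = (p - 1 : ℕ) * (-(d * dg θ)) := by
      have h5 : (((p - 1 : ℕ) : ℤ) : ℂ) = (Nat.card (stabAct hK (θ : K → ℂ)) : ℂ) * m := by
        exact_mod_cast h1.symm
      have h6 : ((((p - 1 : ℕ) : ℤ) * v : ℤ) : ℂ) = (((p - 1 : ℕ) : ℤ) * (-(d * dg θ)) : ℤ) := by
        push_cast at h5 ⊢
        rw [h3, h5]
        ring
      exact_mod_cast h6
    have h5 : v = -(d * dg θ) := mul_left_cancel₀ (by exact_mod_cast hp1.ne') h4
    rw [h5, Int.natAbs_neg, Int.natAbs_mul, Int.natAbs_natCast]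
    have h6 : d.natAbs = 1 := by rcases g6 with h | h <;> rw [h] <;> rfl
    rw [h6, one_mul]

end Cfsg.Agent.SmallSimple.ThetaValue
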