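import Cfsg.Agent.SmallSimple.PrimeFusion
import Cfsg.Agent.SmallSimple.ThetaValue

/-!
# All elementary properties of the values at elements of order `p`

`|P| = p`, `|N(P) : C(P)| = p - 1`, `C(P) = P × K`.
-/

set_option autoImplicit false
set_option linter.unusedSectionVars false

namespace Cfsg.Agent.SmallSimple.PrimeValues

open Cfsg Subgroup
open Cfsg.Agent.Characters.Core
open Cfsg.Agent.M23Order.Base (dg dg_eq)
open scoped ComplexConjugate

universe u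

variable {G : Type u} [Group G] [Finite G]

/-- The values `v` at the elements of `P \ 1`, where `|P| = p`. -/
structure Values (p : ℕ) (P : Sylow p G) (K : Subgroup G) (M : Ideal AlgInt)
    (v : IrrCharacter G → ℤ) : Prop where
  val : ∀ χ : IrrCharacter G, ∀ x ∈ P, x ≠ 1 → (χ : G → ℂ) x = v χ
  modEq : ∀ χ : IrrCharacter G, v χ ≡ dg χ [ZMOD p]
  norm : ∀ s : Finset (IrrCharacter G), ∑ χ ∈ s, v χ ^ 2 ≤ Nat.card (centralizer (P : Set G))
  dvd : ∀ χ : IrrCharacter G, ∀ x ∈ P, x ≠ 1 →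
    (dg χ : ℤ) ∣ ((centralizer ({x} : Set G)).index : ℤ) * v χ
  nonneg : ∀ χ : IrrCharacter G, 0 ≤ (dg χ : ℤ) + ((p - 1 : ℕ) : ℤ) * v χ
  mem : ∀ χ : IrrCharacter G, χ ∉ principalBlock M G → v χ = 0 ∨ ∃ n m : ℕ, n ∣ Nat.card K ∧
    m ∣ p - 1 ∧ 0 < m ∧ 1 + m * n ^ 2 ≤ Nat.card K ∧
    ((v χ).natAbs = n * m ∨ (v χ).natAbs = n)

theorem exists_values {p : ℕ} [hp : Fact p.Prime] (hp2 : p ≠ 2) {P : Sylow p G}
    (hP : Nat.card P = p) {K : Subgroup G} (hK : PrimeLocal.IsLocal p P (p - 1) K)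
    {M : Ideal AlgInt} (hM : IsPModular p M) :
    ∃ v : IrrCharacter G → ℤ, Values p P K M v := by
  have he := BlockIndex.relIndex_eq hK
  have hP' : Nat.card (P : Subgroup G) = p := hP
  obtain ⟨v, h1, h2, h3⟩ := PrimeFusion.exists_val (P := (P : Subgroup G)) hP' he
  refine ⟨v, h1, h2, h3, fun χ x hx hx1 => InvolColumn.dvd_index_mul χ.2 (h1 χ x hx hx1),
    fun χ => ?_, fun χ hχ => ?_⟩
  · obtain ⟨m, hm⟩ := M23.Adm.exists_add_V (isIrr_isCharacter χ.2) (P : Subgroup G)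
    rw [M23.Adm.V_const (P : Subgroup G) (h1 χ), dg_eq, hP'] at hm
    have h4 : (dg χ : ℤ) + ((p - 1 : ℕ) : ℤ) * v χ = p * m := by exact_mod_cast hm
    rw [h4]
    positivity
  · exact ThetaValue.value_mem hp2 hP (ThetaValue.isComp_of_local hK) hM he hχ (h1 χ)

end Cfsg.Agent.SmallSimple.PrimeValues
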