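import Cfsg.Agent.SmallSimple.GoodIdem
import Cfsg.Agent.Blocks.BlockRank
import Cfsg.Agent.Blocks.CyclicAssembly

/-!
# Lower bound for the number of irreducible characters not vanishing on `p`-singular elements

`P` a Sylow `p`-subgroup of order `p`, `H` a complement of `P` in its normalizer:
`|Irr H| + #(p-singular classes of G) ≤ #{χ ∈ Irr G : χ does not vanish on the p-singular elements}`.
-/

set_option autoImplicit false

namespace Cfsg.Agent.SmallSimple.SingularCount

open Cfsg Module
open scoped ComplexConjugate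
open Cfsg.Agent.Blocks.Central Cfsg.Agent.Blocks.Local Cfsg.Agent.Blocks.Osima
open Cfsg.Agent.Blocks.PPart Cfsg.Agent.Blocks.ModularTraces Cfsg.Agent.Characters.Core
open Cfsg.Agent.Blocks.BlockRank

universe u

variable {G : Type u} [Group G] [Finite G] {p : ℕ} [Fact p.Prime] {M : Ideal AlgInt}
  [hMp : M.IsPrime]

/-- The lower bound for a set of characters with local-integral idempotent. -/
theorem add_le_card (hM : IsPModular p M) [IsAlgClosed (ResField M)] {B : Set (IrrCharacter G)}
    (haR : ∀ g, MemLocalRing M (blockCoeff B g)) [Fintype G]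
    {ι κ : Type*} [Finite ι] [Finite κ] {V : ι → Type*} [∀ i, AddCommGroup (V i)]
    [∀ i, Module (ResField M) (V i)] [∀ i, FiniteDimensional (ResField M) (V i)]
    (ρ : ∀ i, Representation (ResField M) G (V i)) (hirr : ∀ i, (ρ i).IsIrreducible)
    (hne : ∀ i j, i ≠ j → IsEmpty (Representation.Equiv (ρ i) (ρ j)))
    (hact : ∀ i, ∑ h : G, redC M (blockCoeff B h) • ρ i h = 1)
    (f : κ → G → ℂ) (hfs : ∀ j, f j ∈
      Submodule.span ℂ ((fun χ : IrrCharacter G => (χ : G → ℂ)) '' B))
    (hfR : ∀ j g, MemLocalRing M (f j g))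
    (hf0 : ∀ j g, ¬ p ∣ orderOf g → redC M (f j g) = 0)
    (hfi : LinearIndependent (ResField M) (fun j g => redC M (f j g))) :
    Nat.card ι + Nat.card κ ≤ Nat.card B := by
  classical
  have := Fintype.ofFinite ι
  have := Fintype.ofFinite κ
  have : Finite (IrrCharacter G) := finite_irr
  have := Fintype.ofFinite B
  have hchar : CharP (ResField M) p := charP_resField hM
  let tr : ι → G → ResField M := fun i g => LinearMap.trace (ResField M) (V i) (ρ i g)
  have htrc : ∀ i (g h : G), tr i (h * g * h⁻¹) = tr i g := by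
    intro i g h
    show LinearMap.trace _ _ _ = LinearMap.trace _ _ _
    rw [map_mul, LinearMap.trace_mul_comm, ← map_mul]
    congr 2
    group
  -- lifts
  have hsec : ∀ x : ResField M, ∃ c : ℂ, MemLocalRing M c ∧ redC M c = x := by
    intro x
    obtain ⟨c, hc⟩ := red_surjective x
    exact ⟨c, c.2, by rw [redC_coe, hc]⟩
  choose s hsR hs using hsec
  let τ : ι → G → ℂ := fun i g => s (tr i g)
  have hτ : ∀ i, IsClassFunction G (τ i) := by
    intro i g h
    show s _ = s _
    rw [htrc]
  let θ : ι → G → ℂ := fun i => blockOp B (τ i)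
  have hθR : ∀ i g, MemLocalRing M (θ i g) := by
    intro i g
    exact memLocalRing_sum fun h _ => memLocalRing_mul (haR h) (hsR _)
  have hθred : ∀ i g, redC M (θ i g) = tr i g := by
    intro i g
    show redC M (∑ h, blockCoeff B h * τ i (h * g)) = _
    rw [redC_sum fun h _ => memLocalRing_mul (haR h) (hsR _)]
    have h1 : ∀ h : G, redC M (blockCoeff B h * τ i (h * g)) =
        redC M (blockCoeff B h) * tr i (h * g) := by
      intro h
      rw [redC_mul (haR h) (hsR _), hs]
    rw [Finset.sum_congr rfl fun h _ => h1 h]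
    have h2 : tr i g = LinearMap.trace (ResField M) (V i)
        ((∑ h : G, redC M (blockCoeff B h) • ρ i h) * ρ i g) := by
      rw [hact, one_mul]
    rw [h2, Finset.sum_mul, map_sum]
    refine Finset.sum_congr rfl fun h _ => ?_
    rw [smul_mul_assoc, map_smul, ← map_mul, smul_eq_mul]
  have hθs : ∀ i, θ i ∈ Submodule.span ℂ ((fun χ : IrrCharacter G => (χ : G → ℂ)) '' B) :=
    fun i => blockOp_mem_span B (hτ i)
  -- independence
  have hli : LinearIndependent (ResField M)
      (Sum.elim (fun i g => redC M (θ i g)) (fun j g => redC M (f j g)) : ι ⊕ κ → G → ResField M) := by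
    have h1 : (fun (i : ι) (g : G) => redC M (θ i g)) = tr := by
      funext i g
      exact hθred i g
    rw [h1, linearIndependent_sum]
    refine ⟨?_, hfi, ?_⟩
    · exact linearIndependent_trace ρ hirr hne
    · rw [Submodule.disjoint_def]
      intro w hw1 hw2
      have hw1' : w ∈ Submodule.span (ResField M) (Set.range tr) := hw1
      have hw2' : w ∈ Submodule.span (ResField M) (Set.range (fun j g => redC M (f j g))) := hw2
      rw [Submodule.mem_span_range_iff_exists_fun] at hw1' hw2'
      obtain ⟨c, hc⟩ := hw1'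
      obtain ⟨d, hd⟩ := hw2'
      -- `w` vanishes at regular elements
      have hreg : ∀ y : G, ¬ p ∣ orderOf y → w y = 0 := by
        intro y hy
        rw [← hd, Finset.sum_apply]
        apply Finset.sum_eq_zero
        intro j _
        rw [Pi.smul_apply, hf0 j y hy, smul_zero]
      funext g
      obtain ⟨x, y, hxyg, hcomm, ⟨k, hk⟩, hy⟩ := exists_isPPart p g
      have h2 : w g = w y := by
        rw [← hc, Finset.sum_apply, Finset.sum_apply]
        refine Finset.sum_congr rfl fun i _ => ?_
        rw [Pi.smul_apply, Pi.smul_apply]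
        congr 1
        show LinearMap.trace _ _ _ = LinearMap.trace _ _ _
        rw [← hxyg]
        exact trace_eq_of_commute p (ρ i) hcomm (k := k) (by rw [← hk, pow_orderOf_eq_one])
      rw [h2, hreg y hy]
      rfl
  have hliC : LinearIndependent ℂ (Sum.elim θ f : ι ⊕ κ → G → ℂ) := by
    apply linearIndependent_of_redC (M := M)
    · rintro (i | j) g
      · exact hθR i g
      · exact hfR j g
    · convert hli using 1
      funext x
      rcases x with i | j <;> rfl
  -- count
  have hrange : (fun χ : IrrCharacter G => (χ : G → ℂ)) '' B =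
      Set.range (fun χ : B => ((χ : IrrCharacter G) : G → ℂ)) := by
    rw [Set.image_eq_range]
  let W := Submodule.span ℂ ((fun χ : IrrCharacter G => (χ : G → ℂ)) '' B)
  let w : ι ⊕ κ → W := fun x => ⟨Sum.elim θ f x, by
    rcases x with i | j
    · exact hθs i
    · exact hfs j⟩
  have hw : LinearIndependent ℂ w := by
    apply LinearIndependent.of_comp W.subtype
    exact hliC
  have h1 := hw.fintype_card_le_finrank
  have h2 : finrank ℂ W ≤ Fintype.card B := by
    have h3 := finrank_range_le_card (R := ℂ) (fun χ : B => ((χ : IrrCharacter G) : G → ℂ))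
    rw [← hrange] at h3
    exact h3
  rw [Nat.card_eq_fintype_card, Nat.card_eq_fintype_card, Nat.card_eq_fintype_card,
    ← Fintype.card_sum]
  exact h1.trans h2

/-! ### Characters vanishing on the `p`-singular elements -/

/-- The irreducible characters which do not vanish on the `p`-singular elements. -/
def nonzeroOn (p : ℕ) (G : Type u) [Group G] : Set (IrrCharacter G) :=
  {χ | ∃ g : G, p ∣ orderOf g ∧ (χ : G → ℂ) g ≠ 0}

omit hMp in
/-- The degree of a character vanishing off `1` on a subgroup is divisible by its order. -/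
theorem exists_degree_eq (P : Subgroup G) {χ : G → ℂ} (hχ : IsCharacter G χ)
    (h0 : ∀ x ∈ P, x ≠ 1 → χ x = 0) : ∃ m : ℕ, χ 1 = m * Nat.card P := by
  classical
  have := Fintype.ofFinite P
  obtain ⟨m, hm⟩ := classInner_isNat (isCharacter_comp P.subtype hχ)
    (isIrr_isCharacter (isIrr_one (G := P)))
  refine ⟨m, ?_⟩
  rw [classInner_def] at hm
  have h1 : ∑ x : P, (χ ∘ P.subtype) x * conj ((1 : P → ℂ) x) = χ 1 := by
    rw [Finset.sum_eq_single 1]
    · simp
    · intro x _ hx
      have h2 : χ (x : G) = 0 := h0 x x.2 fun h => hx (Subtype.ext h)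
      show χ (x : G) * _ = 0
      rw [h2, zero_mul]
    · intro h; exact absurd (Finset.mem_univ _) h
  have hne : (Nat.card P : ℂ) ≠ 0 := by exact_mod_cast Nat.card_pos.ne'
  rw [h1] at hm
  rw [← hm]
  field_simp

omit hMp in
/-- `ζ(1) / |G|` is local for a character vanishing on the nontrivial elements of a Sylow
subgroup of order `p`. -/
theorem memLocalRing_degree (hM : IsPModular p M) (P : Sylow p G) (hP : Nat.card P = p)
    {ζ : G → ℂ} (hζ : IsCharacter G ζ) (h0 : ∀ g, p ∣ orderOf g → ζ g = 0) :
    MemLocalRing M ((Nat.card G : ℂ)⁻¹ * ζ 1) := by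
  have := isPrime_of_isPModular hM
  obtain ⟨m, hm⟩ := exists_degree_eq (P : Subgroup G) hζ fun x hx hx1 => by
    apply h0
    rw [Cfsg.Agent.Blocks.CyclicOrtho.orderOf_eq P hP hx hx1]
  have hidx : ¬ p ∣ (P : Subgroup G).index := P.not_dvd_index
  have hcard : Nat.card G = Nat.card (P : Subgroup G) * (P : Subgroup G).index :=
    ((P : Subgroup G).card_mul_index).symm
  have hP0 : (Nat.card (P : Subgroup G) : ℂ) ≠ 0 := by exact_mod_cast Nat.card_pos.ne'
  have hi0 : ((P : Subgroup G).index : ℂ) ≠ 0 := by
    exact_mod_cast (P : Subgroup G).index_ne_zero_of_finite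
  have h1 : (Nat.card G : ℂ)⁻¹ * ζ 1 = (((P : Subgroup G).index : ℕ) : ℂ)⁻¹ * (m : ℂ) := by
    rw [hm, hcard]
    push_cast
    field_simp
  rw [h1]
  exact memLocalRing_mul (memLocalRing_inv_natCast hM hidx) (memLocalRing_natCast m)

omit hMp in
theorem memLocalIdeal_apply (hM : IsPModular p M) (P : Sylow p G) (hP : Nat.card P = p)
    {ζ : G → ℂ} (hζ : IsIrrCharacter G ζ) (h0 : ∀ g, p ∣ orderOf g → ζ g = 0) {g : G}
    (hg : g ∈ Subgroup.centralizer ((P : Subgroup G) : Set G)) : MemLocalIdeal M (ζ g) := by
  have := isPrime_of_isPModular hM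
  have h1 := memLocalRing_degree hM P hP (isIrr_isCharacter hζ) h0
  have h2 : MemLocalRing M (centralChar ζ g) := memLocalRing_centralChar hM hζ g
  have hle : (P : Subgroup G) ≤ Subgroup.centralizer ({g} : Set G) := by
    intro x hx
    rw [Subgroup.mem_centralizer_singleton_iff]
    exact Subgroup.mem_centralizer_iff.1 hg x hx
  have hdvd : p ∣ Nat.card (Subgroup.centralizer ({g} : Set G)) := by
    have h3 := Subgroup.card_dvd_of_le hle
    have h4 : Nat.card (P : Subgroup G) = p := hP
    rwa [h4] at h3
  have hζ1 : ζ 1 ≠ 0 := irr_one_ne_zero hζ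
  have hi0 : ((Subgroup.centralizer ({g} : Set G)).index : ℂ) ≠ 0 := by
    exact_mod_cast Subgroup.index_ne_zero_of_finite
  have hc0 : (Nat.card (Subgroup.centralizer ({g} : Set G)) : ℂ) ≠ 0 := by
    exact_mod_cast Nat.card_pos.ne'
  have h5 : ζ g = centralChar ζ g * ((Nat.card G : ℂ)⁻¹ * ζ 1) *
      (Nat.card (Subgroup.centralizer ({g} : Set G)) : ℂ) := by
    rw [Cfsg.Agent.Blocks.Basic.centralChar_def,
      ← (Subgroup.centralizer ({g} : Set G)).card_mul_index]
    push_cast
    field_simp
  rw [h5]
  exact memLocalIdeal_mul_left (memLocalRing_mul h2 h1) ((memLocalIdeal_natCast_iff hM _).2 hdvd)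

theorem blockCoeff_add_compl (A : Set (IrrCharacter G)) (g : G) :
    blockCoeff A g + blockCoeff Aᶜ g = open scoped Classical in if g = 1 then 1 else 0 := by
  classical
  have : Finite (IrrCharacter G) := finite_irr
  have := Fintype.ofFinite (IrrCharacter G)
  have h1 : blockCoeff (Set.univ : Set (IrrCharacter G)) g = if g = 1 then 1 else 0 := by
    rw [← coeff_irrIdem, irrIdem_univ, MonoidAlgebra.one_def, MonoidAlgebra.coeff_single,
      Finsupp.single_apply]
    simp only [eq_comm]
  rw [← h1, blockCoeff_eq_sum, blockCoeff_eq_sum, blockCoeff_eq_sum, ← mul_add,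
    ← Finset.sum_add_distrib]
  congr 1
  refine Finset.sum_congr rfl fun χ _ => ?_
  by_cases h : χ ∈ A
  · simp [h]
  · simp [h]

theorem blockCoeff_compl_local (hM : IsPModular p M) (P : Sylow p G) (hP : Nat.card P = p) (g : G) :
    MemLocalRing M (blockCoeff (nonzeroOn p G)ᶜ g) := by
  classical
  have : Finite (IrrCharacter G) := finite_irr
  have := Fintype.ofFinite (IrrCharacter G)
  rw [blockCoeff_eq_sum, Finset.mul_sum]
  refine memLocalRing_sum fun χ _ => ?_
  split_ifs with h
  · rw [← mul_assoc]
    refine memLocalRing_mul (memLocalRing_degree hM P hP (isIrr_isCharacter χ.2) ?_) ?_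
    · intro x hx
      by_contra h1
      exact h ⟨x, hx, h1⟩
    · rw [← isCharacter_apply_inv (isIrr_isCharacter χ.2)]
      exact memLocalRing_of_isIntegral (isIntegral_irr χ.2 _)
  · rw [mul_zero]; exact memLocalRing_zero

theorem redC_blockCoeff_compl (hM : IsPModular p M) (P : Sylow p G) (hP : Nat.card P = p) {g : G}
    (hg : g ∈ Subgroup.centralizer ((P : Subgroup G) : Set G)) :
    redC M (blockCoeff (nonzeroOn p G)ᶜ g) = 0 := by
  classical
  have : Finite (IrrCharacter G) := finite_irr
  have := Fintype.ofFinite (IrrCharacter G)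
  rw [redC_eq_zero_iff (blockCoeff_compl_local hM P hP g), blockCoeff_eq_sum, Finset.mul_sum]
  refine memLocalIdeal_sum fun χ _ => ?_
  split_ifs with h
  · have h0 : ∀ x, p ∣ orderOf x → (χ : G → ℂ) x = 0 := by
      intro x hx
      by_contra h1
      exact h ⟨x, hx, h1⟩
    rw [← mul_assoc]
    refine memLocalIdeal_mul_left (memLocalRing_degree hM P hP (isIrr_isCharacter χ.2) h0) ?_
    rw [← isCharacter_apply_inv (isIrr_isCharacter χ.2)]
    exact memLocalIdeal_apply hM P hP χ.2 h0 (inv_mem hg)
  · rw [mul_zero]; exact memLocalIdeal_zero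

omit hMp in
/-- Indicator functions of `p`-singular classes. -/
theorem indicator_mem_span [Fintype G] {f : G → ℂ} (hf : IsClassFunction G f)
    (h0 : ∀ g, ¬ p ∣ orderOf g → f g = 0) :
    f ∈ Submodule.span ℂ ((fun χ : IrrCharacter G => (χ : G → ℂ)) '' (nonzeroOn p G)) := by
  classical
  have : Finite (IrrCharacter G) := finite_irr
  have := Fintype.ofFinite (IrrCharacter G)
  rw [classFunction_eq_sum hf]
  refine Submodule.sum_mem _ fun χ _ => ?_
  by_cases h : χ ∈ nonzeroOn p G
  · exact Submodule.smul_mem _ _ (Submodule.subset_span ⟨χ, h, rfl⟩)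
  · have h1 : classInner f (χ : G → ℂ) = 0 := by
      rw [classInner_def, Finset.sum_eq_zero, mul_zero]
      intro g _
      by_cases hg : p ∣ orderOf g
      · have h2 : (χ : G → ℂ) g = 0 := by
          by_contra h3
          exact h ⟨g, hg, h3⟩
        rw [h2, map_zero, mul_zero]
      · rw [h0 g hg, zero_mul]
    rw [h1, zero_smul]
    exact Submodule.zero_mem _

/-! ### Idempotents of the complement -/

section idem

variable {H : Subgroup G}

/-- The reduction of the central idempotent of `ψ`. -/
noncomputable def idem (M : Ideal AlgInt) [M.IsPrime] (ψ : IrrCharacter H) (h : H) : ResField M :=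
  redC M (blockCoeff ({ψ} : Set (IrrCharacter H)) h)

theorem idem_local (hM : IsPModular p M) (hH : ¬ p ∣ Nat.card H) (A : Set (IrrCharacter H)) (h : H) :
    MemLocalRing M (blockCoeff A h) := by
  classical
  have : Finite (IrrCharacter H) := finite_irr
  have := Fintype.ofFinite (IrrCharacter H)
  rw [blockCoeff_eq_sum]
  refine memLocalRing_mul (memLocalRing_inv_natCast hM hH) (memLocalRing_sum fun χ _ => ?_)
  split_ifs
  · refine memLocalRing_mul (memLocalRing_of_isIntegral (isIntegral_irr χ.2 _)) ?_
    rw [← isCharacter_apply_inv (isIrr_isCharacter χ.2)]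
    exact memLocalRing_of_isIntegral (isIntegral_irr χ.2 _)
  · exact memLocalRing_zero

open GoodIdem in
open scoped Classical in
theorem em_idem_mul (hM : IsPModular p M) (hH : ¬ p ∣ Nat.card H) (ψ ψ' : IrrCharacter H) :
    em (idem M ψ) * em (idem M ψ') = if ψ = ψ' then em (idem M ψ) else 0 := by
  classical
  have := Fintype.ofFinite H
  rw [em_mul]
  have h1 : conv (idem M ψ) (idem M ψ') = fun h => redC M
      (blockCoeff (({ψ} : Set (IrrCharacter H)) ∩ {ψ'}) h) := by
    funext h
    rw [conv_def, ← coeff_irrIdem, ← irrIdem_mul_irrIdem, coeff_mul_eq_sum, redC_sum]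
    · refine Finset.sum_congr rfl fun g _ => ?_
      rw [coeff_irrIdem, coeff_irrIdem, redC_mul (idem_local hM hH _ _) (idem_local hM hH _ _)]
      rfl
    · intro g _
      exact memLocalRing_mul (idem_local hM hH _ _) (idem_local hM hH _ _)
  rw [h1]
  split_ifs with h
  · subst h
    rw [Set.inter_self]
    rfl
  · have h2 : (({ψ} : Set (IrrCharacter H)) ∩ {ψ'}) = ∅ := by
      ext χ
      simp only [Set.mem_inter_iff, Set.mem_singleton_iff, Set.mem_empty_iff_false, iff_false]
      rintro ⟨rfl, h3⟩
      exact h h3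
    rw [h2]
    have h3 : (fun h : H => redC M (blockCoeff (∅ : Set (IrrCharacter H)) h)) = 0 := by
      funext h
      rw [blockCoeff_def]
      simp [redC_zero]
    rw [h3, em_def]
    simp

open GoodIdem in
theorem isCls_idem (ψ : IrrCharacter H) : IsCls (idem M ψ) := by
  intro g h
  show redC M _ = redC M _
  rw [isClassFunction_blockCoeff _ h g]

theorem idem_ne_zero (hM : IsPModular p M) (hH : ¬ p ∣ Nat.card H) (ψ : IrrCharacter H) :
    ∃ h, idem M ψ h ≠ 0 := by
  by_contra hcon
  push Not at hcon
  have := Fintype.ofFinite (ConjClasses H)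
  have h1 := omegaL_irrIdem_of_mem (Set.mem_singleton ψ)
  rw [omegaL_eq_sum_centralChar (isClassFunction_of_irr ψ.2) (irrIdem_mem_center _)] at h1
  apply not_memLocalIdeal_one (M := M)
  rw [← h1]
  refine memLocalIdeal_sum fun c _ => ?_
  refine memLocalIdeal_mul_right ?_ (memLocalRing_centralChar hM ψ.2 _)
  have h2 := hcon (Quotient.out c)
  rwa [idem, redC_eq_zero_iff (idem_local hM hH _ _)] at h2

end idem

/-- **The lower bound.** -/
theorem lower (hM : IsPModular p M) (P : Sylow p G) (hP : Nat.card P = p) (H : Subgroup G)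
    (hH : H ≤ Subgroup.normalizer ((P : Subgroup G) : Set G))
    (hdisj : ∀ x ∈ (P : Subgroup G), x ∈ H → x = 1)
    (hgen : ∀ n ∈ Subgroup.normalizer ((P : Subgroup G) : Set G), ∃ h ∈ H,
      ∃ y ∈ (P : Subgroup G), h * y = n)
    (hHp : ¬ p ∣ Nat.card H) :
    Nat.card (IrrCharacter H) +
      Nat.card {c : ConjClasses G // ∃ g, ConjClasses.mk g = c ∧ p ∣ orderOf g} ≤
      Nat.card (nonzeroOn p G) := by
  classical
  have := Fintype.ofFinite G
  have hmax : M.IsMaximal := isMaximal_of_isPModular hM
  have halg : IsAlgClosed (ResField M) := Cfsg.Agent.Blocks.CyclicAssembly.isAlgClosed_resField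
  have hch : CharP (ResField M) p := charP_resField hM
  have hN : ((Nat.card H : ℕ) : ResField M) ≠ 0 := by
    rw [Ne, CharP.cast_eq_zero_iff (ResField M) p]
    exact hHp
  obtain ⟨n, ρ, hirr, hne, hcls⟩ := GoodIdem.exists_reps_family (F := ResField M) (p := p)
    (P := (P : Subgroup G)) hP hH hdisj hgen hN (fun ψ : IrrCharacter H => idem M ψ)
    (fun ψ => isCls_idem ψ) (fun ψ => idem_ne_zero hM hHp ψ)
    (fun ψ => by rw [em_idem_mul hM hHp, if_pos rfl])
    (fun ψ ψ' h => by rw [em_idem_mul hM hHp, if_neg h])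
  have : Finite (IrrCharacter H) := finite_irr
  have hloc : ∀ g, MemLocalRing M (blockCoeff (nonzeroOn p G) g) := by
    intro g
    have h1 := blockCoeff_add_compl (nonzeroOn p G) g
    rw [eq_sub_of_add_eq h1]
    refine memLocalRing_sub ?_ (blockCoeff_compl_local hM P hP g)
    split_ifs
    · exact memLocalRing_one
    · exact memLocalRing_zero
  refine add_le_card hM hloc ρ hirr hne ?_
    (fun (c : {c : ConjClasses G // ∃ g, ConjClasses.mk g = c ∧ p ∣ orderOf g}) (g : G) =>
      if ConjClasses.mk g = c.1 then (1 : ℂ) else 0) ?_ ?_ ?_ ?_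
  · intro ψ
    have h1 : ∀ g, redC M (blockCoeff (nonzeroOn p G) g) =
        (if g = 1 then 1 else 0) - redC M (blockCoeff (nonzeroOn p G)ᶜ g) := by
      intro g
      have h1 := blockCoeff_add_compl (nonzeroOn p G) g
      rw [eq_sub_of_add_eq h1, redC_sub _ (blockCoeff_compl_local hM P hP g)]
      · congr 1
        split_ifs
        · exact redC_one
        · exact redC_zero
      · split_ifs
        · exact memLocalRing_one
        · exact memLocalRing_zero
    have h2 : ∀ g, redC M (blockCoeff (nonzeroOn p G) g) • ρ ψ g =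
        (if g = 1 then (1 : ResField M) else 0) • ρ ψ g -
          redC M (blockCoeff (nonzeroOn p G)ᶜ g) • ρ ψ g := by
      intro g
      have h3 : redC M (blockCoeff (nonzeroOn p G) g) +
          redC M (blockCoeff (nonzeroOn p G)ᶜ g) = (if g = 1 then (1 : ResField M) else 0) := by
        rw [h1 g]; exact sub_add_cancel _ _
      rw [← h3, add_smul, add_sub_cancel_right]
    rw [Finset.sum_congr rfl fun g _ => h2 g, Finset.sum_sub_distrib,
      hcls ψ (fun g => redC M (blockCoeff (nonzeroOn p G)ᶜ g))
        (fun g h => by rw [isClassFunction_blockCoeff _ g h])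
        (fun g hg => redC_blockCoeff_compl hM P hP hg), sub_zero]
    simp
  · intro c
    obtain ⟨g₀, hg₀, hp⟩ := c.2
    apply indicator_mem_span
    · intro g h
      have : ConjClasses.mk (h * g * h⁻¹) = ConjClasses.mk g := by
        rw [ConjClasses.mk_eq_mk_iff_isConj]
        exact (isConj_iff.2 ⟨h, rfl⟩).symm
      simp only [this]
    · intro g hg
      rw [if_neg]
      intro h1
      rw [← hg₀, ConjClasses.mk_eq_mk_iff_isConj] at h1
      obtain ⟨x, hx⟩ := isConj_iff.1 h1
      apply hg
      have h2 : orderOf (x * g * x⁻¹) = orderOf g := by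
        have := orderOf_injective (MulAut.conj x).toMonoidHom (MulAut.conj x).injective g
        simpa using this
      rw [← h2, hx]
      exact hp
  · intro c g
    split_ifs
    · exact memLocalRing_one
    · exact memLocalRing_zero
  · intro c g hg
    obtain ⟨g₀, hg₀, hp⟩ := c.2
    rw [if_neg, redC_zero]
    intro h1
    rw [← hg₀, ConjClasses.mk_eq_mk_iff_isConj] at h1
    obtain ⟨x, hx⟩ := isConj_iff.1 h1
    apply hg
    have h2 : orderOf (x * g * x⁻¹) = orderOf g := by
      have := orderOf_injective (MulAut.conj x).toMonoidHom (MulAut.conj x).injective g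
      simpa using this
    rw [← h2, hx]
    exact hp
  · have := Fintype.ofFinite {c : ConjClasses G // ∃ g, ConjClasses.mk g = c ∧ p ∣ orderOf g}
    rw [Fintype.linearIndependent_iff]
    intro d hd c
    obtain ⟨g₀, hg₀, hp⟩ := c.2
    have h1 := congrFun hd g₀
    rw [Finset.sum_apply] at h1
    have h2 : ∀ c' : {c : ConjClasses G // ∃ g, ConjClasses.mk g = c ∧ p ∣ orderOf g},
        (d c' • fun g => redC M (if ConjClasses.mk g = c'.1 then (1 : ℂ) else 0)) g₀ =
        if c' = c then d c' else 0 := by
      intro c'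
      rw [Pi.smul_apply]
      by_cases h3 : c' = c
      · subst h3
        rw [if_pos hg₀, if_pos rfl, redC_one, smul_eq_mul, mul_one]
      · rw [if_neg h3, if_neg, redC_zero, smul_zero]
        intro h4
        exact h3 (Subtype.ext (h4.symm.trans hg₀))
    rw [Finset.sum_congr rfl fun c' _ => h2 c', Finset.sum_ite_eq', if_pos (Finset.mem_univ _)] at h1
    exact h1

end Cfsg.Agent.SmallSimple.SingularCount
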