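import Cfsg.Agent.SmallSimple.BlockIndex
import Cfsg.Agent.SporadicA.M24.BlockAvg

/-!
# The principal block when `|N(P) : C(P)| = p - 1`, `|P| = p`

All `p` characters of the principal `p`-block are alike: `Y = NE ∪ X` has `p` elements, with signs
`sg`, `∑ sg χ(g) = 0` for `p`-regular `g`, and `χ(x) = sg χ` for `1 ≠ x ∈ P`.
-/

set_option autoImplicit false
set_option linter.unusedSectionVars false

namespace Cfsg.Agent.SmallSimple.SymBlock

open Cfsg Subgroup Cfsg.Agent.Characters.Core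
open Cfsg.Agent.Blocks.Basic (irr_one_eq_charDegree irr_one_ne_zero)
open Cfsg.Agent.SmallSimple Cfsg.Agent.SmallSimple.PrimeLocal Cfsg.Agent.SmallSimple.BlockIndex
open Cfsg.Agent.M22.NonSelfCent (NEData XData InvVal)
open Cfsg.Agent.M23.Block
open Cfsg.Agent.M23.Adm (V)

universe u
variable {G : Type u} [Group G]

open scoped Classical in
/-- The sign. -/
noncomputable def sg (NE : Finset (IrrCharacter G)) (ε : IrrCharacter G → ℤ) (d : ℤ)
    (χ : IrrCharacter G) : ℤ := if χ ∈ NE then ε χ else -d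

/-- The symmetric form of the principal block. -/
structure Sym (p : ℕ) (P : Sylow p G) (M : Ideal AlgInt) (Y : Finset (IrrCharacter G))
    (s : IrrCharacter G → ℤ) : Prop where
  modular : IsPModular p M
  card : Y.card = p
  mem_iff : ∀ χ : IrrCharacter G, χ ∈ principalBlock M G ↔ χ ∈ Y
  one_mem : (⟨1, isIrr_one⟩ : IrrCharacter G) ∈ Y
  s_one : s ⟨1, isIrr_one⟩ = 1
  sgn : ∀ χ ∈ Y, s χ = 1 ∨ s χ = -1
  rel : ∀ g : G, ¬ p ∣ orderOf g → ∑ χ ∈ Y, (s χ : ℂ) * (χ : G → ℂ) g = 0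
  rel_one : ∑ χ ∈ Y, s χ * (charDegree (χ : G → ℂ) : ℤ) = 0
  data : ∀ K : Subgroup G, K ≤ Subgroup.centralizer (P : Set G) → p.Coprime (Nat.card K) →
    K ≠ ⊥ → ∀ χ ∈ Y, χ ≠ ⟨1, isIrr_one⟩ → NEData p (χ : G → ℂ) (s χ) K
  V_eq : ∀ χ ∈ Y, V (P : Subgroup G) (χ : G → ℂ) = (((p : ℤ) - 1) * s χ : ℤ)
  dvd : ∀ χ ∈ Y, ∀ k : ℕ, Nat.card (centralizer (P : Set G)) = p * k →
    charDegree (χ : G → ℂ) * (p * k) ∣ Nat.card G
  pair : ∀ K : Subgroup G, IsLocal p P (p - 1) K → ∃ k : G → ℕ,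
    (∀ a b : G, a * a = 1 → b * b = 1 →
      (p * (k a * k b) : ℂ) * Nat.card G = (centralizer ({a} : Set G)).index *
        (centralizer ({b} : Set G)).index * Nat.card K *
        (∑ χ ∈ Y, s χ * ((χ : G → ℂ) a * (χ : G → ℂ) b / (χ : G → ℂ) 1))) ∧
      (∀ a, k a ≤ Nat.card K) ∧ (∀ a b, IsConj a b → k a = k b) ∧
      (∀ a b, ¬ IsConj a b → k a + k b ≤ Nat.card K)

theorem sum_union_sg {NE X : Finset (IrrCharacter G)} (hd : Disjoint NE X)
    (ε : IrrCharacter G → ℤ) (d : ℤ) [DecidableEq (IrrCharacter G)] (f : IrrCharacter G → ℂ) :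
    ∑ χ ∈ NE ∪ X, (sg NE ε d χ : ℂ) * f χ = ∑ χ ∈ NE, (ε χ : ℂ) * f χ - d * ∑ χ ∈ X, f χ := by
  rw [Finset.sum_union hd, Finset.mul_sum, sub_eq_add_neg, ← Finset.sum_neg_distrib]
  congr 1
  · refine Finset.sum_congr rfl fun χ hχ => ?_
    rw [sg, if_pos hχ]
  · refine Finset.sum_congr rfl fun χ hχ => ?_
    rw [sg, if_neg (Finset.disjoint_right.1 hd hχ)]
    push_cast
    ring

open scoped Classical in
theorem sym_of_blk [Finite G] {p : ℕ} [hp : Fact p.Prime] (hp2 : p ≠ 2) {P : Sylow p G}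
    (hP : Nat.card P = p) {M : Ideal AlgInt} {NE X : Finset (IrrCharacter G)}
    {ε : IrrCharacter G → ℤ} {d : ℤ} {S : IrrCharacter G → Finset (P →* ℂˣ)}
    (B : Blk p P (p - 1) 1 M NE X ε d S) : Sym p P M (NE ∪ X) (sg NE ε d) := by
  have hp1 := hp.out.one_lt
  have ho1 : ¬ p ∣ orderOf (1 : G) := by
    rw [orderOf_one]; exact fun h => hp.out.one_lt.ne' (Nat.dvd_one.1 h)
  obtain ⟨Θ, hX⟩ := Finset.card_eq_one.1 B.kb.card_X
  have hΘ : Θ ∈ X := by rw [hX]; exact Finset.mem_singleton_self _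
  have hΘN : Θ ∉ NE := Finset.disjoint_right.1 B.kb.disj hΘ
  have hsN : ∀ χ ∈ NE, sg NE ε d χ = ε χ := fun χ hχ => by rw [sg, if_pos hχ]
  have hsX : sg NE ε d Θ = -d := by rw [sg, if_neg hΘN]
  have hsum : ∀ f : IrrCharacter G → ℂ, ∑ χ ∈ NE ∪ X, (sg NE ε d χ : ℂ) * f χ =
      ∑ χ ∈ NE, (ε χ : ℂ) * f χ - d * f Θ := by
    intro f
    rw [sum_union_sg B.kb.disj, hX, Finset.sum_singleton]
  have hrel : ∀ g : G, ¬ p ∣ orderOf g →
      ∑ χ ∈ NE ∪ X, (sg NE ε d χ : ℂ) * (χ : G → ℂ) g = 0 := by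
    intro g hg
    rw [hsum, B.kb.rel Θ hΘ g hg, sub_self]
  have hmemX : ∀ {χ : IrrCharacter G}, χ ∈ X → χ = Θ := by
    intro χ hχ
    rw [hX] at hχ
    exact Finset.mem_singleton.1 hχ
  refine ⟨B.modular, ?_, fun χ => by rw [B.mem_iff, Finset.mem_union],
    Finset.mem_union_left _ B.kb.one_mem, by rw [hsN _ B.kb.one_mem, B.kb.eps_one], ?_, hrel, ?_,
    ?_, ?_, ?_, ?_⟩
  · rw [Finset.card_union_of_disjoint B.kb.disj, B.kb.card_NE, B.kb.card_X]
    omega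
  · intro χ hχ
    rcases Finset.mem_union.1 hχ with hχ | hχ
    · rw [hsN χ hχ]; exact B.kb.eps χ hχ
    · rw [hmemX hχ, hsX]
      rcases B.kb.hd with h | h <;> rw [h] <;> simp
  · have h1 := hrel 1 ho1
    have h2 : ∑ χ ∈ NE ∪ X, (sg NE ε d χ : ℂ) * (χ : G → ℂ) 1 =
        ((∑ χ ∈ NE ∪ X, sg NE ε d χ * (charDegree (χ : G → ℂ) : ℤ) : ℤ) : ℂ) := by
      push_cast
      refine Finset.sum_congr rfl fun χ _ => ?_
      rw [irr_one_eq_charDegree χ.2]
    rw [h2] at h1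
    exact_mod_cast h1
  · intro K hK hcop hKb χ hχ hχ1
    rcases Finset.mem_union.1 hχ with hχ | hχ
    · rw [hsN χ hχ]
      exact B.kb.ne_data K hK hcop hKb χ hχ hχ1
    · rw [hmemX hχ, hsX]
      obtain ⟨a, ha, h1, h2⟩ := B.kb.x_data K hK hcop hKb Θ hΘ
      refine ⟨a, ha, ?_, h2⟩
      rcases h1 with ⟨h3, h4⟩ | ⟨h3, h4⟩
      · right
        refine ⟨by rw [h3], ?_⟩
        rw [h4, mul_add, mul_one]
        omega
      · left
        refine ⟨by rw [h3]; norm_num, ?_⟩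
        rw [mul_add, mul_one] at h4
        omega
  · intro χ hχ
    rcases Finset.mem_union.1 hχ with hχ | hχ
    · rw [hsN χ hχ]
      exact SporadicA.M24.BlockAvg.V_NE (P := P) hP B hχ
    · rw [hmemX hχ, hsX]
      have h1 := SporadicA.M24.BlockAvg.V_X B hΘ
      rw [h1]
      push_cast [Nat.cast_sub hp1.le]
      ring
  · intro χ hχ k hk
    obtain ⟨x, hx, hx1⟩ := exists_ne_one (P := (P : Subgroup G)) hP
    have h2 := dvd_index B hP hx hx1 (Finset.mem_union.1 hχ)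
    have h3 : centralizer ({x} : Set G) = centralizer (P : Set G) :=
      centralizer_eq (P := (P : Subgroup G)) hP hx hx1
    rw [h3] at h2
    rw [← card_mul_index (centralizer (P : Set G)), hk, mul_comm]
    exact Nat.mul_dvd_mul_left _ h2
  · intro K hK
    obtain ⟨k, hk1, hk2, hk3, hk4, -, -⟩ := exists_pair B hP hp2 hK
    refine ⟨k, fun a b ha hb => ?_, hk2, hk3, hk4⟩
    rw [hk1 Θ hΘ a b ha hb, hsum]

end Cfsg.Agent.SmallSimple.SymBlock
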