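import Cfsg.Agent.SmallSimple.TheoremC

/-!
Corollaries of Theorem C: values, degrees, stable `θ`, the case `e = p - 1`, the principal block.
-/

set_option autoImplicit false
set_option linter.unusedSectionVars false
open Cfsg
open scoped ComplexConjugate

namespace Cfsg.Agent.SmallSimple.TheoremCCor

open Subgroup
open Cfsg.Agent.Characters.Core Cfsg.Agent.Characters.Linear
open Cfsg.Agent.SmallSimple.PrimeDual Cfsg.Agent.SmallSimple.ThetaSetup
open Cfsg.Agent.SmallSimple.ThetaOrtho Cfsg.Agent.SmallSimple.ThetaGroup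
open Cfsg.Agent.SmallSimple.ThetaCount Cfsg.Agent.SmallSimple.TheoremC

universe u

variable {G : Type u} [Group G] [Finite G] {p : ℕ} [Fact p.Prime] {P : Sylow p G}
  {K : Subgroup G}

/-- Only the orbit of `θ` contributes to the values of the characters over `θ`. -/
theorem part_eq_zero_of_not_mem_orb (hK : IsComp p (P : Subgroup G) K) (hP : Nat.card P = p)
    {θ : K → ℂ} (hθ : IsIrrCharacter K θ) {χ : IrrCharacter G} (hχ : χ ∈ Over P θ)
    {θ' : IrrCharacter K} (hθ' : θ' ∉ orb P K θ) {x : P} (hx : x ≠ 1) :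
    part (θ' : K → ℂ) (χ : G → ℂ) x = 0 := by
  apply part_eq_zero _ hx
  have h1 := disjoint_Over hK hP hθ θ'.2 (fun n hn h => hθ' (mem_orb.2 ⟨n, hn, h⟩))
  exact fun h => Set.disjoint_left.1 h1 hχ h

/-- Values of the characters over `θ` at the `p`-singular elements. -/
theorem apply_mul_orb (hK : IsComp p (P : Subgroup G) K) (hP : Nat.card P = p)
    {θ : K → ℂ} (hθ : IsIrrCharacter K θ) {χ : IrrCharacter G} (hχ : χ ∈ Over P θ)
    {x : P} (hx : x ≠ 1) (y : K) :
    (χ : G → ℂ) (x * y) = ∑ θ' ∈ orb P K θ, part (θ' : K → ℂ) (χ : G → ℂ) x * (θ' : K → ℂ) y := by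
  classical
  have : Finite (IrrCharacter K) := finite_irr
  have := Fintype.ofFinite (IrrCharacter K)
  rw [sum_part (isIrr_isClassFunction χ.2) (fun y hy => hK.comm x.2 hy)]
  symm
  refine Finset.sum_subset (Finset.subset_univ _) fun θ' _ h => ?_
  rw [part_eq_zero_of_not_mem_orb hK hP hθ hχ h hx, zero_mul]

/-- `part` on the orbit when `part θ χ` is constant. -/
theorem part_orb_of_const (hK : IsComp p (P : Subgroup G) K) {θ : K → ℂ} {χ : IrrCharacter G} {c : ℂ}
    (hc : ∀ x : P, x ≠ 1 → part θ (χ : G → ℂ) x = c) {θ' : IrrCharacter K} (hθ' : θ' ∈ orb P K θ)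
    {x : P} (hx : x ≠ 1) : part (θ' : K → ℂ) (χ : G → ℂ) x = c := by
  obtain ⟨n, hn, h⟩ := mem_orb.1 hθ'
  rw [← h, ← part_conj hK θ (isIrr_isClassFunction χ.2) hn, ← coe_cP hn]
  exact hc _ fun h1 => hx ((MulEquiv.map_eq_one_iff (cP hn)).1 h1)

/-- Values of the nonexceptional characters over `θ` at the `p`-singular elements. -/
theorem apply_of_const (hK : IsComp p (P : Subgroup G) K) (hP : Nat.card P = p)
    {θ : K → ℂ} (hθ : IsIrrCharacter K θ) {χ : IrrCharacter G} (hχ : χ ∈ Over P θ) {c : ℂ}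
    (hc : ∀ x : P, x ≠ 1 → part θ (χ : G → ℂ) x = c) {x : P} (hx : x ≠ 1) (y : K) :
    (χ : G → ℂ) (x * y) = c * ∑ θ' ∈ orb P K θ, (θ' : K → ℂ) y := by
  rw [apply_mul_orb hK hP hθ hχ hx, Finset.mul_sum]
  exact Finset.sum_congr rfl fun θ' h => by rw [part_orb_of_const hK hc h hx]

theorem orb_of_stable {θ : K → ℂ} (hθ : IsIrrCharacter K θ)
    (hst : ∀ n ∈ normalizer ((P : Subgroup G) : Set G), tw θ n = θ) :
    orb P K θ = {⟨θ, hθ⟩} := by
  ext θ'
  rw [mem_orb, Finset.mem_singleton]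
  constructor
  · rintro ⟨n, hn, h⟩
    exact Subtype.ext (h.symm.trans (hst n hn))
  · rintro rfl
    exact ⟨1, one_mem _, tw_one _⟩

/-- Values when `θ` is `N(P)`-stable. -/
theorem apply_of_stable (hK : IsComp p (P : Subgroup G) K) (hP : Nat.card P = p)
    {θ : K → ℂ} (hθ : IsIrrCharacter K θ)
    (hst : ∀ n ∈ normalizer ((P : Subgroup G) : Set G), tw θ n = θ)
    {χ : IrrCharacter G} (hχ : χ ∈ Over P θ) {x : P} (hx : x ≠ 1) (y : K) :
    (χ : G → ℂ) (x * y) = part θ (χ : G → ℂ) x * θ y := by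
  rw [apply_mul_orb hK hP hθ hχ hx, orb_of_stable hθ hst, Finset.sum_singleton]

theorem card_stabAct_of_stable (hK : IsComp p (P : Subgroup G) K) (hP : Nat.card P = p)
    {θ : K → ℂ} (hθ : IsIrrCharacter K θ)
    (hst : ∀ n ∈ normalizer ((P : Subgroup G) : Set G), tw θ n = θ) :
    Nat.card (stabAct hK θ) =
      (centralizer ((P : Subgroup G) : Set G)).relIndex (normalizer ((P : Subgroup G) : Set G)) := by
  have h := card_stabAct_mul_card_orb hK hP hθ
  rwa [orb_of_stable hθ hst, Finset.card_singleton, mul_one] at h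

/-- A character not over any `θ` vanishes on the `p`-singular elements. -/
theorem apply_eq_zero (hK : IsComp p (P : Subgroup G) K) (hP : Nat.card P = p)
    {χ : IrrCharacter G} (h : ∀ θ : IrrCharacter K, χ ∉ Over P (θ : K → ℂ)) {g : G}
    (hg : p ∣ orderOf g) : (χ : G → ℂ) g = 0 := by
  by_contra h1
  obtain ⟨θ, hθ⟩ := exists_mem_Over hK hP (χ := χ) ⟨g, hg, h1⟩
  exact h θ hθ

/-! ### Degrees -/

/-- `part θ χ 1` is a multiplicity. -/
theorem exists_part_one (hK : IsComp p (P : Subgroup G) K) {χ : G → ℂ} (hχ : IsCharacter G χ)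
    {θ : K → ℂ} (hθ : IsIrrCharacter K θ) : ∃ m : ℕ, part θ χ 1 = m := by
  obtain ⟨n, ρ, hρ⟩ := isCharacter_part hK hχ hθ
  refine ⟨n, ?_⟩
  have h1 : part θ χ 1 = (fun x : P => part θ χ (x : G)) 1 := by simp
  rw [h1, ← hρ]
  simp

theorem degree_eq_sum [Fintype (IrrCharacter K)] {χ : G → ℂ} (hχ : IsClassFunction G χ) :
    χ 1 = ∑ θ : IrrCharacter K, part (θ : K → ℂ) χ 1 * (θ : K → ℂ) 1 := by
  have h := sum_part hχ (x := (1 : G)) (fun y _ => by rw [one_mul, mul_one]) (1 : K)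
  simpa using h

/-- The multiplicity of `θ` modulo `p`, constant case. -/
theorem part_one_of_const (hK : IsComp p (P : Subgroup G) K) (hP : Nat.card P = p) {χ : G → ℂ}
    (hχ : IsCharacter G χ) {θ : K → ℂ} (hθ : IsIrrCharacter K θ) {c : ℤ}
    (hc : ∀ x : P, x ≠ 1 → part θ χ x = c) : ∃ k : ℤ, part θ χ 1 = c + p * k := by
  have := Fintype.ofFinite P
  obtain ⟨m, hm⟩ := classInner_isNat (isCharacter_part hK hχ hθ) (isCharacter_one (G := P))
  rw [classInner_def] at hm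
  have hc0 : (Nat.card P : ℂ) ≠ 0 := card_ne_zero_complex
  rw [inv_mul_eq_iff_eq_mul₀ hc0] at hm
  have h1 := TheoremBCor.sum_const_off (f := fun x : P => part θ χ (x : G)) (c := (c : ℂ)) hc
  have h2 : ∑ x : P, part θ χ (x : G) = Nat.card P * m := by
    rw [← hm]
    exact Finset.sum_congr rfl fun x _ => by simp
  have h4 : (Nat.card (P : Subgroup G) : ℂ) * m =
      part θ χ 1 + ((Nat.card (P : Subgroup G) : ℂ) - 1) * c := h2.symm.trans h1
  rw [hP] at h4
  refine ⟨m - c, ?_⟩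
  push_cast
  linear_combination -h4

/-- The multiplicity of `θ` modulo `p`, exceptional case. -/
theorem part_one_of_exc (hK : IsComp p (P : Subgroup G) K) (hP : Nat.card P = p) {χ : G → ℂ}
    (hχ : IsCharacter G χ) {θ : K → ℂ} (hθ : IsIrrCharacter K θ) {d : ℤ} {S : Finset (P →* ℂˣ)}
    (hS : 1 ∉ S) (h : ∀ x : P, x ≠ 1 → part θ χ x = d * ∑ l ∈ S, ((l x : ℂˣ) : ℂ)) :
    ∃ k : ℕ, part θ χ 1 = d * S.card + p * k := by
  have := Fintype.ofFinite P
  obtain ⟨m, hm⟩ := classInner_isNat (isCharacter_part hK hχ hθ) (isCharacter_one (G := P))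
  rw [classInner_def] at hm
  have hc0 : (Nat.card P : ℂ) ≠ 0 := card_ne_zero_complex
  rw [inv_mul_eq_iff_eq_mul₀ hc0] at hm
  have h1 := TheoremBCor.sum_exc_off (f := fun x : P => part θ χ (x : G)) (d := (d : ℂ)) hS h
  have h2 : ∑ x : P, part θ χ (x : G) = Nat.card P * m := by
    rw [← hm]
    exact Finset.sum_congr rfl fun x _ => by simp
  have h4 : (Nat.card (P : Subgroup G) : ℂ) * m = part θ χ 1 - d * S.card := h2.symm.trans h1
  rw [hP] at h4
  refine ⟨m, ?_⟩
  linear_combination -h4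

/-- Degree of a nonexceptional character over `θ` modulo `p`. -/
theorem degree_of_const (hK : IsComp p (P : Subgroup G) K) (hP : Nat.card P = p)
    {θ : K → ℂ} (hθ : IsIrrCharacter K θ) {χ : IrrCharacter G} (hχ : χ ∈ Over P θ) {c : ℤ}
    (hc : ∀ x : P, x ≠ 1 → part θ (χ : G → ℂ) x = c) :
    ∃ k : ℤ, (χ : G → ℂ) 1 = c * ∑ θ' ∈ orb P K θ, (θ' : K → ℂ) 1 + p * k := by
  classical
  have : Finite (IrrCharacter K) := finite_irr
  have := Fintype.ofFinite (IrrCharacter K)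
  have h1 : ∀ θ' : IrrCharacter K, ∃ k : ℤ, part (θ' : K → ℂ) (χ : G → ℂ) 1 =
      (if θ' ∈ orb P K θ then c else 0 : ℤ) + p * k := by
    intro θ'
    apply part_one_of_const hK hP (isIrr_isCharacter χ.2) θ'.2
    intro x hx
    split_ifs with h
    · exact part_orb_of_const hK hc h hx
    · rw [part_eq_zero_of_not_mem_orb hK hP hθ hχ h hx]; simp
  choose k hk using h1
  choose n hn hn' using fun θ' : IrrCharacter K => isIrr_apply_one θ'.2
  refine ⟨∑ θ' : IrrCharacter K, k θ' * n θ', ?_⟩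
  rw [degree_eq_sum (K := K) (isIrr_isClassFunction χ.2)]
  have h3 : ∑ θ' ∈ orb P K θ, (θ' : K → ℂ) 1 =
      ∑ θ' : IrrCharacter K, if θ' ∈ orb P K θ then (θ' : K → ℂ) 1 else 0 := by
    rw [← Finset.sum_filter]
    exact Finset.sum_congr (by ext; simp) fun _ _ => rfl
  rw [h3]
  push_cast
  rw [Finset.mul_sum, Finset.mul_sum, ← Finset.sum_add_distrib]
  refine Finset.sum_congr rfl fun θ' _ => ?_
  rw [hk, hn']
  split_ifs
  · ring
  · push_cast; ring

/-- **Theorem C** when the inertial index is `p - 1`. -/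
theorem theoremC_one (hK : IsComp p (P : Subgroup G) K) (hP : Nat.card P = p) {θ : K → ℂ}
    (hθ : IsIrrCharacter K θ) (he : Nat.card (stabAct hK θ) = p - 1) :
    ∃ (B : Finset (IrrCharacter G)) (δ : IrrCharacter G → ℤ),
      B.card = p ∧ (∀ χ : IrrCharacter G, χ ∈ Over P θ ↔ χ ∈ B) ∧
      (∀ χ ∈ B, (δ χ = 1 ∨ δ χ = -1) ∧ ∀ x : P, x ≠ 1 → part θ (χ : G → ℂ) x = δ χ) ∧
      ∀ g : G, ¬ p ∣ orderOf g → ∑ χ ∈ B, (δ χ : ℂ) * (χ : G → ℂ) g = 0 := by
  classical
  have hp : p.Prime := Fact.out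
  have hp1 := hp.one_lt
  have := finite_dual hp hP
  have := Fintype.ofFinite (P →* ℂˣ)
  obtain ⟨NE, X, ε, d, S, h1, h2, h3, h4, h5, h6, h7, h8, h9, h10, h11⟩ :=
    theoremC hK hP hθ he (mul_one (p - 1))
  obtain ⟨Θ, hΘ⟩ := Finset.card_eq_one.1 h4
  subst hΘ
  have hΘX : Θ ∈ ({Θ} : Finset (IrrCharacter G)) := Finset.mem_singleton_self Θ
  have hΘNE : Θ ∉ NE := fun h => Finset.disjoint_left.1 h2 h hΘX
  have hS : S Θ = Finset.univ.erase 1 := by
    ext l
    rw [Finset.mem_erase]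
    constructor
    · intro hl
      exact ⟨fun h => (h8 Θ hΘX).2.1 (h ▸ hl), Finset.mem_univ _⟩
    · rintro ⟨hl, -⟩
      obtain ⟨Θ', hΘ', h⟩ := h10 l hl
      rw [Finset.mem_singleton] at hΘ'
      rwa [hΘ'] at h
  have hΘv : ∀ x : P, x ≠ 1 → part θ (Θ : G → ℂ) x = ((-d : ℤ) : ℂ) := by
    intro x hx
    rw [(h8 Θ hΘX).2.2.2 x hx, hS]
    have h12 := sum_dual_eq_zero hp hP hx
    rw [← Finset.add_sum_erase _ _ (Finset.mem_univ (1 : P →* ℂˣ))] at h12
    have h13 : ∑ l ∈ Finset.univ.erase (1 : P →* ℂˣ), ((l x : ℂˣ) : ℂ) = -1 := by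
      have : (((1 : P →* ℂˣ) x : ℂˣ) : ℂ) = 1 := by simp
      rw [this] at h12
      linear_combination h12
    rw [h13]
    push_cast
    ring
  refine ⟨insert Θ NE, fun χ => if χ = Θ then -d else ε χ, ?_, ?_, ?_, ?_⟩
  · rw [Finset.card_insert_of_notMem hΘNE, h3]
    omega
  · intro χ
    rw [h1, Finset.mem_insert, Finset.mem_singleton]
    tauto
  · intro χ hχ
    rw [Finset.mem_insert] at hχ
    by_cases h : χ = Θ
    · subst h
      simp only [if_true]
      refine ⟨by rcases h6 with h | h <;> omega, hΘv⟩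
    · simp only [if_neg h]
      have hχ' := hχ.resolve_left h
      exact ⟨h5 χ hχ', h7 χ hχ'⟩
  · intro g hg
    rw [Finset.sum_insert hΘNE]
    show ((if Θ = Θ then -d else ε Θ : ℤ) : ℂ) * (Θ : G → ℂ) g +
      ∑ χ ∈ NE, ((if χ = Θ then -d else ε χ : ℤ) : ℂ) * (χ : G → ℂ) g = 0
    rw [if_pos rfl]
    have h12 : ∑ χ ∈ NE, ((if χ = Θ then -d else ε χ : ℤ) : ℂ) * (χ : G → ℂ) g =
        ∑ χ ∈ NE, (ε χ : ℂ) * (χ : G → ℂ) g := by
      refine Finset.sum_congr rfl fun χ hχ => ?_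
      rw [if_neg (fun h : χ = Θ => hΘNE (h ▸ hχ))]
    rw [h12, h11 Θ hΘX g hg]
    push_cast
    ring

/-! ### The principal block -/

theorem tw_one_char (hK : IsComp p (P : Subgroup G) K) {n : G}
    (hn : n ∈ normalizer ((P : Subgroup G) : Set G)) : tw (1 : K → ℂ) n = 1 := by
  funext y
  rw [tw_apply hK _ hn]
  rfl

theorem part_one_principal (hK : IsComp p (P : Subgroup G) K) (hP : Nat.card P = p)
    {M : Ideal AlgInt} (hM : IsPModular p M) {χ : IrrCharacter G} (hχ : χ ∈ principalBlock M G)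
    {x : P} (hx : x ≠ 1) : part (1 : K → ℂ) (χ : G → ℂ) x = (χ : G → ℂ) x := by
  have := Fintype.ofFinite K
  have hx1 : (x : G) ≠ 1 := fun h => hx (Subtype.ext h)
  have hK0 : (Nat.card K : ℂ) ≠ 0 := by exact_mod_cast Nat.card_pos.ne'
  rw [part_eq, Finset.sum_congr rfl (g := fun _ => (χ : G → ℂ) x)]
  · rw [Finset.sum_const, Finset.card_univ, nsmul_eq_mul, ← Nat.card_eq_fintype_card, ← mul_assoc,
      inv_mul_cancel₀ hK0, one_mul]
  · intro y _
    rw [Blocks.CyclicOrtho.mul_eq P hP hM x.2 hx1 (hK.comm x.2 y.2) ((hK y).1 y.2).2 hχ]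
    simp

/-- The characters over the trivial character are the principal block. -/
theorem mem_Over_one_iff (hK : IsComp p (P : Subgroup G) K) (hP : Nat.card P = p) (hp2 : p ≠ 2)
    {M : Ideal AlgInt} (hM : IsPModular p M) (χ : IrrCharacter G) :
    χ ∈ Over P (1 : K → ℂ) ↔ χ ∈ principalBlock M G := by
  classical
  have hp : p.Prime := Fact.out
  have : Finite (IrrCharacter G) := finite_irr
  obtain ⟨x₀, hx₀P, hx₀⟩ := exists_ne_one (P := (P : Subgroup G)) hP
  have hle : principalBlock M G ⊆ Over P (1 : K → ℂ) := by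
    intro χ hχ
    refine ⟨⟨x₀, hx₀P⟩, fun h => hx₀ (congrArg Subtype.val h), ?_⟩
    rw [part_one_principal hK hP hM hχ (fun h => hx₀ (congrArg Subtype.val h))]
    exact TheoremB.apply_ne_zero hM P hP hχ hx₀P hx₀
  have hst : ∀ n ∈ normalizer ((P : Subgroup G) : Set G), tw (1 : K → ℂ) n = 1 :=
    fun n hn => tw_one_char hK hn
  have h1 := card_stabAct_of_stable hK hP (isIrr_one (G := K)) hst
  set e := (centralizer ((P : Subgroup G) : Set G)).relIndex
    (normalizer ((P : Subgroup G) : Set G)) with he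
  have hdvd : e ∣ p - 1 := by
    obtain ⟨s, hs, -, -⟩ := exists_orbit_reps hp hP (stabAct hK (1 : K → ℂ))
    rw [← h1]
    exact ⟨_, hs.symm⟩
  obtain ⟨t, ht⟩ := hdvd
  have hepos : 0 < e := by
    rcases Nat.eq_zero_or_pos e with h | h
    · rw [h, zero_mul] at ht
      have := hp.one_lt
      omega
    · exact h
  have h2 := card_Over hK hP (isIrr_one (G := K)) h1 ht.symm
  have h3 := (S0960.result p M hM hp2 P hP e rfl).1
  have h4 : (p - 1) / e = t := by rw [ht, Nat.mul_div_cancel_left t hepos]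
  rw [h4] at h3
  have h5 : principalBlock M G = Over P (1 : K → ℂ) := by
    apply Set.eq_of_subset_of_ncard_le hle _ (Set.toFinite _)
    rw [← Nat.card_coe_set_eq, ← Nat.card_coe_set_eq, h2, h3]
  rw [h5]

end Cfsg.Agent.SmallSimple.TheoremCCor
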