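import Cfsg.Agent.SmallSimple.ThetaGroup
import Cfsg.Agent.Characters.Clifford
import Cfsg.Agent.Blocks.ExistsModular

/-!
# Exact number of irreducible characters over `θ`

`card_Over` : `|Over θ| = e + t`, `e = |stabAct θ|`, `e t = p - 1`;
`Over_disjoint` : `Over θ` and `Over θ'` are disjoint if `θ`, `θ'` are not conjugate in `N(P)`.
-/

set_option autoImplicit false
set_option linter.unusedSectionVars false
open Cfsg
open scoped ComplexConjugate

namespace Cfsg.Agent.SmallSimple.ThetaCount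

open Subgroup
open Cfsg.Agent.Characters.Core Cfsg.Agent.Characters.Linear
open Cfsg.Agent.SmallSimple.PrimeDual Cfsg.Agent.SmallSimple.ThetaSetup
open Cfsg.Agent.SmallSimple.ThetaOrtho Cfsg.Agent.SmallSimple.ThetaGroup
open Cfsg.Agent.SmallSimple.SingularCount Cfsg.Agent.Blocks.PPart

universe u

/-! ### Orbits of a group of automorphisms of a group of prime order -/

/-- Representatives for the orbits of `R` on the nontrivial elements. -/
theorem exists_orbit_reps {P : Type u} [Group P] [Finite P] {p : ℕ} (hp : p.Prime)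
    (hP : Nat.card P = p) (R : Subgroup (MulAut P)) :
    ∃ s : Finset P, Nat.card R * s.card = p - 1 ∧ (∀ u ∈ s, u ≠ 1) ∧
      ∀ u ∈ s, ∀ v ∈ s, (∃ r ∈ R, r u = v) → u = v := by
  classical
  have := Fintype.ofFinite P
  have := Fintype.ofFinite R
  let st : Setoid {x : P // x ≠ 1} :=
    { r := fun a b => ∃ r ∈ R, r a.1 = b.1
      iseqv := ⟨fun a => ⟨1, R.one_mem, rfl⟩, fun {a b} ⟨r, hr, h⟩ => ⟨r⁻¹, R.inv_mem hr, by
          rw [← h]; exact MulAut.inv_apply_self _ _ _⟩,
        fun {a b c} ⟨r, hr, h⟩ ⟨r', hr', h'⟩ => ⟨r' * r, R.mul_mem hr' hr, by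
          rw [MulAut.mul_apply, h, h']⟩⟩ }
  let κ := Quotient st
  have := Fintype.ofFinite κ
  have hfib : ∀ q : κ, (Finset.univ.filter
      (fun a : {x : P // x ≠ 1} => (Quotient.mk st a : κ) = q)).card = Nat.card R := by
    intro q
    obtain ⟨u, rfl⟩ := Quotient.exists_rep q
    rw [← Fintype.card_subtype, ← Nat.card_eq_fintype_card]
    have h1 : ∀ r : R, r.1 u.1 ≠ 1 := fun r h => u.2 ((MulEquiv.map_eq_one_iff r.1).1 h)
    have h2 : ∀ r : R, (Quotient.mk st ⟨r.1 u.1, h1 r⟩ : κ) = Quotient.mk st u := fun r =>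
      Quotient.sound ⟨r.1⁻¹, R.inv_mem r.2, MulAut.inv_apply_self _ _ _⟩
    refine (Nat.card_congr (Equiv.ofBijective (fun r : R => (⟨⟨r.1 u.1, h1 r⟩, h2 r⟩ :
      {a : {x : P // x ≠ 1} // (Quotient.mk st a : κ) = Quotient.mk st u})) ⟨?_, ?_⟩)).symm
    · intro r s h
      have h1 : r.1 u.1 = s.1 u.1 := congrArg (fun z => z.1.1) h
      exact Subtype.ext (PrimeAct.apply_injective hp hP u.2 h1)
    · rintro ⟨a, ha⟩
      obtain ⟨r, hr, h⟩ := Quotient.exact ha.symm
      exact ⟨⟨r, hr⟩, Subtype.ext (Subtype.ext h)⟩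
  have hcard : Fintype.card {x : P // x ≠ 1} = p - 1 := by
    rw [Fintype.card_subtype_compl, Fintype.card_subtype_eq, ← Nat.card_eq_fintype_card, hP]
  have hκ : Nat.card R * Fintype.card κ = p - 1 := by
    have h1 := Finset.card_eq_sum_card_fiberwise (s := Finset.univ)
      (f := fun a : {x : P // x ≠ 1} => (Quotient.mk st a : κ)) (t := Finset.univ)
      (fun _ _ => Finset.mem_coe.2 (Finset.mem_univ _))
    rw [Finset.sum_congr rfl fun q _ => hfib q, Finset.sum_const, smul_eq_mul, Finset.card_univ,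
      Finset.card_univ, hcard] at h1
    rw [h1, mul_comm]
  refine ⟨Finset.univ.image fun q : κ => q.out.1, ?_, ?_, ?_⟩
  · rw [Finset.card_image_of_injective, Finset.card_univ, hκ]
    intro q q' h
    rw [← Quotient.out_eq q, ← Quotient.out_eq q']
    congr 1
    exact Subtype.ext h
  · intro u hu
    obtain ⟨q, -, rfl⟩ := Finset.mem_image.1 hu
    exact q.out.2
  · intro u hu v hv h
    obtain ⟨q, -, rfl⟩ := Finset.mem_image.1 hu
    obtain ⟨q', -, rfl⟩ := Finset.mem_image.1 hv
    have h1 : (Quotient.mk st q.out : κ) = Quotient.mk st q'.out := Quotient.sound h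
    rw [Quotient.out_eq, Quotient.out_eq] at h1
    rw [h1]

variable {G : Type u} [Group G] [Finite G] {p : ℕ} [Fact p.Prime] {P : Sylow p G}
  {K H : Subgroup G}

/-- Conjugacy under the normalizer. -/
def setoidK (hK : IsComp p (P : Subgroup G) K) : Setoid (IrrCharacter K) where
  r θ θ' := ∃ n ∈ normalizer ((P : Subgroup G) : Set G), tw (θ : K → ℂ) n = θ'
  iseqv := ⟨fun θ => ⟨1, one_mem _, tw_one _⟩, fun {θ θ'} ⟨n, hn, h⟩ => ⟨n⁻¹, inv_mem hn, by
      rw [← h, ← tw_mul hK _ hn (inv_mem hn), mul_inv_cancel, tw_one]⟩,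
    fun {θ θ' θ''} ⟨n, hn, h⟩ ⟨m, hm, h'⟩ => ⟨n * m, mul_mem hn hm, by
      rw [tw_mul hK _ hn hm, h, h']⟩⟩

/-- The nonvanishing characters are over some `θ`. -/
theorem exists_mem_Over (hK : IsComp p (P : Subgroup G) K) (hP : Nat.card P = p)
    {χ : IrrCharacter G} (hχ : χ ∈ nonzeroOn p G) : ∃ θ : IrrCharacter K, χ ∈ Over P (θ : K → ℂ) := by
  classical
  have : Finite (IrrCharacter K) := finite_irr
  have := Fintype.ofFinite (IrrCharacter K)
  obtain ⟨g, hg, hne⟩ := hχ
  obtain ⟨z, y, hzy, hcomm, ⟨k, hk⟩, hy⟩ := exists_isPPart p g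
  -- `z` is not trivial
  have hz1 : z ≠ 1 := by
    rintro rfl
    rw [one_mul] at hzy
    rw [hzy] at hy
    exact hy hg
  -- conjugate `z` into `P`
  have hzP : IsPGroup p (zpowers z) := IsPGroup.of_card (n := k) (by rw [Nat.card_zpowers, hk])
  obtain ⟨Q, hQ⟩ := hzP.exists_le_sylow
  obtain ⟨c, hc⟩ := MulAction.exists_smul_eq G Q P
  have hu : c * z * c⁻¹ ∈ (P : Subgroup G) := by
    rw [← hc, Sylow.coe_subgroup_smul]
    refine ⟨z, hQ (mem_zpowers z), ?_⟩
    simp [MulAut.conj_apply]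
  have hu1 : c * z * c⁻¹ ≠ 1 := by
    intro h
    apply hz1
    have : z = c⁻¹ * (c * z * c⁻¹) * c := by group
    rw [this, h]; group
  have hyK : c * y * c⁻¹ ∈ K := by
    rw [hK, ← Blocks.CyclicOrtho.centralizer_eq P hP hu hu1, mem_centralizer_singleton_iff]
    refine ⟨?_, ?_⟩
    · have h1 : y * z = z * y := hcomm.eq.symm
      calc c * y * c⁻¹ * (c * z * c⁻¹) = c * (y * z) * c⁻¹ := by group
        _ = c * (z * y) * c⁻¹ := by rw [h1]
        _ = _ := by group
    · have h2 : orderOf (c * y * c⁻¹) = orderOf y := by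
        have := orderOf_injective (MulAut.conj c).toMonoidHom (MulAut.conj c).injective y
        simpa using this
      rw [h2]
      exact hy
  have h3 : (χ : G → ℂ) (c * z * c⁻¹ * ((⟨_, hyK⟩ : K) : G)) ≠ 0 := by
    have h4 : c * z * c⁻¹ * (c * y * c⁻¹) = c * g * c⁻¹ := by rw [← hzy]; group
    show (χ : G → ℂ) (c * z * c⁻¹ * (c * y * c⁻¹)) ≠ 0
    rw [h4, isIrr_isClassFunction χ.2]
    exact hne
  rw [sum_part (isIrr_isClassFunction χ.2) (fun y hy => hK.comm hu hy)] at h3
  obtain ⟨θ, -, hθ⟩ := Finset.exists_ne_zero_of_sum_ne_zero h3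
  refine ⟨θ, ⟨⟨_, hu⟩, fun h => hu1 (congrArg Subtype.val h), ?_⟩⟩
  intro h
  apply hθ
  rw [h, zero_mul]

/-- The value of `part` as a combination of values at `p`-singular elements: lower bound for the
number of `p`-singular classes. -/
theorem card_le_classes (hK : IsComp p (P : Subgroup G) K) (hP : Nat.card P = p)
    (J : Finset (IrrCharacter K × P)) (hJ1 : ∀ j ∈ J, j.2 ≠ 1)
    (hJ : ∀ i ∈ J, ∀ j ∈ J, i ≠ j → ∀ g : G,
      ¬ (g * (i.2 : G) * g⁻¹ = j.2 ∧ tw (j.1 : K → ℂ) g = i.1)) :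
    J.card ≤ Nat.card {c : ConjClasses G // ∃ g, ConjClasses.mk g = c ∧ p ∣ orderOf g} := by
  classical
  have := Fintype.ofFinite G
  have := Fintype.ofFinite K
  have : Finite (IrrCharacter G) := finite_irr
  have := Fintype.ofFinite (IrrCharacter G)
  have hp0 : (p : ℂ) ≠ 0 := by exact_mod_cast (Fact.out : p.Prime).ne_zero
  set κ := {c : ConjClasses G // ∃ g, ConjClasses.mk g = c ∧ p ∣ orderOf g} with hκ
  have := Fintype.ofFinite κ
  let col : κ → IrrCharacter G → ℂ := fun c χ => (χ : G → ℂ) (Quotient.out c.1)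
  let m : J → IrrCharacter G → ℂ := fun j χ => part (j.1.1 : K → ℂ) (χ : G → ℂ) (j.1.2 : P)
  have hcol : ∀ g : G, p ∣ orderOf g → (fun χ : IrrCharacter G => (χ : G → ℂ) g) ∈
      Submodule.span ℂ (Set.range col) := by
    intro g hg
    have h1 : (fun χ : IrrCharacter G => (χ : G → ℂ) g) = col ⟨ConjClasses.mk g, g, rfl, hg⟩ := by
      funext χ
      have h2 : IsConj g (Quotient.out (ConjClasses.mk g)) := by
        rw [← ConjClasses.mk_eq_mk_iff_isConj]
        exact (Quotient.out_eq (ConjClasses.mk g)).symm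
      obtain ⟨c, hc⟩ := isConj_iff.1 h2
      show (χ : G → ℂ) g = (χ : G → ℂ) (Quotient.out (ConjClasses.mk g))
      rw [← hc, isIrr_isClassFunction χ.2]
    rw [h1]
    exact Submodule.subset_span ⟨_, rfl⟩
  have hm : ∀ j, m j ∈ Submodule.span ℂ (Set.range col) := by
    intro j
    have h1 : m j = (Nat.card K : ℂ)⁻¹ • ∑ y : K, conj ((j.1.1 : K → ℂ) y) •
        (fun χ : IrrCharacter G => (χ : G → ℂ) ((j.1.2 : P) * y)) := by
      funext χ
      show part _ _ _ = _
      rw [part_eq, Pi.smul_apply, Finset.sum_apply, smul_eq_mul]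
      congr 1
      refine Finset.sum_congr rfl fun y _ => ?_
      rw [Pi.smul_apply, smul_eq_mul, mul_comm]
    rw [h1]
    refine Submodule.smul_mem _ _ (Submodule.sum_mem _ fun y _ => Submodule.smul_mem _ _ (hcol _ ?_))
    have hj1 : ((j.1.2 : P) : G) ≠ 1 := fun h => hJ1 j.1 j.2 (Subtype.ext h)
    have hc : Commute ((j.1.2 : P) : G) (y : G) := hK.comm j.1.2.2 y.2
    have ho := Blocks.CyclicOrtho.orderOf_eq P hP j.1.2.2 hj1
    have hcop : (orderOf ((j.1.2 : P) : G)).Coprime (orderOf (y : G)) := by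
      rw [ho]
      exact ((Fact.out : p.Prime).coprime_iff_not_dvd).2 ((hK y).1 y.2).2
    rw [hc.orderOf_mul_eq_mul_orderOf_of_coprime hcop, ho]
    exact dvd_mul_right _ _
  have hgram : ∀ i j : J, ∑ χ : IrrCharacter G, m i χ * conj (m j χ) = if i = j then (p : ℂ) else 0 := by
    intro i j
    have hi1 := hJ1 i.1 i.2
    have hj1 := hJ1 j.1 j.2
    split_ifs with h
    · subst h
      show ∑ χ : IrrCharacter G, part (i.1.1 : K → ℂ) (χ : G → ℂ) (i.1.2 : P) *
        conj (part (i.1.1 : K → ℂ) (χ : G → ℂ) (i.1.2 : P)) = _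
      rw [sum_part_self hK hP i.1.1.2 hi1 hi1, if_pos ⟨1, one_mem _, rfl⟩]
    · show ∑ χ : IrrCharacter G, part (i.1.1 : K → ℂ) (χ : G → ℂ) (i.1.2 : P) *
        conj (part (j.1.1 : K → ℂ) (χ : G → ℂ) (j.1.2 : P)) = _
      rw [sum_part_mul_conj hK hP i.1.1.2 j.1.1.2 i.1.2.2 (fun h => hi1 (Subtype.ext h)) j.1.2.2
        (fun h => hj1 (Subtype.ext h)), Finset.sum_eq_zero, mul_zero]
      intro g _
      rw [if_neg]
      exact hJ i.1 i.2 j.1 j.2 (fun h' => h (Subtype.ext h')) g
  have hli : LinearIndependent ℂ m := by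
    rw [Fintype.linearIndependent_iff]
    intro a ha j
    have h1 : ∑ χ : IrrCharacter G, (∑ i, a i • m i) χ * conj (m j χ) = a j * p := by
      have h2 : ∀ χ : IrrCharacter G, (∑ i, a i • m i) χ * conj (m j χ) =
          ∑ i, a i * (m i χ * conj (m j χ)) := by
        intro χ
        rw [Finset.sum_apply, Finset.sum_mul]
        refine Finset.sum_congr rfl fun i _ => ?_
        rw [Pi.smul_apply, smul_eq_mul, mul_assoc]
      rw [Finset.sum_congr rfl fun χ _ => h2 χ, Finset.sum_comm]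
      have h3 : ∀ i, ∑ χ : IrrCharacter G, a i * (m i χ * conj (m j χ)) =
          if i = j then a i * p else 0 := by
        intro i
        rw [← Finset.mul_sum, hgram]
        split_ifs <;> simp
      rw [Finset.sum_congr rfl fun i _ => h3 i, Finset.sum_ite_eq', if_pos (Finset.mem_univ _)]
    rw [ha] at h1
    simp only [Pi.zero_apply, zero_mul, Finset.sum_const_zero] at h1
    exact (mul_eq_zero.1 h1.symm).resolve_right hp0
  let W := Submodule.span ℂ (Set.range col)
  have hw : LinearIndependent ℂ (fun j => (⟨m j, hm j⟩ : W)) := by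
    apply LinearIndependent.of_comp W.subtype
    exact hli
  have h1 := hw.fintype_card_le_finrank
  have h2 : Module.finrank ℂ W ≤ Fintype.card κ := finrank_range_le_card (R := ℂ) col
  rw [Fintype.card_coe] at h1
  rw [Nat.card_eq_fintype_card]
  exact h1.trans h2

open Cfsg.Agent.OddOrderCharacters in
/-- Characters of `H` over non-conjugate characters of `K` are different. -/
theorem tw_eq_of_mem [Fintype H] (hK : IsComp p (P : Subgroup G) K) (hP : Nat.card P = p)
    (hH : IsCompl' P H) {θ θ' : K → ℂ} (hθ : IsIrrCharacter K θ) (hθ' : IsIrrCharacter K θ')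
    {C C' : Finset (H → ℂ)} (hC1 : ∀ χ ∈ C, IsIrrCharacter H χ) (hC1' : ∀ χ ∈ C', IsIrrCharacter H χ)
    (hC : indFun (K.subgroupOf H) (fun y => θ ⟨(y : H), mem_subgroupOf.1 y.2⟩) = ∑ χ ∈ C, χ)
    (hC' : indFun (K.subgroupOf H) (fun y => θ' ⟨(y : H), mem_subgroupOf.1 y.2⟩) = ∑ χ ∈ C', χ)
    {χ : H → ℂ} (hχ : χ ∈ C) (hχ' : χ ∈ C') :
    ∃ n ∈ normalizer ((P : Subgroup G) : Set G), tw θ n = θ' := by
  classical
  have hle := K_le hK hP hH
  have hnorm : (K.subgroupOf H).Normal := normal_K hK hH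
  have := Fintype.ofFinite (K.subgroupOf H)
  have key : ∀ {θ : K → ℂ} (_ : IsIrrCharacter K θ) {C : Finset (H → ℂ)}
      (_ : ∀ χ ∈ C, IsIrrCharacter H χ)
      (_ : indFun (K.subgroupOf H) (fun y => θ ⟨(y : H), mem_subgroupOf.1 y.2⟩) = ∑ χ ∈ C, χ)
      (_ : χ ∈ C), IsIrrCharacter (K.subgroupOf H) (fun y => θ ⟨(y : H), mem_subgroupOf.1 y.2⟩) ∧
        classInner (fun n : K.subgroupOf H => χ n)
          (fun y => θ ⟨(y : H), mem_subgroupOf.1 y.2⟩) ≠ 0 := by
    intro θ hθ C hC1 hC hχ
    refine ⟨isIrr_comp (Subgroup.subgroupOfEquivOfLe hle).toMonoidHom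
      (Subgroup.subgroupOfEquivOfLe hle).surjective hθ, ?_⟩
    have h1 := InertiaAbelian.frobenius (K.subgroupOf H)
      (fun y => θ ⟨(y : H), mem_subgroupOf.1 y.2⟩) χ (isIrr_isClassFunction (hC1 χ hχ))
    rw [hC, classInner_sum_left] at h1
    have h2 : ∑ ψ ∈ C, classInner ψ χ = 1 := by
      rw [Finset.sum_eq_single χ]
      · exact classInner_irr_self (hC1 χ hχ)
      · intro ψ hψ hne
        rw [classInner_irr (hC1 ψ hψ) (hC1 χ hχ), if_neg hne]
      · intro h; exact absurd hχ h
    rw [h2] at h1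
    intro h3
    rw [← classInner_conj_symm, h3, map_zero] at h1
    exact one_ne_zero h1
  obtain ⟨hi, h1⟩ := key hθ hC1 hC hχ
  obtain ⟨hi', h1'⟩ := key hθ' hC1' hC' hχ'
  obtain ⟨g, hg⟩ := Characters.Clifford.exists_conj_of_constituents (K.subgroupOf H)
    (hC1 χ hχ) hi hi' h1 h1'
  refine ⟨g, hH.le g.2, ?_⟩
  funext y
  rw [tw_apply hK _ (hH.le g.2)]
  have h2 := congrFun hg ⟨⟨y, hle y.2⟩, mem_subgroupOf.2 y.2⟩
  exact h2.symm

/-- Lower bound for the number of irreducible characters of `H`. -/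
theorem sum_le_card_irr {H : Subgroup G} (hK : IsComp p (P : Subgroup G) K) (hP : Nat.card P = p)
    (hH : IsCompl' P H) (s : Finset (IrrCharacter K))
    (hs : ∀ θ ∈ s, ∀ θ' ∈ s, (∃ n ∈ normalizer ((P : Subgroup G) : Set G),
      tw (θ : K → ℂ) n = θ') → θ = θ') :
    ∑ θ ∈ s, Nat.card (stabAct hK (θ : K → ℂ)) ≤ Nat.card (IrrCharacter H) := by
  classical
  have := Fintype.ofFinite H
  have : Finite (IrrCharacter H) := finite_irr
  have := Fintype.ofFinite (IrrCharacter H)
  choose C hC1 hC2 hC3 using fun θ : IrrCharacter K => exists_irr_over hK hP hH θ.2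
  have h1 : ∑ θ ∈ s, Nat.card (stabAct hK (θ : K → ℂ)) = (s.biUnion C).card := by
    rw [Finset.card_biUnion]
    · exact Finset.sum_congr rfl fun θ _ => (hC1 θ).symm
    · intro θ hθ θ' hθ' hne
      show Disjoint _ _
      rw [Finset.disjoint_left]
      intro χ hχ hχ'
      exact hne (hs θ hθ θ' hθ' (tw_eq_of_mem hK hP hH θ.2 θ'.2 (hC2 θ) (hC2 θ') (hC3 θ) (hC3 θ')
        hχ hχ'))
  rw [h1, Nat.card_eq_fintype_card]
  have h2 : s.biUnion C ⊆ (Finset.univ : Finset (IrrCharacter H)).map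
      ⟨Subtype.val, Subtype.val_injective⟩ := by
    intro χ hχ
    obtain ⟨θ, -, hθ⟩ := Finset.mem_biUnion.1 hχ
    rw [Finset.mem_map]
    exact ⟨⟨χ, hC2 θ χ hθ⟩, Finset.mem_univ _, rfl⟩
  have h3 := Finset.card_le_card h2
  rwa [Finset.card_map, Finset.card_univ] at h3

/-- The union bound is sharp only for disjoint families. -/
theorem disjoint_of_card {α β : Type*} [DecidableEq α] [DecidableEq β] (s : Finset α)
    (f : α → Finset β) (h : ∑ a ∈ s, (f a).card ≤ (s.biUnion f).card) {a b : α} (ha : a ∈ s)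
    (hb : b ∈ s) (hab : a ≠ b) : Disjoint (f a) (f b) := by
  by_contra hd
  rw [Finset.not_disjoint_iff] at hd
  obtain ⟨x, hxa, hxb⟩ := hd
  have h1 : s.biUnion f ⊆ (s.erase b).biUnion f ∪ (f b).erase x := by
    intro y hy
    obtain ⟨c, hc, hyc⟩ := Finset.mem_biUnion.1 hy
    rw [Finset.mem_union]
    by_cases hcb : c = b
    · subst hcb
      by_cases hyx : y = x
      · left
        subst hyx
        exact Finset.mem_biUnion.2 ⟨a, Finset.mem_erase.2 ⟨hab, ha⟩, hxa⟩
      · right
        exact Finset.mem_erase.2 ⟨hyx, hyc⟩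
    · left
      exact Finset.mem_biUnion.2 ⟨c, Finset.mem_erase.2 ⟨hcb, hc⟩, hyc⟩
  have h2 := Finset.card_le_card h1
  have h3 := Finset.card_union_le ((s.erase b).biUnion f) ((f b).erase x)
  have h4 : ((s.erase b).biUnion f).card ≤ ∑ c ∈ s.erase b, (f c).card := Finset.card_biUnion_le
  have h5 := Finset.card_erase_of_mem hxb
  have h6 : ∑ c ∈ s.erase b, (f c).card + (f b).card = ∑ c ∈ s, (f c).card :=
    Finset.sum_erase_add s _ hb
  have h7 : 0 < (f b).card := Finset.card_pos.2 ⟨x, hxb⟩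
  omega

/-- Everything is sharp. -/
theorem sharp (hK : IsComp p (P : Subgroup G) K) (hP : Nat.card P = p)
    (θ₀ : IrrCharacter K) :
    (∀ e t : ℕ, Nat.card (stabAct hK (θ₀ : K → ℂ)) = e → e * t = p - 1 →
      Nat.card (Over P (θ₀ : K → ℂ)) = e + t) ∧
    ∀ θ₁ : IrrCharacter K, (∀ n ∈ normalizer ((P : Subgroup G) : Set G),
      tw (θ₀ : K → ℂ) n ≠ θ₁) → Disjoint (Over P (θ₀ : K → ℂ)) (Over P (θ₁ : K → ℂ)) := by
  classical
  have hp : p.Prime := Fact.out
  obtain ⟨M, hM⟩ := Cfsg.Agent.Blocks.ExistsModular.exists_isPModular hp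
  have hMp : M.IsPrime := Blocks.Local.isPrime_of_isPModular hM
  obtain ⟨H, hH⟩ := exists_compl P
  have : Finite (IrrCharacter G) := finite_irr
  have := Fintype.ofFinite (IrrCharacter G)
  have : Finite (IrrCharacter K) := finite_irr
  have := Fintype.ofFinite (IrrCharacter K)
  -- representatives for the orbits of characters
  let st := setoidK hK
  let κ := Quotient st
  have := Fintype.ofFinite κ
  -- `θ₀` and `θ₁` may be chosen as representatives
  have main : ∀ rep : κ → IrrCharacter K, (∀ q, (Quotient.mk st (rep q) : κ) = q) →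
      (∀ q : κ, ∀ e t : ℕ, Nat.card (stabAct hK (rep q : K → ℂ)) = e → e * t = p - 1 →
        Nat.card (Over P (rep q : K → ℂ)) = e + t) ∧
      ∀ q q' : κ, q ≠ q' → Disjoint (Over P (rep q : K → ℂ)) (Over P (rep q' : K → ℂ)) := by
    intro rep hrep
    have hinj : Function.Injective rep := fun q q' h => by rw [← hrep q, ← hrep q', h]
    choose s hs1 hs2 hs3 using fun q : κ => exists_orbit_reps hp hP (stabAct hK (rep q : K → ℂ))
    -- lower bounds
    have hA : ∑ q : κ, Nat.card (stabAct hK (rep q : K → ℂ)) ≤ Nat.card (IrrCharacter H) := by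
      have h1 := sum_le_card_irr hK hP hH (Finset.univ.image rep) (by
        intro θ hθ θ' hθ' h
        obtain ⟨q, -, rfl⟩ := Finset.mem_image.1 hθ
        obtain ⟨q', -, rfl⟩ := Finset.mem_image.1 hθ'
        have h1 : (Quotient.mk st (rep q) : κ) = Quotient.mk st (rep q') := Quotient.sound h
        rw [hrep, hrep] at h1
        rw [h1])
      rwa [Finset.sum_image fun _ _ _ _ h => hinj h] at h1
    let J : Finset (IrrCharacter K × P) := Finset.univ.biUnion fun q : κ =>
      (s q).image fun u => (rep q, u)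
    have hJmem : ∀ j, j ∈ J ↔ ∃ q : κ, ∃ u ∈ s q, (rep q, u) = j := by
      intro j
      simp [J]
    have hJcard : J.card = ∑ q : κ, (s q).card := by
      rw [Finset.card_biUnion]
      · refine Finset.sum_congr rfl fun q _ => ?_
        exact Finset.card_image_of_injective _ fun u v h => (Prod.mk.inj h).2
      · intro q _ q' _ hne
        show Disjoint _ _
        rw [Finset.disjoint_left]
        intro j hj hj'
        obtain ⟨u, -, rfl⟩ := Finset.mem_image.1 hj
        obtain ⟨v, -, h⟩ := Finset.mem_image.1 hj'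
        exact hne (hinj (Prod.mk.inj h).1).symm
    have hB : ∑ q : κ, (s q).card ≤
        Nat.card {c : ConjClasses G // ∃ g, ConjClasses.mk g = c ∧ p ∣ orderOf g} := by
      rw [← hJcard]
      apply card_le_classes hK hP J
      · intro j hj
        obtain ⟨q, u, hu, rfl⟩ := (hJmem j).1 hj
        exact hs2 q u hu
      · intro i hi j hj hij g hg
        obtain ⟨q, u, hu, rfl⟩ := (hJmem i).1 hi
        obtain ⟨q', v, hv, rfl⟩ := (hJmem j).1 hj
        apply hij
        have hv1 : (v : G) ≠ 1 := fun h => hs2 q' v hv (Subtype.ext h)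
        have hgN := mem_normalizer_of_conj hP u.2 v.2 hv1 hg.1
        have h1 : (Quotient.mk st (rep q') : κ) = Quotient.mk st (rep q) :=
          Quotient.sound ⟨g, hgN, hg.2⟩
        rw [hrep, hrep] at h1
        subst h1
        have h2 := hs3 q' u hu v hv ⟨cP hgN, ⟨g, hgN, fun x => coe_cP hgN x, hg.2⟩,
          Subtype.ext hg.1⟩
        rw [h2]
    have hC := lower hM P hP H hH.le hH.disj hH.gen hH.not_dvd
    -- upper bound
    let f : κ → Finset (IrrCharacter G) := fun q => (Set.toFinite (Over P (rep q : K → ℂ))).toFinset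
    have hfcard : ∀ q, (f q).card = Nat.card (Over P (rep q : K → ℂ)) := fun q =>
      (Nat.card_eq_card_finite_toFinset _).symm
    have hfmem : ∀ q χ, χ ∈ f q ↔ χ ∈ Over P (rep q : K → ℂ) := fun q χ => by simp [f]
    have hle : ∀ q, (f q).card ≤ Nat.card (stabAct hK (rep q : K → ℂ)) + (s q).card := by
      intro q
      rw [hfcard]
      exact card_Over_le hK hP (rep q).2 rfl (hs1 q)
    have hU : Nat.card (nonzeroOn p G) ≤ (Finset.univ.biUnion f).card := by
      rw [Nat.card_eq_card_finite_toFinset (Set.toFinite _)]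
      apply Finset.card_le_card
      intro χ hχ
      have hχ' : χ ∈ nonzeroOn p G := by simpa using hχ
      obtain ⟨θ, hθ⟩ := exists_mem_Over hK hP hχ'
      rw [Finset.mem_biUnion]
      refine ⟨Quotient.mk st θ, Finset.mem_univ _, ?_⟩
      rw [hfmem]
      have h1 : (Quotient.mk st θ : κ) = Quotient.mk st (rep (Quotient.mk st θ)) := (hrep _).symm
      obtain ⟨n, hn, h2⟩ := Quotient.exact h1
      rw [← h2, Over_tw hK hn]
      exact hθ
    have hbi : (Finset.univ.biUnion f).card ≤ ∑ q : κ, (f q).card := Finset.card_biUnion_le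
    have hsum : ∑ q : κ, (f q).card ≤
        ∑ q : κ, (Nat.card (stabAct hK (rep q : K → ℂ)) + (s q).card) :=
      Finset.sum_le_sum fun q _ => hle q
    have hsum2 : ∑ q : κ, (Nat.card (stabAct hK (rep q : K → ℂ)) + (s q).card) ≤
        (Finset.univ.biUnion f).card := by
      rw [Finset.sum_add_distrib]
      omega
    refine ⟨?_, ?_⟩
    · intro q e t he het
      have h1 : ∑ q : κ, (f q).card =
        ∑ q : κ, (Nat.card (stabAct hK (rep q : K → ℂ)) + (s q).card) :=
        le_antisymm hsum (hsum2.trans hbi)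
      have h2 := (Finset.sum_eq_sum_iff_of_le fun q _ => hle q).1 h1 q (Finset.mem_univ _)
      rw [hfcard, he] at h2
      rw [h2]
      have h3 := hs1 q
      rw [he, ← het] at h3
      have hepos : 0 < e := by
        rcases Nat.eq_zero_or_pos e with h | h
        · rw [h, zero_mul] at het
          have := hp.one_lt
          omega
        · exact h
      rw [Nat.eq_of_mul_eq_mul_left hepos h3]
    · intro q q' hqq
      have h1 := disjoint_of_card Finset.univ f (hsum.trans hsum2) (Finset.mem_univ q)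
        (Finset.mem_univ q') hqq
      rw [Set.disjoint_left]
      intro χ hχ hχ'
      exact Finset.disjoint_left.1 h1 ((hfmem q χ).2 hχ) ((hfmem q' χ).2 hχ')
  refine ⟨?_, ?_⟩
  · intro e t he het
    let rep : κ → IrrCharacter K := fun q => if q = Quotient.mk st θ₀ then θ₀ else q.out
    have hrep : ∀ q, (Quotient.mk st (rep q) : κ) = q := by
      intro q
      show Quotient.mk st (if q = Quotient.mk st θ₀ then θ₀ else q.out) = q
      split_ifs with h
      · exact h.symm
      · exact Quotient.out_eq q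
    have h1 : rep (Quotient.mk st θ₀) = θ₀ := if_pos rfl
    have h2 := (main rep hrep).1 (Quotient.mk st θ₀) e t
    rw [h1] at h2
    exact h2 he het
  · intro θ₁ hne
    have hq : (Quotient.mk st θ₀ : κ) ≠ Quotient.mk st θ₁ := by
      intro h
      obtain ⟨n, hn, h1⟩ := Quotient.exact h
      exact hne n hn h1
    let rep : κ → IrrCharacter K := fun q => if q = Quotient.mk st θ₀ then θ₀ else
      if q = Quotient.mk st θ₁ then θ₁ else q.out
    have hrep : ∀ q, (Quotient.mk st (rep q) : κ) = q := by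
      intro q
      show Quotient.mk st (if q = Quotient.mk st θ₀ then θ₀ else
        if q = Quotient.mk st θ₁ then θ₁ else q.out) = q
      split_ifs with h h'
      · exact h.symm
      · exact h'.symm
      · exact Quotient.out_eq q
    have h1 : rep (Quotient.mk st θ₀) = θ₀ := if_pos rfl
    have h2 : rep (Quotient.mk st θ₁) = θ₁ := by
      show (if (Quotient.mk st θ₁ : κ) = Quotient.mk st θ₀ then θ₀ else
        if (Quotient.mk st θ₁ : κ) = Quotient.mk st θ₁ then θ₁ else _) = θ₁
      rw [if_neg (fun h => hq h.symm), if_pos rfl]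
    have h3 := (main rep hrep).2 _ _ hq
    rwa [h1, h2] at h3

end Cfsg.Agent.SmallSimple.ThetaCount
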