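import Cfsg.Agent.SmallSimple.ThetaOrtho
import Cfsg.Agent.OddOrderCharacters.InertiaAbelian
import Cfsg.Agent.S0886

/-!
# The complement of a Sylow subgroup of prime order in its normalizer

`H` a complement of `P` in `N(P)`; `K ≤ H` normal, `H / K` cyclic.

* `exists_compl` : existence of `H`;
* `card_stab_mul` : `|stab_H θ| = |stabAct θ| |K|`;
* `exists_irr_over` : the irreducible characters of `H` over `θ`: there are `|stabAct θ|` of them.
-/

set_option autoImplicit false
set_option linter.unusedSectionVars false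
open Cfsg
open scoped ComplexConjugate

namespace Cfsg.Agent.SmallSimple.ThetaGroup

open Subgroup
open Cfsg.Agent.Characters.Core Cfsg.Agent.Characters.Linear
open Cfsg.Agent.SmallSimple.PrimeDual Cfsg.Agent.SmallSimple.ThetaSetup
open Cfsg.Agent.SmallSimple.ThetaOrtho

universe u

variable {G : Type u} [Group G] [Finite G] {p : ℕ} [Fact p.Prime] {P : Sylow p G}

/-- A complement of `P` in its normalizer. -/
structure IsCompl' (P : Sylow p G) (H : Subgroup G) : Prop where
  le : H ≤ normalizer ((P : Subgroup G) : Set G)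
  disj : ∀ x ∈ (P : Subgroup G), x ∈ H → x = 1
  gen : ∀ n ∈ normalizer ((P : Subgroup G) : Set G), ∃ h ∈ H, ∃ y ∈ (P : Subgroup G), h * y = n
  not_dvd : ¬ p ∣ Nat.card H

theorem exists_compl (P : Sylow p G) : ∃ H : Subgroup G, IsCompl' P H := by
  set N := normalizer ((P : Subgroup G) : Set G) with hN
  have hle : (P : Subgroup G) ≤ N := le_normalizer
  let Q : Sylow p N := P.subtype hle
  have hQ : ((Q : Subgroup N)) = (P : Subgroup G).subgroupOf N := rfl
  have hnorm : ((P : Subgroup G).subgroupOf N).Normal := by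
    rw [hN]; exact normal_in_normalizer
  have hcop : (Nat.card ((P : Subgroup G).subgroupOf N)).Coprime
      ((P : Subgroup G).subgroupOf N).index := by
    rw [← hQ]
    exact Q.card_coprime_index
  obtain ⟨H, hH⟩ := exists_right_complement'_of_coprime hcop
  refine ⟨H.map N.subtype, ?_, ?_, ?_, ?_⟩
  · rintro _ ⟨h, -, rfl⟩
    exact h.2
  · rintro _ hx ⟨h, hh, rfl⟩
    have h1 : h ∈ (P : Subgroup G).subgroupOf N := mem_subgroupOf.2 hx
    have h2 := hH.disjoint.le_bot (mem_inf.2 ⟨h1, hh⟩)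
    rw [mem_bot] at h2
    rw [h2]; rfl
  · intro n hn
    have h1 := hH.symm
    obtain ⟨⟨h, y⟩, hhy⟩ := h1.2 (⟨n, hn⟩ : N)
    refine ⟨(h : N), ⟨h, h.2, rfl⟩, ((y : N) : G), mem_subgroupOf.1 y.2, ?_⟩
    exact congrArg Subtype.val hhy
  · rw [card_map_of_injective N.subtype_injective]
    intro h
    have h1 : ((P : Subgroup G).subgroupOf N).index = Nat.card H := hH.symm.index_eq_card
    rw [← h1, ← hQ] at h
    exact Q.not_dvd_index h

variable {K H : Subgroup G}

theorem not_dvd_orderOf (hH : IsCompl' P H) {h : G} (hh : h ∈ H) : ¬ p ∣ orderOf h := by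
  intro h1
  apply hH.not_dvd
  have h2 := orderOf_dvd_natCard (⟨h, hh⟩ : H)
  rw [← Subgroup.orderOf_coe] at h2
  exact h1.trans h2

/-- Elements of `H` centralizing `P` are in `K`. -/
theorem mem_K (hK : IsComp p (P : Subgroup G) K) (hH : IsCompl' P H) {h : G} (hh : h ∈ H)
    (hc : h ∈ centralizer ((P : Subgroup G) : Set G)) : h ∈ K :=
  (hK h).2 ⟨hc, not_dvd_orderOf hH hh⟩

theorem K_le (hK : IsComp p (P : Subgroup G) K) (hP : Nat.card P = p) (hH : IsCompl' P H) :
    K ≤ H := by
  intro y hy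
  obtain ⟨h, hh, x, hx, hxy⟩ := hH.gen y (centralizer_le_normalizer _ (hK.le hy))
  have h1 : h ∈ centralizer ((P : Subgroup G) : Set G) := by
    have h2 : h = y * x⁻¹ := by rw [← hxy]; group
    rw [h2]
    exact mul_mem (hK.le hy) (inv_mem (le_centralizer hP hx))
  have h3 := mem_K hK hH hh h1
  have h4 : x ∈ K := by
    have : x = h⁻¹ * y := by rw [← hxy]; group
    rw [this]
    exact mul_mem (inv_mem h3) hy
  have h5 := hK.disjoint hP hx h4
  rw [h5, mul_one] at hxy
  rw [← hxy]
  exact hh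

theorem normal_K (hK : IsComp p (P : Subgroup G) K) (hH : IsCompl' P H) :
    (K.subgroupOf H).Normal := by
  constructor
  intro y hy h
  rw [mem_subgroupOf] at hy ⊢
  exact conj_mem hK (hH.le h.2) hy

/-- The action of `H` on `P`. -/
noncomputable def actP (hH : IsCompl' P H) : H →* MulAut P where
  toFun h := cP (hH.le h.2)
  map_one' := by
    ext x
    rw [coe_cP]; simp
  map_mul' a b := by
    ext x
    rw [MulAut.mul_apply, coe_cP, coe_cP, coe_cP]
    simp only [coe_mul]
    group

theorem actP_apply (hH : IsCompl' P H) (h : H) (x : P) :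
    ((actP hH h x : P) : G) = h * x * (h : G)⁻¹ := rfl

theorem actP_ker (hK : IsComp p (P : Subgroup G) K) (hP : Nat.card P = p) (hH : IsCompl' P H)
    (h : H) : actP hH h = 1 ↔ (h : G) ∈ K := by
  constructor
  · intro h1
    apply mem_K hK hH h.2
    rw [mem_centralizer_iff]
    intro x hx
    have h2 := congrArg Subtype.val (DFunLike.congr_fun h1 ⟨x, hx⟩)
    rw [actP_apply] at h2
    have h3 : (h : G) * x * (h : G)⁻¹ = x := h2
    calc x * h = ((h : G) * x * (h : G)⁻¹) * h := by rw [h3]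
      _ = _ := by group
  · intro h1
    ext x
    rw [actP_apply]
    have h2 := hK.comm x.2 h1
    show (h : G) * x * (h : G)⁻¹ = x
    rw [← h2]
    group

theorem isCyclic_mulAut (hP : Nat.card P = p) : IsCyclic (MulAut P) := by
  have h1 : IsCyclic P := isCyclic_of_prime_card hP
  have h2 : IsCyclic (ZMod (Nat.card P))ˣ := by
    rw [hP]; infer_instance
  exact isCyclic_of_injective (IsCyclic.mulAutMulEquiv P).toMonoidHom
    (IsCyclic.mulAutMulEquiv P).injective

theorem comm_mem_K (hK : IsComp p (P : Subgroup G) K) (hP : Nat.card P = p) (hH : IsCompl' P H)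
    (a b : H) : a * b * a⁻¹ * b⁻¹ ∈ K.subgroupOf H := by
  rw [mem_subgroupOf, ← actP_ker hK hP hH]
  have h1 : IsCyclic (MulAut P) := isCyclic_mulAut hP
  have h2 := h1.commutative.is_comm.comm (actP hH a) (actP hH b)
  rw [map_mul, map_mul, map_mul, map_inv, map_inv, h2]
  group

/-- The stabilizer of `θ` in `H`. -/
def stabH (hK : IsComp p (P : Subgroup G) K) (hH : IsCompl' P H) (θ : K → ℂ) : Subgroup H where
  carrier := {h | tw θ (h : G) = θ}
  mul_mem' := by
    intro a b ha hb
    show tw θ ((a : G) * b) = θ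
    rw [tw_mul hK θ (hH.le a.2) (hH.le b.2), show tw θ (a : G) = θ from ha]
    exact hb
  one_mem' := tw_one θ
  inv_mem' := by
    intro a ha
    show tw θ ((a : G)⁻¹) = θ
    conv_lhs => rw [← show tw θ (a : G) = θ from ha]
    rw [← tw_mul hK θ (hH.le a.2) (inv_mem (hH.le a.2)), mul_inv_cancel, tw_one]

theorem mem_stabH (hK : IsComp p (P : Subgroup G) K) (hH : IsCompl' P H) (θ : K → ℂ) {h : H} :
    h ∈ stabH hK hH θ ↔ tw θ (h : G) = θ := Iff.rfl

theorem K_le_stabH (hK : IsComp p (P : Subgroup G) K) (hP : Nat.card P = p) (hH : IsCompl' P H)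
    {θ : K → ℂ} (hθ : IsClassFunction K θ) : K.subgroupOf H ≤ stabH hK hH θ := by
  intro h hh
  exact tw_centralizer hK hP hθ (hK.le (mem_subgroupOf.1 hh))

/-- `|stab_H θ| = |stabAct θ| |K|`. -/
theorem card_stab_mul (hK : IsComp p (P : Subgroup G) K) (hP : Nat.card P = p)
    (hH : IsCompl' P H) {θ : K → ℂ} (hθ : IsClassFunction K θ) :
    Nat.card (stabH hK hH θ) = Nat.card (stabAct hK θ) * Nat.card K := by
  let φ : stabH hK hH θ →* MulAut P := (actP hH).comp (stabH hK hH θ).subtype
  have hrange : φ.range = stabAct hK θ := by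
    ext r
    constructor
    · rintro ⟨h, rfl⟩
      exact ⟨(h : H), hH.le (h : H).2, fun x => actP_apply hH _ x, h.2⟩
    · rintro ⟨n, hn, hr, hrt⟩
      obtain ⟨h, hh, y, hy, rfl⟩ := hH.gen n hn
      have hyC := le_centralizer hP hy
      have hst : tw θ h = θ := by
        rw [tw_mul hK θ (hH.le hh) (centralizer_le_normalizer _ hyC)] at hrt
        have hcl : tw (tw θ h) y = tw θ h := by
          apply tw_centralizer hK hP _ hyC
          intro a b
          rw [tw_apply hK _ (hH.le hh), tw_apply hK _ (hH.le hh),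
            ← hθ ⟨h * a * h⁻¹, conj_mem hK (hH.le hh) a.2⟩ ⟨h * b * h⁻¹, conj_mem hK (hH.le hh) b.2⟩]
          congr 1
          apply Subtype.ext
          simp only [coe_mul, coe_inv]
          group
        rwa [hcl] at hrt
      refine ⟨⟨⟨h, hh⟩, hst⟩, ?_⟩
      ext x
      show (h : G) * x * h⁻¹ = _
      rw [hr]
      have h1 : y * (x : G) = x * y := mem_centralizer_iff.1 (le_centralizer hP x.2) y hy
      calc h * (x : G) * h⁻¹ = h * (x * y) * y⁻¹ * h⁻¹ := by group
        _ = h * (y * x) * y⁻¹ * h⁻¹ := by rw [h1]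
        _ = _ := by group
  have hker : Nat.card φ.ker = Nat.card K := by
    have hle := K_le hK hP hH
    refine Nat.card_congr ⟨fun z => ⟨((z : stabH hK hH θ) : H), (actP_ker hK hP hH _).1 z.2⟩,
      fun y => ⟨⟨⟨y, hle y.2⟩, K_le_stabH hK hP hH hθ (mem_subgroupOf.2 y.2)⟩,
        (actP_ker hK hP hH _).2 y.2⟩, fun _ => rfl, fun _ => rfl⟩
  rw [← hrange, ← hker, ← Subgroup.index_ker, mul_comm]
  exact (φ.ker.card_mul_index).symm

open Cfsg.Agent.OddOrderCharacters in
/-- The irreducible characters of `H` over `θ`. -/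
theorem exists_irr_over [Fintype H] (hK : IsComp p (P : Subgroup G) K) (hP : Nat.card P = p)
    (hH : IsCompl' P H) {θ : K → ℂ} (hθ : IsIrrCharacter K θ) :
    ∃ C : Finset (H → ℂ), C.card = Nat.card (stabAct hK θ) ∧ (∀ χ ∈ C, IsIrrCharacter H χ) ∧
      indFun (K.subgroupOf H) (fun y => θ ⟨(y : H), mem_subgroupOf.1 y.2⟩) = ∑ χ ∈ C, χ := by
  classical
  have hle := K_le hK hP hH
  have hnorm : (K.subgroupOf H).Normal := normal_K hK hH
  set θ' : K.subgroupOf H → ℂ := fun y => θ ⟨(y : H), mem_subgroupOf.1 y.2⟩ with hθ'def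
  have hθ' : IsIrrCharacter (K.subgroupOf H) θ' :=
    isIrr_comp (Subgroup.subgroupOfEquivOfLe hle).toMonoidHom
      (Subgroup.subgroupOfEquivOfLe hle).surjective hθ
  have hcardK : Nat.card (K.subgroupOf H) = Nat.card K :=
    Nat.card_congr (Subgroup.subgroupOfEquivOfLe hle).toEquiv
  have hT : ∀ g : H, g ∈ stabH hK hH θ ↔ ∀ h : K.subgroupOf H,
      θ' ⟨g * h * g⁻¹, hnorm.conj_mem h h.2 g⟩ = θ' h := by
    intro g
    rw [mem_stabH]
    constructor
    · intro h1 y
      have h2 := congrFun h1 ⟨(y : H), mem_subgroupOf.1 y.2⟩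
      rw [tw_apply hK _ (hH.le g.2)] at h2
      exact h2
    · intro h1
      funext y
      rw [tw_apply hK _ (hH.le g.2)]
      exact h1 ⟨⟨y, hle y.2⟩, mem_subgroupOf.2 y.2⟩
  obtain ⟨e, C, he, hC1, hC2, hC3, hC4, -⟩ := InertiaAbelian.main (K.subgroupOf H)
    (stabH hK hH θ) θ' hθ' hT (fun x _ y _ => comm_mem_K hK hP hH x y)
  -- `θ` extends to its stabilizer
  have hcyc : IsCyclic (stabH hK hH θ ⧸ (K.subgroupOf H).subgroupOf (stabH hK hH θ)) := by
    let φ : stabH hK hH θ →* MulAut P := (actP hH).comp (stabH hK hH θ).subtype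
    have hcM : IsCyclic (MulAut P) := isCyclic_mulAut hP
    have hker : ∀ z, z ∈ (K.subgroupOf H).subgroupOf (stabH hK hH θ) ↔ φ z = 1 := by
      intro z
      rw [mem_subgroupOf, mem_subgroupOf]
      exact (actP_ker hK hP hH (z : H)).symm
    refine isCyclic_of_injective (QuotientGroup.lift _ φ fun z hz => (hker z).1 hz) ?_
    rw [injective_iff_map_eq_one]
    intro a
    obtain ⟨z, rfl⟩ := QuotientGroup.mk_surjective a
    intro hz
    rw [QuotientGroup.eq_one_iff, hker]
    exact hz
  set T := stabH hK hH θ with hTdef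
  have hKT : K.subgroupOf H ≤ T := K_le_stabH hK hP hH (isIrr_isClassFunction hθ)
  set θ'' : (K.subgroupOf H).subgroupOf T → ℂ := fun y => θ' ⟨(y : T), mem_subgroupOf.1 y.2⟩
    with hθ''def
  have hθ'' : IsIrrCharacter ((K.subgroupOf H).subgroupOf T) θ'' :=
    isIrr_comp (Subgroup.subgroupOfEquivOfLe hKT).toMonoidHom
      (Subgroup.subgroupOfEquivOfLe hKT).surjective hθ'
  obtain ⟨ψ, hψ, hψres⟩ := Cfsg.Agent.S0886.result ((K.subgroupOf H).subgroupOf T) hcyc θ'' hθ''
    (fun g n => (hT g).1 g.2 ⟨(n : T), mem_subgroupOf.1 n.2⟩)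
  -- the induced character of the extension
  have hΨ : IsCharacter H (indFun T ψ) := InertiaAbelian.indFun_isCharacter T ψ
    (isIrr_isCharacter hψ)
  have := Fintype.ofFinite (K.subgroupOf H)
  have := Fintype.ofFinite T
  have := Fintype.ofFinite ((K.subgroupOf H).subgroupOf T)
  have : Finite (IrrCharacter H) := finite_irr
  have := Fintype.ofFinite (IrrCharacter H)
  -- inner product of the two induced characters
  have hT0 : (Nat.card T : ℂ) ≠ 0 := by exact_mod_cast Nat.card_pos.ne'
  have hK0 : (Nat.card (K.subgroupOf H) : ℂ) ≠ 0 := by exact_mod_cast Nat.card_pos.ne'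
  have hres : ∀ k : K.subgroupOf H, indFun T ψ k =
      ((Nat.card T : ℂ)⁻¹ * Nat.card (K.subgroupOf H)) * indFun (K.subgroupOf H) θ' k := by
    intro k
    rw [InertiaAbelian.indFun_apply, InertiaAbelian.indFun_apply]
    have h1 : ∀ x : H, extendByZero T ψ (x⁻¹ * k * x) =
        extendByZero (K.subgroupOf H) θ' (x⁻¹ * k * x) := by
      intro x
      have h2 : x⁻¹ * (k : H) * x ∈ K.subgroupOf H := by
        have := hnorm.conj_mem (k : H) k.2 x⁻¹
        rwa [inv_inv] at this
      rw [InertiaAbelian.extendByZero_mem _ _ _ (hKT h2), InertiaAbelian.extendByZero_mem _ _ _ h2]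
      exact hψres ⟨⟨_, hKT h2⟩, mem_subgroupOf.2 h2⟩
    rw [Finset.sum_congr rfl fun x _ => h1 x]
    field_simp
  have hinner : classInner (indFun (K.subgroupOf H) θ') (indFun T ψ) = 1 := by
    have h1 := InertiaAbelian.norm_indFun (K.subgroupOf H) T θ' hθ' hT
    rw [InertiaAbelian.frobenius _ _ _ (InertiaAbelian.indFun_isClassFunction _ _)] at h1 ⊢
    have h2 : (fun k : K.subgroupOf H => indFun T ψ k) =
        ((Nat.card T : ℂ)⁻¹ * Nat.card (K.subgroupOf H)) •
          (fun k : K.subgroupOf H => indFun (K.subgroupOf H) θ' k) := by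
      funext k
      rw [hres k]
      rfl
    rw [h2, classInner_smul_right, map_mul, map_inv₀, Complex.conj_natCast, Complex.conj_natCast,
      mul_assoc, h1, inv_mul_cancel₀ hT0]
  have he1 : e = 1 := by
    obtain ⟨n, hn⟩ := exists_nat_comb hΨ
    rw [hC3, classInner_smul_left, classInner_sum_left] at hinner
    have h2 : ∀ χ ∈ C, ∃ m : ℕ, classInner χ (indFun T ψ) = m := fun χ hχ =>
      classInner_isNat (isIrr_isCharacter (hC1 χ hχ)) hΨ
    have h3 : ∃ m : ℕ, ∑ χ ∈ C, classInner χ (indFun T ψ) = m := by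
      choose! m hm using h2
      refine ⟨∑ χ ∈ C, m χ, ?_⟩
      push_cast
      exact Finset.sum_congr rfl hm
    obtain ⟨m, hm⟩ := h3
    rw [hm] at hinner
    have h4 : e * m = 1 := by exact_mod_cast hinner
    exact Nat.eq_one_of_mul_eq_one_right h4
  subst he1
  refine ⟨C, ?_, hC1, ?_⟩
  · rw [hcardK, card_stab_mul hK hP hH (isIrr_isClassFunction hθ)] at hC2
    have hKpos : 0 < Nat.card K := Nat.card_pos
    have h5 : C.card * Nat.card K = Nat.card (stabAct hK θ) * Nat.card K := by
      rw [← hC2]; ring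
    exact Nat.eq_of_mul_eq_mul_right hKpos h5
  · rw [hC3]
    simp

end Cfsg.Agent.SmallSimple.ThetaGroup
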