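import Cfsg.Agent.SmallSimple.ThetaSetup
import Cfsg.Agent.SmallSimple.SingularCount
import Cfsg.Agent.S0145

/-!
# Orthogonality of the multiplicities over the normal complement

`P` a Sylow `p`-subgroup of order `p`, `K` the `p`-regular part of `C(P)`.

* `tw θ n` : conjugate of `θ : K → ℂ` by `n ∈ N(P)`;
* `stabAct θ` : the automorphisms of `P` induced by the elements of `N(P)` fixing `θ`;
* `sum_part_mul_conj` : orthogonality over all the irreducible characters;
* `Over θ` : the irreducible characters with `part θ χ` not zero on `P#`; at most `e + t` of them.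
-/

set_option autoImplicit false
set_option linter.unusedSectionVars false
open Cfsg
open scoped ComplexConjugate

namespace Cfsg.Agent.SmallSimple.ThetaOrtho

open Subgroup
open Cfsg.Agent.Characters.Core Cfsg.Agent.Characters.Linear
open Cfsg.Agent.SmallSimple.PrimeDual Cfsg.Agent.SmallSimple.ThetaSetup
open Cfsg.Agent.Blocks.PPart

universe u

variable {G : Type u} [Group G]

theorem ext_mem (H : Subgroup G) (θ : H → ℂ) {x : G} (hx : x ∈ H) :
    extendByZero H θ x = θ ⟨x, hx⟩ :=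
  Function.Injective.extend_apply Subtype.val_injective _ _ (⟨x, hx⟩ : H)

/-- Column orthogonality counting conjugating elements. -/
theorem sum_irr_eq_card [Fintype G] [Fintype (IrrCharacter G)] (a b : G) :
    ∑ χ : IrrCharacter G, (χ : G → ℂ) a * conj ((χ : G → ℂ) b) =
      ∑ g : G, open scoped Classical in if g * a * g⁻¹ = b then (1 : ℂ) else 0 := by
  classical
  rw [Cfsg.Agent.S0145.sum_irr_mul_conj]
  by_cases h : IsConj a b
  · rw [if_pos h]
    obtain ⟨c, hc⟩ := isConj_iff.1 h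
    have key1 : ∀ z : G, z ∈ centralizer ({b} : Set G) → z * c * a * (z * c)⁻¹ = b := by
      intro z hz
      rw [mem_centralizer_singleton_iff] at hz
      have h2 : z * c * a * (z * c)⁻¹ = z * (c * a * c⁻¹) * z⁻¹ := by group
      rw [h2, hc, hz]
      group
    have key2 : ∀ z : G, z * a * z⁻¹ = b → z * c⁻¹ ∈ centralizer ({b} : Set G) := by
      intro z hz
      rw [mem_centralizer_singleton_iff]
      have h2 : z * c⁻¹ * b = (z * a * z⁻¹) * (z * c⁻¹) := by
        rw [← hc]; group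
      rw [h2, hz]
    rw [Finset.sum_boole]
    congr 1
    rw [Nat.card_eq_fintype_card, ← Fintype.card_subtype]
    exact Fintype.card_congr ⟨fun z => ⟨z.1 * c, key1 z.1 z.2⟩, fun z => ⟨z.1 * c⁻¹, key2 z.1 z.2⟩,
      fun z => Subtype.ext (by simp), fun z => Subtype.ext (by simp)⟩
  · rw [if_neg h, Finset.sum_eq_zero]
    intro g _
    rw [if_neg]
    intro h1
    exact h (isConj_iff.2 ⟨g, h1⟩)

variable [Finite G] {p : ℕ} [Fact p.Prime] {P : Sylow p G} {K : Subgroup G}

/-- The normalizer of `P` normalizes `K`. -/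
theorem conj_mem (hK : IsComp p (P : Subgroup G) K) {n y : G}
    (hn : n ∈ normalizer ((P : Subgroup G) : Set G)) (hy : y ∈ K) : n * y * n⁻¹ ∈ K := by
  rw [hK] at hy ⊢
  refine ⟨?_, ?_⟩
  · rw [mem_centralizer_iff]
    intro z hz
    have hz' : n⁻¹ * z * n ∈ (P : Subgroup G) := by
      have := (mem_normalizer_iff.1 (inv_mem hn) z).1 hz
      rwa [inv_inv] at this
    have h1 := mem_centralizer_iff.1 hy.1 _ hz'
    calc z * (n * y * n⁻¹) = n * ((n⁻¹ * z * n) * y) * n⁻¹ := by group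
      _ = n * (y * (n⁻¹ * z * n)) * n⁻¹ := by rw [h1]
      _ = n * y * n⁻¹ * z := by group
  · have h2 : orderOf (n * y * n⁻¹) = orderOf y := by
      have := orderOf_injective (MulAut.conj n).toMonoidHom (MulAut.conj n).injective y
      simpa using this
    rw [h2]
    exact hy.2

/-- Conjugate of a function on `K`. -/
noncomputable def tw (θ : K → ℂ) (n : G) : K → ℂ := fun y => extendByZero K θ (n * y * n⁻¹)

theorem tw_apply (hK : IsComp p (P : Subgroup G) K) (θ : K → ℂ) {n : G}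
    (hn : n ∈ normalizer ((P : Subgroup G) : Set G)) (y : K) :
    tw θ n y = θ ⟨n * y * n⁻¹, conj_mem hK hn y.2⟩ := ext_mem _ _ _

theorem tw_mul (hK : IsComp p (P : Subgroup G) K) (θ : K → ℂ) {n m : G}
    (hn : n ∈ normalizer ((P : Subgroup G) : Set G)) (hm : m ∈ normalizer ((P : Subgroup G) : Set G)) :
    tw θ (n * m) = tw (tw θ n) m := by
  funext y
  rw [tw_apply hK _ (mul_mem hn hm), tw_apply hK _ hm, tw_apply hK _ hn]
  congr 1
  apply Subtype.ext
  simp only [mul_inv_rev]
  group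

theorem tw_one (θ : K → ℂ) : tw θ 1 = θ := by
  funext y
  unfold tw
  have h : (1 : G) * y * 1⁻¹ = y := by group
  rw [h, ext_mem _ _ y.2]

/-- Conjugation by an element of the normalizer on `K`. -/
noncomputable def cK (hK : IsComp p (P : Subgroup G) K) {n : G}
    (hn : n ∈ normalizer ((P : Subgroup G) : Set G)) : K ≃* K where
  toFun y := ⟨n * y * n⁻¹, conj_mem hK hn y.2⟩
  invFun y := ⟨n⁻¹ * y * n, by
    have := conj_mem hK (inv_mem hn) y.2
    rwa [inv_inv] at this⟩
  left_inv y := by ext; simp only; group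
  right_inv y := by ext; simp only; group
  map_mul' y z := by ext; simp only [coe_mul]; group

theorem isIrr_tw (hK : IsComp p (P : Subgroup G) K) {θ : K → ℂ} (hθ : IsIrrCharacter K θ) {n : G}
    (hn : n ∈ normalizer ((P : Subgroup G) : Set G)) : IsIrrCharacter K (tw θ n) := by
  have h1 := isIrr_comp (cK hK hn).toMonoidHom (cK hK hn).surjective hθ
  have h2 : θ ∘ (cK hK hn).toMonoidHom = tw θ n := by
    funext y
    rw [tw_apply hK _ hn]
    rfl
  rwa [h2] at h1

/-- The centralizer of `P` fixes every class function on `K`. -/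
theorem tw_centralizer (hK : IsComp p (P : Subgroup G) K) (hP : Nat.card P = p) {θ : K → ℂ}
    (hθ : IsClassFunction K θ) {c : G} (hc : c ∈ centralizer ((P : Subgroup G) : Set G)) :
    tw θ c = θ := by
  obtain ⟨x, hx, k, hk, rfl⟩ := hK.exists_mul hP hc
  have hn := centralizer_le_normalizer _ hc
  funext y
  rw [tw_apply hK _ hn, ← hθ y ⟨k, hk⟩]
  congr 1
  apply Subtype.ext
  simp only [coe_mul, coe_inv]
  have h1 := hK.comm hx (mul_mem (mul_mem hk y.2) (inv_mem hk))
  calc x * k * (y : G) * (x * k)⁻¹ = (x * (k * y * k⁻¹)) * x⁻¹ := by group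
    _ = _ := by rw [h1]; group

/-- Conjugating the argument. -/
theorem part_conj (hK : IsComp p (P : Subgroup G) K) (θ : K → ℂ) {χ : G → ℂ}
    (hχ : IsClassFunction G χ) {n : G} (hn : n ∈ normalizer ((P : Subgroup G) : Set G)) (x : G) :
    part θ χ (n * x * n⁻¹) = part (tw θ n) χ x := by
  have := Fintype.ofFinite K
  rw [part_eq, part_eq, ← Equiv.sum_comp (cK hK hn).toEquiv]
  congr 1
  refine Finset.sum_congr rfl fun y _ => ?_
  rw [tw_apply hK _ hn]
  have h1 : n * x * n⁻¹ * ((cK hK hn).toEquiv y : K) = n * (x * y) * n⁻¹ := by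
    show n * x * n⁻¹ * (n * y * n⁻¹) = _
    group
  rw [h1, hχ]
  rfl

/-- Conjugation by an element moving a nontrivial element of `P` into `P`. -/
theorem mem_normalizer_of_conj (hP : Nat.card P = p) {u v g : G} (hu : u ∈ P)
    (hv : v ∈ P) (hv1 : v ≠ 1) (h : g * u * g⁻¹ = v) :
    g ∈ normalizer ((P : Subgroup G) : Set G) := by
  apply Cfsg.Agent.Blocks.CyclicLower2.mem_normalizer_of_conj_mem (Fact.out : p.Prime) hP hv hv1
  have : g⁻¹ * v * g = u := by rw [← h]; group
  rw [this]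
  exact hu

theorem conj_mul_eq_iff (hK : IsComp p (P : Subgroup G) K) (hP : Nat.card P = p) {u v : G}
    (hu : u ∈ P) (hu1 : u ≠ 1) (hv : v ∈ P) (hv1 : v ≠ 1) (y y' : K) (g : G) :
    g * (u * y) * g⁻¹ = v * y' ↔ g * u * g⁻¹ = v ∧ g * y * g⁻¹ = y' := by
  constructor
  · intro h
    have ho : ∀ z : G, orderOf (g * z * g⁻¹) = orderOf z := by
      intro z
      have := orderOf_injective (MulAut.conj g).toMonoidHom (MulAut.conj g).injective z
      simpa using this
    have h1 : IsPPart p (g * (u * y) * g⁻¹) (g * u * g⁻¹) := by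
      refine ⟨g * y * g⁻¹, by group, ?_, ⟨1, ?_⟩, ?_⟩
      · have := hK.comm hu y.2
        show g * u * g⁻¹ * (g * y * g⁻¹) = g * y * g⁻¹ * (g * u * g⁻¹)
        calc g * u * g⁻¹ * (g * y * g⁻¹) = g * (u * y) * g⁻¹ := by group
          _ = g * (y * u) * g⁻¹ := by rw [this]
          _ = _ := by group
      · rw [ho, Blocks.CyclicOrtho.orderOf_eq P hP hu hu1, pow_one]
      · rw [ho]; exact ((hK y).1 y.2).2
    have h2 : IsPPart p (v * y') v := by
      refine ⟨y', rfl, hK.comm hv y'.2, ⟨1, ?_⟩, ((hK y').1 y'.2).2⟩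
      rw [Blocks.CyclicOrtho.orderOf_eq P hP hv hv1, pow_one]
    rw [h] at h1
    have h3 := isPPart_unique h1 h2
    refine ⟨h3, ?_⟩
    have h4 : g * (u * y) * g⁻¹ = (g * u * g⁻¹) * (g * y * g⁻¹) := by group
    rw [h4, h3] at h
    exact mul_left_cancel h
  · rintro ⟨h1, h2⟩
    rw [← h1, ← h2]
    group

/-- **Orthogonality** over all the irreducible characters. -/
theorem sum_part_mul_conj [Fintype G] [Fintype (IrrCharacter G)]
    (hK : IsComp p (P : Subgroup G) K) (hP : Nat.card P = p)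
    {θ θ' : K → ℂ} (hθ : IsIrrCharacter K θ) (hθ' : IsIrrCharacter K θ') {u v : G}
    (hu : u ∈ P) (hu1 : u ≠ 1) (hv : v ∈ P) (hv1 : v ≠ 1) :
    ∑ χ : IrrCharacter G, part θ (χ : G → ℂ) u * conj (part θ' (χ : G → ℂ) v) =
      (Nat.card K : ℂ)⁻¹ * ∑ g : G, open scoped Classical in
        if g * u * g⁻¹ = v ∧ tw θ' g = θ then (1 : ℂ) else 0 := by
  classical
  have := Fintype.ofFinite K
  have hK0 : (Nat.card K : ℂ) ≠ 0 := by exact_mod_cast Nat.card_pos.ne'
  have h1 : ∀ χ : IrrCharacter G, part θ (χ : G → ℂ) u * conj (part θ' (χ : G → ℂ) v) =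
      (Nat.card K : ℂ)⁻¹ * ((Nat.card K : ℂ)⁻¹ * ∑ y : K, ∑ y' : K, (conj (θ y) * θ' y') *
        ((χ : G → ℂ) (u * y) * conj ((χ : G → ℂ) (v * y')))) := by
    intro χ
    rw [part_eq, part_eq, map_mul, map_inv₀, Complex.conj_natCast, map_sum]
    have h2 : (∑ y : K, (χ : G → ℂ) (u * y) * conj (θ y)) *
        (∑ y' : K, conj ((χ : G → ℂ) (v * y') * conj (θ' y'))) =
        ∑ y : K, ∑ y' : K, (conj (θ y) * θ' y') *
        ((χ : G → ℂ) (u * y) * conj ((χ : G → ℂ) (v * y'))) := by
      rw [Finset.sum_mul_sum]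
      refine Finset.sum_congr rfl fun y _ => Finset.sum_congr rfl fun y' _ => ?_
      rw [map_mul, Complex.conj_conj]
      ring
    rw [← h2]
    ring
  rw [Finset.sum_congr rfl fun χ _ => h1 χ, ← Finset.mul_sum, ← Finset.mul_sum]
  congr 1
  have h3 : ∑ χ : IrrCharacter G, ∑ y : K, ∑ y' : K, (conj (θ y) * θ' y') *
      ((χ : G → ℂ) (u * y) * conj ((χ : G → ℂ) (v * y'))) =
      ∑ g : G, if g * u * g⁻¹ = v then ∑ y : K, conj (θ y) * tw θ' g y else 0 := by
    rw [Finset.sum_comm]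
    have h4 : ∀ y : K, ∑ χ : IrrCharacter G, ∑ y' : K, (conj (θ y) * θ' y') *
        ((χ : G → ℂ) (u * y) * conj ((χ : G → ℂ) (v * y'))) =
        ∑ g : G, if g * u * g⁻¹ = v then conj (θ y) * tw θ' g y else 0 := by
      intro y
      rw [Finset.sum_comm]
      have h5 : ∀ y' : K, ∑ χ : IrrCharacter G, (conj (θ y) * θ' y') *
          ((χ : G → ℂ) (u * y) * conj ((χ : G → ℂ) (v * y'))) =
          ∑ g : G, if g * u * g⁻¹ = v ∧ g * y * g⁻¹ = y' then conj (θ y) * θ' y' else 0 := by
        intro y'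
        rw [← Finset.mul_sum, sum_irr_eq_card, Finset.mul_sum]
        refine Finset.sum_congr rfl fun g _ => ?_
        simp only [conj_mul_eq_iff hK hP hu hu1 hv hv1 y y' g]
        split_ifs <;> simp
      rw [Finset.sum_congr rfl fun y' _ => h5 y', Finset.sum_comm]
      refine Finset.sum_congr rfl fun g _ => ?_
      by_cases hg : g * u * g⁻¹ = v
      · have hgN := mem_normalizer_of_conj hP hu hv hv1 hg
        rw [if_pos hg, Finset.sum_eq_single (⟨g * y * g⁻¹, conj_mem hK hgN y.2⟩ : K)]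
        · rw [if_pos ⟨hg, rfl⟩, tw_apply hK _ hgN]
        · intro y' _ hy'
          rw [if_neg]
          rintro ⟨-, h6⟩
          exact hy' (Subtype.ext h6.symm)
        · intro h; exact absurd (Finset.mem_univ _) h
      · rw [if_neg hg, Finset.sum_eq_zero]
        intro y' _
        rw [if_neg (fun h => hg h.1)]
    rw [Finset.sum_congr rfl fun y _ => h4 y, Finset.sum_comm]
    refine Finset.sum_congr rfl fun g _ => ?_
    split_ifs
    · rfl
    · simp
  rw [h3, Finset.mul_sum]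
  refine Finset.sum_congr rfl fun g _ => ?_
  by_cases hg : g * u * g⁻¹ = v
  · have hgN := mem_normalizer_of_conj hP hu hv hv1 hg
    rw [if_pos hg]
    have h6 := classInner_irr (isIrr_tw hK hθ' hgN) hθ
    rw [classInner_def] at h6
    have h7 : (Nat.card K : ℂ)⁻¹ * ∑ y : K, conj (θ y) * tw θ' g y =
        (Nat.card K : ℂ)⁻¹ * ∑ y : K, tw θ' g y * conj (θ y) := by
      congr 1
      exact Finset.sum_congr rfl fun y _ => mul_comm _ _
    rw [h7, h6]
    simp [hg]
  · rw [if_neg hg, if_neg (fun h => hg h.1), mul_zero]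

/-- The automorphisms of `P` induced by the elements of `N(P)` fixing `θ`. -/
def stabAct (hK : IsComp p (P : Subgroup G) K) (θ : K → ℂ) : Subgroup (MulAut P) where
  carrier := {r | ∃ n ∈ normalizer ((P : Subgroup G) : Set G),
    (∀ x : P, ((r x : P) : G) = n * x * n⁻¹) ∧ tw θ n = θ}
  mul_mem' := by
    rintro r s ⟨n, hn, hr, hrt⟩ ⟨m, hm, hs, hst⟩
    refine ⟨n * m, mul_mem hn hm, fun x => ?_, ?_⟩
    · rw [MulAut.mul_apply, hr, hs]
      group
    · rw [tw_mul hK θ hn hm, hrt, hst]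
  one_mem' := ⟨1, one_mem _, fun x => by simp, tw_one θ⟩
  inv_mem' := by
    rintro r ⟨n, hn, hr, hrt⟩
    refine ⟨n⁻¹, inv_mem hn, fun x => ?_, ?_⟩
    · have h1 := hr (r⁻¹ x)
      rw [MulAut.apply_inv_self] at h1
      rw [h1]
      group
    · conv_lhs => rw [← hrt]
      rw [← tw_mul hK θ hn (inv_mem hn), mul_inv_cancel, tw_one]

theorem mem_stabAct (hK : IsComp p (P : Subgroup G) K) (θ : K → ℂ) {r : MulAut P} :
    r ∈ stabAct hK θ ↔ ∃ n ∈ normalizer ((P : Subgroup G) : Set G),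
      (∀ x : P, ((r x : P) : G) = n * x * n⁻¹) ∧ tw θ n = θ := Iff.rfl

/-- The automorphism of `P` induced by an element of the normalizer. -/
noncomputable def cP {n : G} (hn : n ∈ normalizer ((P : Subgroup G) : Set G)) : MulAut P where
  toFun x := ⟨n * x * n⁻¹, (mem_normalizer_iff.1 hn x).1 x.2⟩
  invFun x := ⟨n⁻¹ * x * n, by
    have := (mem_normalizer_iff.1 (inv_mem hn) (x : G)).1 x.2
    rwa [inv_inv] at this⟩
  left_inv y := by ext; simp only; group
  right_inv y := by ext; simp only; group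
  map_mul' y z := by ext; simp only [coe_mul]; group

theorem coe_cP {n : G} (hn : n ∈ normalizer ((P : Subgroup G) : Set G)) (x : P) :
    ((cP hn x : P) : G) = n * x * n⁻¹ := rfl

theorem card_centralizer (hK : IsComp p (P : Subgroup G) K) (hP : Nat.card P = p) :
    Nat.card (centralizer ((P : Subgroup G) : Set G)) = p * Nat.card K := by
  have h1 := Nat.card_congr (prodEquiv hK hP).toEquiv
  rw [Nat.card_prod, hP] at h1
  exact h1.symm

open scoped Classical in
/-- The number of elements moving `u` to `v` and fixing `θ`. -/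
theorem sum_fix [Fintype G] (hK : IsComp p (P : Subgroup G) K) (hP : Nat.card P = p)
    {θ : K → ℂ} (hθ : IsIrrCharacter K θ) {u v : P} (hu1 : u ≠ 1) (hv1 : v ≠ 1) :
    ∑ g : G, (if g * u * g⁻¹ = v ∧ tw θ g = θ then (1 : ℂ) else 0) =
      if ∃ r ∈ stabAct hK θ, r u = v then (p : ℂ) * Nat.card K else 0 := by
  have hu1' : (u : G) ≠ 1 := fun h => hu1 (Subtype.ext h)
  have hv1' : (v : G) ≠ 1 := fun h => hv1 (Subtype.ext h)
  split_ifs with h
  · obtain ⟨r, ⟨n, hn, hr, hrt⟩, hruv⟩ := h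
    have h3 : n * (u : G) * n⁻¹ = v := by rw [← hr, hruv]
    have key1 : ∀ z : G, z * u * z⁻¹ = v → tw θ z = θ →
        n⁻¹ * z ∈ centralizer ((P : Subgroup G) : Set G) := by
      intro z hz _
      have h5 : n⁻¹ * z ∈ centralizer ({(u : G)} : Set G) := by
        rw [mem_centralizer_singleton_iff]
        have h4 : n⁻¹ * z * (u : G) = n⁻¹ * (z * u * z⁻¹) * z := by group
        rw [h4, hz, ← h3]
        group
      rwa [Blocks.CyclicOrtho.centralizer_eq P hP u.2 hu1'] at h5
    have key2 : ∀ z : G, z ∈ centralizer ((P : Subgroup G) : Set G) →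
        (n * z) * u * (n * z)⁻¹ = v ∧ tw θ (n * z) = θ := by
      intro z hz
      have h5 : z * u = u * z := (mem_centralizer_iff.1 hz _ u.2).symm
      refine ⟨?_, ?_⟩
      · have h4 : n * z * (u : G) * (n * z)⁻¹ = n * (z * u) * z⁻¹ * n⁻¹ := by group
        rw [h4, h5, ← h3]
        group
      · rw [tw_mul hK θ hn (centralizer_le_normalizer _ hz), hrt,
          tw_centralizer hK hP (isIrr_isClassFunction hθ) hz]
    rw [Finset.sum_boole]
    have h1 : (Finset.univ.filter fun g : G => g * u * g⁻¹ = v ∧ tw θ g = θ).card =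
        Nat.card (centralizer ((P : Subgroup G) : Set G)) := by
      rw [Nat.card_eq_fintype_card, ← Fintype.card_subtype]
      exact Fintype.card_congr ⟨fun z => ⟨n⁻¹ * z.1, key1 z.1 z.2.1 z.2.2⟩,
        fun z => ⟨n * z.1, key2 z.1 z.2⟩, fun z => Subtype.ext (by simp),
        fun z => Subtype.ext (by simp)⟩
    rw [h1, card_centralizer hK hP]
    push_cast
    ring
  · refine Finset.sum_eq_zero fun g _ => ?_
    rw [if_neg]
    rintro ⟨h1, h2⟩
    have hg := mem_normalizer_of_conj hP u.2 v.2 hv1' h1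
    exact h ⟨cP hg, ⟨g, hg, fun x => coe_cP hg x, h2⟩, Subtype.ext h1⟩

open scoped Classical in
/-- Orthogonality for one `θ`. -/
theorem sum_part_self [Fintype (IrrCharacter G)]
    (hK : IsComp p (P : Subgroup G) K) (hP : Nat.card P = p)
    {θ : K → ℂ} (hθ : IsIrrCharacter K θ) {u v : P} (hu1 : u ≠ 1) (hv1 : v ≠ 1) :
    ∑ χ : IrrCharacter G, part θ (χ : G → ℂ) u * conj (part θ (χ : G → ℂ) v) =
      if ∃ r ∈ stabAct hK θ, r u = v then (p : ℂ) else 0 := by
  have := Fintype.ofFinite G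
  have hK0 : (Nat.card K : ℂ) ≠ 0 := by exact_mod_cast Nat.card_pos.ne'
  rw [sum_part_mul_conj hK hP hθ hθ u.2 (fun h => hu1 (Subtype.ext h)) v.2
    (fun h => hv1 (Subtype.ext h)), sum_fix hK hP hθ hu1 hv1]
  split_ifs
  · field_simp
  · rw [mul_zero]

/-- Orthogonality for characters which are not conjugate. -/
theorem sum_part_of_not_conj [Fintype (IrrCharacter G)]
    (hK : IsComp p (P : Subgroup G) K) (hP : Nat.card P = p)
    {θ θ' : K → ℂ} (hθ : IsIrrCharacter K θ) (hθ' : IsIrrCharacter K θ')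
    (hne : ∀ n ∈ normalizer ((P : Subgroup G) : Set G), tw θ' n ≠ θ) {u v : P}
    (hu1 : u ≠ 1) (hv1 : v ≠ 1) :
    ∑ χ : IrrCharacter G, part θ (χ : G → ℂ) u * conj (part θ' (χ : G → ℂ) v) = 0 := by
  classical
  have := Fintype.ofFinite G
  rw [sum_part_mul_conj hK hP hθ hθ' u.2 (fun h => hu1 (Subtype.ext h)) v.2
    (fun h => hv1 (Subtype.ext h)), Finset.sum_eq_zero, mul_zero]
  intro g _
  rw [if_neg]
  rintro ⟨h1, h2⟩
  exact hne g (mem_normalizer_of_conj hP u.2 v.2 (fun h => hv1 (Subtype.ext h)) h1) h2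

/-- The irreducible characters over `θ`. -/
def Over (P : Sylow p G) (θ : K → ℂ) : Set (IrrCharacter G) :=
  {χ | ∃ x : P, x ≠ 1 ∧ part θ (χ : G → ℂ) x ≠ 0}

theorem mem_Over {θ : K → ℂ} {χ : IrrCharacter G} :
    χ ∈ Over P θ ↔ ∃ x : P, x ≠ 1 ∧ part θ (χ : G → ℂ) x ≠ 0 := Iff.rfl

theorem part_eq_zero {θ : K → ℂ} {χ : IrrCharacter G} (h : χ ∉ Over P θ) {x : P} (hx : x ≠ 1) :
    part θ (χ : G → ℂ) x = 0 := by
  by_contra h1
  exact h ⟨x, hx, h1⟩

theorem Over_tw_le (hK : IsComp p (P : Subgroup G) K) {θ : K → ℂ} {n : G}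
    (hn : n ∈ normalizer ((P : Subgroup G) : Set G)) : Over P (tw θ n) ⊆ Over P θ := by
  rintro χ ⟨x, hx, h⟩
  refine ⟨cP hn x, fun h1 => hx ?_, ?_⟩
  · exact (MulEquiv.map_eq_one_iff (cP hn)).1 h1
  · rw [coe_cP, part_conj hK θ (isIrr_isClassFunction χ.2) hn]
    exact h

theorem Over_tw (hK : IsComp p (P : Subgroup G) K) {θ : K → ℂ} {n : G}
    (hn : n ∈ normalizer ((P : Subgroup G) : Set G)) : Over P (tw θ n) = Over P θ := by
  apply Set.Subset.antisymm (Over_tw_le hK hn)
  have h1 := Over_tw_le hK (θ := tw θ n) (inv_mem hn)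
  rwa [← tw_mul hK θ hn (inv_mem hn), mul_inv_cancel, tw_one] at h1

theorem part_stabAct (hK : IsComp p (P : Subgroup G) K) {θ : K → ℂ} {χ : G → ℂ}
    (hχ : IsClassFunction G χ) {r : MulAut P} (hr : r ∈ stabAct hK θ) (x : P) :
    part θ χ (r x : P) = part θ χ x := by
  obtain ⟨n, hn, hr, hrt⟩ := hr
  rw [hr, part_conj hK θ hχ hn, hrt]

/-- Upper bound for the number of irreducible characters over `θ`. -/
theorem card_Over_le (hK : IsComp p (P : Subgroup G) K) (hP : Nat.card P = p)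
    {θ : K → ℂ} (hθ : IsIrrCharacter K θ) {e t : ℕ} (he : Nat.card (stabAct hK θ) = e)
    (het : e * t = p - 1) : Nat.card (Over P θ) ≤ e + t := by
  classical
  have : Finite (IrrCharacter G) := finite_irr
  have := Fintype.ofFinite (IrrCharacter G)
  have := Fintype.ofFinite (Over P θ)
  rw [Nat.card_eq_fintype_card]
  refine PrimeAct.card_le (Fact.out : p.Prime) hP (stabAct hK θ) he het
    (fun (χ : Over P θ) (x : P) => part θ ((χ : IrrCharacter G) : G → ℂ) x)
    (fun χ => isCharacter_part hK (isIrr_isCharacter χ.1.2) hθ)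
    (fun χ r hr x => part_stabAct hK (isIrr_isClassFunction χ.1.2) hr x) ?_ (fun χ => χ.2)
  intro u v hu hv
  rw [← sum_part_self hK hP hθ hu hv]
  have h1 := Finset.sum_set_coe (Over P θ)
    (f := fun χ : IrrCharacter G => part θ (χ : G → ℂ) u * conj (part θ (χ : G → ℂ) v))
  have h2 : ∑ χ : IrrCharacter G, part θ (χ : G → ℂ) u * conj (part θ (χ : G → ℂ) v) =
      ∑ χ ∈ (Over P θ).toFinset,
        part θ (χ : G → ℂ) u * conj (part θ (χ : G → ℂ) v) := by
    symm
    refine Finset.sum_subset (Finset.subset_univ _) fun χ _ hχ => ?_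
    rw [part_eq_zero (by simpa using hχ) hu, zero_mul]
  rw [h2, ← h1]

end Cfsg.Agent.SmallSimple.ThetaOrtho
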