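import Cfsg.Agent.SmallSimple.PrimeAct
import Cfsg.Agent.Blocks.CyclicOrtho
import Cfsg.Agent.S0188

/-!
# The centralizer of a Sylow subgroup of prime order

`P` a Sylow `p`-subgroup of order `p`, `C(P) = P × K`.

* `IsComp P K` : `K` is the set of `p`-regular elements of `C(P)`.
* `prodEquiv` : `P × K ≃* C(P)`.
* `part θ χ x` : the multiplicity space character of `θ` in `χ(x ·)`.
-/

set_option autoImplicit false
set_option linter.unusedSectionVars false
open Cfsg
open scoped ComplexConjugate

namespace Cfsg.Agent.SmallSimple.ThetaSetup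

open Subgroup
open Cfsg.Agent.Characters.Core Cfsg.Agent.Characters.Linear
open Cfsg.Agent.SmallSimple.PrimeDual

universe u

variable {G : Type u} [Group G]

/-- `K` is the set of `p`-regular elements of the centralizer of `P`. -/
def IsComp (p : ℕ) (P K : Subgroup G) : Prop :=
  ∀ y, y ∈ K ↔ y ∈ centralizer (P : Set G) ∧ ¬ p ∣ orderOf y

variable [Finite G] {p : ℕ} [Fact p.Prime]

theorem exists_ne_one {P : Subgroup G} (hP : Nat.card P = p) : ∃ x ∈ P, x ≠ 1 := by
  have : Nontrivial P := by
    rw [← Finite.one_lt_card_iff_nontrivial, hP]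
    exact (Fact.out : p.Prime).one_lt
  obtain ⟨x, hx⟩ := exists_ne (1 : P)
  exact ⟨x, x.2, fun h => hx (Subtype.ext h)⟩

theorem exists_isComp (P : Sylow p G) (hP : Nat.card P = p) :
    ∃ K : Subgroup G, IsComp p (P : Subgroup G) K := by
  obtain ⟨x, hx, hx1⟩ := exists_ne_one (P := (P : Subgroup G)) hP
  obtain ⟨K, -, -, -, hK⟩ := Blocks.CyclicOrtho.exists_complement P hP hx hx1
  refine ⟨K.map (centralizer ({x} : Set G)).subtype, fun y => ?_⟩
  rw [← Blocks.CyclicOrtho.centralizer_eq P hP hx hx1]
  constructor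
  · rintro ⟨k, hk, rfl⟩
    refine ⟨k.2, ?_⟩
    have := (hK k).1 hk
    rwa [← Subgroup.orderOf_coe] at this
  · rintro ⟨hy, hyp⟩
    refine ⟨⟨y, hy⟩, (hK _).2 ?_, rfl⟩
    rwa [← Subgroup.orderOf_coe]

section

variable {P : Sylow p G} {K : Subgroup G}

theorem le_centralizer (hP : Nat.card P = p) : (P : Subgroup G) ≤ centralizer (P : Set G) := by
  have : IsCyclic (P : Subgroup G) := isCyclic_of_prime_card hP
  have : IsMulCommutative (P : Subgroup G) := inferInstance
  exact Subgroup.le_centralizer (P : Subgroup G)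

theorem IsComp.le (hK : IsComp p (P : Subgroup G) K) : K ≤ centralizer (P : Set G) :=
  fun y hy => ((hK y).1 hy).1

theorem IsComp.comm (hK : IsComp p (P : Subgroup G) K) {x y : G} (hx : x ∈ P) (hy : y ∈ K) :
    x * y = y * x := mem_centralizer_iff.1 (hK.le hy) x hx

theorem IsComp.not_dvd_card (hK : IsComp p (P : Subgroup G) K) : ¬ p ∣ Nat.card K := by
  intro h
  obtain ⟨y, hy⟩ := exists_prime_orderOf_dvd_card' p h
  apply ((hK y).1 y.2).2
  rw [Subgroup.orderOf_coe, hy]

theorem IsComp.disjoint (hK : IsComp p (P : Subgroup G) K) (hP : Nat.card P = p) {x : G}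
    (hx : x ∈ P) (hx' : x ∈ K) : x = 1 := by
  by_contra h
  apply ((hK x).1 hx').2
  rw [Blocks.CyclicOrtho.orderOf_eq P hP hx h]

/-- Every element of the centralizer is a product. -/
theorem IsComp.exists_mul (hK : IsComp p (P : Subgroup G) K) (hP : Nat.card P = p) {h : G}
    (hh : h ∈ centralizer (P : Set G)) : ∃ x ∈ P, ∃ y ∈ K, x * y = h := by
  obtain ⟨z, hz⟩ := Blocks.Orthogonality.exists_isPPart (Fact.out : p.Prime) h
  obtain ⟨y, hy1, hy2, ⟨k, hy3⟩, hy4⟩ := hz
  -- z and y are powers of h
  have hzC : z ∈ centralizer (P : Set G) ∧ y ∈ centralizer (P : Set G) := by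
    have hcop : (orderOf z).Coprime (orderOf y) := by
      rw [hy3]
      exact Nat.Coprime.pow_left _ (((Fact.out : p.Prime).coprime_iff_not_dvd).2 hy4)
    have hzm : z ∈ zpowers h := by
      obtain ⟨m, hm1, hm2⟩ := Nat.chineseRemainder hcop 1 0
      have : h ^ m = z := by
        rw [← hy1, hy2.mul_pow]
        have e1 : z ^ m = z := by
          have := (pow_eq_pow_iff_modEq (x := z)).2 hm1
          rwa [pow_one] at this
        have e2 : y ^ m = 1 := by
          have := (pow_eq_pow_iff_modEq (x := y)).2 hm2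
          rwa [pow_zero] at this
        rw [e1, e2, mul_one]
      rw [← this]
      exact pow_mem (mem_zpowers h) m
    have h1 : zpowers h ≤ centralizer (P : Set G) := by rw [zpowers_le]; exact hh
    refine ⟨h1 hzm, ?_⟩
    have : y = z⁻¹ * h := by rw [← hy1]; group
    rw [this]
    exact mul_mem (inv_mem (h1 hzm)) hh
  have hzP : z ∈ (P : Subgroup G) := by
    have h1 : IsPGroup p (zpowers z) := by
      apply IsPGroup.of_card (n := k)
      rw [Nat.card_zpowers, hy3]
    have h2 : IsPGroup p ((P : Subgroup G) ⊔ zpowers z : Subgroup G) := by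
      have hcen : zpowers z ≤ normalizer ((P : Subgroup G) : Set G) := by
        rw [zpowers_le]
        exact centralizer_le_normalizer _ hzC.1
      exact IsPGroup.to_sup_of_normal_left' P.isPGroup' h1 hcen
    have h3 := P.is_maximal' h2 le_sup_left
    exact h3.le (le_sup_right (a := (P : Subgroup G)) (mem_zpowers z))
  exact ⟨z, hzP, y, (hK y).2 ⟨hzC.2, hy4⟩, hy1⟩

/-- The homomorphism `P × K → G`. -/
noncomputable def prodHom (hK : IsComp p (P : Subgroup G) K) : P × K →* G where
  toFun z := (z.1 : G) * z.2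
  map_one' := by simp
  map_mul' a b := by
    have h1 := hK.comm (x := (b.1 : G)) (y := (a.2 : G)) b.1.2 a.2.2
    simp only [Prod.fst_mul, Prod.snd_mul, Subgroup.coe_mul]
    calc (a.1 : G) * b.1 * (a.2 * b.2) = (a.1 : G) * ((b.1 : G) * a.2) * b.2 := by group
      _ = _ := by rw [h1]; group

theorem prodHom_apply (hK : IsComp p (P : Subgroup G) K) (z : P × K) :
    prodHom hK z = (z.1 : G) * z.2 := rfl

/-- `P × K ≃* C(P)`. -/
noncomputable def prodEquiv (hK : IsComp p (P : Subgroup G) K) (hP : Nat.card P = p) :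
    P × K ≃* centralizer (P : Set G) :=
  MulEquiv.ofBijective ((prodHom hK).codRestrict (centralizer (P : Set G)) fun z =>
      mul_mem (le_centralizer hP z.1.2) (hK.le z.2.2)) (by
    constructor
    · rw [injective_iff_map_eq_one]
      rintro ⟨x, y⟩ h
      have h1 : (x : G) * y = 1 := congrArg Subtype.val h
      have h2 : (x : G) ∈ K := by
        rw [mul_eq_one_iff_eq_inv.1 h1]
        exact inv_mem y.2
      have h3 := hK.disjoint hP x.2 h2
      have h4 : (y : G) = 1 := by rw [h3, one_mul] at h1; exact h1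
      exact Prod.ext (Subtype.ext h3) (Subtype.ext h4)
    · rintro ⟨h, hh⟩
      obtain ⟨x, hx, y, hy, hxy⟩ := hK.exists_mul hP hh
      exact ⟨(⟨x, hx⟩, ⟨y, hy⟩), Subtype.ext hxy⟩)

theorem coe_prodEquiv (hK : IsComp p (P : Subgroup G) K) (hP : Nat.card P = p) (z : P × K) :
    (prodEquiv hK hP z : G) = (z.1 : G) * z.2 := rfl

end

/-! ### The multiplicity of `θ` -/

/-- The multiplicity of `θ` in `y ↦ χ (x y)`. -/
noncomputable def part {K : Subgroup G} (θ : K → ℂ) (χ : G → ℂ) (x : G) : ℂ :=
  haveI := Fintype.ofFinite K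
  classInner (fun y : K => χ (x * y)) θ

theorem part_eq {K : Subgroup G} [Fintype K] (θ : K → ℂ) (χ : G → ℂ) (x : G) :
    part θ χ x = (Nat.card K : ℂ)⁻¹ * ∑ y : K, χ (x * y) * conj (θ y) := by
  unfold part
  rw [Subsingleton.elim (Fintype.ofFinite K) ‹Fintype K›, classInner_def]

theorem isCharacter_inner {A B : Type u} [Group A] [Finite A] [Group B] [Fintype B]
    {χ : A × B → ℂ} (hχ : IsCharacter (A × B) χ) {ψ : B → ℂ} (hψ : IsIrrCharacter B ψ) :
    IsCharacter A (fun a => classInner (fun b => χ (a, b)) ψ) := by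
  classical
  have := finite_irr (G := A × B)
  have := Fintype.ofFinite (IrrCharacter (A × B))
  obtain ⟨n, hn⟩ := exists_nat_comb hχ
  have h1 : ∀ ζ : IrrCharacter (A × B), IsCharacter A
      (fun a => classInner (fun b => (ζ : A × B → ℂ) (a, b)) ψ) := by
    intro ζ
    obtain ⟨φ, ψ', hφ, hψ', hζ⟩ := (S0188.result (ζ : A × B → ℂ)).1 ζ.2
    have h2 : (fun a => classInner (fun b => (ζ : A × B → ℂ) (a, b)) ψ) =
        fun a => φ a * (if ψ' = ψ then 1 else 0) := by
      funext a
      rw [hζ]
      have h3 : (fun b => φ a * ψ' b) = φ a • ψ' := by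
        funext b; simp
      simp only
      rw [h3, classInner_smul_left, classInner_irr hψ' hψ]
    rw [h2]
    split_ifs
    · simpa using isIrr_isCharacter hφ
    · simp only [mul_zero]
      exact isCharacter_zero (G := A)
  have h4 : (fun a => classInner (fun b => χ (a, b)) ψ) =
      ∑ ζ : IrrCharacter (A × B), (n ζ) • (fun a => classInner (fun b => (ζ : A × B → ℂ) (a, b)) ψ) := by
    funext a
    rw [Finset.sum_apply]
    have h5 : (fun b => χ (a, b)) = ∑ ζ : IrrCharacter (A × B), (n ζ : ℂ) •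
        (fun b => (ζ : A × B → ℂ) (a, b)) := by
      funext b
      rw [hn]
      simp [Finset.sum_apply]
    rw [h5, classInner_sum_left]
    refine Finset.sum_congr rfl fun ζ _ => ?_
    rw [classInner_smul_left]
    simp
  rw [h4]
  exact isCharacter_sum _ fun ζ _ => isCharacter_nsmul _ (h1 ζ)

section

variable {P : Sylow p G} {K : Subgroup G}

theorem isCharacter_part (hK : IsComp p (P : Subgroup G) K) {χ : G → ℂ} (hχ : IsCharacter G χ)
    {θ : K → ℂ} (hθ : IsIrrCharacter K θ) :
    IsCharacter P (fun x : P => part θ χ (x : G)) := by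
  have := Fintype.ofFinite K
  have h1 := isCharacter_inner (isCharacter_comp (prodHom hK) hχ) hθ
  have h2 : (fun x : P => part θ χ (x : G)) =
      fun a : P => classInner (fun b => χ (prodHom hK (a, b))) θ := by
    funext x
    rw [part_eq, classInner_def]
    rfl
  rw [h2]
  exact h1

/-- Expansion of `χ (x y)`. -/
theorem sum_part [Fintype (IrrCharacter K)] {χ : G → ℂ} (hχ : IsClassFunction G χ) {x : G}
    (hx : ∀ y ∈ K, x * y = y * x) (y : K) :
    χ (x * y) = ∑ θ : IrrCharacter K, part (θ : K → ℂ) χ x * (θ : K → ℂ) y := by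
  have := Fintype.ofFinite K
  have hcf : IsClassFunction K (fun y : K => χ (x * y)) := by
    intro a b
    have h1 : x * ((b * a * b⁻¹ : K) : G) = (b : G) * (x * a) * (b : G)⁻¹ := by
      simp only [Subgroup.coe_mul, Subgroup.coe_inv]
      rw [← mul_assoc, ← mul_assoc, hx b b.2]
      group
    simp only
    rw [h1, hχ]
  have h2 := classFunction_eq_sum hcf
  have h3 := congrFun h2 y
  simp only [Finset.sum_apply, Pi.smul_apply, smul_eq_mul] at h3
  rw [h3]
  refine Finset.sum_congr rfl fun θ _ => ?_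
  congr 1
  rw [part_eq, classInner_def]

end

end Cfsg.Agent.SmallSimple.ThetaSetup
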