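import Mathlib

set_option autoImplicit false

namespace Cfsg.Agent.SmallSimple.WittRing

open Polynomial Cardinal

/-- The residue field: an algebraic closure of `𝔽_p`. -/
abbrev kbar (p : ℕ) [Fact p.Prime] : Type := AlgebraicClosure (ZMod p)

/-- The ring of Witt vectors of the algebraic closure of `𝔽_p`. -/
abbrev A (p : ℕ) [Fact p.Prime] : Type := WittVector p (kbar p)

variable (p : ℕ) [hp : Fact p.Prime]

theorem isDVR : IsDiscreteValuationRing (A p) := inferInstance

theorem isDomain_A : IsDomain (A p) := inferInstance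

theorem irreducible_p : Irreducible (p : A p) := WittVector.irreducible p

theorem isAdicComplete_A : IsAdicComplete (Ideal.span {(p : A p)}) (A p) := inferInstance

instance charZero_A : CharZero (A p) := by
  have hne : (p : A p) ≠ 0 := (irreducible_p p).ne_zero
  obtain ⟨q, hq⟩ := CharP.exists (A p)
  rcases CharP.char_is_prime_or_zero (A p) q with h | h
  · -- characteristic q prime: reduce mod p
    exfalso
    have h1 : (q : A p) = 0 := CharP.cast_eq_zero _ _
    have h2 : (q : kbar p) = 0 := by
      have := congrArg (WittVector.constantCoeff (p := p) (R := kbar p)) h1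
      rwa [map_natCast, map_zero] at this
    have h3 : p ∣ q := (CharP.cast_eq_zero_iff (kbar p) p q).1 h2
    have h4 : p = q := (Nat.prime_dvd_prime_iff_eq hp.out h).1 h3
    rw [← h4] at h1
    exact hne h1
  · subst h
    exact CharP.charP_to_charZero (A p)

/-- The residue field of `A p` is `kbar p`. -/
noncomputable def residueEquiv : A p ⧸ Ideal.span {(p : A p)} ≃+* kbar p :=
  WittVector.quotientPEquiv

theorem maximalIdeal_A : IsLocalRing.maximalIdeal (A p) = Ideal.span {(p : A p)} :=
  (irreducible_p p).maximalIdeal_eq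

/-- `A p` contains a primitive `n`-th root of unity for `n` prime to `p`. -/
theorem exists_isPrimitiveRoot {n : ℕ} (hn : n.Coprime p) : ∃ ζ : A p, IsPrimitiveRoot ζ n := by
  have hn0 : n ≠ 0 := by
    rintro rfl
    rw [Nat.coprime_zero_left] at hn
    exact hp.out.one_lt.ne' hn
  have hne : NeZero (n : kbar p) := by
    refine ⟨fun h => ?_⟩
    have h3 : p ∣ n := (CharP.cast_eq_zero_iff (kbar p) p n).1 h
    exact (Nat.Prime.coprime_iff_not_dvd hp.out).1 hn.symm h3
  obtain ⟨ζ, hζ⟩ := HasEnoughRootsOfUnity.exists_primitiveRoot (kbar p) n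
  refine ⟨WittVector.teichmuller p ζ, ?_⟩
  refine hζ.map_of_injective (f := WittVector.teichmuller p) ?_
  intro a b hab
  have := congrArg (fun x => WittVector.coeff x 0) hab
  simpa [WittVector.teichmuller_coeff_zero] using this

theorem mk_A : #(A p) = 𝔠 := by
  have h1 : #(A p) = #(ℕ → kbar p) := by
    refine Cardinal.mk_congr ⟨WittVector.coeff, WittVector.mk p, fun x => ?_, fun x => ?_⟩
    · exact WittVector.ext fun n => rfl
    · rfl
  have h2 : #(kbar p) ≤ ℵ₀ := by
    have := Algebra.IsAlgebraic.cardinalMk_le_max (ZMod p) (kbar p)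
    refine this.trans (max_le ?_ le_rfl)
    exact Cardinal.mk_le_aleph0
  rw [h1, ← Cardinal.power_def, Cardinal.mk_nat]
  apply le_antisymm
  · calc #(kbar p) ^ ℵ₀ ≤ ℵ₀ ^ ℵ₀ := Cardinal.power_le_power_right h2
      _ = 𝔠 := Cardinal.aleph0_power_aleph0
  · calc 𝔠 = 2 ^ ℵ₀ := Cardinal.two_power_aleph0.symm
      _ ≤ #(kbar p) ^ ℵ₀ := Cardinal.power_le_power_right (by
        rw [Cardinal.two_le_iff]
        exact ⟨0, 1, zero_ne_one⟩)

/-- An embedding into the complex numbers. -/
theorem exists_embedding : ∃ f : A p →+* ℂ, Function.Injective f := by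
  let F := FractionRing (A p)
  let K := AlgebraicClosure F
  have hF0 : CharZero F := charZero_of_injective_algebraMap (IsFractionRing.injective (A p) F)
  have hK0 : CharZero K := charZero_of_injective_algebraMap (algebraMap F K).injective
  have hF : #F = 𝔠 := by
    rw [Cardinal.mk_fractionRing, mk_A]
  have hK : #K = 𝔠 := by
    apply le_antisymm
    · have := Algebra.IsAlgebraic.cardinalMk_le_max F K
      refine this.trans (max_le hF.le Cardinal.aleph0_le_continuum)
    · rw [← hF]
      exact Cardinal.mk_le_of_injective (algebraMap F K).injective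
  have hC : #ℂ = 𝔠 := Cardinal.mk_complex
  obtain ⟨e⟩ := IsAlgClosed.ringEquiv_of_equiv_of_charZero (K := K) (L := ℂ)
    (by rw [hK]; exact Cardinal.aleph0_lt_continuum) (by rw [← Cardinal.eq, hK, hC])
  refine ⟨e.toRingHom.comp ((algebraMap F K).comp (algebraMap (A p) F)), ?_⟩
  exact e.injective.comp ((algebraMap F K).injective.comp (IsFractionRing.injective (A p) F))


/-- membership in `I ^ n • ⊤` for a principal ideal coming from the base ring. -/
theorem mem_pow_smul_top {R S : Type*} [CommRing R] [CommRing S] [Algebra R S] (π : R) (n : ℕ) (x : S) :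
    x ∈ ((Ideal.span {algebraMap R S π}) ^ n • (⊤ : Submodule S S)) ↔ ∃ y : S, x = π ^ n • y := by
  rw [smul_eq_mul, Ideal.mul_top, Ideal.span_singleton_pow, Ideal.mem_span_singleton]
  constructor
  · rintro ⟨y, rfl⟩
    exact ⟨y, by rw [Algebra.smul_def, map_pow]⟩
  · rintro ⟨y, rfl⟩
    exact ⟨y, by rw [Algebra.smul_def, map_pow]⟩

/-- A finite free algebra over a `π`-adically complete ring is `π`-adically complete. -/
theorem isAdicComplete_of_basis {R S : Type*} [CommRing R] [CommRing S] [Algebra R S] (π : R)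
    [hc : IsAdicComplete (Ideal.span {π}) R] {ι : Type*} [Fintype ι] (b : Module.Basis ι R S) :
    IsAdicComplete (Ideal.span {algebraMap R S π}) S := by
  have hR : ∀ (n : ℕ) (x : R), x ∈ ((Ideal.span {π}) ^ n • (⊤ : Submodule R R)) ↔ π ^ n ∣ x := by
    intro n x
    rw [smul_eq_mul, Ideal.mul_top, Ideal.span_singleton_pow, Ideal.mem_span_singleton]
  have hS : ∀ (n : ℕ) (x : S), x ∈ ((Ideal.span {algebraMap R S π}) ^ n • (⊤ : Submodule S S)) ↔
      ∀ i, π ^ n ∣ b.repr x i := by
    intro n x
    rw [mem_pow_smul_top]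
    constructor
    · rintro ⟨y, rfl⟩ i
      rw [map_smul, Finsupp.smul_apply, smul_eq_mul]
      exact dvd_mul_right _ _
    · intro h
      choose c hc using h
      refine ⟨∑ i, c i • b i, ?_⟩
      rw [Finset.smul_sum]
      conv_lhs => rw [← b.sum_repr x]
      apply Finset.sum_congr rfl
      intro i _
      rw [hc i, smul_smul]
  refine { haus' := ?_, prec' := ?_ }
  · intro x hx
    apply b.ext_elem
    intro i
    rw [map_zero, Finsupp.zero_apply]
    apply IsHausdorff.haus' (I := Ideal.span {π}) (M := R)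
    intro n
    rw [SModEq.zero, hR]
    have := hx n
    rw [SModEq.zero, hS] at this
    exact this i
  · intro f hf
    have h1 : ∀ i, ∃ L : R, ∀ n, b.repr (f n) i ≡ L [SMOD ((Ideal.span {π}) ^ n • (⊤ : Submodule R R))] := by
      intro i
      apply IsPrecomplete.prec' (I := Ideal.span {π}) (M := R)
      intro m n hmn
      rw [SModEq.sub_mem, hR]
      have := hf hmn
      rw [SModEq.sub_mem, hS] at this
      have h2 := this i
      rwa [map_sub, Finsupp.sub_apply] at h2
    choose L hL using h1
    refine ⟨∑ i, L i • b i, fun n => ?_⟩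
    rw [SModEq.sub_mem, hS]
    intro i
    have h2 := hL i n
    rw [SModEq.sub_mem, hR] at h2
    rw [map_sub, Finsupp.sub_apply]
    have h3 : b.repr (∑ j, L j • b j) i = L i := by
      rw [b.repr_sum_self]
    rw [h3]
    exact h2

/-- Idempotents lift along `S → S/I` for `S` adically complete (Henselian). -/
theorem exists_idempotent_lift {S : Type*} [CommRing S] (I : Ideal S) [HenselianRing S I]
    (a : S) (ha : a * a - a ∈ I) : ∃ e : S, e * e = e ∧ e - a ∈ I := by
  rcases subsingleton_or_nontrivial S with hs | hs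
  · exact ⟨a, Subsingleton.elim _ _, by rw [sub_self]; exact I.zero_mem⟩
  have h := HenselianRing.is_henselian (I := I) (X ^ 2 - X : S[X]) ?_ a ?_ ?_
  · obtain ⟨e, he, hea⟩ := h
    refine ⟨e, ?_, hea⟩
    rw [IsRoot, eval_sub, eval_pow, eval_X] at he
    rw [← sub_eq_zero, ← pow_two]
    exact he
  · apply Monic.sub_of_left (monic_X_pow 2)
    rw [degree_X, degree_X_pow]
    norm_num
  · rw [eval_sub, eval_pow, eval_X, pow_two]
    exact ha
  · rw [derivative_sub, derivative_X_pow, derivative_X]
    have h2 : (Ideal.Quotient.mk I (eval a (C ((2 : ℕ) : S) * X ^ (2 - 1) - 1))) *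
        (Ideal.Quotient.mk I (eval a (C ((2 : ℕ) : S) * X ^ (2 - 1) - 1))) = 1 := by
      rw [← map_mul, ← map_one (Ideal.Quotient.mk I), Ideal.Quotient.eq]
      have h3 : eval a (C ((2 : ℕ) : S) * X ^ (2 - 1) - 1) * eval a (C ((2 : ℕ) : S) * X ^ (2 - 1) - 1) - 1
          = 4 * (a * a - a) := by
        simp only [eval_sub, eval_mul, eval_C, eval_pow, eval_X, eval_one]
        push_cast
        ring
      rw [h3]
      exact I.mul_mem_left _ ha
    exact IsUnit.of_mul_eq_one _ h2

/-- powers of an element of an artinian ring: `x ^ n = x ^ (2 n) c`. -/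
theorem exists_pow_eq {S : Type*} [CommRing S] [IsArtinianRing S] (x : S) :
    ∃ (n : ℕ) (c : S), 0 < n ∧ x ^ n = x ^ (2 * n) * c := by
  obtain ⟨n, y, hy⟩ := IsArtinian.exists_pow_succ_smul_dvd (M := S) x (1 : S)
  have h1 : x ^ (n + 1) * y = x ^ n := by
    simpa [smul_eq_mul] using hy
  have h2 : ∀ k : ℕ, x ^ (n + k) * y ^ k = x ^ n := by
    intro k
    induction k with
    | zero => simp
    | succ k ih =>
      calc x ^ (n + (k + 1)) * y ^ (k + 1) = x ^ k * (x ^ (n + 1) * y) * y ^ k := by ring
        _ = x ^ (n + k) * y ^ k := by rw [h1]; ring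
        _ = x ^ n := ih
  refine ⟨n + 1, y ^ (n + 1), Nat.succ_pos n, ?_⟩
  calc x ^ (n + 1) = x * x ^ n := by ring
    _ = x * (x ^ (n + (n + 1)) * y ^ (n + 1)) := by rw [h2]
    _ = x ^ (2 * (n + 1)) * y ^ (n + 1) := by ring

/-- The commutative case: a finite torsion-free domain over a complete DVR has no nontrivial
idempotents modulo `π`, in the strong form needed below. -/
theorem eq_zero_or_one_of_lift {R : Type*} [CommRing R] [IsDomain R] [IsPrincipalIdealRing R] (π : R)
    (hπ : (Ideal.span {π}).IsMaximal) [IsAdicComplete (Ideal.span {π}) R]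
    {S : Type*} [CommRing S] [IsDomain S] [Algebra R S] [Module.Finite R S] [Module.IsTorsionFree R S]
    {B : Type*} [Ring B] (f : S →+* B) (hf : f (algebraMap R S π) = 0) (x : S)
    (he : f x * f x = f x) : f x = 0 ∨ f x = 1 := by
  let b := Module.finBasis R S
  let I : Ideal S := Ideal.span {algebraMap R S π}
  have hSc : IsAdicComplete I S := isAdicComplete_of_basis π b
  have hcomap : Ideal.span {π} ≤ Ideal.comap (algebraMap R S) I := by
    rw [Ideal.span_singleton_le_iff_mem, Ideal.mem_comap]
    exact Ideal.mem_span_singleton_self _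
  let κ := R ⧸ Ideal.span {π}
  let _ : Field κ := Ideal.Quotient.field _
  let _ : Algebra κ (S ⧸ I) := Ideal.Quotient.algebraQuotientOfLEComap hcomap
  have hst : IsScalarTower R κ (S ⧸ I) := IsScalarTower.of_algebraMap_eq fun r => rfl
  have hfin : Module.Finite κ (S ⧸ I) := Module.Finite.of_restrictScalars_finite R κ (S ⧸ I)
  have hart : IsArtinianRing (S ⧸ I) := IsArtinianRing.of_finite κ (S ⧸ I)
  obtain ⟨n, c, hn, hc⟩ := exists_pow_eq (Ideal.Quotient.mk I x)
  obtain ⟨c, rfl⟩ := Ideal.Quotient.mk_surjective c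
  -- `ε = x ^ n c` is idempotent mod I
  have h1 : x ^ n - x ^ (2 * n) * c ∈ I := by
    rw [← Ideal.Quotient.eq, map_mul, map_pow, map_pow]
    exact hc
  have h2 : (x ^ n * c) * (x ^ n * c) - x ^ n * c ∈ I := by
    have : (x ^ n * c) * (x ^ n * c) - x ^ n * c = - c * (x ^ n - x ^ (2 * n) * c) := by ring
    rw [this]
    exact I.mul_mem_left _ h1
  obtain ⟨e, hee, hex⟩ := exists_idempotent_lift I (x ^ n * c) h2
  have hI : ∀ y ∈ I, f y = 0 := by
    intro y hy
    obtain ⟨z, rfl⟩ := Ideal.mem_span_singleton.1 hy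
    rw [map_mul, hf, zero_mul]
  have hpow : ∀ k : ℕ, 0 < k → f x ^ k = f x := by
    intro k hk
    induction k with
    | zero => omega
    | succ k ih =>
      rcases Nat.eq_zero_or_pos k with h0 | h0
      · rw [h0, zero_add, pow_one]
      · rw [pow_succ, ih h0, he]
  have h3 : f x = f e := by
    have h4 : f (x ^ n) = f (x ^ (2 * n) * c) := by
      rw [← sub_eq_zero, ← map_sub]; exact hI _ h1
    have h5 : f e = f (x ^ n * c) := by
      rw [← sub_eq_zero, ← map_sub]; exact hI _ hex
    rw [h5, map_mul, map_pow, hpow n hn]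
    rw [map_mul, map_pow, map_pow, hpow n hn, hpow (2 * n) (by omega)] at h4
    exact h4
  rw [h3]
  have h6 : e * (e - 1) = 0 := by rw [mul_sub, mul_one, hee, sub_self]
  rcases mul_eq_zero.1 h6 with h | h
  · left; rw [h, map_zero]
  · right; rw [sub_eq_zero.1 h, map_one]

/-- **(iv)** `L` a (noncommutative) ring without zero divisors, finite over a complete DVR `R` with
uniformiser `π`, and `f : L → B` a surjective ring hom killing `π`.  Then `B` has only the trivial
idempotents. -/
theorem idempotent_trivial {R : Type*} [CommRing R] [IsDomain R] [IsPrincipalIdealRing R] (π : R)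
    (hπ : (Ideal.span {π}).IsMaximal) [IsAdicComplete (Ideal.span {π}) R]
    {L : Type*} [Ring L] [Algebra R L] [Module.Finite R L] [NoZeroDivisors L]
    (hinj : Function.Injective (algebraMap R L)) {B : Type*} [Ring B] (f : L →+* B)
    (hf : Function.Surjective f) (hπB : f (algebraMap R L π) = 0) (e : B) (he : e * e = e) :
    e = 0 ∨ e = 1 := by
  obtain ⟨x, rfl⟩ := hf e
  have hntL : Nontrivial L := hinj.nontrivial
  let ev : R[X] →ₐ[R] L := aeval x
  let S := R[X] ⧸ RingHom.ker ev
  let ψ : S →ₐ[R] L := Ideal.kerLiftAlg ev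
  have hψ : Function.Injective ψ := by
    intro a b hab
    exact RingHom.kerLift_injective (ev : R[X] →+* L) hab
  have hnz : NoZeroDivisors S := hψ.noZeroDivisors ψ (map_zero ψ) (map_mul ψ)
  have hnt : Nontrivial S := by
    refine ⟨0, 1, fun h => ?_⟩
    have := congrArg ψ h
    rw [map_zero, map_one] at this
    exact zero_ne_one this
  have hdom : IsDomain S := NoZeroDivisors.to_isDomain S
  have hfin : Module.Finite R S := Module.Finite.of_injective ψ.toLinearMap hψ
  have hinjS : Function.Injective (algebraMap R S) := by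
    intro a b hab
    apply hinj
    rw [← AlgHom.commutes ψ, ← AlgHom.commutes ψ, hab]
  have htf : Module.IsTorsionFree R S := by
    have : FaithfulSMul R S := (faithfulSMul_iff_algebraMap_injective R S).2 hinjS
    infer_instance
  have hX : ψ (Ideal.Quotient.mk _ X) = x := by
    change ev X = x
    exact aeval_X x
  have h := eq_zero_or_one_of_lift π hπ (S := S) (f.comp (ψ : S →+* L)) (by
    change f (ψ (algebraMap R S π)) = 0
    rw [AlgHom.commutes]; exact hπB) (Ideal.Quotient.mk _ X) (by
    change f (ψ _) * f (ψ _) = f (ψ _)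
    rw [hX]; exact he)
  change f (ψ _) = 0 ∨ f (ψ _) = 1 at h
  rwa [hX] at h

end Cfsg.Agent.SmallSimple.WittRing
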